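import Cfsg.Agent.Lib.SzC.Bas
import Cfsg.Agent.Lib.Alt4.R1

/-! Package SB: first consequences of standardness, an inner involution (plans/SZC.md) -/

set_option autoImplicit false
set_option linter.unusedSectionVars false

namespace CfsgLib.SzC

open Subgroup Cfsg CfsgLib.Tech CfsgLib.StdR2 CfsgLib.Classical CfsgLib.ExtraTwo
open scoped commutatorElement

variable {G : Type*} [Group G] [Finite G] {f : Fd G}

namespace St0

variable {A : Subgroup G} (h : St0 A)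
include h

theorem A_le_H : A ≤ Hc A := h.norm ▸ le_normalizer

theorem KA_le_H : Kc A ⊔ A ≤ Hc A := sup_le le_normalizer h.A_le_H

theorem mem_H {v c : G} (hv : v ∈ Kc A) (o : orderOf v = 2) (hc : c * v * c⁻¹ ∈ Kc A) : c ∈ Hc A :=
  mem_norm_of_conj h.ti hv o hc

theorem mem_H_of_comm {v c : G} (hv : v ∈ Kc A) (o : orderOf v = 2) (hc : Commute c v) :
    c ∈ Hc A := h.mem_H hv o (by rwa [hc.eq, mul_inv_cancel_right])

theorem mem_cj_H {g t c : G} (ht : t ∈ Tech.cj g (Kc A)) (o : orderOf t = 2) (hc : Commute c t) :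
    c ∈ Tech.cj g (Hc A) := by
  rw [← Hc_cj]; rw [← Kc_cj] at ht; exact (h.cj g).mem_H_of_comm ht o hc

theorem conj_A {g a : G} (hg : g ∈ Hc A) (ha : a ∈ A) : g * a * g⁻¹ ∈ A :=
  conj_mem_of_mem_normalizer (h.norm ▸ hg) ha

theorem conj_mem_cj_K {g c y : G} (hc : c ∈ Tech.cj g (Hc A)) (hy : y ∈ Tech.cj g (Kc A)) :
    c * y * c⁻¹ ∈ Tech.cj g (Kc A) := conj_mem_of_mem_normalizer (by rwa [← cj_normalizer]) hy

theorem eq_one {g y : G} (hg : g ∉ Hc A) (h1 : y ∈ Kc A) (h2 : y ∈ Tech.cj g (Kc A))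
    (y2 : y * y = 1) : y = 1 := eq_one_of_two h.ti hg h1 h2 (j := 1) (by rw [pow_one, pow_two, y2])

theorem not_le_H {g t : G} (hg : g ∉ Hc A) (ht : t ∈ Tech.cj g (Kc A)) (htH : t ∈ Hc A)
    (o : orderOf t = 2) : ¬ A ≤ Tech.cj g (Hc A) := fun hA => by
  have hn : A ≤ normalizer ((Tech.cj g (Kc A) ⊓ A : Subgroup G) : Set G) := fun a ha =>
    mem_normalizer_fintype fun y hy =>
      ⟨h.conj_mem_cj_K (hA ha) hy.1, A.mul_mem (A.mul_mem ha hy.2) (A.inv_mem ha)⟩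
  rcases h.simp _ inf_le_right hn with e | e
  · have h1 : ⁅A, Tech.cj g (Kc A) ⊓ Hc A⁆ ≤ Kc A := le_trans (b := Tech.cj g (Kc A) ⊓ A) (commutator_le.2 fun a ha s hs => ⟨by
        rw [commutatorElement_def]
        exact mul_mem (h.conj_mem_cj_K (hA ha) hs.1) (Subgroup.inv_mem _ hs.1), by
        rw [commutatorElement_def, mul_assoc, mul_assoc, ← mul_assoc s]
        exact mul_mem ha (h.conj_A hs.2 (inv_mem ha))⟩) e
    have h2 := commutator_eq_bot_iff_le_centralizer.2 h1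
    have h3 := commutator_commutator_eq_bot_of_rotate h2 (by rwa [commutator_comm (_ ⊓ _)])
    rw [h.perf, commutator_comm, commutator_eq_bot_iff_le_centralizer] at h3
    exact ne_one_of_orderOf o (h.eq_one hg (h3 ⟨ht, htH⟩) ht (mul_self_of_orderOf o))
  · exact h.nc g hg (e.ge.trans inf_le_left)

theorem exists_two_inv {R : Subgroup G} (hR : IsSylowIn 2 R (Kc A)) :
    ∃ v ∈ R, ∃ w ∈ R, orderOf v = 2 ∧ orderOf w = 2 ∧ v ≠ w ∧ Commute v w := by
  obtain ⟨v, hv, w, hw, v2, w2, ne, c⟩ := h.four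
  obtain ⟨k, -, hk⟩ := hR.exists_cj_le (Alt4.two_four (mul_self_of_orderOf v2)
    (mul_self_of_orderOf w2) c) ((closure_le _).2 (by rintro _ (rfl | rfl) <;> assumption))
  exact ⟨_, hk (conj_mem_cj.2 (subset_closure (by simp))), _, hk (conj_mem_cj.2 (subset_closure
    (show w ∈ _ by simp))), (orderOf_conj_eq k v).trans v2, (orderOf_conj_eq k w).trans w2,
    by simpa using ne, c.map (MulAut.conj k).toMonoidHom⟩

theorem le_ncl : A ≤ normalClosure (Kc A : Set G) := by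
  obtain ⟨X, Xn, Xs, Xc, le⟩ := h.lay
  rcases (inferInstance : ((normalClosure (Kc A : Set G)).subgroupOf X).Normal).eq_bot_or_eq_top
    with e | e
  · obtain ⟨v, hv, -, -, v2, -⟩ := h.four
    refine absurd (mem_bot.1 (Xc.le (mem_centralizer_iff.2 fun x hx => ?_))) (ne_one_of_orderOf v2)
    have h1 : x * v * x⁻¹ * v⁻¹ ∈ X := by
      simpa only [mul_assoc] using mul_mem hx (Xn.conj_mem _ (inv_mem hx) v)
    have h2 : (⟨_, h1⟩ : X) ∈ (normalClosure (Kc A : Set G)).subgroupOf X :=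
      mul_mem (normalClosure_normal.conj_mem _ (subset_normalClosure hv) x)
        (inv_mem (subset_normalClosure hv))
    rw [e, mem_bot, Subtype.ext_iff] at h2
    exact mul_inv_eq_iff_eq_mul.1 (mul_inv_eq_one.1 h2)
  · exact le.trans (subgroupOf_eq_top.1 e)

omit h in
theorem k_mem {R : Subgroup G} (hR : IsSylowIn 2 R (Kc A)) {a k : G} (hk : k ∈ Kc A) (ha : a ∈ A)
    (k2 : k * k = 1) (hn : k * a ∈ normalizer (R : Set G)) : k ∈ R :=
  hR.le_of_normalizes (isPGroup_two_zpowers k2) (zpowers_le.2 hk) (zpowers_le.2 (by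
    have : a ∈ normalizer (R : Set G) := centralizer_le_normalizer _
      (mem_centralizer_iff.2 fun r hr => (comm_KA (hR.le hr) ha).eq)
    exact (mul_mem_cancel_right this).1 hn)) (mem_zpowers k)

omit h in
theorem comm_iff {a k r : G} (hr : r ∈ Kc A) (ha : a ∈ A) :
    r * (k * a) = k * a * r ↔ r * k = k * r := by
  rw [mul_assoc, ← (comm_KA hr ha).eq, ← mul_assoc, ← mul_assoc, mul_left_inj]

end St0

namespace St

variable (h : St f)
include h

/-- an inner involution of `K^g ∩ H` lies in a four-group of `K^g ∩ H` -/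
theorem four_of_inner {g t : G} (hg : g ∉ f.H) (ht : t ∈ Tech.cj g f.K) (o : orderOf t = 2)
    (hi : t ∈ f.K ⊔ f.A) :
    ∃ y ∈ Tech.cj g f.K, y ∈ f.H ∧ orderOf y = 2 ∧ y ≠ t ∧ Commute y t := by
  by_contra! hne
  have t2 := mul_self_of_orderOf o
  obtain ⟨T, hT, hle⟩ := exists_isSylowIn_ge (H := Tech.cj g f.K ⊓ f.H) (isPGroup_two_zpowers t2)
    (zpowers_le.2 ⟨ht, h.toSt0.KA_le_H hi⟩)
  have m := hle (mem_zpowers t)
  have h1 := Alt4.eq_of_no_four hT.pgroup m o fun y hy o' c =>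
    by_contra fun ne => hne y (hT.le hy).1 (hT.le hy).2 o' ne c
  have T1 : T ≠ ⊥ := fun e => ne_one_of_orderOf o (mem_bot.1 (e ▸ m))
  obtain ⟨R, R0, hR, -, hn, -, ⟨e⟩, -, hc⟩ := Alt4.exists_R0_iso h.ti hg hT T1 IsPGroup.of_bot bot_le
    (by rw [normalizer_eq_top]; exact le_top)
  have h2 : ∀ r ∈ R0, ∀ r' ∈ R0, orderOf r = 2 → orderOf r' = 2 → r = r' := fun r hr r' hr' o1 o2 =>
    congrArg Subtype.val (e.injective (a₁ := ⟨r, hr⟩) (a₂ := ⟨r', hr'⟩) (Subtype.ext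
      ((h1 _ (e _).2 (by rw [orderOf_coe, e.orderOf_eq, orderOf_mk, o1])).trans
        (h1 _ (e _).2 (by rw [orderOf_coe, e.orderOf_eq, orderOf_mk, o2])).symm)))
  obtain ⟨k, hk, a, ha, k2, -, rfl⟩ := h.toFm.exists_k t2 hi
  have kR := St0.k_mem hR hk ha k2 (hn m)
  have h3 : ∀ r ∈ R, r * k = k * r → r ∈ R0 := fun r hr c =>
    hc _ m o r hr ((St0.comm_iff (hR.le hr) ha).2 c)
  obtain ⟨v, hv, w, hw, v2, w2, ne, -⟩ := h.toSt0.exists_two_inv hR
  obtain ⟨z, hz, z2, zc⟩ := exists_mem_center_of_normalized hR.pgroup le_rfl le_normalizer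
    fun e => ne_one_of_orderOf v2 (mem_bot.1 (e ▸ hv))
  have h4 : ∀ r ∈ R, r * k = k * r := fun r hr => by
    by_cases k1 : k = 1
    · rw [k1, mul_one, one_mul]
    · rw [h2 k (h3 k kR rfl) z (h3 z hz (zc k kR).symm) (orderOf_eq_two k1 k2) z2]
      exact zc r hr
  exact ne (h2 v (h3 v hv (h4 v hv)) w (h3 w hw (h4 w hw)) v2 w2)

theorem exists_inner0 : ∃ g, g ∉ f.H ∧ ∃ t ∈ Tech.cj g f.K, orderOf t = 2 ∧ t ∈ f.K ⊔ f.A := by
  by_contra hni
  have inn : ∀ {c k b : G}, k ∈ f.K → b ∈ f.A → b * b = 1 → k * b ∈ Tech.cj c f.K →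
      k * b * (k * b) = 1 → b = 1 := fun {c k b} hk hb b2 hd d2 => by_contra fun b1 => by
    have hK : k * b ∉ f.K := fun e => b1 (h.toFm.eq_one_KA ((mul_mem_cancel_left hk).1 e) hb
      (j := 1) (by rw [pow_one, pow_two, b2]))
    exact hni ⟨c, fun hc => hK ((mem_normalizer_iff_cj.1 hc).le hd), _, hd,
      orderOf_eq_two (fun e => hK (e ▸ one_mem _)) d2, mul_mem_sup hk hb⟩
  have hne : ¬ ∃ g, g ∉ f.H ∧ ∃ t ∈ Tech.cj g f.K, ∃ y ∈ Tech.cj g f.K,
      t ∈ f.H ∧ y ∈ f.H ∧ orderOf t = 2 ∧ orderOf y = 2 ∧ y ≠ t ∧ Commute y t := by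
    rintro ⟨g, hg, t, ht, y, hy, tH, yH, ot, oy, ne, c⟩
    have t2 := mul_self_of_orderOf ot
    have y2 := mul_self_of_orderOf oy
    have oty : orderOf (t * y) = 2 := orderOf_eq_two (fun e1 => ne (by
      rw [eq_inv_of_mul_eq_one_right e1, inv_eq_of_mul_eq_one_right t2])) (by
        rw [← pow_two, c.symm.mul_pow, pow_two, pow_two, t2, y2, one_mul])
    obtain ⟨γ, φ, hγ, hφ, ζ, ζA, cζ, oζ⟩ := h.toFm.four_outer (h.norm ▸ tH) (h.norm ▸ yH) t2 y2 c.symm
      (fun e => hni ⟨g, hg, t, ht, ot, e⟩) (fun e => hni ⟨g, hg, y, hy, oy, e⟩)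
      fun e => hni ⟨g, hg, _, mul_mem ht hy, oty, e⟩
    have key : ∀ x, x = t ∨ x = y ∨ x = t * y → x ∈ Tech.cj g f.K ∧ x ∈ f.H ∧ orderOf x = 2 := by
      rintro x (rfl | rfl | rfl)
      exacts [⟨ht, tH, ot⟩, ⟨hy, yH, oy⟩, ⟨mul_mem ht hy, mul_mem tH yH, oty⟩]
    obtain ⟨g1, -, g3⟩ := key γ hγ
    obtain ⟨p1, p2, -⟩ := key φ hφ
    refine hni ⟨g, hg, ⁅ζ, φ⁆, ?_, oζ, mem_sup_right ?_⟩
    · rw [commutatorElement_def]
      exact mul_mem (h.toSt0.conj_mem_cj_K (h.toSt0.mem_cj_H g1 g3 cζ) p1) (inv_mem p1)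
    · rw [commutatorElement_def, mul_assoc, mul_assoc, ← mul_assoc φ]
      exact mul_mem ζA (h.toSt0.conj_A p2 (inv_mem ζA))
  have zA : f.z ∈ f.A := h.xA ..
  obtain ⟨g, hg, t, o, ht, htH⟩ := exists_conj_inv h.ti
    (fun e => h.ntop (normalizer_eq_top_iff.2 e)) h.toFm.orderOf_z (h.toSt0.A_le_H zA)
    (h.toSt0.le_ncl zA)
    fun e => one_ne_zero (h.inj _ _ _ e).2.2
  have t2 := mul_self_of_orderOf o
  have t1 := ne_one_of_orderOf o
  have ni : t ∉ f.K ⊔ f.A := fun e => hni ⟨g, hg, t, ht, o, e⟩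
  have two : ∀ Q : Subgroup G, IsPGroup 2 Q → Q ≤ Tech.cj g f.K ⊓ f.H → t ∈ Q →
      ∀ x ∈ Q, x = 1 ∨ x = t := fun Q hQ hle m x hx => by
    have h1 := Alt4.eq_of_no_four hQ m o fun y hy o' c => by_contra fun ne =>
      hne ⟨g, hg, t, ht, y, (hle hy).1, htH, (hle hy).2, o, o', ne, c⟩
    obtain ⟨k, hk⟩ := isPGroup_iff_mem.1 hQ x hx
    induction k generalizing x with
    | zero => exact .inl (by simpa using hk)
    | succ k ih =>
      rcases ih _ (mul_mem hx hx) (by rw [← pow_two, ← pow_mul, ← pow_succ', hk]) with e | e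
      · exact or_iff_not_imp_left.2 fun x1 => h1 x hx (orderOf_eq_two x1 e)
      · exact absurd (e ▸ h.toFm.sq_inner (h.norm ▸ (hle hx).2) hk) ni
  obtain ⟨T, hT, hle⟩ := exists_isSylowIn_ge (H := Tech.cj g f.K ⊓ f.H) (isPGroup_two_zpowers t2)
    (zpowers_le.2 ⟨ht, htH⟩)
  have m := hle (mem_zpowers t)
  obtain ⟨R, R0, hR, -, -, h0, ⟨e⟩, hc, -⟩ := Alt4.exists_R0_iso h.ti hg hT
    (fun e => t1 (mem_bot.1 (e ▸ m))) IsPGroup.of_bot bot_le (by rw [normalizer_eq_top]; exact le_top)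
  obtain ⟨r, rK, ro, rt⟩ : ∃ r ∈ f.K, orderOf r = 2 ∧ Commute t r :=
    ⟨_, hR.le (h0 (e.symm ⟨t, m⟩).2), by rw [orderOf_coe, e.symm.orderOf_eq, orderOf_mk, o],
      (hc _ (e.symm ⟨t, m⟩).2 t m).symm⟩
  have r2 := mul_self_of_orderOf ro
  obtain ⟨a, ha, b, bA, ob, eb⟩ := h.toFm.exists_comm (h.norm ▸ htH) t2 ni
  have u2 := mul_self_of_orderOf ob
  have b1 := ne_one_of_orderOf ob
  have ut : Commute b t := by
    have : b * t * (b * t) = 1 := by rw [eb, conj_mul, t2]; simp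
    rw [Commute, SemiconjBy, ← inv_eq_of_mul_eq_one_right this, mul_inv_rev,
      inv_eq_of_mul_eq_one_right t2, inv_eq_of_mul_eq_one_right u2]
  have ur := (comm_KA rK bA).symm
  have q2 := Alt4.two_four t2 r2 rt
  have mq := @Alt4.mem_four _ _ _ _ _ t2 r2 rt
  have uq : b ∈ centralizer (closure ({t, r} : Set G) : Set G) := by
    rw [centralizer_closure]
    rintro _ (rfl | rfl)
    exacts [ut.symm.eq, ur.symm.eq]
  have nK : ∀ x, Commute x t → x ∈ normalizer (Tech.cj g f.K : Set G) := fun x hx =>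
    mem_norm_cj h.ti ht o hx
  obtain ⟨R', hR', n', le'⟩ := Alt4.exists_syl_norm (K := Tech.cj g f.K)
    (q2.to_sup_of_normal_left' (isPGroup_two_zpowers u2)
      (zpowers_le.2 (centralizer_le_normalizer _ uq)))
    (sup_le ((closure_le _).2 (by
      rintro _ (rfl | rfl)
      exacts [nK _ (Commute.refl _), nK _ rt.symm])) (zpowers_le.2 (nK _ ut)))
  have tR : t ∈ R' := le' ⟨mem_sup_left (mq.2 (by simp)), ht⟩
  have cr : ∀ x ∈ R', x * r = r * x → x = 1 ∨ x = t := fun x hx c =>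
    two (R' ⊓ centralizer {r}) hR'.pgroup.to_inf_left (fun y hy => ⟨hR'.le hy.1,
      mem_norm_of_comm h.ti rK ro (mem_centralizer_singleton_iff.1 hy.2)⟩)
      ⟨tR, mem_centralizer_singleton_iff.2 rt⟩ x ⟨hx, mem_centralizer_singleton_iff.2 c⟩
  have cq : ∀ x ∈ R', x ∈ closure ({t, r} : Set G) → x = 1 ∨ x = t := fun x hx hq => cr x hx (by
    rcases mq.1 hq with rfl | rfl | rfl | rfl
    exacts [by simp, rt, rfl, (rt.mul_left (Commute.refl r)).eq])
  obtain ⟨y, hy, hy', yn⟩ := exists_mem_normalizer_of_lt (Q := closure ({t, r} : Set G))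
    (hR'.pgroup.to_sup_of_normal_left' q2 (le_sup_left.trans n')) (lt_of_le_of_ne le_sup_right
      fun e => by
        obtain ⟨v, hv, w, hw, v2, w2, ne, -⟩ := (h.toSt0.cj g).exists_two_inv (by rwa [Kc_cj])
        exact ne (((cq v hv (e.ge (mem_sup_left hv))).resolve_left (ne_one_of_orderOf v2)).trans
          ((cq w hw (e.ge (mem_sup_left hw))).resolve_left (ne_one_of_orderOf w2)).symm))
  obtain ⟨x, hx, q, hq, rfl⟩ :=
    (LAE.mem_sup_iff_of_right_le_normalizer (le_sup_left.trans n')).1 hy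
  replace yn := (mul_mem_cancel_right (le_normalizer hq)).1 yn
  replace hy' : x ∉ closure ({t, r} : Set G) := fun e => hy' (mul_mem e hq)
  have xt : x * t * x⁻¹ = t := (cq _ (mul_mem (mul_mem hx tR) (inv_mem hx))
    (conj_mem_of_mem_normalizer yn (mq.2 (by simp)))).resolve_left (by simpa using t1)
  have xr : x * r * x⁻¹ = t * r := by
    rcases mq.1 (conj_mem_of_mem_normalizer yn (mq.2 (.inr (.inr (.inl rfl))))) with e | e | e | e
    · exact absurd (by simpa using e) (ne_one_of_orderOf ro)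
    · rw [← xt, mul_left_inj, mul_right_inj] at e
      exact absurd (h.toSt0.eq_one hg (e ▸ rK) ht t2) t1
    · rcases cr x hx (mul_inv_eq_iff_eq_mul.1 e) with rfl | rfl
      exacts [absurd (one_mem _) hy', absurd (mq.2 (by simp)) hy']
    · exact e
  have hx' := conj_mem_of_mem_normalizer (n' (mem_sup_right (mem_zpowers _))) hx
  have xr' : b * x * b⁻¹ * r = t * r * (b * x * b⁻¹) := by
    calc _ = b * (x * r * x⁻¹) * x * b⁻¹ := by
          rw [mul_assoc _ _ r, ur.inv_left.eq]; group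
      _ = _ := by rw [xr, (ut.mul_right ur).eq]; group
  rcases cr _ (mul_mem (inv_mem hx) hx') (by rw [mul_assoc, xr', ← xr]; group) with e | e
  · refine b1 (inn (c := x⁻¹ * a * x) rK bA u2 ?_ (by
      rw [← pow_two, ur.symm.mul_pow, pow_two, pow_two, r2, u2, one_mul]))
    have e1 : x * b * x⁻¹ = b := by
      rw [inv_mul_eq_one, eq_mul_inv_iff_mul_eq] at e; rw [e, mul_inv_cancel_right]
    have e2 : r * b = x⁻¹ * a * x * r * (x⁻¹ * a * x)⁻¹ := by
      calc r * b = x⁻¹ * (x * r * x⁻¹ * (x * b * x⁻¹)) * x := by group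
        _ = x⁻¹ * (b * t * r) * x := by rw [xr, e1, ← (ut.mul_right ur).eq, mul_assoc b]
        _ = x⁻¹ * (a * (t * r) * a⁻¹) * x := by
          rw [eb, mul_assoc _ _ r, ← (comm_KA rK ha).inv_right.eq]; group
        _ = _ := by rw [← xr]; group
    rw [e2]
    exact conj_mem_cj.2 rK
  · refine b1 (inn (c := x * a * g) (one_mem _) bA u2 ?_ (by rw [one_mul, u2]))
    have e2 : b = x * a * t * (x * a)⁻¹ := by
      calc b = x * (x⁻¹ * (b * x * b⁻¹) * b) * x⁻¹ := by group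
        _ = _ := by rw [e, ← ut.eq, eb]; group
    rw [one_mul, e2, cj_mul]
    exact conj_mem_cj.2 ht

theorem exists_inner : ∃ g, g ∉ f.H ∧ ∃ k ∈ f.K, k * k = 1 ∧ k * f.z ∈ Tech.cj g f.K := by
  obtain ⟨g, hg, t, ht, o, hi⟩ := h.exists_inner0
  obtain ⟨k, hk, a, ha, k2, a2, rfl⟩ := h.toFm.exists_k (mul_self_of_orderOf o) hi
  have a1 : a ≠ 1 := fun e => ne_one_of_orderOf o
    (h.toSt0.eq_one hg (by rw [e, mul_one]; exact hk) ht (mul_self_of_orderOf o))
  obtain ⟨c, hc, rfl⟩ := h.cls a ha (orderOf_eq_two a1 a2)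
  have e : k * f.z = c⁻¹ * (k * (c * f.z * c⁻¹)) * c⁻¹⁻¹ := by
    rw [← mul_assoc k, ← mul_assoc k, (comm_KA hk hc).eq]; group
  refine ⟨c⁻¹ * g, fun hH => hg ?_, k, hk, k2, by rw [e, cj_mul]; exact conj_mem_cj.2 ht⟩
  exact (mul_mem_cancel_left (inv_mem (h.toSt0.A_le_H hc))).1 hH

end St

end CfsgLib.SzC
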