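import Cfsg.Agent.Lib.SzC.Defs2
import Cfsg.Agent.Lib.SzC.SB

/-! Package INN: an inner involution, generic form (plans/SZC2.md) -/

set_option autoImplicit false
set_option linter.unusedSectionVars false

namespace CfsgLib.SzC

open Subgroup Cfsg CfsgLib.Tech CfsgLib.StdR2 CfsgLib.Classical CfsgLib.ExtraTwo
open scoped commutatorElement

variable {G : Type*} [Group G] [Finite G] {A : Subgroup G}

theorem St0.inn (h : St0 A) {z : G} (zA : z ∈ A) (oz : orderOf z = 2) (zK : z ∉ Kc A)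
    (sq : ∀ g ∈ Hc A, Tw g → g * g ∈ Kc A ⊔ A)
    (four : ∀ g, g ∉ Hc A → ∀ t ∈ Tech.cj g (Kc A), ∀ y ∈ Tech.cj g (Kc A), t ∈ Hc A → y ∈ Hc A →
      orderOf t = 2 → orderOf y = 2 → y ≠ t → Commute y t → Elm A t → Elm A y → Elm A (y * t) → Inn0 A)
    (comm : ∀ t ∈ Hc A, t * t = 1 → t ∉ Kc A ⊔ A → Elm A t →
      ∃ a ∈ A, ∃ b ∈ A, b * b = 1 ∧ b ∉ Kc A ∧ b * t = a * t * a⁻¹) : Inn0 A := by
  by_contra hni
  have inn : ∀ {c k b : G}, k ∈ Kc A → b ∈ A → k * b ∈ Tech.cj c (Kc A) → k * b * (k * b) = 1 → b ∈ Kc A :=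
    fun {c k b} hk hb hd d2 => by_contra fun b1 => by
      have hK : k * b ∉ Kc A := fun e => b1 ((mul_mem_cancel_left hk).1 e)
      exact hni ⟨c, fun hc => hK ((mem_normalizer_iff_cj.1 hc).le hd), _, hd,
        orderOf_eq_two (fun e => hK (e ▸ one_mem _)) d2, mul_mem_sup hk hb⟩
  have ex : ∀ {g x : G}, g ∉ Hc A → x ∈ Tech.cj g (Kc A) → x ∈ Hc A → Tw x → x * x = 1 := fun {g x} hg h1 h2 h3 => by
    have key : ∀ k : ℕ, ∀ y ∈ Tech.cj g (Kc A), y ∈ Kc A ⊔ A → y ^ 2 ^ k = 1 → y = 1 := fun k => by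
      induction k with
      | zero => exact fun y _ _ e => by simpa using e
      | succ k ih =>
        exact fun y k1 k2 e => by_contra fun y1 => hni ⟨g, hg, y, k1, orderOf_eq_two y1 (ih _ (mul_mem k1 k1)
          (mul_mem k2 k2) (by rw [← pow_two, ← pow_mul, ← pow_succ', e])), k2⟩
    obtain ⟨k, hk⟩ := h3
    exact key k _ (mul_mem h1 h1) (sq x h2 ⟨k, hk⟩) (by rw [← pow_two, ← pow_mul, mul_comm, pow_mul, hk, one_pow])
  have elm : ∀ {g t : G}, g ∉ Hc A → t ∈ Tech.cj g (Kc A) → t ∈ Hc A → orderOf t = 2 → Elm A t := by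
    intro g t hg ht tH o w wA wK ⟨k, hk⟩ c
    obtain ⟨T, hT, hle⟩ := exists_isSylowIn_ge (H := Tech.cj g (Kc A) ⊓ Hc A)
      (isPGroup_two_zpowers (mul_self_of_orderOf o)) (zpowers_le.2 ⟨ht, tH⟩)
    have m := hle (mem_zpowers t)
    obtain ⟨R, R0, hR, -, -, -, ⟨e⟩, -, hc⟩ := Alt4.exists_R0_iso h.ti hg hT
      (fun e => ne_one_of_orderOf o (mem_bot.1 (e ▸ m))) IsPGroup.of_bot bot_le
      (by rw [normalizer_eq_top]; exact le_top)
    have w0 := hc t m o w (hR.le_of_normalizes (isPGroup_zpowers_of_pow hk) (zpowers_le.2 wK) (zpowers_le.2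
      (centralizer_le_normalizer _ fun r hr => (comm_KA (hR.le hr) wA).eq)) (mem_zpowers w)) c.eq
    exact congrArg Subtype.val (e.injective (a₁ := ⟨w, w0⟩ * ⟨w, w0⟩) (a₂ := 1) (by
      rw [map_mul, map_one]
      exact Subtype.ext (ex hg (hT.le (e _).2).1 (hT.le (e _).2).2 (isPGroup_iff_mem.1 hT.pgroup _ (e _).2))))
  have hne : ¬ ∃ g, g ∉ Hc A ∧ ∃ t ∈ Tech.cj g (Kc A), ∃ y ∈ Tech.cj g (Kc A),
      t ∈ Hc A ∧ y ∈ Hc A ∧ orderOf t = 2 ∧ orderOf y = 2 ∧ y ≠ t ∧ Commute y t := by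
    rintro ⟨g, hg, t, ht, y, hy, tH, yH, ot, oy, ne, c⟩
    have t2 := mul_self_of_orderOf ot
    have y2 := mul_self_of_orderOf oy
    exact hni (four g hg t ht y hy tH yH ot oy ne c (elm hg ht tH ot) (elm hg hy yH oy) (elm hg (mul_mem hy ht)
      (mul_mem yH tH) (orderOf_eq_two (fun e1 => ne (by
        rw [eq_inv_of_mul_eq_one_left e1, inv_eq_of_mul_eq_one_right t2])) (by
          rw [← pow_two, c.mul_pow, pow_two, pow_two, t2, y2, one_mul]))))
  obtain ⟨g, hg, t, o, ht, htH⟩ := exists_conj_inv h.ti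
    (fun e => h.ntop (normalizer_eq_top_iff.2 e)) oz (h.A_le_H zA) (h.le_ncl zA) zK
  have t2 := mul_self_of_orderOf o
  have t1 := ne_one_of_orderOf o
  have ni : t ∉ Kc A ⊔ A := fun e => hni ⟨g, hg, t, ht, o, e⟩
  have two : ∀ Q : Subgroup G, IsPGroup 2 Q → Q ≤ Tech.cj g (Kc A) ⊓ Hc A → t ∈ Q →
      ∀ x ∈ Q, x = 1 ∨ x = t := fun Q hQ hle m x hx => or_iff_not_imp_left.2 fun x1 =>
    Alt4.eq_of_no_four hQ m o (fun y hy o' c => by_contra fun ne =>
      hne ⟨g, hg, t, ht, y, (hle hy).1, htH, (hle hy).2, o, o', ne, c⟩) x hx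
      (orderOf_eq_two x1 (ex hg (hle hx).1 (hle hx).2 (isPGroup_iff_mem.1 hQ x hx)))
  obtain ⟨T, hT, hle⟩ := exists_isSylowIn_ge (H := Tech.cj g (Kc A) ⊓ Hc A) (isPGroup_two_zpowers t2)
    (zpowers_le.2 ⟨ht, htH⟩)
  have m := hle (mem_zpowers t)
  obtain ⟨R, R0, hR, -, -, h0, ⟨e⟩, hc, -⟩ := Alt4.exists_R0_iso h.ti hg hT
    (fun e => t1 (mem_bot.1 (e ▸ m))) IsPGroup.of_bot bot_le (by rw [normalizer_eq_top]; exact le_top)
  obtain ⟨r, rK, ro, rt⟩ : ∃ r ∈ (Kc A), orderOf r = 2 ∧ Commute t r :=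
    ⟨_, hR.le (h0 (e.symm ⟨t, m⟩).2), by rw [orderOf_coe, e.symm.orderOf_eq, orderOf_mk, o],
      (hc _ (e.symm ⟨t, m⟩).2 t m).symm⟩
  have r2 := mul_self_of_orderOf ro
  obtain ⟨a, ha, b, bA, u2, b1, eb⟩ := comm t htH t2 ni (elm hg ht htH o)
  have ut : Commute b t := by
    have : b * t * (b * t) = 1 := by rw [eb, conj_mul, t2]; simp
    rw [Commute, SemiconjBy, ← inv_eq_of_mul_eq_one_right this, mul_inv_rev,
      inv_eq_of_mul_eq_one_right t2, inv_eq_of_mul_eq_one_right u2]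
  have ur := (comm_KA rK bA).symm
  have q2 := Alt4.two_four t2 r2 rt
  have mq := @Alt4.mem_four _ _ _ _ _ t2 r2 rt
  have uq : b ∈ centralizer (closure ({t, r} : Set G) : Set G) := by
    rw [centralizer_closure]
    rintro _ (rfl | rfl)
    exacts [ut.symm.eq, ur.symm.eq]
  have nK : ∀ x, Commute x t → x ∈ normalizer (Tech.cj g (Kc A) : Set G) := fun x hx =>
    mem_norm_cj h.ti ht o hx
  obtain ⟨R', hR', n', le'⟩ := Alt4.exists_syl_norm (K := Tech.cj g (Kc A))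
    (q2.to_sup_of_normal_left' (isPGroup_two_zpowers u2)
      (zpowers_le.2 (centralizer_le_normalizer _ uq)))
    (sup_le ((closure_le _).2 (by
      rintro _ (rfl | rfl)
      exacts [nK _ (Commute.refl _), nK _ rt.symm])) (zpowers_le.2 (nK _ ut)))
  have tR : t ∈ R' := le' ⟨mem_sup_left (mq.2 (by simp)), ht⟩
  have cr : ∀ x ∈ R', x * r = r * x → x = 1 ∨ x = t := fun x hx c =>
    two (R' ⊓ centralizer {r}) hR'.pgroup.to_inf_left (fun y hy => ⟨hR'.le hy.1,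
      mem_norm_of_comm h.ti rK ro (mem_centralizer_singleton_iff.1 hy.2)⟩)
      ⟨tR, mem_centralizer_singleton_iff.2 rt⟩ x ⟨hx, mem_centralizer_singleton_iff.2 c⟩
  have cq : ∀ x ∈ R', x ∈ closure ({t, r} : Set G) → x = 1 ∨ x = t := fun x hx hq => cr x hx (by
    rcases mq.1 hq with rfl | rfl | rfl | rfl
    exacts [by simp, rt, rfl, (rt.mul_left (Commute.refl r)).eq])
  obtain ⟨y, hy, hy', yn⟩ := exists_mem_normalizer_of_lt (Q := closure ({t, r} : Set G))
    (hR'.pgroup.to_sup_of_normal_left' q2 (le_sup_left.trans n')) (lt_of_le_of_ne le_sup_right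
      fun e => by
        obtain ⟨v, hv, w, hw, v2, w2, ne, -⟩ := (h.cj g).exists_two_inv (by rwa [Kc_cj])
        exact ne (((cq v hv (e.ge (mem_sup_left hv))).resolve_left (ne_one_of_orderOf v2)).trans
          ((cq w hw (e.ge (mem_sup_left hw))).resolve_left (ne_one_of_orderOf w2)).symm))
  obtain ⟨x, hx, q, hq, rfl⟩ :=
    (LAE.mem_sup_iff_of_right_le_normalizer (le_sup_left.trans n')).1 hy
  replace yn := (mul_mem_cancel_right (le_normalizer hq)).1 yn
  replace hy' : x ∉ closure ({t, r} : Set G) := fun e => hy' (mul_mem e hq)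
  have xt : x * t * x⁻¹ = t := (cq _ (mul_mem (mul_mem hx tR) (inv_mem hx))
    (conj_mem_of_mem_normalizer yn (mq.2 (by simp)))).resolve_left (by simpa using t1)
  have xr : x * r * x⁻¹ = t * r := by
    rcases mq.1 (conj_mem_of_mem_normalizer yn (mq.2 (.inr (.inr (.inl rfl))))) with e | e | e | e
    · exact absurd (by simpa using e) (ne_one_of_orderOf ro)
    · rw [← xt, mul_left_inj, mul_right_inj] at e
      exact absurd (h.eq_one hg (e ▸ rK) ht t2) t1
    · rcases cr x hx (mul_inv_eq_iff_eq_mul.1 e) with rfl | rfl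
      exacts [absurd (one_mem _) hy', absurd (mq.2 (by simp)) hy']
    · exact e
  have hx' := conj_mem_of_mem_normalizer (n' (mem_sup_right (mem_zpowers _))) hx
  have xr' : b * x * b⁻¹ * r = t * r * (b * x * b⁻¹) := by
    calc _ = b * (x * r * x⁻¹) * x * b⁻¹ := by
          rw [mul_assoc _ _ r, ur.inv_left.eq]; group
      _ = _ := by rw [xr, (ut.mul_right ur).eq]; group
  rcases cr _ (mul_mem (inv_mem hx) hx') (by rw [mul_assoc, xr', ← xr]; group) with e | e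
  · refine b1 (inn (c := x⁻¹ * a * x) rK bA ?_ (by
      rw [← pow_two, ur.symm.mul_pow, pow_two, pow_two, r2, u2, one_mul]))
    have e1 : x * b * x⁻¹ = b := by
      rw [inv_mul_eq_one, eq_mul_inv_iff_mul_eq] at e; rw [e, mul_inv_cancel_right]
    have e2 : r * b = x⁻¹ * a * x * r * (x⁻¹ * a * x)⁻¹ := by
      calc r * b = x⁻¹ * (x * r * x⁻¹ * (x * b * x⁻¹)) * x := by group
        _ = x⁻¹ * (b * t * r) * x := by rw [xr, e1, ← (ut.mul_right ur).eq, mul_assoc b]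
        _ = x⁻¹ * (a * (t * r) * a⁻¹) * x := by
          rw [eb, mul_assoc _ _ r, ← (comm_KA rK ha).inv_right.eq]; group
        _ = _ := by rw [← xr]; group
    rw [e2]
    exact conj_mem_cj.2 rK
  · refine b1 (inn (c := x * a * g) (one_mem _) bA ?_ (by rw [one_mul, u2]))
    have e2 : b = x * a * t * (x * a)⁻¹ := by
      calc b = x * (x⁻¹ * (b * x * b⁻¹) * b) * x⁻¹ := by group
        _ = _ := by rw [e, ← ut.eq, eb]; group
    rw [one_mul, e2, cj_mul]
    exact conj_mem_cj.2 ht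

end CfsgLib.SzC
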