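import Cfsg.Agent.Lib.SzC.CVA
import Cfsg.Agent.Lib.SzC.Inn

/-! Package CI: an inner involution (plans/SZC2.md) -/

set_option autoImplicit false
set_option linter.unusedSectionVars false

namespace CfsgLib.SzC

open Subgroup Cfsg CfsgLib.Tech CfsgLib.StdR2 CfsgLib.Classical CfsgLib.ExtraTwo
open scoped commutatorElement

variable {G : Type*} [Group G] [Finite G] {d : Cd G} {z ψ χ : GF4 → G}

namespace CI

/-- semilinear action on `Z / W` -/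
def Semi (d : Cd G) (g : G) : Prop :=
  ∃ μ : GF4, μ ≠ 0 ∧ ∀ u c, d.Co u 0 0 c → d.Co (g * u * g⁻¹) 0 0 (μ * c * c)

theorem f1 : ∀ l : GF4, l * ω + l * l * (l * ω) * (l * ω) = l := by decide
theorem f2 : ∀ l μ : GF4, l ≠ 0 → ∃ a : GF4, a ≠ 0 ∧ a * (l * a) + μ * (a * (l * a)) * (a * (l * a)) ≠ 0 := by decide
theorem f3 : ∀ a l : GF4, a ≠ 0 → a * a * (l * a) = l := by decide
theorem f4 : ∀ μ : GF4, ∃ c : GF4, c + μ * c * c ≠ 0 := by decide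
theorem f5 : ∀ l l' l'' : GF4, l ≠ 0 → l' ≠ 0 → ¬ ∀ c, l'' * c * c = l' * (l * c * c) * (l * c * c) := by decide

theorem sq_mul {a b : G} (c : Commute a b) : a * b * (a * b) = a * a * (b * b) := by
  rw [mul_assoc, ← mul_assoc b, ← c.eq]; group

theorem types (h : Cv d) (s : St0 d.A) {t : G} (h1 : t ∈ d.H) (h2 : t ∈ normalizer (d.U : Set G)) (t2 : t * t = 1)
    (h3 : t ∉ d.K ⊔ d.A) : d.T1 t ∨ Semi d t := by
  rcases h.types t (s.norm ▸ h1) h2 ⟨1, by rw [pow_one, pow_two, t2]⟩ with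
    ⟨k, hk, u, hu, rfl⟩ | h4 | ⟨α, β, h4, h5, -, h6⟩ | ⟨l, h4, -, h6⟩
  · exact absurd (mul_mem_sup hk (h.U_le hu)) h3
  · exact .inl h4
  · exact .inr ⟨α * β, mul_ne_zero h4 h5, h6⟩
  · exact .inr ⟨l * l, mul_ne_zero h4 h4, h6⟩

theorem elm_cj {t a : G} (ha : a ∈ d.A) (e : Elm d.A t) : Elm d.A (a * t * a⁻¹) := fun w h1 h2 h3 c =>
  e w h1 h2 h3 (by
    have c1 := comm_KA h2 ha
    have := (c1.inv_right.mul_right c).mul_right c1
    rwa [show a⁻¹ * (a * t * a⁻¹) * a = t by group] at this)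

theorem key (h : Al d z ψ) (s : St0 d.A) {γ : G} (hH : γ ∈ d.H) (g2 : γ * γ = 1) (e : Elm d.A γ) (h1 : d.T1 γ)
    (μ : GF4) : ∃ a ∈ d.A, ∃ c, c ≠ 0 ∧ c + μ * c * c ≠ 0 ∧ d.Co (a * a) 0 0 c ∧ a * a * (a * a) = 1 ∧
      a * a * γ = a * γ * a⁻¹ ∧ Commute (a * a) γ := by
  obtain ⟨l, hl, h1, h2⟩ := h1
  have gi : γ⁻¹ = γ := inv_eq_of_mul_eq_one_right g2
  have hψ : ψ l = 1 := by
    obtain ⟨w, hw, hwK, hww⟩ := h.root (l * ω)
    have hw' : γ * w * γ⁻¹ ∈ d.U := h.toCv.Co_mem (h2 w 0 (h.toCv.Co_K hw hwK))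
    have c1 : Commute w (γ * w * γ⁻¹) := comm_KA hwK (h.toCv.U_le hw')
    have := e (w * (γ * w * γ⁻¹)) (h.toCv.U_le (mul_mem hw hw'))
      (mul_mem hwK (conj_mem_of_mem_normalizer hH hwK)) (h.toCv.tw_U (mul_mem hw hw')) (by
        show _ = _
        calc w * (γ * w * γ⁻¹) * γ = γ * γ * w * γ * w := by rw [g2]; group
          _ = γ * (γ * w * γ⁻¹ * w) := by rw [gi]; group
          _ = _ := by rw [c1.eq])
    rw [sq_mul c1, hww, show γ * w * γ⁻¹ * (γ * w * γ⁻¹) = γ * (w * w) * γ⁻¹ by group, hww,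
      h.ψ_T1 h1 h2, ← h.ψadd, f1] at this
    exact this
  obtain ⟨a, ha, ha'⟩ := f2 l μ hl
  obtain ⟨u, hu, uu⟩ := h.lift1 a
  obtain ⟨c', hv⟩ := h1 u a 0 0 hu
  rw [mul_zero] at hv
  have ui : u⁻¹ = u := inv_eq_of_mul_eq_one_right uu
  have hc : ⁅u, γ * u * γ⁻¹⁆ = u * (γ * u * γ⁻¹) * (u * (γ * u * γ⁻¹)) := by
    rw [commutatorElement_def, show (γ * u * γ⁻¹)⁻¹ = γ * u⁻¹ * γ⁻¹ by group, ui]; group
  have h3 := h.toCv.Co_comm hu hv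
  have h4 := h.sqc _ _ _ _ _ _ hu hv
  rw [f3 a l ha, hψ, hc] at h4
  rw [mul_zero, add_zero, hc] at h3
  have h5 : u * (γ * u * γ⁻¹) * (u * (γ * u * γ⁻¹)) * γ = u * (γ * u * γ⁻¹) * γ * (u * (γ * u * γ⁻¹))⁻¹ := by
    rw [mul_inv_rev, show (γ * u * γ⁻¹)⁻¹ = γ * u⁻¹ * γ⁻¹ by group, ui, gi]
    calc _ = u * (γ * u * γ) * u * γ * u * (γ * γ) := by group
      _ = u * (γ * u * γ) * (γ * γ) * u * γ * u := by rw [g2]; group
      _ = _ := by group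
  refine ⟨u * (γ * u * γ⁻¹), mul_mem (h.toCv.Co_A hu) (h.toCv.Co_A hv), _, mul_ne_zero ha (mul_ne_zero hl ha), ha',
    h3, h4, h5, ?_⟩
  generalize u * (γ * u * γ⁻¹) = x at h4 h5
  have h6 : x * γ * x⁻¹ * (x * γ * x⁻¹) = 1 := by
    rw [show x * γ * x⁻¹ * (x * γ * x⁻¹) = x * (γ * γ) * x⁻¹ by group, g2]; group
  rw [← h5] at h6
  show _ = _
  calc x * x * γ = γ * γ * (x * x * γ) := by rw [g2, one_mul]
    _ = γ * (x * x * (x * x)) * (γ * (x * x * γ)) := by rw [h4]; group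
    _ = γ * (x * x) * (x * x * γ * (x * x * γ)) := by group
    _ = _ := by rw [h6, mul_one]

theorem semi_inv (h : Al d z ψ) {φ ζ : G} {μ c : GF4} (h1 : ∀ u c, d.Co u 0 0 c → d.Co (φ * u * φ⁻¹) 0 0 (μ * c * c))
    (hζ : d.Co ζ 0 0 c) (z2 : ζ * ζ = 1) (hc : c + μ * c * c ≠ 0) :
    ζ * (φ * ζ * φ⁻¹) ∈ d.A ∧ ζ * (φ * ζ * φ⁻¹) * (ζ * (φ * ζ * φ⁻¹)) = 1 ∧ ζ * (φ * ζ * φ⁻¹) ∉ d.K := by
  have h2 := h1 _ _ hζ
  have h3 := h.mul _ _ _ _ _ _ _ _ hζ h2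
  refine ⟨h.toCv.Co_A h3, ?_, fun hK => hc ?_⟩
  · rw [sq_mul (h.commZ hζ h2), z2, show φ * ζ * φ⁻¹ * (φ * ζ * φ⁻¹) = φ * (ζ * ζ) * φ⁻¹ by group, z2]
    group
  · simpa using ((h.ker _ _ _ _ h3).1 hK).2.2

theorem comm0 (h : Al d z ψ) (s : St0 d.A) {t : G} (hH : t ∈ d.H) (hU : t ∈ normalizer (d.U : Set G)) (t2 : t * t = 1)
    (hi : t ∉ d.K ⊔ d.A) (e : Elm d.A t) : ∃ a ∈ d.A, ∃ b ∈ d.A, b * b = 1 ∧ b ∉ d.K ∧ b * t = a * t * a⁻¹ := by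
  rcases types h.toCv s hH hU t2 hi with h1 | ⟨μ, hμ, h1⟩
  · obtain ⟨a, ha, c, hc, -, h2, h3, h4, -⟩ := key h s hH t2 e h1 1
    exact ⟨a, ha, a * a, mul_mem ha ha, h3, fun hK => hc ((h.ker _ _ _ _ h2).1 hK).2.2, h4⟩
  · obtain ⟨c, hc⟩ := f4 μ
    obtain ⟨h2, h3, h4⟩ := semi_inv h h1 (h.zCo c) (h.z_sq c) hc
    refine ⟨z c, h.toCv.Co_A (h.zCo c), _, h2, h3, h4, ?_⟩
    rw [inv_eq_of_mul_eq_one_right (h.z_sq c)]; group

theorem pair (h : Al d z ψ) (s : St0 d.A) {g γ φ : G} (hg : g ∉ d.H) (hγ : γ ∈ Tech.cj g d.K)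
    (hφ : φ ∈ Tech.cj g d.K) (hH : γ ∈ d.H) (o : orderOf γ = 2) (e : Elm d.A γ) (h1 : d.T1 γ) (h2 : Semi d φ) :
    Inn0 d.A := by
  obtain ⟨μ, hμ, h2⟩ := h2
  obtain ⟨a, -, c, -, hc, h3, h4, -, h5⟩ := key h s hH (mul_self_of_orderOf_two o) e h1 μ
  obtain ⟨h6, h7, h8⟩ := semi_inv h h2 h3 h4 hc
  refine ⟨g, hg, _, ?_, orderOf_two_of_mul_self h7 fun h9 => h8 (h9 ▸ one_mem _), mem_sup_right h6⟩
  have := mul_mem (s.conj_mem_cj_K (s.mem_cj_H hγ o h5) hφ) (inv_mem hφ)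
  rwa [inv_eq_of_mul_eq_one_right h4, mul_assoc, mul_assoc, ← mul_assoc φ] at this

theorem four0 (h : Al d z ψ) (s : St0 d.A) {g t y : G} (hg : g ∉ d.H) (ht : t ∈ Tech.cj g d.K) (hy : y ∈ Tech.cj g d.K)
    (tH : t ∈ d.H) (yH : y ∈ d.H) (tU : t ∈ normalizer (d.U : Set G)) (yU : y ∈ normalizer (d.U : Set G))
    (ot : orderOf t = 2) (oy : orderOf y = 2) (ne : y ≠ t) (c : Commute y t) (et : Elm d.A t) (ey : Elm d.A y)
    (eyt : Elm d.A (y * t)) : Inn0 d.A := by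
  have t2 := mul_self_of_orderOf_two ot
  have y2 := mul_self_of_orderOf_two oy
  have yt2 : y * t * (y * t) = 1 := by rw [sq_mul c, y2, t2, one_mul]
  have oyt : orderOf (y * t) = 2 := orderOf_two_of_mul_self yt2 fun h1 => ne (by
    rw [← mul_left_inj t, h1, t2])
  by_contra hn
  have ni : ∀ x ∈ Tech.cj g d.K, orderOf x = 2 → x ∉ d.K ⊔ d.A := fun x hx ox hi => hn ⟨g, hg, x, hx, ox, hi⟩
  have hyt := mul_mem hy ht
  have e1 : ∀ u, y * t * u * (y * t)⁻¹ = y * (t * u * t⁻¹) * y⁻¹ := fun u => by group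
  rcases types h.toCv s tH tU t2 (ni t ht ot) with h1 | h1 <;>
    rcases types h.toCv s yH yU y2 (ni y hy oy) with h2 | h2
  · rcases types h.toCv s (mul_mem yH tH) (mul_mem yU tU) yt2 (ni _ hyt oyt) with h3 | h3
    · obtain ⟨l, -, h1, -⟩ := h1
      obtain ⟨l', -, h2, -⟩ := h2
      obtain ⟨l'', hl, h3, -⟩ := h3
      obtain ⟨u, hu⟩ := h.surj 1 0 0
      obtain ⟨c1, h4⟩ := h1 _ _ _ _ hu
      obtain ⟨c2, h5⟩ := h2 _ _ _ _ h4
      obtain ⟨c3, h6⟩ := h3 _ _ _ _ hu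
      rw [e1] at h6
      exact hl (by simpa using (h.toCv.Co_unique h6 h5).2.1)
    · exact hn (pair h s hg ht hyt tH ot et h1 h3)
  · exact hn (pair h s hg ht hy tH ot et h1 h2)
  · exact hn (pair h s hg hy ht yH oy ey h2 h1)
  · rcases types h.toCv s (mul_mem yH tH) (mul_mem yU tU) yt2 (ni _ hyt oyt) with h3 | h3
    · exact hn (pair h s hg hyt ht (mul_mem yH tH) oyt eyt h3 h1)
    · obtain ⟨l, hl, h1⟩ := h1
      obtain ⟨l', hl', h2⟩ := h2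
      obtain ⟨l'', -, h3⟩ := h3
      have k : ∀ c, l'' * c * c = l' * (l * c * c) * (l * c * c) := fun c => by
        have h6 := h3 _ _ (h.zCo c)
        rw [e1] at h6
        exact (h.toCv.Co_unique h6 (h2 _ _ (h1 _ _ (h.zCo c)))).2.2
      exact f5 l l' l'' hl hl' k

end CI

theorem Cv.inn (h : Cv d) (s : St0 d.A) : Inn0 d.A := by
  obtain ⟨z, ψ, ha⟩ := h.exists_al
  have zK : z 1 ∉ d.K := fun hK => one_ne_zero ((h.ker _ _ _ _ (ha.zCo 1)).1 hK).2.2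
  have ci : ∀ {a t : G}, a ∈ d.A → a * t * a⁻¹ ∈ d.K ⊔ d.A → t ∈ d.K ⊔ d.A := fun {a t} ha hi => by
    have := mul_mem (mul_mem (inv_mem (mem_sup_right ha)) hi) (mem_sup_right ha)
    rwa [show a⁻¹ * (a * t * a⁻¹) * a = t by group] at this
  refine s.inn (h.Co_A (ha.zCo 1)) (orderOf_two_of_mul_self (ha.z_sq 1) fun h1 => zK (h1 ▸ one_mem _)) zK
    (fun g hg => h.sqi g (s.norm ▸ hg)) (fun g hg t ht y hy tH yH ot oy ne c et ey eyt => ?_) fun t tH t2 hi e => ?_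
  · obtain ⟨a, hA, hle⟩ := h.exists_cj_norm (Alt4.two_four (mul_self_of_orderOf_two oy) (mul_self_of_orderOf_two ot) c)
      ((closure_le _).2 (by rintro _ (rfl | rfl) <;> rw [s.norm] <;> assumption))
    have aH := s.A_le_H hA
    refine CI.four0 ha s (g := a * g) (t := a * t * a⁻¹) (y := a * y * a⁻¹)
      (fun h1 => hg ((mul_mem_cancel_left aH).1 h1)) (by rw [cj_mul]; exact conj_mem_cj.2 ht)
      (by rw [cj_mul]; exact conj_mem_cj.2 hy) (mul_mem (mul_mem aH tH) (inv_mem aH))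
      (mul_mem (mul_mem aH yH) (inv_mem aH)) (hle (conj_mem_cj.2 (subset_closure (by simp))))
      (hle (conj_mem_cj.2 (subset_closure (by simp)))) ((orderOf_conj_eq a t).trans ot)
      ((orderOf_conj_eq a y).trans oy) (by simpa using ne) (c.map (MulAut.conj a).toMonoidHom) (CI.elm_cj hA et)
      (CI.elm_cj hA ey) ?_
    rw [show a * y * a⁻¹ * (a * t * a⁻¹) = a * (y * t) * a⁻¹ by group]
    exact CI.elm_cj hA eyt
  · obtain ⟨a, hA, hle⟩ := h.exists_cj_norm (isPGroup_two_zpowers t2) (zpowers_le.2 (s.norm ▸ tH))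
    have aH := s.A_le_H hA
    obtain ⟨a', ha', b, hb, b2, bK, hbt⟩ := CI.comm0 ha s (t := a * t * a⁻¹) (mul_mem (mul_mem aH tH) (inv_mem aH))
      (hle (conj_mem_cj.2 (mem_zpowers t))) (by rw [show a * t * a⁻¹ * (a * t * a⁻¹) = a * (t * t) * a⁻¹ by group, t2]; group)
      (fun h1 => hi (ci hA h1)) (CI.elm_cj hA e)
    refine ⟨a⁻¹ * a' * a, mul_mem (mul_mem (inv_mem hA) ha') hA, a⁻¹ * b * a, mul_mem (mul_mem (inv_mem hA) hb) hA,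
      by rw [show a⁻¹ * b * a * (a⁻¹ * b * a) = a⁻¹ * (b * b) * a by group, b2]; group, fun h1 => bK ?_, ?_⟩
    · have := conj_mem_of_mem_normalizer aH h1
      rwa [show a * (a⁻¹ * b * a) * a⁻¹ = b by group] at this
    · calc a⁻¹ * b * a * t = a⁻¹ * (b * (a * t * a⁻¹)) * a := by group
        _ = _ := by rw [hbt]; group

end CfsgLib.SzC
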