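import Cfsg.Agent.Lib.SzC.CVA
import Cfsg.Agent.Lib.SzC.SB

/-! Common tools for the packages CE and CN (plans/SZC2.md) -/

set_option autoImplicit false
set_option linter.unusedSectionVars false

namespace CfsgLib.SzC.CEx

open Subgroup Cfsg CfsgLib.Tech CfsgLib.StdR2 CfsgLib.Classical CfsgLib.ExtraTwo
open scoped commutatorElement

variable {G : Type*} [Group G] [Finite G] {d : Cd G} {g ζ : G} {c : GF4}

theorem not_K (h : Cv d) {u : G} {a b : GF4} (hu : d.Co u a b c) (h0 : a ≠ 0 ∨ b ≠ 0 ∨ c ≠ 0) : u ∉ d.K := fun k => by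
  obtain ⟨h1, h2, h3⟩ := (h.ker _ _ _ _ hu).1 k
  simp [h1, h2, h3] at h0

theorem not_K' (h : Cv d) {k u : G} {a b : GF4} (hk : k ∈ d.K) (hu : d.Co u a b c) (h0 : a ≠ 0 ∨ b ≠ 0 ∨ c ≠ 0) :
    k * u ∉ d.K := fun e => not_K h hu h0 ((mul_mem_cancel_left hk).1 e)

theorem not_H {y : G} (h1 : y ∉ d.K) (h2 : y ∈ Tech.cj g d.K) : g ∉ d.H := fun k =>
  h1 (by rwa [mem_normalizer_iff_cj.1 k] at h2)

theorem K_le_H : d.K ≤ d.H := le_normalizer

theorem cm_mem {N : Subgroup G} {x v : G} (hx : x ∈ N) (hv : v ∈ normalizer (N : Set G)) : ⁅x, v⁆ ∈ N := by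
  simpa only [commutatorElement_def, mul_assoc] using mul_mem hx (conj_mem_of_mem_normalizer hv (inv_mem hx))

theorem cm_mem' {N : Subgroup G} {x v : G} (hx : x ∈ N) (hv : v ∈ normalizer (N : Set G)) : ⁅v, x⁆ ∈ N := by
  rw [← commutatorElement_inv]; exact inv_mem (cm_mem hx hv)

theorem N_cj {v : G} (hv : v ∈ Tech.cj g d.H) : v ∈ normalizer ((Tech.cj g d.K : Subgroup G) : Set G) := by
  rwa [← cj_normalizer]

theorem cm_K {k u v : G} (hk : k ∈ d.K) (hu : u ∈ d.A) (hv : v ∈ d.A) : ⁅k * u, v⁆ = ⁅u, v⁆ := by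
  rw [commutatorElement_mul_left_eq_conj_mul, commutatorElement_eq_one_iff_commute.2 (comm_KA hk hv), mul_one,
    (comm_KA hk (cm_mem hu (le_normalizer hv))).eq, mul_inv_cancel_right]

theorem two_eq_one (s : St0 d.A) (hg : g ∉ d.H) {T : Subgroup G} (hT : IsPGroup 2 T) (l : T ≤ Tech.cj g d.K) {y : G}
    (h1 : y ∈ T) (h2 : y ∈ d.K) : y = 1 := by
  obtain ⟨j, e⟩ := isPGroup_iff_mem.1 hT y h1
  exact eq_one_of_two s.ti hg h2 (l h1) e

theorem four_le (s : St0 d.A) {R : Subgroup G} (hR : IsSylowIn 2 R d.K) : 4 ≤ Nat.card R := by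
  obtain ⟨v, hv, w, hw, v2, w2, ne, -⟩ := s.exists_two_inv hR
  have h1 := card_mul_relIndex' (zpowers_le.2 hv)
  have h2 : (zpowers v).relIndex R ≠ 1 := fun e =>
    ((mem_zpowers_iff_of_mul_self (mul_self_of_orderOf v2)).1 (relIndex_eq_one.1 e hw)).elim
      (ne_one_of_orderOf w2) ne.symm
  have h3 := Nat.card_pos (α := R)
  rw [Nat.card_zpowers, v2] at h1
  rcases h4 : (zpowers v).relIndex R with _ | _ | n <;> rw [h4] at h1 h2 <;> omega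

/-- a Sylow 2-subgroup of `K^g` that contains an involution of `Z` -/
theorem syl_T (h : Cv d) (s : St0 d.A) (hζ : d.Co ζ 0 0 c) (c0 : c ≠ 0) (o : orderOf ζ = 2)
    (hK : ζ ∈ Tech.cj g d.K) {U0 : Subgroup G} (l : U0 ≤ d.U) (m : ζ ∈ U0) (hc : ∀ u ∈ U0, Commute u ζ) :
    ∃ T R : Subgroup G, IsSylowIn 2 T (Tech.cj g d.K) ∧ T ≤ d.H ∧ ζ ∈ T ∧ U0 ≤ normalizer (T : Set G) ∧
      IsSylowIn 2 R d.K ∧ Nonempty (R ≃* T) ∧ ∀ r ∈ R, ∀ t ∈ T, Commute r t := by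
  have hg := not_H (not_K h hζ (by simp [c0])) hK
  have lH : U0 ≤ d.H := (l.trans h.U_le).trans s.A_le_H
  obtain ⟨T, hT, n, l'⟩ := Alt4.exists_syl_norm (K := Tech.cj g d.K ⊓ d.H) (h.syl.pgroup.to_le l) fun u hu =>
    inf_normalizer_le_normalizer_inf ⟨N_cj (s.mem_cj_H hK o (hc u hu)), le_normalizer (lH hu)⟩
  have m' := l' ⟨m, hK, lH m⟩
  obtain ⟨R, R0, hR, -, -, l0, ⟨e⟩, c1, c2⟩ := Alt4.exists_R0_iso s.ti hg hT
    (fun e => ne_one_of_orderOf o (mem_bot.1 (e ▸ m'))) IsPGroup.of_bot bot_le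
    (by rw [normalizer_eq_top]; exact le_top)
  obtain rfl : R0 = R := le_antisymm l0 fun r hr => c2 ζ m' o r hr (comm_KA (hR.le hr) (h.Co_A hζ))
  exact ⟨T, R0, (hR.cj g).of_card_le hT.pgroup (hT.le.trans inf_le_left)
    (by rw [card_cj, Nat.card_congr e.toEquiv]), hT.le.trans inf_le_right, m', n, hR, ⟨e⟩, c1⟩

end CfsgLib.SzC.CEx
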