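import Cfsg.Agent.Lib.SzC.CVA
import Cfsg.Agent.Lib.SzC.SB
import Cfsg.Agent.Lib.SzC.CEx

/-! Package CE: the Sylow 2-subgroups of `K` are four-groups (plans/SZC2.md) -/

set_option autoImplicit false
set_option linter.unusedSectionVars false

namespace CfsgLib.SzC

open Subgroup Cfsg CfsgLib.Tech CfsgLib.StdR2 CfsgLib.Classical CfsgLib.ExtraTwo
open scoped commutatorElement

variable {G : Type*} [Group G] [Finite G] {d : Cd G} {z ψ χ : GF4 → G}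

namespace CEy

open CEx

theorem aa : ∀ a : GF4, a + a = 0 := by decide
theorem g1 : ∀ b y : GF4, b ≠ 0 → b * (b * b * y) * (b * b * y) * (b * (b * b * y) * (b * b * y)) = b * y ∧
    b * (b * b * y) = y := by decide
theorem g2 : ∀ a b : GF4, b * ((ω + 1) * (a * b)) + (a * (b * ω) * (b * ω) + b * (a * (b * ω))) =
    b * ((ω + 1) * ((ω + 1) * (a * b))) := by decide
theorem g3 : ∀ b y : GF4, b ≠ 0 → b * ((ω + 1) * (b * b) * y) + b * ((ω + 1) * ((ω + 1) * (b * b) * y)) = y := by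
  decide

variable (h : El d z χ)
include h

theorem χ_zero : χ 0 = 1 := by simpa using h.χadd 0 0

theorem χ_sq (y : GF4) : χ y * χ y = 1 := by rw [← h.χadd, aa, χ_zero h]

theorem χ_ne : ¬ ∀ y, χ y = 1 := fun k => by
  obtain ⟨w, h1, h2, h3⟩ := h.ne
  obtain ⟨y, rfl⟩ := h.onto w h1 h2
  exact h3 (k y)

theorem zχ (c y : GF4) : d.Co (z c * χ y) 0 0 c := by
  simpa using h.mul _ _ _ _ _ _ _ _ (h.zCo c) (h.toCv.Co_K (h.χU y) (h.χK y))

theorem ord {u : G} {a c : GF4} (hu : d.Co u a 0 c) (h0 : a ≠ 0 ∨ c ≠ 0) : orderOf u = 2 :=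
  orderOf_eq_two (fun e => not_K h.toCv hu (h0.imp_right .inr) (e ▸ one_mem _)) (h.sq1 u a c hu)

/-- two elements of `K^g` over the same element of the centre -/
theorem χ_eq_one (s : St0 d.A) {g : G} (hg : g ∉ d.H) {c y y' : GF4} (h1 : z c * χ y ∈ Tech.cj g d.K)
    (h2 : z c * χ y' ∈ Tech.cj g d.K) : χ (y + y') = 1 :=
  s.eq_one hg (h.χK _) (by
    have := mul_mem (inv_mem h1) h2
    rwa [mul_inv_rev, mul_assoc, inv_mul_cancel_left, inv_eq_of_mul_eq_one_right (χ_sq h y), ← h.χadd] at this)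
    (χ_sq h _)

theorem comm2 {u v : G} {b c b' c' : GF4} (hu : d.Co u 0 b c) (hv : d.Co v 0 b' c') : Commute u v := by
  have := h.sq2 _ _ _ (by simpa using h.mul _ _ _ _ _ _ _ _ hu hv)
  rw [Commute, SemiconjBy, ← inv_eq_of_mul_eq_one_right this, mul_inv_rev, inv_eq_of_mul_eq_one_right (h.sq2 _ _ _ hu),
    inv_eq_of_mul_eq_one_right (h.sq2 _ _ _ hv)]

theorem cm2 {u v : G} {a b c b' c' : GF4} (hu : d.Co u a b c) (hv : d.Co v 0 b' c') :
    ⁅u, v⁆ = z (a * b') * χ (a * b' * b') := by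
  obtain ⟨u1, u2, h1, h2, rfl⟩ := h.toCv.split hu
  rw [commutatorElement_mul_left_eq_conj_mul, commutatorElement_eq_one_iff_commute.2 (comm2 h h2 hv), mul_one,
    mul_inv_cancel, one_mul, h.comm _ _ _ _ _ _ h1 hv]

end CEy

open CEx CEy

namespace El

variable (h : El d z χ) (s : St0 d.A)
include h s

theorem U_le_cj {g ζ : G} (hζ : d.Co ζ 0 0 1) (hK : ζ ∈ Tech.cj g d.K) : d.U ≤ Tech.cj g d.H := fun u hu =>
  s.mem_cj_H hK (ord h hζ (by simp)) (h.cen u hu ζ 1 hζ)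

theorem not_U1 {g ζ k u : G} (hζ : d.Co ζ 0 0 1) (hK : ζ ∈ Tech.cj g d.K) (hk : k ∈ d.K) {a c : GF4}
    (hu : d.Co u a 0 c) (ha : a ≠ 0) (ht : k * u ∈ Tech.cj g d.K) (o : orderOf (k * u) = 2) : False := by
  have hc := h.toCv
  have hg := not_H (not_K hc hζ (by simp)) hK
  have UH := h.U_le_cj s hζ hK
  have KH : d.K ≤ Tech.cj g d.H := fun k hk => s.mem_cj_H hK (ord h hζ (by simp)) (comm_KA hk (hc.Co_A hζ))
  obtain ⟨y, hy⟩ := h.surj 0 (a⁻¹ * c) 0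
  obtain ⟨v, hv⟩ := h.surj 0 1 0
  obtain ⟨w, w1, w2, rfl⟩ := hc.eq_mod hu (by
    simpa [ha] using hc.Co_conj hy (h.nx _ 0 a (h.zCo a)))
  have m : y * (d.n * v * d.n⁻¹) * y⁻¹ ∈ d.A :=
    s.conj_A (s.A_le_H (hc.Co_A hy)) (s.conj_A (s.A_le_H h.nA) (hc.Co_A hv))
  have h1 := s.mem_cj_H ht o ((comm_KA hk m).symm.mul_right
    ((((h.cen v (hc.Co_mem hv) _ _ (h.zCo a)).conj d.n).conj y).mul_right (comm_KA w2 m).symm))
  rw [mul_mem_cancel_right (inv_mem (UH (hc.Co_mem hy))), mul_mem_cancel_left (UH (hc.Co_mem hy))] at h1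
  have hn : d.n ∈ Tech.cj g d.H := by
    have h2 := KH (h.n3 v hv)
    rwa [show (d.n * v) ^ 3 = d.n * v * d.n⁻¹ * (d.n * d.n) * v * d.n * v by
        simp only [pow_succ, pow_zero, one_mul, mul_assoc, inv_mul_cancel_left],
      mul_mem_cancel_right (UH (hc.Co_mem hv)),
      mul_mem_cancel_left (mul_mem (mul_mem h1 (KH h.nn)) (UH (hc.Co_mem hv)))] at h2
  have key : ∀ {e x}, d.Co x 0 0 e → x ∈ Tech.cj g d.K → ∀ b, z (e * b) * χ (e * b * b) ∈ Tech.cj g d.K :=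
    fun hx hx' b => by
      obtain ⟨v, hv⟩ := h.surj 0 b 0
      rw [← h.comm _ _ _ _ _ _ (h.nx _ 0 _ hx) hv]
      exact cm_mem (s.conj_mem_cj_K hn hx') (N_cj (UH (hc.Co_mem hv)))
  have key2 : ∀ e b, z (e * b) * χ (e * b * b) ∈ Tech.cj g d.K := fun e =>
    key (by simpa using zχ h (1 * e) (1 * e * e)) (key hζ hK e)
  have e1 := χ_eq_one h s hg (key2 1 1) ((show ω * (ω + 1) = (1 : GF4) * 1 by decide) ▸ key2 ω (ω + 1))
  have e2 := χ_eq_one h s hg (key2 1 1) ((show (ω + 1) * ω = (1 : GF4) * 1 by decide) ▸ key2 (ω + 1) ω)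
  rw [show (1 : GF4) * 1 * 1 + 1 * 1 * (ω + 1) = ω by decide] at e1
  rw [show (1 : GF4) * 1 * 1 + 1 * 1 * ω = ω + 1 by decide] at e2
  refine χ_ne h fun y => ?_
  rcases (by revert y; decide : y = 0 ∨ y = ω ∨ y = ω + 1 ∨ y = ω + (ω + 1)) with rfl | rfl | rfl | rfl
  exacts [χ_zero h, e1, e2, by rw [h.χadd, e1, e2, mul_one]]

theorem not_both {g ζ k u : G} (hζ : d.Co ζ 0 0 1) (hK : ζ ∈ Tech.cj g d.K) (hk : k ∈ d.K) {a b c : GF4}
    (hu : d.Co u a b c) (ha : a ≠ 0) (hb : b ≠ 0) (ht : k * u ∈ Tech.cj g d.K) : False := by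
  have hc := h.toCv
  have hg := not_H (not_K hc hζ (by simp)) hK
  have UH := h.U_le_cj s hζ hK
  have k1 : ∀ y, z (a * y) * χ (a * y * y) ∈ Tech.cj g d.K := fun y => by
    obtain ⟨v, hv⟩ := h.surj 0 y 0
    rw [← cm2 h hu hv, ← cm_K hk (hc.Co_A hu) (hc.Co_A hv)]
    exact cm_mem ht (N_cj (UH (hc.Co_mem hv)))
  have k2 : ∀ y, z y * χ (b * y) ∈ Tech.cj g d.K := fun y => by
    obtain ⟨v, hv⟩ := h.surj (b * b * y) 0 0
    have := cm2 h.sw (u := u) (a := b) (b := a) (c := c + a * b) (by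
      rw [Cd.sw_Co, mul_comm b, add_assoc, aa, add_zero]; exact hu) ((d.sw_Co2 _ _ _).2 hv)
    rw [(g1 b y hb).1, (g1 b y hb).2] at this
    rw [← this, ← cm_K hk (hc.Co_A hu) (hc.Co_A hv)]
    exact cm_mem ht (N_cj (UH (hc.Co_mem hv)))
  have e1 := χ_eq_one h s hg (k1 (b * ω)) (k2 _)
  have hz : ∀ y, d.h * (z y * χ (b * y)) * d.h⁻¹ = z ((ω + 1) * y) * χ (b * y) := fun y => by
    rw [← conj_mul, h.hz, (comm_KA (h.χK _) h.hA).symm.eq, mul_inv_cancel_right]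
  have hH : d.h ∈ Tech.cj g d.H := by
    rw [← Hc_cj]
    refine (s.cj g).mem_H (Kc_cj g d.A ▸ k2 ((ω + 1) * (a * b))) (ord h (zχ h _ _) (.inr ?_)) ?_
    · exact mul_ne_zero (by decide) (mul_ne_zero ha hb)
    rw [hz, Kc_cj, ← mul_one (χ _), ← e1, ← h.χadd]
    exact g2 a b ▸ k2 _
  refine χ_ne h fun y => ?_
  have := χ_eq_one h s hg (hz ((ω + 1) * (b * b) * y) ▸ s.conj_mem_cj_K hH (k2 _)) (k2 _)
  rwa [g3 b y hb] at this

theorem exists_T {g ζ : G} (hζ : d.Co ζ 0 0 1) (hK : ζ ∈ Tech.cj g d.K) :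
    ∃ T V : Subgroup G, IsSylowIn 2 T (Tech.cj g d.K) ∧ IsSylowIn 2 V d.K ∧ Nat.card V = 4 ∧
      (∀ v ∈ V, v * v = 1) ∧ ζ ∈ T ∧ (∀ v ∈ V, ∀ t ∈ T, Commute v t) ∧ T ≤ V ⊔ d.Z := by
  have hc := h.toCv
  have hg := not_H (not_K hc hζ (by simp)) hK
  obtain ⟨T, R, hT, TH, m, n, hR, ⟨e⟩, c⟩ := syl_T hc s hζ one_ne_zero (ord h hζ (by simp)) hK le_rfl
    (hc.Co_mem hζ) fun u hu => h.cen u hu ζ 1 hζ
  have sq : ∀ k ∈ d.K, ∀ u ∈ d.A, u * u = 1 → k * u ∈ T → k * k = 1 ∧ k * u * (k * u) = 1 := fun k hk u hu u2 ht => by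
    have e : k * u * (k * u) = k * k := by rw [(comm_KA hk hu).symm.mul_mul_mul_comm, u2, mul_one]
    have := two_eq_one s hg hT.pgroup hT.le (mul_mem ht ht) (e ▸ mul_mem hk hk)
    exact ⟨e ▸ this, this⟩
  have key : ∀ k ∈ d.K, ∀ u a b c, d.Co u a b c → k * u ∈ T → a = 0 ∧ b = 0 := fun k hk u a b c hu ht => by
    by_cases ha : a = 0 <;> by_cases hb : b = 0
    · exact ⟨ha, hb⟩
    · subst ha
      exact (h.sw.not_U1 s ((d.sw_Co1 _ _ _).2 hζ) hK hk ((d.sw_Co1 _ _ _).2 hu) hb (hT.le ht) (orderOf_eq_two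
        (fun e => not_K' hc hk hu (by simp [hb]) (e ▸ one_mem _)) (sq k hk u (hc.Co_A hu) (h.sq2 _ _ _ hu) ht).2)).elim
    · subst hb
      exact (h.not_U1 s hζ hK hk hu ha (hT.le ht) (orderOf_eq_two
        (fun e => not_K' hc hk hu (by simp [ha]) (e ▸ one_mem _)) (sq k hk u (hc.Co_A hu) (h.sq1 _ _ _ hu) ht).2)).elim
    · exact (h.not_both s hζ hK hk hu ha hb (hT.le ht)).elim
  have TA : T ≤ normalizer (d.A : Set G) := s.norm ▸ TH
  have e1 : (T ⊔ d.U) ⊓ d.A = d.U := h.syl.eq_of_le (hT.pgroup.to_sup_of_normal_left' h.syl.pgroup n).to_inf_left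
    (le_inf le_sup_right hc.U_le) inf_le_right
  have TU : T ≤ normalizer (d.U : Set G) := fun x hx =>
    e1 ▸ inf_normalizer_le_normalizer_inf ⟨le_normalizer (mem_sup_left hx), TA hx⟩
  have rep : ∀ x : T, ∃ c, ∃ k ∈ d.K, ∃ u, d.Co u 0 0 c ∧ (x : G) = k * u := fun x => by
    obtain ⟨k, hk, u, hu, e⟩ := hc.inner_of_fix (TA x.2) (TU x.2) (isPGroup_iff_mem.1 hT.pgroup _ x.2)
      fun u a b c hu => by
        obtain ⟨a', b', c', h'⟩ := (h.memU _).1 (cm_mem' (hc.Co_mem hu) (TU x.2))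
        obtain ⟨rfl, rfl⟩ := key 1 (one_mem _) _ _ _ _ h' (by rw [one_mul]; exact cm_mem x.2 (n (hc.Co_mem hu)))
        exact ⟨_, by simpa [commutatorElement_def] using h.mul _ _ _ _ _ _ _ _ h' hu⟩
    obtain ⟨a, b, c, hu'⟩ := (h.memU u).1 hu
    obtain ⟨rfl, rfl⟩ := key k hk u a b c hu' (e ▸ x.2)
    exact ⟨c, k, hk, u, hu', e⟩
  choose p hp using rep
  have c4 := Nat.card_le_card_of_injective p fun x y e => by
    obtain ⟨k, hk, u, hu, e1⟩ := hp x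
    obtain ⟨k', hk', u', hu', e2⟩ := hp y
    obtain ⟨w, -, w2, rfl⟩ := hc.eq_mod hu (e ▸ hu')
    refine Subtype.ext (mul_inv_eq_one.1 (two_eq_one s hg hT.pgroup hT.le (mul_mem x.2 (inv_mem y.2)) ?_))
    rw [e1, e2, ← (comm_KA w2 (hc.Co_A hu')).eq, show k * (w * u') * (k' * u')⁻¹ = k * w * k'⁻¹ by group]
    exact mul_mem (mul_mem hk w2) (inv_mem hk')
  rw [Nat.card_eq_fintype_card (α := GF4), card_GF4, ← Nat.card_congr e.toEquiv] at c4
  refine ⟨T, R, hT, hR, le_antisymm c4 (four_le s hR), fun v hv => ?_, m, c, fun x hx => ?_⟩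
  · obtain ⟨k, hk, u, hu, e1⟩ := hp (e ⟨v, hv⟩)
    have := (sq k hk u (hc.Co_A hu) (h.sq1 _ _ _ hu) (e1 ▸ (e _).2)).2
    rw [← e1, ← coe_mul, ← map_mul, OneMemClass.coe_eq_one, map_eq_one_iff _ e.injective] at this
    exact congrArg Subtype.val this
  · obtain ⟨k, hk, u, hu, e1⟩ := hp ⟨x, hx⟩
    obtain rfl : x = k * u := e1
    exact mul_mem_sup (St0.k_mem hR hk (hc.Co_A hu) (sq k hk u (hc.Co_A hu) (h.sq1 _ _ _ hu) hx).1
      (centralizer_le_normalizer _ fun r hr => c r hr _ hx)) (hc.mem_Z.2 ⟨_, hu⟩)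

end El

end CfsgLib.SzC
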