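import Cfsg.Agent.Lib.SzC.CB
import Cfsg.Agent.Lib.SzC.CE

/-! Package CJ1: an element of `N(E)` outside `H` (plans/SZC2.md) -/

set_option autoImplicit false
set_option linter.unusedSectionVars false

namespace CfsgLib.SzC

open Subgroup Cfsg CfsgLib.Tech CfsgLib.StdR2 CfsgLib.Classical CfsgLib.ExtraTwo
open scoped commutatorElement

variable {G : Type*} [Group G] [Finite G] {d : Cd G} {z ψ χ : GF4 → G}

namespace CJ1

theorem f1 : ∀ y : GF4, y = 0 ∨ ∃ a b a' b' : GF4, a * b = 1 ∧ a' * b' = 1 ∧ a * b * b + a' * b' * b' = y := by decide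

theorem W_le (h : El d z χ) (s : St0 d.A) {g ζ : G} (hζ : d.Co ζ 0 0 1) (hK : ζ ∈ Tech.cj g d.K) (o : orderOf ζ = 2)
    (y : GF4) : χ y ∈ (d.cj g).K ⊔ (d.cj g).A := by
  have hc := h.toCv
  have key : ∀ a b, a * b = 1 → z 1 * χ (a * b * b) ∈ (d.cj g).K ⊔ (d.cj g).A := by
    intro a b hab
    obtain ⟨u, hu⟩ := h.surj a 0 0
    obtain ⟨v, hv⟩ := h.surj 0 b 0
    have m := mul_mem (hc.Co_mem hu) (hc.Co_mem hv)
    have := (hc.cj g).sqi (u * v) (by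
      rw [Cd.cj_A, (s.cj g).norm, Hc_cj]; exact s.mem_cj_H hK o (h.cen _ m _ _ hζ)) (hc.tw_U m)
    rwa [← hab, ← h.comm _ _ _ _ _ _ hu hv, show ⁅u, v⁆ = u * v * (u * v) by
      rw [commutatorElement_def, inv_eq_of_mul_eq_one_right (h.sq1 _ _ _ hu),
        inv_eq_of_mul_eq_one_right (h.sq2 _ _ _ hv)]; group]
  rcases f1 y with rfl | ⟨a, b, a', b', h1, h2, rfl⟩
  · have := h.χadd 0 0
    rw [add_zero, left_eq_mul] at this
    rw [this]; exact one_mem _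
  · have := mul_mem (key a b h1) (key a' b' h2)
    rwa [← (comm_KA (h.χK _) (hc.Co_A (h.zCo 1))).eq, mul_assoc, ← mul_assoc (z 1), h.sq1 _ _ _ (h.zCo 1), one_mul,
      ← h.χadd] at this

theorem Z_le (h : El d z χ) (s : St0 d.A) {g : G} (hg : g ∉ d.H) {T V : Subgroup G}
    (hT : IsSylowIn 2 T (Tech.cj g d.K)) (hV : IsSylowIn 2 V d.K) (c4 : Nat.card V = 4) (hle : T ≤ V ⊔ d.Z) :
    d.Z ≤ V ⊔ T := by
  have hc := h.toCv
  have ZA : d.Z ≤ d.A := hc.Z_le1.trans (hc.U1_le.trans hc.U_le)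
  have dec : ∀ x : T, ∃ v ∈ V, ∃ u c, d.Co u 0 0 c ∧ (x : G) = v * u := by
    intro x
    have h1 : (x : G) ∈ ((V ⊔ d.Z : Subgroup G) : Set G) := hle x.2
    rw [coe_mul_of_left_le_normalizer_right V d.Z (fun v hv => centralizer_le_normalizer _
      (mem_centralizer_iff.2 fun u hu => (comm_KA (hV.le hv) (ZA hu)).eq.symm))] at h1
    obtain ⟨v, hv, u, hu, e⟩ := h1
    obtain ⟨c, hu⟩ := hc.mem_Z.1 hu
    exact ⟨v, hv, u, c, hu, e.symm⟩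
  choose v hv u c hu hx using dec
  have hinj : Function.Injective c := by
    intro x y e
    obtain ⟨w, hwU, hwK, e'⟩ := hc.eq_mod (hu y) (e ▸ hu x)
    have m := mul_mem (inv_mem x.2) y.2
    obtain ⟨j, hj⟩ := isPGroup_iff_mem.1 hT.pgroup _ m
    have k1 : (v x)⁻¹ * v y ∈ d.K := hV.le (mul_mem (inv_mem (hv x)) (hv y))
    refine Subtype.ext (inv_mul_eq_one.1 (eq_one_of_two s.ti hg ?_ (hT.le m) hj))
    have : (x : G)⁻¹ * y = (v x)⁻¹ * v y * w := by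
      calc (x : G)⁻¹ * y = (u x)⁻¹ * ((v x)⁻¹ * v y * u x) * w := by rw [hx x, hx y, e']; group
        _ = _ := by rw [(comm_KA k1 (hc.Co_A (hu x))).eq]; group
    rw [this]; exact mul_mem k1 hwK
  have hcard : Nat.card T = Nat.card GF4 := by
    rw [hT.card_eq (hV.cj g), card_cj, c4, Nat.card_eq_fintype_card]; rfl
  have hs := ((Nat.bijective_iff_injective_and_card c).2 ⟨hinj, hcard⟩).2
  intro ξ hξ
  obtain ⟨e, hξ⟩ := hc.mem_Z.1 hξ
  obtain ⟨x, rfl⟩ := hs e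
  obtain ⟨w, hwU, hwK, e'⟩ := hc.eq_mod hξ (hu x)
  rw [e', show u x = (v x)⁻¹ * x by rw [hx x]; group]
  exact mul_mem (mul_mem (inv_mem (mem_sup_left (hv x))) (mem_sup_right x.2))
    (mem_sup_left (hc.W_le_syl hV (mem_inf.2 ⟨hwU, hwK⟩)))

theorem cj_of_cent {k : G} {X : Subgroup G} (h : ∀ x ∈ X, k * x = x * k) : Tech.cj k X = X :=
  mem_normalizer_iff_cj.1 (centralizer_le_normalizer _ (mem_centralizer_iff.2 fun x hx => (h x hx).symm))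

end CJ1

theorem El.exists_g0 (h : El d z χ) (s : St0 d.A) {g ζ : G} (hζ : d.Co ζ 0 0 1) (hK : ζ ∈ Tech.cj g d.K) :
    ∃ (V : Subgroup G) (g0 : G), IsSylowIn 2 V d.K ∧ Nat.card V = 4 ∧ (∀ v ∈ V, v * v = 1) ∧ g0 ∉ d.H ∧
      g0 ∈ normalizer ((V ⊔ d.Z : Subgroup G) : Set G) := by
  have hc := h.toCv
  have ZA : d.Z ≤ d.A := hc.Z_le1.trans (hc.U1_le.trans hc.U_le)
  have ζK : ζ ∉ d.K := fun h1 => one_ne_zero ((h.ker _ _ _ _ hζ).1 h1).2.2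
  have o : orderOf ζ = 2 := orderOf_eq_two (fun h1 => ζK (h1 ▸ one_mem _)) (h.sq1 _ _ _ hζ)
  have hg : g ∉ d.H := fun h1 => ζK (by rwa [mem_normalizer_iff_cj.1 h1] at hK)
  obtain ⟨T, V, hT, hV, c4, V2, -, VT, hle⟩ := h.exists_T s hζ hK
  obtain ⟨w, hwU, hwK, hw1⟩ := h.ne
  obtain ⟨a, hA, ζ', hζ', -, hK'⟩ := (hc.cj g).exists_A (s.cj g) (g := g⁻¹) (t := w)
    (by rw [Cd.cj_H, mem_cj]; simpa using hg) (by rw [Cd.cj_K, cj_inv_cj]; exact hwK)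
    (orderOf_eq_two hw1 (h.sq1 _ _ _ (hc.Co_K hwU hwK))) (by
      obtain ⟨y, rfl⟩ := h.onto w hwU hwK
      exact CJ1.W_le h s hζ hK o y)
  have e1 : Tech.cj (a⁻¹ * g) d.K = Tech.cj g d.K := by
    rw [cj_mul, ← Cd.cj_K]
    exact CJ1.cj_of_cent fun x hx => (comm_KA hx (inv_mem hA)).eq.symm
  obtain ⟨T', V', hT', hV', -, -, -, VT', hle'⟩ := (h.cj (a⁻¹ * g)).exists_T (s.cj (a⁻¹ * g)) (g := (a⁻¹ * g)⁻¹)
    (ζ := a⁻¹ * ζ' * a) (by
      rw [Cd.cj_Co] at hζ' ⊢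
      convert hζ' using 1
      group) (by
      rw [Cd.cj_K, cj_inv_cj]
      rwa [Cd.cj_K, ← cj_mul, inv_mul_cancel_right, mem_cj] at hK')
  rw [Cd.cj_K, cj_inv_cj] at hT'
  rw [Cd.cj_K, e1] at hV'
  rw [Cd.cj_Z] at hle'
  obtain ⟨c, hcK, e2⟩ := hT'.exists_cj_eq hV
  have e3 : Tech.cj c (Tech.cj g d.K) = Tech.cj g d.K := by
    refine mem_normalizer_iff_cj.1 ?_
    rw [← cj_normalizer]
    exact s.mem_cj_H hK o (comm_KA hcK (hc.Co_A hζ))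
  have h1 : IsSylowIn 2 (Tech.cj c V') (Tech.cj g d.K ⊓ centralizer (V : Set G)) := by
    have := hV'.cj c
    rw [e3] at this
    refine this.of_le (le_inf this.le (cj_le_iff.2 fun x hx => mem_centralizer_iff.2 fun v hv => ?_)) inf_le_left
    rw [← e2, SetLike.mem_coe, mem_cj] at hv
    calc v * (c * x * c⁻¹) = c * (c⁻¹ * v * c * x) * c⁻¹ := by group
      _ = _ := by rw [← (VT' x hx _ hv).eq]; group
  have h2 : IsSylowIn 2 T (Tech.cj g d.K ⊓ centralizer (V : Set G)) :=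
    hT.of_le (le_inf hT.le fun x hx => mem_centralizer_iff.2 fun v hv => (VT v hv x hx).eq) inf_le_left
  obtain ⟨k, hk, e4⟩ := h1.exists_cj_eq h2
  obtain ⟨hkK, hkV⟩ := mem_inf.1 hk
  have e5 : Tech.cj (k * (c * (a⁻¹ * g))) d.K = Tech.cj g d.K := by
    rw [cj_mul, cj_mul, e1, e3, cj_eq_of_mem hkK]
  have h3 : V ≤ T ⊔ Tech.cj (k * (c * (a⁻¹ * g))) d.Z := by
    rw [cj_mul, cj_mul, ← e4, ← cj_sup, ← cj_sup,
      ← CJ1.cj_of_cent (k := k) (X := V) fun x hx => (mem_centralizer_iff.1 hkV x hx).symm, ← e2]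
    exact cj_mono _ (cj_mono _ hle')
  generalize k * (c * (a⁻¹ * g)) = g2 at e5 h3
  obtain ⟨k3, hk3, e6⟩ := (e5 ▸ hV.cj g2).exists_cj_eq hT
  have e7 : Tech.cj k3 (Tech.cj g2 d.Z) = Tech.cj g2 d.Z := CJ1.cj_of_cent fun x hx => by
    rw [← e5, ← Kc_cj] at hk3
    exact (comm_KA hk3 (cj_mono g2 ZA hx)).eq
  refine ⟨V, k3 * g2, hV, c4, V2, fun h4 => hg ?_, mem_normalizer_iff_cj.2 (eq_of_le_of_card_ge ?_
    (card_cj _ _).le).symm⟩
  · have h5 := mem_normalizer_iff_cj.1 h4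
    rw [cj_mul, e5, cj_eq_of_mem hk3] at h5
    exact mem_normalizer_iff_cj.2 h5
  · rw [cj_sup, cj_mul, cj_mul, e6, e7]
    exact sup_le h3 ((CJ1.Z_le h s hg hT hV c4 hle).trans (sup_le h3 le_sup_left))

end CfsgLib.SzC
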