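import Cfsg.Agent.Lib.SzC.SB
import Cfsg.Agent.Lib.G2C.P0

/-! Small facts about frames that are used by the packages ND, P0 and ZERO (plans/SZC.md) -/

set_option autoImplicit false
set_option linter.unusedSectionVars false

namespace CfsgLib.SzC

open Subgroup Cfsg CfsgLib.Tech CfsgLib.StdR2 CfsgLib.Classical CfsgLib.ExtraTwo
open scoped commutatorElement CfsgLib.BG

variable {G : Type*} [Group G] [Finite G] {f : Fd G}

theorem zx_span : ∀ c1 c2 c : GF4, c1 ≠ 0 → c2 ≠ 0 → c1 ≠ c2 → c = 0 ∨ c = c1 ∨ c = c2 ∨ c = c1 + c2 := by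
  decide

theorem zx_solve : ∀ a b d : GF4, ¬ (a = 0 ∧ b = 0) → ∃ a' b', a * b' + a' * b = d := by decide

theorem zx_KY {K Y A : Subgroup G} (hK : K ≤ Kc A) (hY : Y ≤ A) {e : G} :
    e ∈ K ⊔ Y ↔ ∃ v ∈ K, ∃ y ∈ Y, e = v * y := by
  simp only [BG.mem_sup_norm_r (BG.cents_norm (hK.trans (BG.centS hY))), eq_comm]

namespace Fm

variable (h : Fm f)
include h

theorem zx_memU (a b c : GF4) : f.x a b c ∈ f.U := h.mem_U.2 ⟨a, b, c, rfl⟩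

theorem zx_memU1 (a c : GF4) : f.x a 0 c ∈ f.U1 := h.mem_U1.2 ⟨a, c, rfl⟩

theorem zx_memU2 (b c : GF4) : f.x 0 b c ∈ f.U2 := h.mem_U2.2 ⟨b, c, rfl⟩

theorem zx_memZ (c : GF4) : f.x 0 0 c ∈ f.Z := h.mem_Z.2 ⟨c, rfl⟩

theorem zx_ZU : f.Z ≤ f.U := h.Z_le1.trans h.U1_le

theorem zx_ZA : f.Z ≤ f.A := h.zx_ZU.trans h.U_le

theorem zx_sq {a b : GF4} (e : a * b = 0) (c : GF4) : f.x a b c * f.x a b c = 1 := by
  rw [h.x_sq, e, h.x_zero]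

theorem zx_sqZ : ∀ ζ ∈ f.Z, ζ * ζ = 1 := fun ζ hζ => by
  obtain ⟨c, rfl⟩ := h.mem_Z.1 hζ
  exact h.zx_sq (mul_zero _) c

theorem zx_commZ (c a b d : GF4) : Commute (f.x 0 0 c) (f.x a b d) := by
  have := h.x_comm 0 0 c a b d
  rwa [zero_mul, mul_zero, add_zero, h.x_zero, mul_one] at this

theorem zx_UZ : f.U ≤ 𝒞(f.Z) := BG.cents_iff.2 fun u hu ζ hζ => by
  obtain ⟨c, rfl⟩ := h.mem_Z.1 hζ
  obtain ⟨a, b, d, rfl⟩ := h.mem_U.1 hu
  exact (h.zx_commZ ..).symm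

theorem zx_KU {u : G} (hk : u ∈ f.K) (hu : u ∈ f.U) : u = 1 := by
  obtain ⟨a, b, c, rfl⟩ := h.mem_U.1 hu
  obtain ⟨rfl, rfl, rfl⟩ := h.inj _ _ _ hk
  exact h.x_zero

theorem zx_ord {k : G} (hk : k ∈ f.K) (k2 : k * k = 1) {a b c : GF4} (e : a * b = 0)
    (h0 : k ≠ 1 ∨ ¬ (a = 0 ∧ b = 0 ∧ c = 0)) : orderOf (k * f.x a b c) = 2 :=
  orderOf_two_of_mul_self (by rw [(comm_KA hk (h.xA ..)).symm.mul_mul_mul_comm, k2, h.zx_sq e, mul_one]) fun e1 => by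
    have h1 : f.x a b c ∈ f.K := by rw [eq_inv_of_mul_eq_one_right e1]; exact inv_mem hk
    refine h0.elim (fun h2 => h2 ?_) fun h2 => h2 (h.inj _ _ _ h1)
    rwa [h.zx_KU h1 (h.zx_memU a b c), mul_one] at e1

theorem zx_ordZ {c : GF4} (hc : c ≠ 0) : orderOf (f.x 0 0 c) = 2 := by
  simpa using h.zx_ord (one_mem _) (mul_one 1) (mul_zero 0) (.inr fun e => hc e.2.2)

/-- the `K`-part of an involution -/
theorem zx_sq_left {k u : G} (hk : k ∈ f.K) (hu : u ∈ f.U) (h2 : k * u * (k * u) = 1) : k * k = 1 ∧ u * u = 1 := by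
  rw [(comm_KA hk (h.U_le hu)).symm.mul_mul_mul_comm] at h2
  have h1 := h.zx_KU (u := u * u) (by rw [eq_inv_of_mul_eq_one_right h2]; exact inv_mem (mul_mem hk hk)) (mul_mem hu hu)
  exact ⟨by rwa [h1, mul_one] at h2, h1⟩

/-- a subgroup normalised by `U` that acts non-trivially on `U` modulo `K` contains `Z` -/
theorem zx_Z_le {N : Subgroup G} (hU : f.U ≤ 𝒩(N)) {k : G} (hk : k ∈ f.K) {a b c : GF4}
    (hy : k * f.x a b c ∈ N) (h0 : ¬ (a = 0 ∧ b = 0)) : f.Z ≤ N := fun ζ hζ => by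
  obtain ⟨d, rfl⟩ := h.mem_Z.1 hζ
  obtain ⟨a', b', rfl⟩ := zx_solve a b d h0
  have h1 := conj_mem_of_mem_normalizer' (hU (h.zx_memU a' b' 0)) hy
  rw [← mul_assoc, ← (comm_KA hk (inv_mem (h.xA a' b' 0))).eq, mul_assoc, mul_assoc, h.x_comm a b c,
    mul_assoc, inv_mul_cancel_left, ← mul_assoc] at h1
  exact (mul_mem_cancel_left hy).1 h1

end Fm

end CfsgLib.SzC
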