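import Cfsg.Agent.Lib.SzC.CVA
import Cfsg.Agent.Lib.SzC.SB
import Cfsg.Agent.Lib.SzC.Zx

/-! Package CJ2: `W` is a four-group (plans/SZC2.md) -/

set_option autoImplicit false
set_option linter.unusedSectionVars false

namespace CfsgLib.SzC

open Subgroup Cfsg CfsgLib.Tech CfsgLib.StdR2 CfsgLib.Classical CfsgLib.ExtraTwo
open scoped commutatorElement

variable {G : Type*} [Group G] [Finite G] {d : Cd G} {z ψ χ : GF4 → G}

theorem cj2_comm {x y : G} (hx : x * x = 1) (hy : y * y = 1) (h : x * y * (x * y) = 1) : Commute x y := by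
  have := eq_inv_of_mul_eq_one_left h
  rw [mul_inv_rev, inv_eq_of_mul_eq_one_right hx, inv_eq_of_mul_eq_one_right hy] at this
  exact this

namespace El

section

variable (h : El d z χ) {V : Subgroup G} (hV : IsSylowIn 2 V d.K) (sq : ∀ v ∈ V, v * v = 1)
include h hV

theorem cj2_E {y : G} : y ∈ V ⊔ d.Z ↔ ∃ v ∈ V, ∃ ζ c, d.Co ζ 0 0 c ∧ y = v * ζ := by
  simp only [zx_KY hV.le ((h.toCv.Z_le1.trans h.toCv.U1_le).trans h.toCv.U_le), h.toCv.mem_Z]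
  exact ⟨fun ⟨v, hv, u, ⟨c, e⟩, e'⟩ => ⟨v, hv, u, c, e, e'⟩, fun ⟨v, hv, u, c, e, e'⟩ => ⟨v, hv, u, ⟨c, e⟩, e'⟩⟩

theorem cj2_1 {y : G} : y ∈ V ⊔ d.U1 ↔ ∃ v ∈ V, ∃ u a c, d.Co u a 0 c ∧ y = v * u := by
  simp only [zx_KY hV.le (h.toCv.U1_le.trans h.toCv.U_le), h.toCv.mem_U1]
  exact ⟨fun ⟨v, hv, u, ⟨a, c, e⟩, e'⟩ => ⟨v, hv, u, a, c, e, e'⟩,
    fun ⟨v, hv, u, a, c, e, e'⟩ => ⟨v, hv, u, ⟨a, c, e⟩, e'⟩⟩

theorem cj2_2 {y : G} : y ∈ V ⊔ d.U2 ↔ ∃ v ∈ V, ∃ u b c, d.Co u 0 b c ∧ y = v * u := by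
  simp only [zx_KY hV.le (h.toCv.U2_le.trans h.toCv.U_le), h.toCv.mem_U2]
  exact ⟨fun ⟨v, hv, u, ⟨a, c, e⟩, e'⟩ => ⟨v, hv, u, a, c, e, e'⟩,
    fun ⟨v, hv, u, a, c, e, e'⟩ => ⟨v, hv, u, ⟨a, c, e⟩, e'⟩⟩

omit hV in
theorem cj2_co {u w k : G} {a b c a' b' c' : GF4} (hu : d.Co u a b c) (hw : d.Co w a' b' c') (hk : k ∈ d.K)
    (e : u = k * w) : a = a' ∧ b = b' := by
  have h1 := h.mul _ _ _ _ _ _ _ _ hu (h.toCv.Co_inv hw)
  obtain ⟨h2, h3, -⟩ := (h.ker _ _ _ _ h1).1 (by rw [e, mul_inv_cancel_right]; exact hk)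
  have : ∀ x y : GF4, x + y = 0 → x = y := by decide
  exact ⟨this _ _ h2, this _ _ h3⟩

theorem cj2_not : ¬ V ⊔ d.U1 ≤ V ⊔ d.U2 := fun l => by
  obtain ⟨u, hu⟩ := h.surj 1 0 0
  obtain ⟨v, hv, w, b, c, hw, e⟩ := (h.cj2_2 hV).1 (l (mem_sup_right (h.toCv.mem_U1.2 ⟨_, _, hu⟩)))
  exact one_ne_zero (h.cj2_co hu hw (hV.le hv) e).1

theorem cj2_v : ∃ v ∈ V, v ∈ d.U ∧ orderOf v = 2 := by
  obtain ⟨w, h1, h2, h3⟩ := h.ne
  obtain ⟨y, rfl⟩ := h.onto w h1 h2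
  exact ⟨_, h.toCv.W_le_syl hV ⟨h1, h2⟩, h1, orderOf_eq_prime (by rw [pow_two, h.χ_sq]) h3⟩

include sq

omit h hV in
theorem cj2_V {v w : G} (hv : v ∈ V) (hw : w ∈ V) : Commute v w :=
  cj2_comm (sq v hv) (sq w hw) (sq _ (mul_mem hv hw))

theorem cj2_sq {y : G} (hy : y ∈ V ⊔ d.U1) : y * y = 1 := by
  obtain ⟨v, hv, u, a, c, hu, rfl⟩ := (h.cj2_1 hV).1 hy
  rw [(comm_KA (hV.le hv) (h.toCv.Co_A hu)).symm.mul_mul_mul_comm, sq v hv, h.sq1 u a c hu, mul_one]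

theorem cj2_ab {x y : G} (hx : x ∈ V ⊔ d.U1) (hy : y ∈ V ⊔ d.U1) : Commute x y :=
  cj2_comm (h.cj2_sq hV sq hx) (h.cj2_sq hV sq hy) (h.cj2_sq hV sq (mul_mem hx hy))

theorem cj2_br {v w u u' : G} (hv : v ∈ V) (hw : w ∈ V) (hu : u ∈ d.A) (hu' : u' ∈ d.A) :
    ⁅v * u, w * u'⁆ = ⁅u, u'⁆ := by
  have c1 : Commute v (w * u') := (cj2_V sq hv hw).mul_right (comm_KA (hV.le hv) hu')
  have c2 := comm_KA (hV.le hv) hu
  have c3 := comm_KA (hV.le hw) hu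
  have c4 := comm_KA (hV.le hw) hu'
  rw [c2.eq, cva_bl (by rw [c1.commutator_eq]; exact Commute.one_left _)
    (by rw [c1.commutator_eq]; exact Commute.one_left _), c1.commutator_eq, mul_one, c4.eq,
    cva_br (by rw [c3.symm.commutator_eq]; exact Commute.one_left _), c3.symm.commutator_eq, mul_one]

/-- the commutators of `V U₁` with `V U₂` -/
theorem cj2_S {x : G} : (∃ p ∈ V ⊔ d.U1, ∃ q ∈ V ⊔ d.U2, x = ⁅p, q⁆) ↔ ∃ a b, x = z (a * b) * χ (a * b * b) := by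
  constructor
  · rintro ⟨p, hp, q, hq, rfl⟩
    obtain ⟨v, hv, u, a, c, hu, rfl⟩ := (h.cj2_1 hV).1 hp
    obtain ⟨w, hw, u', b, e, hu', rfl⟩ := (h.cj2_2 hV).1 hq
    exact ⟨a, b, by rw [h.cj2_br hV sq hv hw (h.toCv.Co_A hu) (h.toCv.Co_A hu'), h.comm _ _ _ _ _ _ hu hu']⟩
  · rintro ⟨a, b, rfl⟩
    obtain ⟨u, hu⟩ := h.surj a 0 0
    obtain ⟨u', hu'⟩ := h.surj 0 b 0
    exact ⟨u, mem_sup_right (h.toCv.mem_U1.2 ⟨_, _, hu⟩), u', mem_sup_right (h.toCv.mem_U2.2 ⟨_, _, hu'⟩),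
      (h.comm _ _ _ _ _ _ hu hu').symm⟩

/-- an involution that centralises `E` -/
theorem cj2_tri (s : St0 d.A) {y : G} (y2 : y * y = 1) (hy : ∀ e ∈ V ⊔ d.Z, Commute y e) :
    y ∈ V ⊔ d.U1 ∨ y ∈ V ⊔ d.U2 ∨ d.T1 y := by
  obtain ⟨v, hv, -, o⟩ := h.cj2_v hV
  have hA : y ∈ normalizer (d.A : Set G) := s.norm ▸ s.mem_H_of_comm (hV.le hv) o (hy v (mem_sup_left hv))
  rcases h.toCv.inner_or_T1 hA ⟨1, by rwa [pow_one, pow_two]⟩ (fun ζ c hζ => by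
    rw [(hy ζ (mem_sup_right (h.toCv.mem_Z.2 ⟨c, hζ⟩))).commutator_eq]; exact one_mem _) with ⟨k, hk, u, hu, rfl⟩ | h1
  swap
  · exact Or.inr (Or.inr h1)
  obtain ⟨a, b, c, hc⟩ := (h.memU u).1 hu
  have hu' := h.toCv.U_le hu
  rw [(comm_KA hk hu').symm.mul_mul_mul_comm] at y2
  have h1 : u * u ∈ d.K := by rw [eq_inv_of_mul_eq_one_right y2]; exact inv_mem (mul_mem hk hk)
  have h2 := ((h.ker _ _ _ _ (h.toCv.Co_sq hc)).1 h1).2.2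
  have h3 : u * u = 1 := by
    rcases mul_eq_zero.1 h2 with rfl | rfl
    exacts [h.sq2 _ _ _ hc, h.sq1 _ _ _ hc]
  rw [h3, mul_one] at y2
  have h4 : k ∈ V := zpowers_le.1 (hV.le_of_normalizes (isPGroup_zpowers_of_pow (k := 1) (by rwa [pow_one, pow_two]))
    (zpowers_le.2 hk) (zpowers_le.2 (mem_normalizer_of_forall fun w hw => by
      have := (hy w (mem_sup_left hw)).mul_left (comm_KA (hV.le hw) hu').symm.inv_left
      rw [mul_inv_cancel_right] at this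
      rwa [this.eq, mul_inv_cancel_right])))
  rcases mul_eq_zero.1 h2 with rfl | rfl
  · exact Or.inr (Or.inl ((h.cj2_2 hV).2 ⟨k, h4, u, _, _, hc, rfl⟩))
  · exact Or.inl ((h.cj2_1 hV).2 ⟨k, h4, u, _, _, hc, rfl⟩)

theorem cj2_le (s : St0 d.A) {g : G} (hE : g ∈ normalizer ((V ⊔ d.Z : Subgroup G) : Set G)) :
    Tech.cj g (V ⊔ d.U1) ≤ V ⊔ d.U1 ∨ Tech.cj g (V ⊔ d.U1) ≤ V ⊔ d.U2 := by
  have k := h.toCv
  have lE : V ⊔ d.Z ≤ V ⊔ d.U1 := sup_le_sup_left k.Z_le1 V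
  have ab : ∀ {x y}, x ∈ Tech.cj g (V ⊔ d.U1) → y ∈ Tech.cj g (V ⊔ d.U1) → Commute x y := fun hx hy => by
    simpa [mul_assoc] using (h.cj2_ab hV sq (mem_cj.1 hx) (mem_cj.1 hy)).map (MulAut.conj g).toMonoidHom
  have tri : ∀ {y}, y ∈ Tech.cj g (V ⊔ d.U1) → y ∈ V ⊔ d.U1 ∨ y ∈ V ⊔ d.U2 ∨ d.T1 y := fun {y} hy =>
    h.cj2_tri hV sq s (by
      simpa [mul_assoc] using congrArg (fun t => g * t * g⁻¹) (h.cj2_sq hV sq (mem_cj.1 hy)))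
      fun e he => ab hy (mem_cj.2 (lE (conj_mem_of_mem_normalizer' hE he)))
  have nT : ∀ {t}, t ∈ Tech.cj g (V ⊔ d.U1) → ¬ d.T1 t := fun {t} ht ⟨l, l0, h1, _⟩ => by
    have key : ∀ u a c, d.Co u a 0 c → a ≠ 0 → d.T1 (g * u * g⁻¹) := fun u a c hu a0 => by
      have hm : g * u * g⁻¹ ∈ Tech.cj g (V ⊔ d.U1) := conj_mem_cj.2 (mem_sup_right (k.mem_U1.2 ⟨_, _, hu⟩))
      have fix : ∀ v ∈ V, ∀ w a' b' c', d.Co w a' b' c' → a' * b' = 0 → g * u * g⁻¹ ≠ v * w :=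
        fun v hv w a' b' c' hw h0 e => by
          have c1 : Commute t v := ab ht (mem_cj.2 (lE (conj_mem_of_mem_normalizer' hE (mem_sup_left hv))))
          have c2 : Commute t w := by
            have := c1.inv_right.mul_right (e ▸ ab ht hm)
            rwa [inv_mul_cancel_left] at this
          obtain ⟨c'', h2⟩ := h1 _ _ _ _ hw
          rw [c2.eq, mul_inv_cancel_right] at h2
          obtain ⟨e1, e2, -⟩ := k.Co_unique hw h2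
          obtain ⟨rfl, rfl⟩ : a' = 0 ∧ b' = 0 := by
            rcases mul_eq_zero.1 h0 with r | r
            · exact ⟨r, by rw [e2, r, mul_zero]⟩
            · exact ⟨by rw [e1, r, mul_zero], r⟩
          have := conj_mem_of_mem_normalizer' hE (e ▸ (h.cj2_E hV).2 ⟨v, hv, w, _, hw, rfl⟩)
          rw [show g⁻¹ * (g * u * g⁻¹) * g = u by group] at this
          obtain ⟨v', hv', ζ, c1, hζ, e'⟩ := (h.cj2_E hV).1 this
          exact a0 (h.cj2_co hu hζ (hV.le hv') e').1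
      rcases tri hm with h2 | h2 | h2
      · obtain ⟨v, hv, w, a', c', hw, e⟩ := (h.cj2_1 hV).1 h2
        exact absurd e (fix v hv w _ _ _ hw (mul_zero _))
      · obtain ⟨v, hv, w, a', c', hw, e⟩ := (h.cj2_2 hV).1 h2
        exact absurd e (fix v hv w _ _ _ hw (zero_mul _))
      · exact h2
    obtain ⟨u1, hu1⟩ := h.surj 1 0 0
    obtain ⟨u2, hu2⟩ := h.surj ω 0 0
    have hu3 := h.mul _ _ _ _ _ _ _ _ hu1 hu2
    rw [add_zero] at hu3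
    obtain ⟨l1, -, t1, -⟩ := key _ _ _ hu1 one_ne_zero
    obtain ⟨l2, -, t2, -⟩ := key _ _ _ hu2 (by decide)
    obtain ⟨l3, n3, t3, -⟩ := key _ _ _ hu3 (by decide)
    obtain ⟨_, e2⟩ := t2 _ _ _ _ hu1
    obtain ⟨_, e1⟩ := t1 _ _ _ _ e2
    obtain ⟨_, e3⟩ := t3 _ _ _ _ hu1
    rw [show g * (u1 * u2) * g⁻¹ * u1 * (g * (u1 * u2) * g⁻¹)⁻¹ =
      g * u1 * g⁻¹ * (g * u2 * g⁻¹ * u1 * (g * u2 * g⁻¹)⁻¹) * (g * u1 * g⁻¹)⁻¹ by group] at e3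
    exact n3 (by simpa using (k.Co_unique e3 e1).2.1)
  by_contra hc
  obtain ⟨h1, h2⟩ := not_or.1 hc
  obtain ⟨x, hx, h1⟩ := SetLike.not_le_iff_exists.1 h1
  obtain ⟨y, hy, h2⟩ := SetLike.not_le_iff_exists.1 h2
  have h3 := ((tri hx).resolve_left h1).resolve_right (nT hx)
  have h4 := (tri hy).resolve_right (not_or.2 ⟨h2, nT hy⟩)
  rcases tri (mul_mem hx hy) with h5 | h5 | h5
  · exact h1 ((mul_mem_cancel_right h4).1 h5)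
  · exact h2 ((mul_mem_cancel_left h3).1 h5)
  · exact nT (mul_mem hx hy) h5

theorem cj2_le' (s : St0 d.A) {g : G} (hE : g ∈ normalizer ((V ⊔ d.Z : Subgroup G) : Set G)) :
    Tech.cj g (V ⊔ d.U2) ≤ V ⊔ d.U2 ∨ Tech.cj g (V ⊔ d.U2) ≤ V ⊔ d.U1 := by
  simpa only [d.sw_U1, d.sw_U2] using h.sw.cj2_le (V := V) hV sq s (g := g) (by rwa [d.sw_Z])

theorem cj2_eq (s : St0 d.A) {g : G} (hE : g ∈ normalizer ((V ⊔ d.Z : Subgroup G) : Set G)) :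
    Tech.cj g (V ⊔ d.U1) = V ⊔ d.U1 ∨ Tech.cj g (V ⊔ d.U1) = V ⊔ d.U2 := by
  rcases h.cj2_le hV sq s hE with h1 | h1
  · exact Or.inl (mem_normalizer_iff_cj.1 (mem_normalizer_of_cj_le h1))
  have h2 := cj_mono g⁻¹ h1
  rw [cj_inv_cj] at h2
  rcases h.cj2_le' hV sq s (inv_mem hE) with h3 | h3
  · exact absurd (h2.trans h3) (h.cj2_not hV)
  · exact Or.inr (by rw [le_antisymm h2 h3, cj_cj_inv])

theorem cj2_perm (s : St0 d.A) {g : G} (hE : g ∈ normalizer ((V ⊔ d.Z : Subgroup G) : Set G)) :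
    (Tech.cj g (V ⊔ d.U1) = V ⊔ d.U1 ∧ Tech.cj g (V ⊔ d.U2) = V ⊔ d.U2) ∨
      (Tech.cj g (V ⊔ d.U1) = V ⊔ d.U2 ∧ Tech.cj g (V ⊔ d.U2) = V ⊔ d.U1) := by
  have h2 : Tech.cj g (V ⊔ d.U2) = V ⊔ d.U2 ∨ Tech.cj g (V ⊔ d.U2) = V ⊔ d.U1 := by
    simpa only [d.sw_U1, d.sw_U2] using h.sw.cj2_eq (V := V) hV sq s (g := g) (by rwa [d.sw_Z])
  rcases h.cj2_eq hV sq s hE with h1 | h1 <;> rcases h2 with h2 | h2
  · exact Or.inl ⟨h1, h2⟩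
  · exact absurd (cj_injective g (h1.trans h2.symm)).le (h.cj2_not hV)
  · exact absurd (cj_injective g (h1.trans h2.symm)).le (h.cj2_not hV)
  · exact Or.inr ⟨h1, h2⟩

theorem cj2_inv (s : St0 d.A) {g : G} (hE : g ∈ normalizer ((V ⊔ d.Z : Subgroup G) : Set G)) (a b : GF4) :
    ∃ a' b', g * (z (a * b) * χ (a * b * b)) * g⁻¹ = z (a' * b') * χ (a' * b' * b') := by
  obtain ⟨p, hp, q, hq, e⟩ := (h.cj2_S hV sq).2 ⟨a, b, rfl⟩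
  rw [e, conjugate_commutatorElement]
  rcases h.cj2_perm hV sq s hE with ⟨h1, h2⟩ | ⟨h1, h2⟩
  · exact (h.cj2_S hV sq).1 ⟨_, h1 ▸ conj_mem_cj.2 hp, _, h2 ▸ conj_mem_cj.2 hq, rfl⟩
  · obtain ⟨a', b', e'⟩ := (h.cj2_S hV sq).1 ⟨_, h2 ▸ conj_mem_cj.2 hq, _, h1 ▸ conj_mem_cj.2 hp, rfl⟩
    refine ⟨a', b', ?_⟩
    rw [← commutatorElement_inv, e', mul_inv_rev, inv_eq_of_mul_eq_one_right (h.χ_sq _),
      inv_eq_of_mul_eq_one_right (h.z_sq _), (comm_KA (h.χK _) (h.toCv.Co_A (h.zCo _))).eq]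

end

variable (h : El d z χ) (s : St0 d.A) {V : Subgroup G} (hV : IsSylowIn 2 V d.K) (c4 : Nat.card V = 4)
  (sq : ∀ v ∈ V, v * v = 1) {g0 : G} (hE : g0 ∈ normalizer ((V ⊔ d.Z : Subgroup G) : Set G))
include h s hV c4 sq hE

theorem cj_VU1 : Tech.cj g0 (V ⊔ d.U1) = V ⊔ d.U1 ∨ Tech.cj g0 (V ⊔ d.U1) = V ⊔ d.U2 :=
  h.cj2_eq hV sq s hE

theorem fin (hg : g0 ∉ d.H) : Nat.card (d.U ⊓ d.K : Subgroup G) = 4 ∧
    ∃ g, g ∉ d.H ∧ ∀ y ∈ d.A, y ∈ d.K → Odd (orderOf y) → Commute g y := by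
  have k := h.toCv
  have mm : ∀ c y c' y', z c * χ y * (z c' * χ y') = z (c + c') * χ (y + y') := fun c y c' y' => by
    rw [h.zadd, h.χadd, (comm_KA (h.χK y) (k.Co_A (h.zCo _))).mul_mul_mul_comm]
  have zK : ∀ c y, z c * χ y ∈ d.K → c = 0 := fun c y e =>
    ((h.ker _ _ _ _ (h.zCo c)).1 ((mul_mem_cancel_right (h.χK y)).1 e)).2.2
  have inj : ∀ y0, χ y0 = 1 → y0 = 0 := fun y0 e0 => by
    by_contra n0
    obtain ⟨w, h1, h2, h3⟩ := h.ne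
    obtain ⟨y1, rfl⟩ := h.onto w h1 h2
    have n1 : y1 ≠ 0 := by rintro rfl; exact h3 h.χ_zero
    obtain ⟨a, b, a', b', e1, e2⟩ : ∃ a b a' b' : GF4, a * b + a' * b' = 0 ∧ a * b * b + a' * b' * b' = y1 := by
      clear h1 h2 h3 n1; revert y1; decide
    obtain ⟨p, q, e3⟩ := h.cj2_inv hV sq s hE a b
    obtain ⟨p', q', e4⟩ := h.cj2_inv hV sq s hE a' b'
    have e5 := congrArg₂ (· * ·) e3 e4
    simp only [conj_mul, mm, e1, e2, h.z_zero, one_mul] at e5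
    generalize p * q + p' * q' = c, p * q * q + p' * q' * q' = y at e5
    by_cases c0 : c = 0
    · rw [c0, h.z_zero, one_mul] at e5
      exact hg (s.mem_H h2 (orderOf_eq_prime (by rw [pow_two, h.χ_sq]) h3) (e5 ▸ h.χK y))
    obtain ⟨a1, b1, e6, e7⟩ : ∃ a1 b1 : GF4, a1 * b1 = c ∧ χ (a1 * b1 * b1) = χ y := by
      have : ∀ c y : GF4, c ≠ 0 → y ≠ 0 → ∃ a1 b1 : GF4, a1 * b1 = c ∧ a1 * b1 * b1 = y := by decide
      by_cases y' : y = 0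
      · obtain ⟨a1, b1, e6, e7⟩ := this c y0 c0 n0
        exact ⟨a1, b1, e6, by rw [e7, e0, y', h.χ_zero]⟩
      · obtain ⟨a1, b1, e6, e7⟩ := this c y c0 y'
        exact ⟨a1, b1, e6, by rw [e7]⟩
    obtain ⟨a2, b2, e8⟩ := h.cj2_inv hV sq s (inv_mem hE) a1 b1
    rw [e7, e6, ← e5, show g0⁻¹ * (g0 * χ y1 * g0⁻¹) * g0⁻¹⁻¹ = χ y1 by group] at e8
    have e9 := zK _ _ (e8 ▸ h2)
    rw [e9, zero_mul, h.z_zero, h.χ_zero, mul_one] at e8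
    exact h3 e8
  constructor
  · rw [← Nat.card_congr (Equiv.ofBijective (fun y : GF4 => (⟨χ y, h.χU y, h.χK y⟩ : (d.U ⊓ d.K : Subgroup G)))
      ⟨fun y y' e => ?_, fun w => ?_⟩), Nat.card_eq_fintype_card]
    · rfl
    · have e' : χ y = χ y' := congrArg Subtype.val e
      have := inj (y + y') (by rw [h.χadd, e', h.χ_sq])
      revert this; generalize y = x; generalize y' = x'; revert x x'; decide
    · obtain ⟨y, e⟩ := h.onto w w.2.1 w.2.2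
      exact ⟨y, Subtype.ext e.symm⟩
  obtain ⟨v, hv, -, o⟩ := h.cj2_v hV
  have EH : V ⊔ d.Z ≤ d.H := (sup_le_sup hV.le ((k.Z_le1.trans k.U1_le).trans k.U_le)).trans s.KA_le_H
  have nl := s.not_le_H (g := g0⁻¹) (t := g0⁻¹ * v * g0⁻¹⁻¹) (fun e => hg (by simpa using inv_mem e))
    (conj_mem_cj.2 (hV.le hv)) (EH (conj_mem_of_mem_normalizer (inv_mem hE) (mem_sup_left hv)))
    ((MulEquiv.orderOf_eq (MulAut.conj g0⁻¹) v).trans o)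
  obtain ⟨a, ha, hn⟩ := SetLike.not_le_iff_exists.1 nl
  rw [mem_cj, inv_inv] at hn
  refine ⟨_, hn, fun y hy hK od => ?_⟩
  have hN : g0 ∈ normalizer ((V ⊔ d.U : Subgroup G) : Set G) := by
    rw [mem_normalizer_iff_cj, ← k.U_eq, sup_sup_distrib_left, cj_sup]
    rcases h.cj2_perm hV sq s hE with ⟨h1, h2⟩ | ⟨h1, h2⟩
    · rw [h1, h2]
    · rw [h1, h2, sup_comm]
  have hc : ∀ x ∈ V ⊔ d.U, Commute (g0⁻¹ * y * g0) x := fun x hx => by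
    obtain ⟨w, hw, u, hu, e⟩ := (zx_KY hV.le k.U_le).1 (conj_mem_of_mem_normalizer hN hx)
    have := ((comm_KA (hV.le hw) hy).symm.mul_right (comm_KA hK (k.U_le hu))).map (MulAut.conj g0⁻¹).toMonoidHom
    simpa [← e, mul_assoc] using this
  obtain ⟨k1, hk1, ζ, c, hζ, e⟩ := h.cenU _ (s.norm ▸ s.mem_H_of_comm (hV.le hv) o (hc v (mem_sup_left hv)))
    fun u hu => by rw [(hc u (mem_sup_right hu)).commutator_eq]; exact one_mem _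
  have h1 : (k1 * ζ) ^ orderOf y = 1 := by
    rw [← e, show g0⁻¹ * y * g0 = g0⁻¹ * y * g0⁻¹⁻¹ by rw [inv_inv], conj_pow, pow_orderOf_eq_one]; simp
  obtain ⟨n, hn⟩ := od
  rw [(comm_KA hk1 (k.Co_A hζ)).mul_pow, hn, pow_succ ζ, pow_mul ζ, pow_two ζ, h.sq1 _ _ _ hζ, one_pow,
    one_mul] at h1
  have h2 : g0⁻¹ * y * g0 ∈ d.K := by
    rw [e, eq_inv_of_mul_eq_one_right h1]; exact mul_mem hk1 (inv_mem (pow_mem hk1 _))
  simpa [mul_assoc] using (comm_KA h2 ha).symm.map (MulAut.conj g0).toMonoidHom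

end El

end CfsgLib.SzC
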