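import Cfsg.Agent.Lib.SzC.CVA
import Cfsg.Agent.Lib.SzC.SB
import Cfsg.Agent.Lib.SzC.CEx

/-! Package CN: `W` is elementary abelian (plans/SZC2.md) -/

set_option autoImplicit false
set_option linter.unusedSectionVars false

namespace CfsgLib.SzC

open Subgroup Cfsg CfsgLib.Tech CfsgLib.StdR2 CfsgLib.Classical CfsgLib.ExtraTwo
open scoped commutatorElement

variable {G : Type*} [Group G] [Finite G] {d : Cd G} {z ψ χ : GF4 → G}

namespace CNx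

open CEx

theorem g1 : ∀ a b x : GF4, a * b = 0 → (a = 0 → b ≠ 0) → ∃ μ, a * μ + b * b * μ * μ = x := by decide
theorem g2 : ∀ c x : GF4, c ≠ 0 → c ≠ 1 → ∃ b, b * b * c + b * b * c * c = x := by decide
theorem g3 : ∀ b : GF4, b * b * 1 + b * b * 1 * 1 = 0 := by decide
theorem g4 : ∀ l : GF4, ∃ y, y + l * y * y ≠ 0 := by decide
theorem g5 : ∀ l a b a' b' : GF4, l * l * b = a → l * a = b → l * l * b' = a' → l * a' = b' → a * b = 1 →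
    a' * b' = 1 → a = a' ∧ b = b' := by decide
theorem g6 : ∀ l a b a' b' : GF4, l * a * a = a → l * a' * a' = a' → a * b = 1 →
    a' * b' = 1 → a = a' ∧ b = b' := by decide
theorem g7 : ∀ a l : GF4, a ≠ 0 → l * l * 1 * 1 = 1 →
    a * (l * a * a) + l * 0 * 0 * 0 = 1 ∧ a * a * (l * a * a) = a ∧ l * 0 * 0 = 0 := by decide
theorem aa : ∀ a : GF4, a + a = 0 := by decide

theorem inv' {x u : G} (h : Commute (x * x) u) : x * ⁅x, u⁆ * x⁻¹ = ⁅x, u⁆⁻¹ := by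
  calc x * ⁅x, u⁆ * x⁻¹ = x * x * u * x⁻¹ * u⁻¹ * x⁻¹ := by simp only [commutatorElement_def, mul_assoc]
    _ = _ := by rw [h.eq]; simp only [commutatorElement_def]; group

/-- `x` fixes the vector `(a, b)` -/
def Fx (d : Cd G) (x : G) (a b : GF4) : Prop := ∃ u c c', d.Co u a b c ∧ d.Co (x * u * x⁻¹) a b c'

theorem uniq (h : Cv d) {x : G} (hx : d.T1 x ∨ d.T2 x) {a b a' b' : GF4} (h1 : Fx d x a b) (h2 : Fx d x a' b')
    (e1 : a * b = 1) (e2 : a' * b' = 1) : a = a' ∧ b = b' := by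
  obtain ⟨u, c, c1, u1, u2⟩ := h1
  obtain ⟨v, e, c2, v1, v2⟩ := h2
  rcases hx with ⟨l, -, k, -⟩ | ⟨α, β, -, -, k, -⟩ <;> obtain ⟨_, u3⟩ := k _ _ _ _ u1 <;> obtain ⟨_, v3⟩ := k _ _ _ _ v1
  exacts [g5 l _ _ _ _ (h.Co_unique u3 u2).1 (h.Co_unique u3 u2).2.1 (h.Co_unique v3 v2).1 (h.Co_unique v3 v2).2.1 e1 e2,
    g6 α _ _ _ _ (h.Co_unique u3 u2).1 (h.Co_unique v3 v2).1 e1 e2]

theorem fx_of (h : Cv d) {x u : G} {a b c e : GF4} (hu : d.Co u a b c) (k : d.Co ⁅x, u⁆ 0 0 e) : Fx d x a b :=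
  ⟨u, c, _, hu, by simpa [commutatorElement_def] using h.mul _ _ _ _ _ _ _ _ k hu⟩

theorem cm_act (h : Al d z ψ) {u ζ : G} {a b c e : GF4} (hu : d.Co u a b c) (hζ : d.Co ζ 0 0 e) :
    ⁅u, ζ⁆ = ψ (a * e + b * b * e * e) := by
  rw [commutatorElement_def, h.act _ _ _ _ _ _ hu hζ, ← (comm_KA (h.ψK _) (h.toCv.Co_A hζ)).eq, mul_inv_cancel_right]

theorem sq_K {k u : G} (hk : k ∈ d.K) (hu : u ∈ d.A) : k * u * (k * u) = k * k * (u * u) :=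
  (comm_KA hk hu).symm.mul_mul_mul_comm _ _

theorem cm_of_comm {y k u : G} (hy : y ∈ d.H) (hk : k ∈ d.K) (c : Commute y (k * u)) : ⁅y, u⁆ ∈ d.K := by
  have e : ⁅y, u⁆ = y * k⁻¹ * y⁻¹ * k := by
    rw [commutatorElement_def, show y * u = y * k⁻¹ * y⁻¹ * (y * (k * u)) by group, c.eq]; group
  exact e ▸ mul_mem (conj_mem_of_mem_normalizer hy (inv_mem hk)) hk

theorem two0 (h : Al d z ψ) (s : St0 d.A) {g k ζ y : G} (hg : g ∉ d.H) (hk : k ∈ d.K) (hζ : d.Co ζ 0 0 1)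
    (ht : k * ζ ∈ Tech.cj g d.K) (hy : y ∈ Tech.cj g d.K) (ot : orderOf (k * ζ) = 2) (oy : orderOf y = 2)
    (ne : y ≠ k * ζ) (c : Commute y (k * ζ)) (iy : y ∈ d.K ⊔ d.A) (x : GF4) : ψ x = 1 := by
  have hc := h.toCv
  have y2 := mul_self_of_orderOf oy
  have yH := s.KA_le_H iy
  obtain ⟨k2, hk2, u, hu, rfl⟩ := hc.inner_KU iy (h.NU y (s.norm ▸ yH) ζ 1 one_ne_zero hζ (cm_of_comm yH hk c))
    ⟨1, by rwa [pow_one, sq]⟩
  obtain ⟨a, b, e, hu⟩ := (h.memU u).1 hu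
  have ab : a * b = 0 := ((h.ker _ _ _ _ (hc.Co_sq hu)).1 ((mul_mem_cancel_left (mul_mem hk2 hk2)).1
    (by rw [← sq_K hk2 (hc.Co_A hu), y2]; exact one_mem _))).2.2
  have key : ∀ v ∈ d.A, Commute v ζ → ⁅u, v⁆ ∈ Tech.cj g d.K := fun v hv c' => by
    rw [← cm_K hk2 (hc.Co_A hu) hv]
    exact cm_mem hy (N_cj (s.mem_cj_H ht ot ((comm_KA hk hv).symm.mul_right c')))
  by_cases h0 : a = 0 → b ≠ 0
  · obtain ⟨μ, rfl⟩ := g1 a b x ab h0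
    exact s.eq_one hg (h.ψK _) (cm_act h hu (h.zCo μ) ▸ key _ (hc.Co_A (h.zCo μ)) (h.commZ (h.zCo μ) hζ)) (h.ψ_sq _)
  obtain ⟨rfl, rfl⟩ : a = 0 ∧ b = 0 := by simpa using h0
  have e0 : e ≠ 0 := by
    rintro rfl
    exact ne_one_of_orderOf oy (s.eq_one hg (mul_mem hk2 ((h.ker _ _ _ _ hu).2 ⟨rfl, rfl, rfl⟩)) hy y2)
  have e1 : e ≠ 1 := by
    rintro rfl
    obtain ⟨w, -, w2, rfl⟩ := hc.eq_mod hu hζ
    refine ne (mul_inv_eq_one.1 (s.eq_one hg ?_ (mul_mem hy (inv_mem ht)) ?_))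
    · rw [← (comm_KA w2 (hc.Co_A hζ)).eq, show k2 * (w * ζ) * (k * ζ)⁻¹ = k2 * w * k⁻¹ by group]
      exact mul_mem (mul_mem hk2 w2) (inv_mem hk)
    · rw [c.inv_right.symm.mul_mul_mul_comm, y2, ← mul_inv_rev, mul_self_of_orderOf ot, inv_one, mul_one]
  obtain ⟨b, rfl⟩ := g2 e x e0 e1
  obtain ⟨v, hv⟩ := h.surj (b * b) b 0
  have := inv_mem (key v (hc.Co_A hv) (commutatorElement_eq_one_iff_commute.1 (by rw [cm_act h hv hζ, g3, h.ψ_zero])))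
  rw [commutatorElement_inv, cm_act h hv hu] at this
  exact s.eq_one hg (h.ψK _) this (h.ψ_sq _)

end CNx

open CEx CNx

namespace Al

variable (h : Al d z ψ) (s : St0 d.A)
include h s

/-- two commuting inner involutions in a conjugate of `K` -/
theorem two_inner {g t y : G} (hg : g ∉ d.H) (ht : t ∈ Tech.cj g d.K) (hy : y ∈ Tech.cj g d.K)
    (ot : orderOf t = 2) (oy : orderOf y = 2) (ne : y ≠ t) (c : Commute y t) (it : t ∈ d.K ⊔ d.A)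
    (iy : y ∈ d.K ⊔ d.A) (x : GF4) : ψ x = 1 := by
  have t2 := mul_self_of_orderOf ot
  obtain ⟨a, ha, k, hk, ζ, hζ, e⟩ := h.toCv.exists_k it (fun k => ne_one_of_orderOf ot (s.eq_one hg k ht t2)) t2
  refine two0 h s (g := a * g) (y := a * y * a⁻¹) (fun k => hg ((mul_mem_cancel_left (s.A_le_H ha)).1 k)) hk hζ
    (by rw [← e, cj_mul]; exact conj_mem_cj.2 ht) (by rw [cj_mul]; exact conj_mem_cj.2 hy)
    (by rw [← e, orderOf_conj_eq, ot]) (by rw [orderOf_conj_eq, oy]) (by rw [← e]; simpa using ne) (e ▸ c.conj a)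
    (mul_mem (mul_mem (mem_sup_right ha) iy) (inv_mem (mem_sup_right ha))) x

theorem psi_one {g ζ : G} (hζ : d.Co ζ 0 0 1) (o : orderOf ζ = 2) (hK : ζ ∈ Tech.cj g d.K) (x : GF4) :
    ψ x = 1 := by
  by_contra hx
  have hc := h.toCv
  have hg := not_H (not_K hc hζ (by simp)) hK
  obtain ⟨T, R, hT, TH, m, n, hR, ⟨e⟩, cR⟩ := syl_T hc s hζ one_ne_zero o hK (U0 := d.U ⊓ centralizer {ζ})
    inf_le_left ⟨hc.Co_mem hζ, mem_centralizer_singleton_iff.2 rfl⟩ fun u hu => mem_centralizer_singleton_iff.1 hu.2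
  have cW : ∀ t ∈ T, ∀ w ∈ d.U, w ∈ d.K → t * w * t⁻¹ = w := fun t ht w w1 w2 =>
    mul_inv_eq_iff_eq_mul.2 (cR w (hc.W_le_syl hR ⟨w1, w2⟩) t ht).symm
  have TA : T ≤ normalizer (d.A : Set G) := s.norm ▸ TH
  have tw : ∀ t ∈ T, Tw t := isPGroup_iff_mem.1 hT.pgroup
  have inn0 : ∀ y ∈ T, y ∈ d.K ⊔ d.A → Commute y ζ → y * y = 1 → y = 1 ∨ y = ζ := fun y hy iy c y2 => by
    by_contra! k
    exact hx (h.two_inner s hg hK (hT.le hy) o (orderOf_eq_two k.1 y2) k.2 c (mem_sup_right (hc.Co_A hζ)) iy x)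
  obtain ⟨ω4, hω, ωc, ω2⟩ : ∃ ω4 ∈ T, (∀ t ∈ T, Commute t ω4) ∧ ω4 * ω4 = ζ := by
    obtain ⟨w, w1, w2, w3⟩ := h.root x
    have wR := hc.W_le_syl hR ⟨w1, w2⟩
    have c : ∀ t ∈ T, Commute t (e ⟨w, wR⟩) := fun t ht => by
      have : Commute (e.symm ⟨t, ht⟩) ⟨w, wR⟩ := Subtype.ext (comm_KA (hR.le (SetLike.coe_mem _)) (hc.U_le w1))
      simpa using (this.map e).map T.subtype
    refine ⟨_, (e ⟨w, wR⟩).2, c, (inn0 _ (mul_mem (e _).2 (e _).2) (h.sqi _ (TA (e _).2) (tw _ (e _).2))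
      ((c ζ m).mul_right (c ζ m)).symm ?_).resolve_left fun k => hx ?_⟩
    · rw [← coe_mul, ← coe_mul, ← map_mul, ← map_mul, OneMemClass.coe_eq_one, map_eq_one_iff _ e.injective]
      exact Subtype.ext (show w * w * (w * w) = 1 by rw [w3, h.ψ_sq])
    · rw [← coe_mul, ← map_mul, OneMemClass.coe_eq_one, map_eq_one_iff _ e.injective] at k
      exact w3 ▸ congrArg Subtype.val k
  have cζ : ∀ t ∈ T, Commute t ζ := fun t ht => ω2 ▸ (ωc t ht).mul_right (ωc t ht)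
  have TU : T ≤ normalizer (d.U : Set G) := fun t ht => h.NU t (TA ht) ζ 1 one_ne_zero hζ
    (by rw [commutatorElement_eq_one_iff_commute.2 (cζ t ht)]; exact one_mem _)
  have inn : ∀ y ∈ T, y ∈ d.K ⊔ d.A → y * y = 1 → y = 1 ∨ y = ζ := fun y hy iy => inn0 y hy iy (cζ y hy)
  have kz : ∀ k ∈ d.K, ∀ u c, d.Co u 0 0 c → k * u ∈ T → k * u = 1 ∨ k * u = ζ := fun k hk u c hu hy =>
    inn _ hy (mul_mem_sup hk (hc.Co_A hu)) (two_eq_one s hg hT.pgroup hT.le (mul_mem hy hy) (by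
      rw [sq_K hk (hc.Co_A hu)]
      exact mul_mem (mul_mem hk hk) ((h.ker _ _ _ _ (hc.Co_sq hu)).2 ⟨rfl, rfl, mul_zero _⟩)))
  have m0 : ∀ u a b c, d.Co u a b c → ψ (a * 1 + b * b * 1 * 1) = 1 → u ∈ d.U ⊓ centralizer {ζ} := fun u a b c hu k =>
    ⟨hc.Co_mem hu, mem_centralizer_singleton_iff.2 (commutatorElement_eq_one_iff_commute.1 (cm_act h hu hζ ▸ k))⟩
  have fω : ∀ a b, ψ (a * 1 + b * b * 1 * 1) = 1 → Fx d ω4 a b := fun a b k => by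
    obtain ⟨u, hu⟩ := h.surj a b 0
    have u0 := m0 u a b 0 hu k
    have k1 := cm_mem hω (n u0)
    have k2 := inv' (x := ω4) (u := u) (ω2 ▸ (mem_centralizer_singleton_iff.1 u0.2).symm)
    rw [← (ωc _ k1).eq, mul_inv_cancel_right, eq_inv_iff_mul_eq_one] at k2
    rcases inn _ k1 (mem_sup_right (hc.U_le (cm_mem' u0.1 (TU hω)))) k2 with k3 | k3
    exacts [fx_of hc hu (k3 ▸ hc.Co_one), fx_of hc hu (k3 ▸ hζ)]
  obtain ⟨t, ht, ot, tζ⟩ : ∃ t ∈ T, orderOf t = 2 ∧ t ≠ ζ := by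
    obtain ⟨v, hv, w, hw, v2, w2, ne, -⟩ := (s.cj g).exists_two_inv (R := T) (Kc_cj g d.A ▸ hT)
    by_cases k : v = ζ
    exacts [⟨w, hw, w2, k ▸ ne.symm⟩, ⟨v, hv, v2, k⟩]
  have t2 := mul_self_of_orderOf ot
  have h12 : d.T1 t ∨ d.T2 t := by
    rcases h.types t (TA ht) (TU ht) (tw t ht) with ⟨k, hk, u, hu, rfl⟩ | k | k | ⟨l, -, k1, k2⟩
    · exact ((inn _ ht (mul_mem_sup hk (hc.U_le hu)) t2).elim (ne_one_of_orderOf ot) tζ).elim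
    · exact .inl k
    · exact .inr k
    refine (hx (by_contra fun k => ?_)).elim
    have x0 : x ≠ 0 := fun e => k (e ▸ h.ψ_zero)
    have l1 := k2 ζ 1 hζ
    rw [(cζ t ht).eq, mul_inv_cancel_right] at l1
    obtain ⟨e1, e2, e3⟩ := g7 x l x0 (hc.Co_unique l1 hζ).2.2
    obtain ⟨u, hu, -⟩ := h.lift1 x
    obtain ⟨c', hv⟩ := k1 _ _ _ _ hu
    obtain ⟨w, w1, w2, e4⟩ := hc.eq_mod (e1 ▸ hc.Co_comm hu hv) hζ
    rw [e3] at hv
    have e5 : t * ⁅u, t * u * t⁻¹⁆ * t⁻¹ = ⁅u, t * u * t⁻¹⁆⁻¹ := by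
      rw [conjugate_commutatorElement, commutatorElement_inv,
        show t * (t * u * t⁻¹) * t⁻¹ = t * t * u * (t * t)⁻¹ by group, t2, one_mul, inv_one, mul_one]
    rw [e4, ← conj_mul, cW t ht w w1 w2, (cζ t ht).eq, mul_inv_cancel_right, ← e4, eq_inv_iff_mul_eq_one,
      h.sqc _ _ _ _ _ _ hu hv, e2] at e5
    exact k e5
  obtain ⟨μ, μ0, hμ⟩ : ∃ μ, μ ≠ 0 ∧ ψ μ = 1 := by
    have key : ∀ l, (∀ y, t * ψ y * t⁻¹ = ψ (l * y * y)) → ∃ μ, μ ≠ 0 ∧ ψ μ = 1 := fun l k => by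
      obtain ⟨y, hy⟩ := g4 l
      exact ⟨_, hy, by rw [h.ψadd, ← k, cW t ht _ (h.ψU _) (h.ψK _), h.ψ_sq]⟩
    rcases h12 with ⟨l, -, k1, k2⟩ | ⟨α, β, -, -, k1, k2⟩
    exacts [key _ (h.ψ_T1 k1 k2), key _ (h.ψ_T2 k1 k2)]
  have f1 : ∀ b, ψ (b * b * 1 + b * b * 1 * 1) = 1 := fun b => by rw [g3, h.ψ_zero]
  have mv : ∀ y, d.T1 y ∨ d.T2 y → ∃ b, ¬ Fx d y (b * b) b := fun y hy => by
    by_contra! k
    exact absurd (uniq hc hy (k 1) (k ω) (by decide) (by decide)).2 (by decide)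
  obtain ⟨k, hk, u1, hu1, rfl⟩ : ∃ k ∈ d.K, ∃ u ∈ d.U, ω4 = k * u := by
    rcases h.types ω4 (TA hω) (TU hω) (tw _ hω) with k | k | k | ⟨l, -, k1, -⟩
    · exact k
    · obtain ⟨b, hb⟩ := mv _ (.inl k); exact (hb (fω _ _ (f1 b))).elim
    · obtain ⟨b, hb⟩ := mv _ (.inr k); exact (hb (fω _ _ (f1 b))).elim
    obtain ⟨u, c, c', u1, u2⟩ := fω μ 0 (by simpa using hμ)
    obtain ⟨_, u3⟩ := k1 _ _ _ _ u1
    exact (μ0 (by simpa using (hc.Co_unique u2 u3).1)).elim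
  obtain ⟨a1, b1, c1, hu1⟩ := (h.memU u1).1 hu1
  have e1 : a1 * b1 = 1 := by
    have := h.mul _ _ _ _ _ _ _ _ (hc.Co_sq hu1) (hc.Co_inv hζ)
    rw [← ω2, sq_K hk (hc.Co_A hu1), mul_inv_rev, mul_inv_cancel_left] at this
    have := ((h.ker _ _ _ _ this).1 (inv_mem (mul_mem hk hk))).2.2
    revert this; generalize a1 * b1 = y; revert y; decide
  have x1 : Fx d t a1 b1 := fx_of hc hu1 (hc.Co_K (cm_mem' (hc.Co_mem hu1) (TU ht)) (cm_of_comm (TH ht) hk (ωc t ht)))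
  obtain ⟨b, hb⟩ := mv t h12
  obtain ⟨u, hu⟩ := h.surj (b * b) b 0
  have k1 := cm_mem ht (n (m0 _ _ _ _ hu (f1 b)))
  obtain ⟨a', b', c', hv⟩ := (h.memU _).1 (cm_mem' (hc.Co_mem hu) (TU ht))
  have k2 := inv' (x := t) (u := u) (t2 ▸ Commute.one_left u)
  have k3 : ⁅t, u⁆ * ⁅t, u⁆ ≠ 1 := fun k => by
    rcases inn _ k1 (mem_sup_right (hc.Co_A hv)) k with k3 | k3
    exacts [hb (fx_of hc hu (k3 ▸ hc.Co_one)), hb (fx_of hc hu (k3 ▸ hζ))]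
  generalize ⁅t, u⁆ = v at k1 k2 k3 hv
  have k4 := (kz 1 (one_mem _) _ _ (hc.Co_sq hv) (by rw [one_mul]; exact mul_mem k1 k1)).resolve_left
    (by rwa [one_mul])
  rw [one_mul] at k4
  obtain ⟨rfl, rfl⟩ := uniq hc h12 x1 ⟨v, _, _, hv, k2 ▸ hc.Co_inv hv⟩ e1 (hc.Co_unique (hc.Co_sq hv) (k4 ▸ hζ)).2.2
  have k5 := h.mul _ _ _ _ _ _ _ _ hu1 (hc.Co_inv hv)
  rw [aa, aa] at k5
  have k6 : Commute t (k * (u1 * v⁻¹)) := by
    rcases kz k hk _ _ k5 (by rw [← mul_assoc]; exact mul_mem hω (inv_mem k1)) with k6 | k6 <;> rw [k6]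
    exacts [Commute.one_right t, cζ t ht]
  have k7 : Commute t v := by simpa [mul_assoc] using k6.inv_right.mul_right (ωc t ht)
  rw [k7.eq, mul_inv_cancel_right, eq_inv_iff_mul_eq_one] at k2
  exact k3 k2

end Al

end CfsgLib.SzC
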