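import Cfsg.Agent.Lib.SzC.Defs
import Cfsg.Agent.Lib.StdR2.HeFrame

/-! Package FA: existence of a frame (plans/SZC.md) -/

set_option autoImplicit false
set_option linter.unusedSectionVars false

namespace CfsgLib.SzC

open Subgroup Cfsg CfsgLib.Tech CfsgLib.StdR2 CfsgLib.Classical CfsgLib.ExtraTwo
open scoped commutatorElement

variable {G : Type*} [Group G] [Finite G] {f : Fd G}

theorem fa_syl : IsSylowIn 2 ρ.range ⊤ := by
  have h2 := ρ.range.card_mul_index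
  rw [Mathieu.card_psl3_of_card card_GF4, index_ρ] at h2
  have h3 : Nat.card ρ.range = 2 ^ 6 := by
    generalize Nat.card ρ.range = n at h2
    omega
  exact ⟨le_top, IsPGroup.of_card h3, by rw [relIndex_top_right, index_ρ]; decide⟩

theorem fa_sq (a b c : GF4) : ub a b c * ub a b c = ub 0 0 (a * b) := by
  have h : ∀ a : GF4, a + a = 0 := by decide +kernel
  rw [ub_mul, h, h, h, zero_add]

theorem fa_inv_conj {x : PP} (o : orderOf x = 2) : ∃ g : PP, g * ub 0 0 1 * g⁻¹ = x := by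
  obtain ⟨g, -, y, hy⟩ := fa_syl.exists_conj_mem (mem_top x)
    (isPGroup_zpowers_of_pow (k := 1) (orderOf_dvd_iff_pow_eq_one.1 (by rw [o, pow_one])))
  have o' : orderOf (g * x * g⁻¹) = 2 := (MulEquiv.orderOf_eq (MulAut.conj g) x).trans o
  rw [← hy, ρ_eq y ⟨rfl, rfl, rfl⟩] at o'
  rw [ρ_eq y ⟨rfl, rfl, rfl⟩] at hy
  generalize cA y = a, cB y = b, cC y = c at hy o'
  have h1 := pow_orderOf_eq_one (ub a b c)
  rw [o', pow_two, fa_sq, ← ub_zero] at h1
  have h2 : ub a b c ≠ 1 := fun e => by simp [e] at o'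
  have : ∃ k : PP, k * ub 0 0 1 * k⁻¹ = ub a b c := by
    rcases mul_eq_zero.1 (ub_inj h1).2.2 with rfl | rfl
    · exact conj_two fun e => h2 (by rw [e.1, e.2, ub_zero])
    · exact conj_one fun e => h2 (by rw [e.1, e.2, ub_zero])
  obtain ⟨k, hk⟩ := this
  exact ⟨g⁻¹ * k, by rw [show x = g⁻¹ * (g * x * g⁻¹) * g by group, ← hy, ← hk]; group⟩

theorem fa_cm (a b c a' b' c' : GF4) :
    ub a b c * ub a' b' c' = ub 0 0 (a * b' + a' * b) * (ub a' b' c' * ub a b c) := by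
  have h : ∀ a : GF4, a + a = 0 := by decide +kernel
  rw [ub_mul, ub_mul, ub_mul]
  congr 1
  · ring
  · ring
  · linear_combination -h (a' * b)

theorem fa_gen {Γ : Subgroup PP} (h1 : ∀ a b c, ub a b c ∈ Γ) (hn : nb ∈ Γ) (hm : mb ∈ Γ) :
    Γ = ⊤ := by
  have cn : ∀ {s t : SL}, pj s ∈ Γ → !![1, 0, 0; 0, 0, 1; 0, 1, 0] * s.1 =
      t.1 * !![1, 0, 0; 0, 0, 1; 0, 1, 0] → pj t ∈ Γ := fun hs e =>
    conj_pj (g := ⟨_, by decide +kernel⟩) e ▸ mul_mem (mul_mem hn hs) (inv_mem hn)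
  have cm : ∀ {s t : SL}, pj s ∈ Γ → !![0, 1, 0; 1, 0, 0; 0, 0, 1] * s.1 =
      t.1 * !![0, 1, 0; 1, 0, 0; 0, 0, 1] → pj t ∈ Γ := fun hs e =>
    conj_pj (g := ⟨_, by decide +kernel⟩) e ▸ mul_mem (mul_mem hm hs) (inv_mem hm)
  have t : ∀ (i j : Fin 3) (h : i ≠ j) (c : GF4),
      pj (Matrix.SpecialLinearGroup.transvection h c) ∈ Γ := by
    have eq : ∀ {s t : SL}, pj s ∈ Γ → s.1 = t.1 → pj t ∈ Γ := fun hs e => Subtype.ext e ▸ hs
    have t10 : ∀ c : GF4, pj (Matrix.SpecialLinearGroup.transvection (by decide : (1 : Fin 3) ≠ 0) c) ∈ Γ :=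
      fun c => cm (h1 c 0 0) (by revert c; decide +kernel)
    intro i j h c
    fin_cases i <;> fin_cases j
    · exact absurd rfl h
    · exact eq (h1 c 0 0) (by revert c; decide +kernel +revert)
    · exact eq (h1 0 0 c) (by revert c; decide +kernel +revert)
    · exact t10 c
    · exact absurd rfl h
    · exact eq (h1 0 c 0) (by revert c; decide +kernel +revert)
    · exact cn (t10 c) (by revert c; decide +kernel +revert)
    · exact cn (h1 0 c 0) (by revert c; decide +kernel +revert)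
    · exact absurd rfl h
  have := sl_eq_top_of_transvection_mem (Γ.comap (QuotientGroup.mk' _)) t
  refine eq_top_iff.2 fun x _ => ?_
  obtain ⟨s, rfl⟩ := QuotientGroup.mk_surjective x
  exact this.ge (mem_top s)

theorem fa_n3 : (nb * ub 0 1 0) ^ 3 = 1 :=
  congrArg pj (Subtype.ext (by decide +kernel) : _ = (1 : SL))

theorem fa_m3 : (mb * ub 1 0 0) ^ 3 = 1 :=
  congrArg pj (Subtype.ext (by decide +kernel) : _ = (1 : SL))

theorem fa_aut2 {β : MulAut PP} {c : GF4} (h1 : β (ub 0 0 1) = ub 0 0 1)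
    (h2 : β (ub 0 0 ω) = ub 0 0 ω) (h3 : β (ub 0 1 0) = ub 0 1 c) :
    ∃ a b c, β = MulAut.conj (ub a b c) := by
  obtain ⟨a, b, d, e⟩ := cent_ub (g := β (ub 1 0 0)) one_ne_zero (by
    conv_lhs => rw [← h1]
    rw [← map_inv, ← map_mul, ← map_mul, fa_cm, ← mul_assoc, mul_inv_cancel_right]
    simp [ub_zero, h1])
  have e1 := congrArg β (fa_sq 1 0 0)
  rw [map_mul, e, fa_sq, mul_zero, ub_zero, map_one, ← ub_zero] at e1
  have e2 := congrArg β (fa_cm 1 0 0 0 1 0)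
  rw [map_mul, map_mul, map_mul, e, h3, fa_cm, mul_left_inj] at e2
  simp only [mul_one, zero_mul, add_zero, h1] at e2
  obtain rfl := (ub_inj e2).2.2
  have e3 := (ub_inj e1).2.2
  rw [one_mul] at e3
  subst e3
  exact aut_ub h1 h2 e

section

variable {B : Type*} [Group B] [Finite B] {π : B →* PP} (hk : π.ker = center B)
  (ho : Odd (Nat.card (center B)))
include hk ho

theorem fa_pow {z : B} (h : π z = 1) : z ^ Nat.card (center B) = 1 :=
  congrArg Subtype.val (pow_card_eq_one' (x := (⟨z, hk.le h⟩ : center B)))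

/-- lifts of 2-power order are unique -/
theorem fa_uniq {x y : B} (e : π x = π y) (hx : ∃ j, x ^ 2 ^ j = 1) (hy : ∃ j, y ^ 2 ^ j = 1) :
    x = y := by
  obtain ⟨i, hi⟩ := hx
  obtain ⟨j, hj⟩ := hy
  have h1 : π (y⁻¹ * x) = 1 := by rw [map_mul, map_inv, e, inv_mul_cancel]
  have h2 : Commute y (y⁻¹ * x) := mem_center_iff.1 (hk.le h1) y
  have h3 := h2.mul_pow (2 ^ (i + j))
  rw [mul_inv_cancel_left, pow_add, pow_mul, hi, one_pow, mul_comm (2 ^ i), pow_mul y, hj, one_pow,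
    one_mul, mul_comm (2 ^ j), ← pow_add] at h3
  have h4 := Nat.dvd_gcd (orderOf_dvd_of_pow_eq_one h3.symm)
    (orderOf_dvd_of_pow_eq_one (fa_pow hk ho h1))
  rw [((Nat.coprime_two_left.2 ho).pow_left _).gcd_eq_one, Nat.dvd_one, orderOf_eq_one_iff] at h4
  exact (inv_mul_eq_one.1 h4).symm

theorem fa_lift (hs : Function.Surjective π) {p : PP} (p2 : p * p = 1) :
    ∃ y, π y = p ∧ y * y = 1 := by
  obtain ⟨w, rfl⟩ := hs p
  refine ⟨w ^ Nat.card (center B), ?_, ?_⟩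
  · obtain ⟨k, e⟩ := ho
    rw [map_pow, e, pow_succ, pow_mul, pow_two, p2, one_pow, one_mul]
  · rw [← (Commute.refl w).mul_pow]
    exact fa_pow hk ho (by rw [map_mul, p2])

omit ho in
theorem fa_hom_eq (hp : commutator B = ⊤) {α β : B →* B} (h : ∀ y, π (α y) = π (β y)) (y : B) :
    α y = β y := by
  refine (show commutator B ≤ α.eqLocus β from commutator_le.2 fun a _ b _ => ?_) (hp.ge (mem_top y))
  show α _ = β _
  have c : ∀ x, ∃ z, (∀ g, g * z = z * g) ∧ α x = β x * z := fun x =>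
    ⟨(β x)⁻¹ * α x, mem_center_iff.1 (hk.le (by
      rw [MonoidHom.mem_ker, map_mul, map_inv, h, inv_mul_cancel])), by group⟩
  obtain ⟨z, hz, ez⟩ := c a
  obtain ⟨w, hw, ew⟩ := c b
  rw [map_commutatorElement, map_commutatorElement, ez, ew, commutatorElement_def,
    commutatorElement_def]
  calc _ = β a * (z * (β b * w)) * z⁻¹ * (β a)⁻¹ * w⁻¹ * (β b)⁻¹ := by group
    _ = β a * β b * (w * (β a)⁻¹) * w⁻¹ * (β b)⁻¹ := by rw [← hz]; group
    _ = _ := by rw [← hw]; group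

end

theorem exists_fm {A : Subgroup G} (hq : IsQuasisimple A) {F : Type*} [Field F] [Fintype F]
    (hF : Fintype.card F = 4) (e : A ⧸ center A ≃* Matrix.ProjectiveSpecialLinearGroup (Fin 3) F)
    (ho : Odd (Nat.card (center A))) : ∃ f : Fd G, f.A = A ∧ Fm f := by
  let e' := e.trans (pslMapEquiv (FiniteField.ringEquivOfCardEq (hF.trans card_GF4.symm)))
  obtain ⟨π, he⟩ : ∃ π : A →* PP, ∀ y, π y = e' (QuotientGroup.mk y) :=
    ⟨e'.toMonoidHom.comp (QuotientGroup.mk' _), fun _ => rfl⟩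
  have hs : Function.Surjective π := fun p => by
    obtain ⟨y, hy⟩ := QuotientGroup.mk_surjective (e'.symm p)
    exact ⟨y, by rw [he, hy, e'.apply_symm_apply]⟩
  have hk : π.ker = center A := by
    ext y
    rw [MonoidHom.mem_ker, he, map_eq_one_iff _ e'.injective, QuotientGroup.eq_one_iff]
  have hK : ∀ y : A, (y : G) ∈ Kc A ↔ π y = 1 := fun y => by
    rw [← MonoidHom.mem_ker, hk, mem_center_iff]
    exact ⟨fun h g => Subtype.ext (h g g.2), fun h g hg => congrArg Subtype.val (h ⟨g, hg⟩)⟩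
  obtain ⟨S, hS, eS⟩ : ∃ S : Subgroup A, IsSylowIn 2 S ⊤ ∧ S.map π = ρ.range := by
    obtain ⟨S, hS⟩ := exists_isSylowIn 2 (⊤ : Subgroup A)
    have h1 : IsSylowIn 2 (S.map π) ⊤ :=
      ⟨le_top, hS.pgroup.map π, fun e => hS.not_dvd (e.trans (by
        rw [← map_top_of_surjective π hs, ← relIndex_comap]
        exact relIndex_dvd_of_le_left _ (le_comap_map π S)))⟩
    obtain ⟨g, -, hg⟩ := h1.exists_cj_eq fa_syl
    obtain ⟨g, rfl⟩ := hs g
    refine ⟨_, hS.cj_of_mem (mem_top g), ?_⟩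
    rw [← hg, cj, cj, map_map, map_map]
    congr 1
    ext y : 1
    simp
  have hX : ∀ a b c, ∃ y ∈ S, π y = ub a b c := fun a b c => eS.ge (ρ_surj a b c)
  choose X XS Xπ using hX
  have tS : ∀ {y}, y ∈ S → ∃ j, y ^ 2 ^ j = 1 := fun hy => isPGroup_iff_mem.1 hS.pgroup _ hy
  have tc : ∀ (g : A) {y}, y ∈ S → ∃ j, (g * y * g⁻¹) ^ 2 ^ j = 1 := fun g y hy =>
    (tS hy).imp fun j e => by rw [conj_pow, e, mul_one, mul_inv_cancel]
  obtain ⟨n, nπ, n2⟩ := fa_lift hk ho hs nb_sq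
  obtain ⟨m, mπ, m2⟩ := fa_lift hk ho hs mb_sq
  obtain ⟨t, tπ⟩ := hs tb
  have odd : ∀ a ∈ A, a ∈ Kc A → Odd (orderOf a) := fun a ha hk' =>
    Odd.of_dvd_nat ho (orderOf_dvd_of_pow_eq_one
      (congrArg Subtype.val (fa_pow hk ho ((hK ⟨a, ha⟩).1 hk'))))
  have aut : ∀ g ∈ normalizer (A : Set G), ∃ β : MulAut PP,
      (∀ {a b c a' b' c'}, g * X a b c * g⁻¹ = X a' b' c' → β (ub a b c) = ub a' b' c') ∧
      ∀ a b c, β = MulAut.conj (ub a b c) → ∃ k ∈ Kc A, ∃ a b c, g = k * X a b c := fun g hg => by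
    let α := A.normalizerMonoidHom ⟨g, hg⟩
    let β : MulAut PP := (e'.symm.trans (ClAut.qAut A α)).trans e'
    have h1 : ∀ y, β (π y) = π (α y) := fun y => by simp [β, he]
    refine ⟨β, fun e => by rw [← Xπ, h1, ← Xπ]; exact congrArg π (Subtype.ext e), fun a b c h4 => ?_⟩
    have h2 := fa_hom_eq hk hq.1.commutator_eq_top (α := α.toMonoidHom)
      (β := (MulAut.conj (X a b c)).toMonoidHom) fun y => by simp [← h1, h4, Xπ]
    refine ⟨g * (X a b c : G)⁻¹, fun y hy => ?_, a, b, c, by group⟩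
    have h3 : g * ((X a b c : G)⁻¹ * y * X a b c) * g⁻¹ =
        X a b c * ((X a b c : G)⁻¹ * y * X a b c) * (X a b c : G)⁻¹ :=
      congrArg Subtype.val (h2 ((X a b c)⁻¹ * (⟨y, hy⟩ : A) * X a b c))
    calc y * (g * (X a b c : G)⁻¹) =
        X a b c * ((X a b c : G)⁻¹ * y * X a b c) * (X a b c : G)⁻¹ * g * (X a b c : G)⁻¹ := by group
      _ = _ := by rw [← h3]; group
  refine ⟨⟨A, fun a b c => X a b c, n, m, t⟩, rfl,
    { mul := fun a b c a' b' c' => congrArg Subtype.val (fa_uniq hk ho (by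
        rw [map_mul, Xπ, Xπ, Xπ, ub_mul]) (tS (mul_mem (XS ..) (XS ..))) (tS (XS ..)))
      inj := fun a b c e => ub_inj ((Xπ a b c).symm.trans (((hK _).1 e).trans ub_zero.symm))
      xA := fun a b c => (X a b c).2
      nA := n.2
      mA := m.2
      hA := t.2
      nx := fun a c => congrArg Subtype.val (fa_uniq hk ho (x := n * X a 0 c * n⁻¹) (by
        rw [map_mul, map_mul, map_inv, Xπ, Xπ, nπ, nb_conj]) (tc _ (XS ..)) (tS (XS ..)))
      mx := fun b c => congrArg Subtype.val (fa_uniq hk ho (x := m * X 0 b c * m⁻¹) (by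
        rw [map_mul, map_mul, map_inv, Xπ, Xπ, mπ, mb_conj]) (tc _ (XS ..)) (tS (XS ..)))
      hx := fun a b c => congrArg Subtype.val (fa_uniq hk ho (x := t * X a b c * t⁻¹) (by
        rw [map_mul, map_mul, map_inv, Xπ, Xπ, tπ, tb_conj]) (tc _ (XS ..)) (tS (XS ..)))
      nn := congrArg Subtype.val n2
      mm := congrArg Subtype.val m2
      n3 := (hK ((n * X 0 1 0) ^ 3)).2 (by rw [map_pow, map_mul, nπ, Xπ, fa_n3])
      m3 := (hK ((m * X 1 0 0) ^ 3)).2 (by rw [map_pow, map_mul, mπ, Xπ, fa_m3])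
      nh := (hK (n * t * n⁻¹ * t)).2 (by
        rw [map_mul, map_mul, map_mul, map_inv, nπ, tπ, inv_eq_of_mul_eq_one_right nb_sq,
          mul_assoc nb, mul_assoc nb, tb_nb, nb_sq])
      mh := (hK (m * t * m⁻¹ * t)).2 (by
        rw [map_mul, map_mul, map_mul, map_inv, mπ, tπ, inv_eq_of_mul_eq_one_right mb_sq,
          mul_assoc mb, mul_assoc mb, tb_mb, mb_sq])
      odd := odd
      syl := ?_
      cls := fun a ha o => ?_
      cen := fun g hg c c0 e => ?_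
      gen := fun Γ h1 h2 h3 h4 a ha => ?_
      aut1 := fun g hg h1 ⟨c, h2⟩ => ?_
      aut2 := fun g hg h1 ⟨c, h2⟩ => ?_ }⟩
  · have h1 : Fd.U ⟨A, fun a b c => (X a b c : G), n, m, t⟩ = S.map A.subtype := by
      refine le_antisymm ((closure_le _).2 ?_) ?_
      · rintro _ ⟨a, b, c, rfl⟩
        exact ⟨_, XS a b c, rfl⟩
      · rintro _ ⟨s, hs, rfl⟩
        obtain ⟨y, hy⟩ := eS.le (mem_map_of_mem π hs)
        rw [ρ_eq y ⟨rfl, rfl, rfl⟩, ← Xπ] at hy
        exact subset_closure ⟨_, _, _, congrArg Subtype.val (fa_uniq hk ho hy.symm (tS hs) (tS (XS ..)))⟩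
    rw [h1]
    exact ⟨map_subtype_le _, hS.pgroup.map _, fun e => hS.not_dvd (e.trans (by
      rw [relIndex_top_right]
      exact dvd_of_eq (congrArg index (comap_map_eq_self_of_injective A.subtype_injective S))))⟩
  · have a2 : (⟨a, ha⟩ : A) ^ 2 ^ 1 = 1 := Subtype.ext (by
      rw [pow_one, ← o]; exact pow_orderOf_eq_one a)
    obtain ⟨g, hg⟩ := fa_inv_conj (x := π ⟨a, ha⟩) (orderOf_eq_prime (by
      rw [← map_pow, show (⟨a, ha⟩ : A) ^ 2 = 1 from a2, map_one]) fun e => by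
        have := odd a ha ((hK ⟨a, ha⟩).2 e)
        rw [o] at this
        exact absurd this (by decide))
    obtain ⟨g, rfl⟩ := hs g
    exact ⟨g, g.2, congrArg Subtype.val (fa_uniq hk ho (x := ⟨a, ha⟩) (y := g * X 0 0 1 * g⁻¹) (by
      rw [map_mul, map_mul, map_inv, Xπ, hg]) ⟨1, a2⟩ (tc _ (XS ..)))⟩
  · obtain ⟨a, b, d, e1⟩ := cent_ub (g := π ⟨g, hg⟩) c0 (by
      rw [← Xπ, ← map_inv, ← map_mul, ← map_mul]
      exact congrArg π (Subtype.ext (mul_inv_eq_iff_eq_mul.2 e.eq)))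
    exact ⟨_, (hK (⟨g, hg⟩ * (X a b d)⁻¹)).2 (by rw [map_mul, map_inv, e1, Xπ, mul_inv_cancel]),
      a, b, d, (inv_mul_cancel_right _ _).symm⟩
  · obtain ⟨y, hy, e⟩ := (fa_gen (Γ := (Γ.subgroupOf A).map π)
      (fun a b c => ⟨X a b c, h1 (subset_closure ⟨a, b, c, rfl⟩), Xπ ..⟩) ⟨n, h2, nπ⟩
      ⟨m, h3, mπ⟩).ge (mem_top (π ⟨a, ha⟩))
    have := h4 ⟨(⟨a, ha⟩ * y⁻¹ : A).2, (hK _).2 (by rw [map_mul, map_inv, e, mul_inv_cancel])⟩
    exact (mul_mem_cancel_right (inv_mem (mem_subgroupOf.1 hy))).1 this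
  · obtain ⟨β, b1, b2⟩ := aut g hg
    obtain ⟨a, b, c, e⟩ := aut_ub (b1 (mul_inv_eq_iff_eq_mul.2 (h1 1).eq))
      (b1 (mul_inv_eq_iff_eq_mul.2 (h1 ω).eq)) (b1 h2)
    exact b2 a b c e
  · obtain ⟨β, b1, b2⟩ := aut g hg
    obtain ⟨a, b, c, e⟩ := fa_aut2 (b1 (mul_inv_eq_iff_eq_mul.2 (h1 1).eq))
      (b1 (mul_inv_eq_iff_eq_mul.2 (h1 ω).eq)) (b1 h2)
    exact b2 a b c e

end CfsgLib.SzC
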