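import Cfsg.Agent.Lib.SzC.Bas

/-! Package TY: the action of a 2-element on `U` (plans/SZC2.md) -/

set_option autoImplicit false
set_option linter.unusedSectionVars false

namespace CfsgLib.SzC

open Subgroup Cfsg CfsgLib.Tech CfsgLib.StdR2 CfsgLib.Classical CfsgLib.ExtraTwo
open scoped commutatorElement

variable {G : Type*} [Group G] [Finite G] {f : Fd G}

theorem ty_add : ∀ φ : GF4 → GF4, (∀ a b, φ (a + b) = φ a + φ b) → (∀ a, φ a = 0 → a = 0) →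
    φ 1 ≠ 0 ∧ ((∀ y, φ y = φ 1 * y) ∨ ∀ y, φ y = φ 1 * y * y) := by decide +kernel

theorem ty_pow {α : GF4} : ∀ {j : ℕ}, α ^ 2 ^ j = 1 → α = 1
  | 0, e => by simpa using e
  | j + 1, e => ty_pow (j := j) (by
      rw [pow_succ, pow_mul, pow_two] at e
      revert e; generalize α ^ 2 ^ j = y; revert y; decide)

theorem Fm.ty_lin (h : Fm f) {g : G} {α β : GF4} {j : ℕ} (e : g ^ 2 ^ j = 1)
    (h1 : ∀ a b c, ∃ c', g * f.x a b c * g⁻¹ = f.x (α * a) (β * b) c') : α = 1 ∧ β = 1 := by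
  have it : ∀ n : ℕ, ∃ c', g ^ n * f.x 1 1 0 * (g ^ n)⁻¹ = f.x (α ^ n) (β ^ n) c' := fun n => by
    induction n with
    | zero => exact ⟨0, by simp⟩
    | succ n ih =>
      obtain ⟨c', e⟩ := ih
      obtain ⟨c'', e'⟩ := h1 (α ^ n) (β ^ n) c'
      exact ⟨c'', by rw [pow_succ' α, pow_succ' β, ← e', ← e]; group⟩
  obtain ⟨c', e'⟩ := it (2 ^ j)
  rw [e, one_mul, inv_one, mul_one] at e'
  exact ⟨ty_pow (h.x_inj e').1.symm, ty_pow (h.x_inj e').2.1.symm⟩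

theorem Fm.ty_key {f' : Fd G} (h : Fm f) (h' : Fm f') {g : G} (h1 : ∀ a, g * f.x a 0 0 * g⁻¹ ∈ f'.U1)
    (h2 : ∀ b, g * f.x 0 b 0 * g⁻¹ ∈ f'.U2) (h3 : ∀ c, g * f.x 0 0 c * g⁻¹ ∈ f'.Z) :
    ∃ α β : GF4, α ≠ 0 ∧ β ≠ 0 ∧
      (((∀ a b c, ∃ c', g * f.x a b c * g⁻¹ = f'.x (α * a) (β * b) c') ∧
        ∀ c, g * f.x 0 0 c * g⁻¹ = f'.x 0 0 (α * β * c)) ∨
      ((∀ a b c, ∃ c', g * f.x a b c * g⁻¹ = f'.x (α * a * a) (β * b * b) c') ∧
        ∀ c, g * f.x 0 0 c * g⁻¹ = f'.x 0 0 (α * β * c * c))) := by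
  choose f1 r1 e1 using fun a => h'.mem_U1.1 (h1 a)
  choose f2 r2 e2 using fun b => h'.mem_U2.1 (h2 b)
  choose f3 e3 using fun c => h'.mem_Z.1 (h3 c)
  have all : ∀ a b c, ∃ c', g * f.x a b c * g⁻¹ = f'.x (f1 a) (f2 b) c' := fun a b c => ⟨_, by
    rw [show f.x a b c = f.x a 0 0 * f.x 0 b 0 * f.x 0 0 (c + a * b) by
      rw [h.mul, h.mul]; congr 1 <;> revert a b c <;> decide, ← conj_mul, ← conj_mul, e1, e2, e3, h'.mul, h'.mul]
    simp only [add_zero, zero_add]; rfl⟩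
  have pr : ∀ a b, f3 (a * b) = f1 a * f2 b := fun a b => by
    have := e3 (a * b + 0 * 0)
    rw [← h.bas_br a 0 0 0 b 0, conjugate_commutatorElement, e1, e2, h'.bas_br] at this
    simpa using (h'.x_inj this).2.2.symm
  obtain ⟨n0, hc⟩ := ty_add f3 (fun a b => by
    have := e3 (a + b)
    rw [← h.bas_zadd, ← conj_mul, e3, e3, h'.bas_zadd] at this
    exact (h'.x_inj this).2.2.symm) fun a ha => by
    have := e3 a
    rw [ha, h'.x_zero, conj_eq_one_iff, ← h.x_zero] at this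
    exact (h.x_inj this).2.2
  have p1 : f3 1 = f1 1 * f2 1 := by rw [← pr, mul_one]
  have a0 : f1 1 ≠ 0 := fun e => n0 (by rw [p1, e, zero_mul])
  have b0 : f2 1 ≠ 0 := fun e => n0 (by rw [p1, e, mul_zero])
  have c1 : ∀ x y z : GF4, z ≠ 0 → x * z = y * z → x = y := by decide
  refine ⟨f1 1, f2 1, a0, b0, hc.imp (fun hc => ⟨fun a b c => ?_, fun c => by rw [e3, hc, p1]⟩)
    fun hc => ⟨fun a b c => ?_, fun c => by rw [e3, hc, p1]⟩⟩
  · rw [← c1 (f1 a) (f1 1 * a) _ b0 (by rw [← pr, hc, p1]; ring),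
      ← c1 (f2 b) (f2 1 * b) _ a0 (by rw [mul_comm, ← pr, hc, p1]; ring)]
    exact all a b c
  · rw [← c1 (f1 a) (f1 1 * a * a) _ b0 (by rw [← pr, hc, p1]; ring),
      ← c1 (f2 b) (f2 1 * b * b) _ a0 (by rw [mul_comm, ← pr, hc, p1]; ring)]
    exact all a b c

theorem Fm.types (h : Fm f) {g : G} (hA : g ∈ normalizer (f.A : Set G)) (hU : g ∈ normalizer (f.U : Set G))
    {j : ℕ} (e : g ^ 2 ^ j = 1) : (∃ k ∈ f.K, ∃ a b c, g = k * f.x a b c) ∨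
    (∃ l : GF4, l ≠ 0 ∧ (∀ a b c, ∃ c', g * f.x a b c * g⁻¹ = f.x (l * l * b) (l * a) c') ∧
      ∀ c, g * f.x 0 0 c * g⁻¹ = f.x 0 0 c) ∨
    (∃ α β : GF4, α ≠ 0 ∧ β ≠ 0 ∧ (∀ a b c, ∃ c', g * f.x a b c * g⁻¹ = f.x (α * a * a) (β * b * b) c') ∧
      ∀ c, g * f.x 0 0 c * g⁻¹ = f.x 0 0 (α * β * c * c)) ∨
    (∃ l : GF4, l ≠ 0 ∧ (∀ a b c, ∃ c', g * f.x a b c * g⁻¹ = f.x (l * b * b) (l * a * a) c') ∧
      ∀ c, g * f.x 0 0 c * g⁻¹ = f.x 0 0 (l * l * c * c)) := by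
  have hZ := fun c => conj_mem_of_mem_normalizer (h.NZ_of_NU hU) (h.bas_xZ c)
  rcases h.NU_cases hU with ⟨h1, h2⟩ | ⟨h1, h2⟩
  · obtain ⟨α, β, a0, b0, ⟨h3, -⟩ | h3⟩ := h.ty_key h (fun a => conj_mem_of_mem_normalizer h1 (h.bas_xU1 a 0))
      (fun b => conj_mem_of_mem_normalizer h2 (h.bas_xU2 b 0)) hZ
    · obtain ⟨rfl, rfl⟩ := h.ty_lin e h3
      exact Or.inl (h.cenUbar hA (by simpa using h3))
    · exact Or.inr (Or.inr (Or.inl ⟨α, β, a0, b0, h3⟩))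
  have e2 : (g * g) ^ 2 ^ j = 1 := by rw [(Commute.refl g).mul_pow, e, mul_one]
  obtain ⟨α, β, a0, b0, ⟨h3, h4⟩ | ⟨h3, h4⟩⟩ := h.ty_key h.sw (g := g)
    (fun a => by rw [f.sw_U1, ← h1]; exact conj_mem_cj.2 (h.bas_xU1 a 0))
    (fun b => by rw [f.sw_U2, ← h2]; exact conj_mem_cj.2 (h.bas_xU2 b 0)) (fun c => f.sw_Z ▸ hZ c)
  · simp only [Fd.sw_x, mul_zero, add_zero] at h3 h4
    obtain ⟨e3, -⟩ := h.ty_lin (α := α * β) (β := α * β) e2 fun a b c => by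
      obtain ⟨c1, e1⟩ := h3 a b c
      obtain ⟨c2, e2⟩ := h3 (β * b) (α * a) (c1 + α * a * (β * b))
      exact ⟨_, by
        rw [show g * g * f.x a b c * (g * g)⁻¹ = g * (g * f.x a b c * g⁻¹) * g⁻¹ by group, e1, e2]
        congr 1 <;> ring⟩
    have e4 : β = α * α := by revert e3; generalize α = x; generalize β = y; revert x y; decide
    refine Or.inr (Or.inl ⟨α, a0, fun a b c => ?_, fun c => by rw [h4, e3, one_mul]⟩)
    obtain ⟨c1, e1⟩ := h3 a b c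
    exact ⟨_, by rw [e1, e4]⟩
  · simp only [Fd.sw_x, mul_zero, add_zero] at h3 h4
    have q : ∀ x y a : GF4, x * (y * a * a) * (y * a * a) = x * y * y * a := by decide
    obtain ⟨e3, -⟩ := h.ty_lin (α := β * α * α) (β := α * β * β) e2 fun a b c => by
      obtain ⟨c1, e1⟩ := h3 a b c
      obtain ⟨c2, e2⟩ := h3 (β * b * b) (α * a * a) (c1 + α * a * a * (β * b * b))
      exact ⟨_, by
        rw [show g * g * f.x a b c * (g * g)⁻¹ = g * (g * f.x a b c * g⁻¹) * g⁻¹ by group, e1, e2, q, q]⟩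
    have e4 : β = α := by revert e3; generalize α = x; generalize β = y; revert x y; decide
    subst e4
    refine Or.inr (Or.inr (Or.inr ⟨β, a0, fun a b c => ?_, h4⟩))
    obtain ⟨c1, e1⟩ := h3 a b c
    exact ⟨_, e1⟩

end CfsgLib.SzC
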