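import Cfsg.Agent.Lib.SzC.CVB
import Cfsg.Agent.Lib.SzC.TY
import Cfsg.Agent.Lib.SzC.Fa
import Cfsg.Agent.Lib.Schur.Basic

/-! Package CVX: existence of `Cv` (plans/SZC2.md) -/

set_option autoImplicit false
set_option linter.unusedSectionVars false

namespace CfsgLib.SzC

open Subgroup Cfsg CfsgLib.Tech CfsgLib.StdR2 CfsgLib.Classical CfsgLib.ExtraTwo
open scoped commutatorElement

variable {G : Type*} [Group G] [Finite G] {A : Subgroup G}

namespace CVXx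

open CVBx

theorem cen_iff {a : A} : a ∈ center A ↔ (a : G) ∈ Kc A := by
  rw [mem_center_iff]
  exact ⟨fun h g hg => congrArg Subtype.val (h ⟨g, hg⟩), fun h g => Subtype.ext (h g g.2)⟩

theorem cext {B B' : Type*} [Group B] [Group B'] [Group.IsPerfect B] {σ : B →* B'} (h : Schur.IsCentralExt σ) :
    Nonempty (B ⧸ center B ≃* B' ⧸ center B') :=
  ⟨(QuotientGroup.quotientMulEquivOfEq (by
    rw [← MonoidHom.comap_ker, QuotientGroup.ker_mk', Schur.comap_center_of_perfect h])).trans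
    (QuotientGroup.quotientKerEquivOfSurjective ((QuotientGroup.mk' (center B')).comp σ)
      ((QuotientGroup.mk'_surjective _).comp h.surj))⟩

theorem qs {B B' : Type*} [Group B] [Group B'] (hq : IsQuasisimple B) {σ : B →* B'} (h : Schur.IsCentralExt σ) :
    IsQuasisimple B' :=
  haveI := hq.1
  haveI := hq.2
  ⟨Group.IsPerfect.ofSurjective h.surj, (cext h).elim fun e => e.symm.isSimpleGroup⟩

theorem core [A.Normal] [Group.IsPerfect A] {Q : Type*} [Group Q] [Finite Q] {φ : G →* Q} (hs : Function.Surjective φ)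
    (hφ : ∀ g, φ g = 1 ↔ g ∈ A ∧ g ∈ Kc A ∧ Tw g) {f : Fd Q} (hA : f.A = A.map φ) (h : Fm f)
    {w : G} (w1 : φ w = 1) (w0 : w ≠ 1) : ∃ d : Cd G, d.A = A ∧ Cv d := by
  have mA : ∀ {g}, φ g ∈ f.A ↔ g ∈ A := fun {g} => by
    rw [hA, ← mem_comap, comap_map_eq_self fun x hx => ((hφ x).1 hx).1]
  have mK : ∀ {g}, φ g ∈ f.K ↔ g ∈ Kc A := fun {g} => by
    refine ⟨fun e a ha => ?_, fun e a ha => ?_⟩
    · have := Schur.lift_unique_of_perfect (σ := φ.comp A.subtype) (fun x hx => cen_iff.2 ((hφ x).1 hx).2.1)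
        (MulAut.conjNormal g).toMonoidHom (MonoidHom.id A) (MonoidHom.ext fun x => by
          simp [← e _ (mA.2 x.2)])
      have := congrArg Subtype.val (DFunLike.congr_fun this ⟨a, ha⟩)
      exact (mul_inv_eq_iff_eq_mul.1 this).symm
    · obtain ⟨a, rfl⟩ := hs a
      rw [← map_mul, ← map_mul, e a (mA.1 ha)]
  have mN : ∀ g, φ g ∈ normalizer (f.A : Set Q) := fun g => mem_normalizer_of_forall fun a ha => by
    obtain ⟨a, rfl⟩ := hs a
    rw [← map_inv, ← map_mul, ← map_mul]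
    exact mA.2 (Normal.conj_mem inferInstance a (mA.1 ha) g)
  have syl : IsSylowIn 2 (f.U.comap φ) A :=
    ⟨fun u hu => mA.1 (h.U_le hu), h.syl.pgroup.comap_of_ker_isPGroup φ
      (isPGroup_iff_mem.2 fun x hx => ((hφ x).1 hx).2.2), by rw [relIndex_comap, ← hA]; exact h.syl.not_dvd⟩
  have cm : ∀ {g u a b c}, φ u = f.x a b c → ⁅g, u⁆ ∈ Kc A → Commute (φ g) (f.x a b c) := fun {g u a b c} e k => by
    have k1 := mK.2 k
    rw [map_commutatorElement, e] at k1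
    refine commutatorElement_eq_one_iff_commute.1 (h.eq_one_KA k1 (mul_mem (conj_mem_of_mem_normalizer (mN g) (h.xA ..))
      (inv_mem (h.xA ..))) (j := 2) ?_)
    have e2 := (comm_KA k1 (h.xA a b c)).mul_pow (2 ^ 2)
    rwa [h.bas_four, mul_one, commutatorElement_def, inv_mul_cancel_right, conj_pow, h.bas_four, mul_one,
      mul_inv_cancel, eq_comm] at e2
  have lf : ∀ {g k a b c}, k ∈ f.K → φ g = k * f.x a b c → ∃ k ∈ Kc A, ∃ u, φ u = f.x a b c ∧ g = k * u :=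
    fun {g k a b c} hk e => by
      obtain ⟨u, hu⟩ := hs (f.x a b c)
      exact ⟨g * u⁻¹, mK.1 (by rwa [map_mul, map_inv, e, hu, mul_inv_cancel_right]), u, hu, by group⟩
  have cj : ∀ g u, φ (g * u * g⁻¹) = φ g * φ u * (φ g)⁻¹ := fun g u => by simp
  have cx : ∀ {g u y z}, φ u = y → φ g * y * (φ g)⁻¹ = z → φ (g * u * g⁻¹) = z := fun e e' => by rw [cj, e, e']
  have tw : ∀ {g}, Tw g → Tw (φ g) := fun e => e.imp fun _ e => by rw [← map_pow, e, map_one]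
  obtain ⟨n, hn⟩ := hs f.n
  obtain ⟨m, hm⟩ := hs f.m
  obtain ⟨t, ht⟩ := hs f.h
  refine ⟨⟨A, f.U.comap φ, fun u a b c => φ u = f.x a b c, n, m, t⟩, rfl, fun u => h.mem_U, fun a b c => hs _,
    fun u a b c v a' b' c' k k' => (map_mul φ u v).trans ((congrArg₂ _ k k').trans (h.mul ..)), fun u a b c k => mK.symm.trans ?_,
    ⟨w, show φ w ∈ f.U from w1 ▸ one_mem _, ((hφ w).1 w1).2.1, w0⟩, syl, mA.1 (hn ▸ h.nA), mA.1 (hm ▸ h.mA),
    mA.1 (ht ▸ h.hA), fun u a c k => cx k (hn ▸ h.nx a c), fun u a c k => cx k (hm ▸ h.mx a c),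
    fun u a b c k => cx k (ht ▸ h.hx a b c), mK.1 (by rw [map_mul, hn, h.nn]; exact one_mem _),
    mK.1 (by rw [map_mul, hm, h.mm]; exact one_mem _), fun v k => mK.1 (by rw [map_pow, map_mul, hn, k]; exact h.n3),
    fun v k => mK.1 (by rw [map_pow, map_mul, hm, k]; exact h.m3), fun w h1 h2 => ?_, fun y h1 h2 h3 => ?_,
    fun g _ ζ c c0 k e => le_normalizer_comap φ (h.NU_of_cen (mN g) c0 (cm k e)), fun g _ e => ?_, fun g _ e => ?_,
    fun g _ e1 e2 => ?_⟩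
  · rw [show φ u = _ from k]
    exact ⟨h.inj a b c, by rintro ⟨rfl, rfl, rfl⟩; rw [h.x_zero]; exact one_mem _⟩
  · obtain ⟨j, hj⟩ := isPGroup_iff_mem.1 syl.pgroup w h1
    have := Schur.mem_commutator_of_coprime ((f.U.comap φ).subgroupOf A) (z := ⟨w, syl.le h1⟩) (cen_iff.2 h2)
      (Group.IsPerfect.mem_commutator) (((Nat.prime_two.coprime_iff_not_dvd.2 syl.not_dvd).pow_left j).coprime_dvd_left
        (orderOf_dvd_of_pow_eq_one (Subtype.ext hj)))
    have := mem_map_of_mem A.subtype this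
    rwa [map_commutator, map_subgroupOf_eq_of_le syl.le] at this
  · have k2 := mK.2 h3
    rw [map_mul] at k2
    obtain ⟨i, hi⟩ := h.odd _ (mul_mem (mA.2 h1) (mA.2 h1)) k2
    have e : φ y ^ (2 * i + 1) = (φ y * φ y) ^ i * φ y := by rw [pow_succ, pow_mul, sq]
    obtain ⟨b, hb, e2⟩ := h.cls _ (pow_mem (mA.2 h1) (2 * i + 1)) (orderOf_eq_prime (by
      rw [← pow_mul, mul_comm, pow_mul, sq, ← hi, pow_orderOf_eq_one]) fun e1 => h2 (mK.1
        ((mul_mem_cancel_left (pow_mem k2 i)).1 (e ▸ e1 ▸ one_mem _))))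
    obtain ⟨b, rfl⟩ := hs b
    obtain ⟨k, hk, ζ, hζ, e3⟩ := lf (g := b⁻¹ * y * b⁻¹⁻¹) (a := 0) (b := 0) (c := 1) (inv_mem (pow_mem k2 i)) (by
      rw [cj, map_inv, eq_inv_mul_iff_mul_eq, ← mul_assoc, ← mul_assoc, (comm_KA (pow_mem k2 i) (inv_mem hb)).eq,
        mul_assoc _ _ (φ y), ← e, e2]; group)
    exact ⟨b⁻¹, inv_mem (mA.1 hb), k, hk, ζ, hζ, e3⟩
  · obtain ⟨k, hk, c, e⟩ := h.cenU (mN g) fun a b c => (hs (f.x a b c)).elim fun u hu =>
      cm hu (e u (show φ u ∈ f.U from hu ▸ h.bas_xU a b c))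
    obtain ⟨k, hk, ζ, hζ, e3⟩ := lf hk e
    exact ⟨k, hk, ζ, c, hζ, e3⟩
  · obtain ⟨j, hj⟩ := tw e
    obtain ⟨k, hk, a, ha, e⟩ := h.mem_KA.1 (h.sq_inner (mN g) hj)
    obtain ⟨a, rfl⟩ := hs a
    rw [← inv_mul_cancel_right (g * g) a]
    exact mul_mem (mem_sup_left (mK.1 (by rwa [map_mul, map_mul, map_inv, e, mul_inv_cancel_right])))
      (mem_sup_right (mA.1 ha))
  · obtain ⟨j, hj⟩ := tw e2
    refine (h.types (mN g) (map_comap_eq_self_of_surjective hs f.U ▸ le_normalizer_map φ ⟨g, e1, rfl⟩) hj).imp ?_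
      (Or.imp ?_ (Or.imp ?_ ?_))
    · rintro ⟨k, hk, a, b, c, e⟩
      obtain ⟨k, hk, u, hu, e3⟩ := lf hk e
      exact ⟨k, hk, u, show φ u ∈ f.U from hu ▸ h.bas_xU a b c, e3⟩
    · rintro ⟨l, l0, e, e'⟩
      exact ⟨l, l0, fun u a b c k => (e a b c).imp fun _ => cx k, fun u c k => cx k (e' c)⟩
    · rintro ⟨α, β, h1, h2, e, e'⟩
      exact ⟨α, β, h1, h2, fun u a b c k => (e a b c).imp fun _ => cx k, fun u c k => cx k (e' c)⟩
    · rintro ⟨l, l0, e, e'⟩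
      exact ⟨l, l0, fun u a b c k => (e a b c).imp fun _ => cx k, fun u c k => cx k (e' c)⟩

theorem normal [hN : A.Normal] (hq : IsQuasisimple A) {F : Type*} [Field F] [Fintype F]
    (hF : Fintype.card F = 4) (e : A ⧸ center A ≃* Matrix.ProjectiveSpecialLinearGroup (Fin 3) F)
    {w : G} (h1 : w ∈ A) (h2 : w ∈ Kc A) (h3 : orderOf w = 2) : ∃ d : Cd G, d.A = A ∧ Cv d := by
  have := hq.1
  let W : Subgroup G :=
    { carrier := {g | g ∈ A ∧ g ∈ Kc A ∧ Tw g}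
      mul_mem' := fun a b => ⟨mul_mem a.1 b.1, mul_mem a.2.1 b.2.1, tw_mul (comm_KA a.2.1 b.1) a.2.2 b.2.2⟩
      one_mem' := ⟨one_mem _, one_mem _, 0, one_pow _⟩
      inv_mem' := fun a => ⟨inv_mem a.1, inv_mem a.2.1, tw_inv a.2.2⟩ }
  have : W.Normal := ⟨fun a ha g => ⟨hN.conj_mem a ha.1 g, Normal.conj_mem inferInstance a ha.2.1 g, tw_conj ha.2.2 g⟩⟩
  have hφ : ∀ g, QuotientGroup.mk' W g = 1 ↔ g ∈ A ∧ g ∈ Kc A ∧ Tw g := fun g => QuotientGroup.eq_one_iff g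
  have hσ : Schur.IsCentralExt ((QuotientGroup.mk' W).subgroupMap A) :=
    ⟨MonoidHom.subgroupMap_surjective _ _, fun x hx => cen_iff.2 ((hφ x).1 (congrArg Subtype.val hx)).2.1⟩
  obtain ⟨e'⟩ := cext hσ
  obtain ⟨f, hA, h⟩ := exists_fm (qs hq hσ) hF (e'.symm.trans e) (by
    by_contra ho
    obtain ⟨⟨x, hx⟩, ox⟩ := exists_prime_orderOf_dvd_card' 2 (Nat.not_odd_iff_even.1 ho).two_dvd
    obtain ⟨x, rfl⟩ := hσ.surj x
    have x2 : QuotientGroup.mk' W (x * x) = 1 := by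
      have := congrArg (fun y => y.1.1) (pow_orderOf_eq_one _ |>.symm.trans (congrArg (_ ^ ·) ox))
      simpa [sq] using this.symm
    obtain ⟨j, hj⟩ := ((hφ _).1 x2).2.2
    have : QuotientGroup.mk' W x = 1 := (hφ _).2 ⟨x.2, cen_iff.1 (Schur.comap_center_of_perfect hσ ▸ hx), j + 1, by
      rw [pow_succ', pow_mul, sq, hj]⟩
    exact absurd (ox.symm.trans (orderOf_eq_one_iff.2 (Subtype.ext (Subtype.ext this)))) (by decide))
  exact core (QuotientGroup.mk'_surjective W) hφ hA h ((hφ w).2 ⟨h1, h2, 1, by rw [pow_one, ← h3, pow_orderOf_eq_one]⟩)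
    fun e => by simp [e] at h3

end CVXx

theorem exists_cv (hq : IsQuasisimple A) {F : Type*} [Field F] [Fintype F]
    (hF : Fintype.card F = 4) (e : A ⧸ center A ≃* Matrix.ProjectiveSpecialLinearGroup (Fin 3) F)
    (he : Even (Nat.card (center A))) : ∃ d : Cd G, d.A = A ∧ Cv d := by
  have := hq.1
  obtain ⟨⟨⟨w, h1⟩, h2⟩, h3⟩ := exists_prime_orderOf_dvd_card' 2 he.two_dvd
  let σ := (subgroupOfEquivOfLe (le_normalizer (H := A))).symm
  have hσ : Schur.IsCentralExt σ.toMonoidHom := ⟨σ.surjective, fun x hx => by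
    rw [(map_eq_one_iff _ σ.injective).1 hx]; exact one_mem _⟩
  obtain ⟨e'⟩ := CVXx.cext hσ
  obtain ⟨d, hA, h⟩ := CVXx.normal (CVXx.qs hq hσ) hF (e'.symm.trans e) (w := ⟨w, le_normalizer h1⟩) h1
    (fun a ha => Subtype.ext (CVXx.cen_iff.1 h2 a ha)) (by simpa [← orderOf_coe] using h3)
  have eA : d.A.map (normalizer (A : Set G)).subtype = A := by rw [hA, map_subgroupOf_eq_of_le le_normalizer]
  exact ⟨d.map _, eA, h.map (subtype_injective _) (by rw [eA, range_subtype])⟩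

end CfsgLib.SzC
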