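import Cfsg.Agent.Lib.SzC.GD
import Cfsg.Agent.Lib.SzC.Inn

/-! Package GV: the double cover of `G₂(4)` does not occur (plans/SZC2.md) -/

set_option autoImplicit false
set_option linter.unusedSectionVars false

namespace CfsgLib.SzC

open Subgroup Cfsg CfsgLib.Tech CfsgLib.StdR2 CfsgLib.Classical CfsgLib.ExtraTwo
open scoped commutatorElement

variable {G : Type*} [Group G] [Finite G] {A : Subgroup G}

namespace GV

theorem solv_two {G : Type*} [Group G] [Finite G] (h : IsPGroup 2 G) : Group.IsSolvable G := by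
  have := h.isNilpotent
  infer_instance

theorem solv_four {G : Type*} [Group G] [Finite G] (h : ¬ 4 ∣ Nat.card G) : Group.IsSolvable G := by
  obtain ⟨P⟩ := (inferInstance : Nonempty (Sylow 2 G))
  obtain ⟨n, hn⟩ := IsPGroup.iff_card.mp P.isPGroup'
  have hn1 : n ≤ 1 := by
    by_contra h1
    refine h (Dvd.dvd.trans ?_ (P : Subgroup G).card_subgroup_dvd_card)
    rw [hn]; exact (by norm_num : (4 : ℕ) = 2 ^ 2) ▸ pow_dvd_pow 2 (by omega)
  obtain ⟨P, N, hN, hc⟩ := Transfer.hasNormalPComplement_of_not_dvd_pow_sub_one P hn fun q hq _ i h1 h2 h3 => by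
    have : i = 1 := by omega
    subst this
    exact hq.ne_one (Nat.dvd_one.mp (by simpa using h3))
  refine (Group.isSolvable_iff_subgroup_quotient N).mpr ⟨FT.odd_order_solvable ?_, ?_⟩
  · rw [← hc.index_eq_card, ← Nat.not_even_iff_odd, even_iff_two_dvd]
    exact P.not_dvd_index
  · obtain ⟨n, hn⟩ := IsPGroup.iff_card.mp P.isPGroup'
    refine solv_two (IsPGroup.of_card (n := n) ?_)
    rw [← hn, ← hc.symm.index_eq_card]; rfl

/-- a central involution and a Sylow 2-subgroup of order at most 4 -/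
theorem solv_eight {M : Subgroup G} {w : G} (hw : w ∈ M) (o : orderOf w = 2) (c : ∀ m ∈ M, Commute m w)
    (h : ¬ 8 ∣ Nat.card M) : Group.IsSolvable M := by
  have : ((zpowers w).subgroupOf M).Normal := ⟨fun n hn m => by
    rw [mem_subgroupOf] at hn ⊢
    have : Commute (m : G) n := by
      obtain ⟨i, hi⟩ := hn
      exact hi ▸ (c m m.2).zpow_right i
    simpa [this.eq] using hn⟩
  have e := subgroupOfEquivOfLe (zpowers_le.2 hw)
  refine (Group.isSolvable_iff_subgroup_quotient ((zpowers w).subgroupOf M)).mpr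
    ⟨solv_two ((isPGroup_two_zpowers (mul_self_of_orderOf_two o)).of_equiv e.symm), solv_four fun h4 => h ?_⟩
  rw [card_eq_card_quotient_mul_card_subgroup ((zpowers w).subgroupOf M), Nat.card_congr e.toEquiv,
    Nat.card_zpowers, o]
  exact mul_dvd_mul_right h4 2

theorem memKA {g : G} : g ∈ Kc A ⊔ A ↔ ∃ k ∈ Kc A, ∃ a ∈ A, g = k * a :=
  LAE.mem_sup_iff_of_right_le_normalizer fun _ ha => centralizer_le_normalizer _ fun _ hk => (comm_KA hk ha).eq

theorem comm_split {k a k' a' : G} (h1 : Commute k a') (h2 : Commute k' a) (h3 : Commute k a) (h4 : Commute k' a') :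
    ⁅k * a, k' * a'⁆ = ⁅k, k'⁆ * ⁅a, a'⁆ := by
  have e1 : k * a * (k' * a') = k * k' * (a * a') := by rw [mul_assoc, ← mul_assoc a, ← h2.eq]; group
  have e2 : k' * a' * (k * a) = a' * a * (k' * k) := by
    rw [h4.eq, h3.eq, mul_assoc, ← mul_assoc k', h2.eq]; group
  have e3 : Commute (k' * k)⁻¹ (a * a') := ((h2.mul_right h4).mul_left (h3.mul_right h1)).inv_left
  calc _ = k * a * (k' * a') * (k' * a' * (k * a))⁻¹ := by rw [commutatorElement_def]; group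
    _ = k * k' * ((a * a') * (k' * k)⁻¹) * (a' * a)⁻¹ := by rw [e1, e2]; group
    _ = _ := by rw [← e3.eq, commutatorElement_def, commutatorElement_def]; group

theorem comm_KA' {k a k' a' : G} (hk : k ∈ Kc A) (ha : a ∈ A) (hk' : k' ∈ Kc A) (ha' : a' ∈ A) :
    ⁅k * a, k' * a'⁆ = ⁅k, k'⁆ * ⁅a, a'⁆ :=
  comm_split (comm_KA hk ha') (comm_KA hk' ha) (comm_KA hk ha) (comm_KA hk' ha')

theorem sq_K {k a : G} (hk : k ∈ Kc A) (ha : a ∈ A) (h2 : k * a * (k * a) = 1) : a * a ∈ Kc A := by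
  rw [← sq, (comm_KA hk ha).mul_pow, sq, sq, mul_eq_one_iff_inv_eq] at h2
  exact h2 ▸ inv_mem (mul_mem hk hk)

theorem le_of_solv {L M : Subgroup G} (hL : ⁅L, L⁆ = L) (hM : M ≤ Kc A) (hs : Group.IsSolvable M)
    (h : L ≤ M ⊔ A) : L ≤ A := by
  obtain ⟨n, hn⟩ := (Group.isSolvable_def M).1 hs
  have key : ∀ n, L ≤ (derivedSeries M n).map M.subtype ⊔ A := fun n => by
    induction n with
    | zero => rwa [derivedSeries_zero, ← MonoidHom.range_eq_map, range_subtype]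
    | succ n ih =>
      rw [derivedSeries_succ, map_commutator, ← hL]
      have hD : (derivedSeries M n).map M.subtype ≤ Kc A := (map_subtype_le _).trans hM
      have hn : A ≤ normalizer (((derivedSeries M n).map M.subtype : Subgroup G) : Set G) :=
        fun a ha => centralizer_le_normalizer _ fun k hk => (comm_KA (hD hk) ha).eq
      refine commutator_le.2 fun a ha b hb => ?_
      obtain ⟨k, hk, a, ha', rfl⟩ := (LAE.mem_sup_iff_of_right_le_normalizer hn).1 (ih ha)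
      obtain ⟨k', hk', b, hb', rfl⟩ := (LAE.mem_sup_iff_of_right_le_normalizer hn).1 (ih hb)
      rw [comm_KA' (hD hk) ha' (hD hk') hb']
      exact mul_mem_sup (commutator_mem_commutator hk hk') (GD.comm_mem ha' hb')
  simpa [hn] using key n

theorem eq_of_perf {C L : Subgroup G} (hL : ⁅L, L⁆ = L) (h : C ≤ L) (hc : Nat.card L ≤ 2 * Nat.card C) :
    C = L := by
  have h1 := card_mul_relIndex' h
  have h2 : 0 < Nat.card C := Nat.card_pos
  have h3 : 0 < Nat.card L := Nat.card_pos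
  have h4 : C.relIndex L = 1 ∨ C.relIndex L = 2 := by
    have : C.relIndex L ≤ 2 := Nat.le_of_mul_le_mul_left (by rw [h1, mul_comm]; exact hc) h2
    have : C.relIndex L ≠ 0 := fun e => by rw [e] at h1; omega
    omega
  refine le_antisymm h (h4.elim relIndex_eq_one.1 fun e => ?_)
  rw [← hL]
  refine commutator_le.2 fun a ha b hb => ?_
  have : (⟨a, ha⟩ * ⟨b, hb⟩ * (⟨a, ha⟩⁻¹ * ⟨b, hb⟩⁻¹) : L) ∈ C.subgroupOf L := by
    simp only [mul_mem_iff_of_index_two e, inv_mem_iff]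
  simpa [commutatorElement_def, mem_subgroupOf, mul_assoc] using this

theorem two_mul_le {K Y : Subgroup G} (h : K ≤ Y) {g : G} (hg : g ∈ Y) (hK : g ∉ K) :
    2 * Nat.card K ≤ Nat.card Y := by
  have h1 := card_mul_relIndex' h
  have h3 : 0 < Nat.card Y := Nat.card_pos
  have h4 : K.relIndex Y ≠ 0 := fun e => by rw [e] at h1; omega
  have h5 : K.relIndex Y ≠ 1 := fun e => hK (relIndex_eq_one.1 e hg)
  rw [← h1, mul_comm]
  exact Nat.mul_le_mul_left _ (by omega)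

variable {L Z : Subgroup G} {w s : G}

theorem perf_le (h : Gv A w L Z s) (s0 : St0 A) {Λ : Subgroup G} (h1 : Λ ≤ Hc A) (h2 : ⁅Λ, Λ⁆ = Λ) :
    Λ ≤ Kc A ⊔ A := by
  have n : ∀ g ∈ Hc A, ∀ y ∈ Kc A ⊔ A, g * y * g⁻¹ ∈ Kc A ⊔ A := fun g hg y hy => by
    obtain ⟨k, hk, a, ha, rfl⟩ := memKA.1 hy
    rw [← conj_mul]
    exact mul_mem_sup (conj_mem_of_mem_normalizer hg hk) (s0.conj_A hg ha)
  rw [← h2]
  refine commutator_le.2 fun a ha b hb => ?_
  rcases h.idx a (s0.norm ▸ h1 ha) b (s0.norm ▸ h1 hb) with e | e | e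
  · simpa [commutatorElement_def, mul_assoc] using mul_mem e (n b (h1 hb) _ (inv_mem e))
  · exact mul_mem (n a (h1 ha) _ e) (inv_mem e)
  · simpa [commutatorElement_def, mul_assoc] using mul_mem e (inv_mem (n _ (inv_mem (h1 ha)) _ e))

theorem core (h : Gv A w L Z s) (s0 : St0 A) {g k ζ k' a' : G} (hk : k ∈ Kc A) (hζ : ζ ∈ Z) (h1 : ζ ∉ Kc A)
    (ht : k * ζ ∈ Tech.cj g (Kc A)) (t2 : k * ζ * (k * ζ) = 1) (hLH : L ≤ Tech.cj g (Hc A))
    (hk' : k' ∈ Kc (Tech.cj g A)) (ha' : a' ∈ Tech.cj g A) (ew : w = k' * a')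
    (hc : a' ∈ Tech.cj g Z ∨ a' = g * s * g⁻¹) : False := by
  have h' := h.cj g
  have s' := s0.cj g
  have tK : k * ζ ∉ Kc A := fun e => h1 ((mul_mem_cancel_left hk).1 e)
  have hg : g ∉ Hc A := fun e => tK (mem_normalizer_iff_cj.1 e ▸ ht)
  have ot : orderOf (k * ζ) = 2 := orderOf_two_of_mul_self t2 fun e => tK (e ▸ one_mem _)
  have w2 := mul_self_of_orderOf_two h.ow
  have wK : w ∉ Tech.cj g (Kc A) := fun e => ne_one_of_orderOf_two h.ow (s0.eq_one hg h.wK e w2)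
  have wL := h.ZL h.wZ
  have hLH' : L ≤ normalizer (Kc (Tech.cj g A) : Set G) := by rwa [← Hc_cj] at hLH
  have hLK : L ≤ Kc (Tech.cj g A) ⊔ Tech.cj g A := perf_le h' s' hLH' h.perfL
  have hN : L ⊓ Kc (Tech.cj g A) ≤ Z := h.nrm _ inf_le_left (fun l hl => inf_normalizer_le_normalizer_inf
    ⟨le_normalizer hl, hLH' hl⟩) (fun e => wK (Kc_cj g A ▸ e.2)) fun b hb b2 => by_contra fun bZ =>
      s0.not_le_H hg ht (s0.KA_le_H (mul_mem_sup hk (h.LA (h.ZL hζ)))) ot (h.top b (h.LA hb.1) b2 bZ _ hLH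
        fun a _ c => s0.mem_cj_H (Kc_cj g A ▸ hb.2) (orderOf_two_of_mul_self b2 fun e => bZ (e ▸ one_mem _)) c)
  have cN := two_mul_le hN h.wZ fun e => wK (Kc_cj g A ▸ e.2)
  rw [← Kc_cj] at wK
  generalize eA : Tech.cj g A = A' at *
  have a'K : a' ∉ Kc A' := fun e => wK (ew ▸ mul_mem hk' e)
  obtain ⟨C, hC⟩ : ∃ C : Subgroup G, C = A' ⊓ (Kc A' ⊔ L) := ⟨_, rfl⟩
  have CA : C ≤ A' := hC ▸ inf_le_left
  have dec : ∀ l ∈ L, ∃ k1 ∈ Kc A', ∃ a1 ∈ C, l = k1 * a1 := fun l hl => by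
    obtain ⟨k1, hk1, a1, ha1, e⟩ := memKA.1 (hLK hl)
    refine ⟨k1, hk1, a1, hC ▸ ⟨ha1, ?_⟩, e⟩
    rw [show a1 = k1⁻¹ * l by rw [e]; group]
    exact mul_mem_sup (inv_mem hk1) hl
  have dec' : ∀ a1 ∈ C, ∃ k1 ∈ Kc A', k1 * a1 ∈ L := fun a1 ha1 => by
    obtain ⟨k1, hk1, l, hl, e⟩ := (LAE.mem_sup_iff_of_right_le_normalizer hLH').1 (hC ▸ ha1).2
    exact ⟨k1⁻¹, inv_mem hk1, by rwa [e, inv_mul_cancel_left]⟩
  have cw : ∀ k1 ∈ Kc A', ∀ a1 ∈ A', k1 * a1 ∈ L → ⁅k1, k'⁆ * ⁅a1, a'⁆ = 1 := fun k1 hk1 a1 ha1 hl => by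
    rw [← comm_KA' hk1 ha1 hk' ha', ← ew, commutatorElement_eq_one_iff_commute]
    exact h.LZ _ hl _ h.wZ
  have w'K := h'.wK
  have w'1 := ne_one_of_orderOf_two h'.ow
  have cC : 61440 ≤ Nat.card C := by
    have e1 := Core.card_sup_mul_card_inf_of_le_normalizer hLH'
    have e2 := Core.card_sup_mul_card_inf_of_le_normalizer (H := C) (N := Kc A')
      fun a ha => centralizer_le_normalizer _ fun k hk => (comm_KA hk (CA ha)).eq
    have e3 : C ⊔ Kc A' = L ⊔ Kc A' := le_antisymm (sup_le (hC ▸ inf_le_right.trans (sup_comm _ _).le) le_sup_right)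
      (sup_le (fun l hl => by
        obtain ⟨k1, hk1, a1, ha1, rfl⟩ := dec l hl
        exact mul_mem (mem_sup_right hk1) (mem_sup_left ha1)) le_sup_right)
    have e4 := two_mul_le (K := ⊥) (Y := C ⊓ Kc A') bot_le ⟨hC ▸ ⟨h'.wA, mem_sup_left w'K⟩, w'K⟩
      (by rwa [mem_bot])
    rw [card_bot] at e4
    rw [e3] at e2
    rw [h.cardL] at e1
    rw [h.cardZ] at cN
    have e5 : 0 < Nat.card (Kc A') := Nat.card_pos
    refine Nat.le_of_mul_le_mul_right ?_ e5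
    nlinarith
  have cK : ∀ a ∈ C, ⁅a, a'⁆ ∈ Kc A' := fun a ha => by
    obtain ⟨k1, hk1, hl⟩ := dec' a ha
    rw [← inv_eq_of_mul_eq_one_right (cw k1 hk1 a (CA ha) hl)]
    exact inv_mem (GD.comm_mem hk1 hk')
  replace hc := hc.resolve_right fun e => by
    have := h'.cenS C CA (e ▸ cK)
    omega
  have CL : C = Tech.cj g L := eq_of_perf h'.perfL (fun a ha => h'.cenZ a (CA ha) a' hc a'K (cK a ha))
    (by rw [h'.cardL]; omega)
  have eK : Kc A' = Tech.cj g (Kc A) := eA ▸ Kc_cj g A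
  have inH : ∀ k1 ∈ Kc A', Commute k1 k' → k1 ∈ Hc A := fun k1 hk1 c =>
    s0.mem_H_of_comm h.wK h.ow (ew ▸ c.mul_right (comm_KA hk1 ha'))
  have w'M : g * w * g⁻¹ ∈ Tech.cj g (Kc A) ⊓ Hc A := ⟨eK ▸ w'K, inH _ w'K (comm_KA hk' h'.wA).symm⟩
  obtain ⟨T, hT, hle⟩ := exists_isSylowIn_ge (isPGroup_two_zpowers (mul_self_of_orderOf_two h'.ow))
    (zpowers_le.2 w'M)
  have m := hle (mem_zpowers _)
  obtain ⟨R, R0, hR, -, -, h0, ⟨e⟩, hc0, -⟩ := Alt4.exists_R0_iso s0.ti hg hT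
    (fun e => w'1 (mem_bot.1 (e ▸ m))) IsPGroup.of_bot bot_le (by rw [normalizer_eq_top]; exact le_top)
  have rH : R0 ≤ normalizer (Kc A' : Set G) := fun r hr => s'.mem_H_of_comm w'K h'.ow (hc0 r hr _ m)
  have rZ : R0 ≤ Kc A' ⊔ Tech.cj g Z := fun r hr => h'.cenL r (s'.norm ▸ rH hr) fun l hl => by
    obtain ⟨k1, hk1, hl'⟩ := dec' l (CL ▸ hl)
    have c := comm_KA (hR.le (h0 hr)) (h.LA hl')
    have : ⁅r, l⁆ = r * k1⁻¹ * r⁻¹ * (k1 * l) * (l⁻¹) := by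
      rw [mul_assoc _ r⁻¹, c.inv_left.eq, commutatorElement_def]; group
    rw [this, mul_assoc, mul_inv_cancel_right]
    exact mul_mem (conj_mem_of_mem_normalizer (rH hr) (inv_mem hk1)) hk1
  have cT : Nat.card T ≤ 4 := by
    have e1 := Core.card_sup_mul_card_inf_of_le_normalizer rH
    have e2 := Core.card_sup_mul_card_inf_of_le_normalizer (H := Tech.cj g Z) (N := Kc A')
      fun a ha => centralizer_le_normalizer _ fun k hk => (comm_KA hk (h'.LA (h'.ZL ha))).eq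
    have e3 : R0 ⊓ Kc A' = ⊥ := eq_bot_iff.2 fun r hr => by
      obtain ⟨j, hj⟩ := isPGroup_iff_mem.1 hR.pgroup r (h0 hr.1)
      exact eq_one_of_two s0.ti hg (hR.le (h0 hr.1)) (eK ▸ hr.2) hj
    have e4 := two_mul_le (K := ⊥) (Y := Tech.cj g Z ⊓ Kc A') bot_le ⟨h'.wZ, w'K⟩ (by rwa [mem_bot])
    have e5 := card_le_of_le (sup_le (rZ.trans (sup_comm _ _).le) le_sup_right : R0 ⊔ Kc A' ≤ Tech.cj g Z ⊔ Kc A')
    rw [e3, card_bot, mul_one, Nat.card_congr e.toEquiv] at e1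
    rw [card_bot] at e4
    rw [h'.cardZ] at e2
    have e6 : 0 < Nat.card (Kc A') := Nat.card_pos
    refine Nat.le_of_mul_le_mul_right ?_ e6
    nlinarith
  have hs := solv_eight w'M h'.ow (fun m hm => comm_KA (eK ▸ hm.1) h'.wA) fun h8 => by
    rw [← card_mul_relIndex' hT.le] at h8
    have := Nat.le_of_dvd Nat.card_pos (Nat.Coprime.dvd_of_dvd_mul_right
      (Nat.Coprime.pow_left 3 ((Nat.Prime.coprime_iff_not_dvd Nat.prime_two).2 hT.not_dvd)) h8)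
    omega
  have LA' : L ≤ A' := le_of_solv h.perfL (eK ▸ inf_le_left) hs fun l hl => by
    obtain ⟨k1, hk1, a1, ha1, rfl⟩ := dec l hl
    have := cw k1 hk1 a1 (CA ha1) hl
    rw [commutatorElement_eq_one_iff_commute.2 (h'.LZ a1 (CL ▸ ha1) a' hc), mul_one,
      commutatorElement_eq_one_iff_commute] at this
    exact mul_mem_sup ⟨eK ▸ hk1, inH k1 hk1 this⟩ (CA ha1)
  have LL : L = Tech.cj g L := eq_of_le_of_card_ge (CL ▸ hC ▸ le_inf LA' le_sup_right) (card_cj g L).le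
  have gN : g ∈ normalizer (L : Set G) := mem_normalizer_iff_cj.2 LL.symm
  have := h.chr (L.normalizerMonoidHom ⟨g, gN⟩) ⟨w, wL⟩ rfl
  exact wK ((show g * w * g⁻¹ = w from this) ▸ w'K)

end GV

open GV

namespace Gv

variable {L Z : Subgroup G} {w s : G} (h : Gv A w L Z s) (s0 : St0 A)
include h s0

theorem long {g k ζ : G} (hk : k ∈ Kc A) (hζ : ζ ∈ Z) (h1 : ζ ∉ Kc A)
    (ht : k * ζ ∈ Tech.cj g (Kc A)) (t2 : k * ζ * (k * ζ) = 1) : False := by
  have h' := h.cj g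
  have tK : k * ζ ∉ Kc A := fun e => h1 ((mul_mem_cancel_left hk).1 e)
  have hg : g ∉ Hc A := fun e => tK (mem_normalizer_iff_cj.1 e ▸ ht)
  have ot : orderOf (k * ζ) = 2 := orderOf_two_of_mul_self t2 fun e => tK (e ▸ one_mem _)
  have w2 := mul_self_of_orderOf_two h.ow
  have hLH : L ≤ Tech.cj g (Hc A) := fun l hl =>
    s0.mem_cj_H ht ot ((comm_KA hk (h.LA hl)).symm.mul_right (h.LZ l hl ζ hζ))
  obtain ⟨k', hk', a', ha', ew⟩ := memKA.1 (perf_le h' (s0.cj g) (Hc_cj g A ▸ hLH) h.perfL (h.ZL h.wZ))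
  obtain ⟨c, hc, e⟩ := h'.cls a' ha' (fun e => ne_one_of_orderOf_two h.ow
    (s0.eq_one hg h.wK (by rw [ew, ← Kc_cj]; exact mul_mem hk' e) w2)) (sq_K hk' ha' (ew ▸ w2))
  have eA : Tech.cj (c⁻¹ * g) A = Tech.cj g A := by
    rw [cj_mul]; exact mem_normalizer_iff_cj.1 (le_normalizer (inv_mem hc))
  refine core h s0 (g := c⁻¹ * g) hk hζ h1 (by rwa [← Kc_cj, eA, Kc_cj]) t2 (by rwa [← Hc_cj, eA, Hc_cj])
    (eA ▸ hk') (eA ▸ ha') ew (e.imp (fun e => ?_) fun e => ?_)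
  · rw [cj_mul, mem_cj, inv_inv]; exact e
  · rw [mul_assoc c⁻¹, mul_inv_rev, ← mul_assoc, mul_assoc c⁻¹, ← e]; group

theorem false : False := by
  obtain ⟨Λ, ΛA, Λp, Λc, a, ha, b, hb, aL, bL, cZ, cK, d, hd, ed⟩ := h.short
  have ζ2 := h.sqZ _ cZ
  obtain ⟨g, hg, t, ht, ot, hi⟩ := s0.inn (h.LA (h.ZL cZ)) (orderOf_two_of_mul_self ζ2 fun e => cK (e ▸ one_mem _))
    cK (fun g hg _ => by
      rcases h.idx g (s0.norm ▸ hg) g (s0.norm ▸ hg) with e | e | e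
      exacts [mul_mem e e, mul_mem e e, e])
    (fun g hg t ht y hy tH yH ot oy ne c _ _ _ => by
      rcases h.idx y (s0.norm ▸ yH) t (s0.norm ▸ tH) with e | e | e
      · exact ⟨g, hg, y, hy, oy, e⟩
      · exact ⟨g, hg, t, ht, ot, e⟩
      · refine ⟨g, hg, _, mul_mem hy ht, orderOf_two_of_mul_self (by
          rw [← pow_two, c.mul_pow, pow_two, pow_two, mul_self_of_orderOf_two oy, mul_self_of_orderOf_two ot,
            one_mul]) (fun e1 => ne ?_), e⟩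
        rw [eq_inv_of_mul_eq_one_left e1, inv_eq_of_orderOf_two ot])
    fun t tH t2 hn _ => h.comm t (s0.norm ▸ tH) t2 hn
  obtain ⟨k, hk, a0, ha0, rfl⟩ := memKA.1 hi
  have t2 := mul_self_of_orderOf_two ot
  obtain ⟨c, hc, e⟩ := h.cls a0 ha0 (fun e => ne_one_of_orderOf_two ot (s0.eq_one hg (mul_mem hk e) ht t2))
    (sq_K hk ha0 t2)
  have a0K : c * a0 * c⁻¹ ∉ Kc A := fun e => ne_one_of_orderOf_two ot (s0.eq_one hg (mul_mem hk (by
    simpa [mul_assoc] using conj_mem_of_mem_normalizer' (s0.A_le_H hc) e)) ht t2)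
  have e0 : k * (c * a0 * c⁻¹) = c * (k * a0) * c⁻¹ := by
    rw [← mul_assoc k, ← mul_assoc k, (comm_KA hk hc).eq]; group
  replace ht : k * (c * a0 * c⁻¹) ∈ Tech.cj (c * g) (Kc A) := by rw [e0, cj_mul]; exact conj_mem_cj.2 ht
  replace ot : orderOf (k * (c * a0 * c⁻¹)) = 2 := by rw [e0, orderOf_conj_eq, ot]
  replace t2 := mul_self_of_orderOf_two ot
  rcases e with e | e
  · exact h.long s0 hk e a0K ht t2
  rw [e] at ht ot t2
  generalize c * g = g at ht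
  have h' := h.cj g
  have s' := s0.cj g
  have ct : ∀ l ∈ Λ, Commute l (k * s) := fun l hl => (comm_KA hk (ΛA hl)).symm.mul_right (Λc l hl)
  have le := perf_le h' s' (fun l hl => Hc_cj g A ▸ s0.mem_cj_H ht ot (ct l hl)) Λp
  obtain ⟨k1, hk1, a1, ha1, rfl⟩ := memKA.1 (le ha)
  obtain ⟨k2, hk2, b1, hb1, rfl⟩ := memKA.1 (le hb)
  have eζ := comm_KA' hk1 ha1 hk2 hb1
  have k'K := GD.comm_mem hk1 hk2
  have a'A := GD.comm_mem ha1 hb1
  by_cases a'K : ⁅a1, b1⁆ ∈ Kc (Tech.cj g A)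
  · exact h.long s0 (g := g) (one_mem _) cZ cK (by rw [one_mul, eζ, ← Kc_cj]; exact mul_mem k'K a'K)
      (by rw [one_mul, ζ2])
  obtain ⟨c, hc, e⟩ := h'.cls _ a'A a'K (sq_K k'K a'A (eζ ▸ ζ2))
  have cn : ∀ y ∈ Kc (Tech.cj g A), c * y * c⁻¹ = y := fun y hy => by
    rw [← (comm_KA hy hc).eq, mul_inv_cancel_right]
  rcases e with e | e
  · rw [← Kc_cj] at ht
    have e1 : k * s * ⁅k1, k2⁆ * (c * ⁅a1, b1⁆ * c⁻¹) = c * d * (k * s) * (c * d)⁻¹ := by
      calc _ = c * (k * (s * (⁅k1, k2⁆ * ⁅a1, b1⁆))) * c⁻¹ := by rw [← cn _ (mul_mem ht k'K)]; group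
        _ = c * (k * d * s * d⁻¹) * c⁻¹ := by rw [← eζ, ← ed]; group
        _ = _ := by rw [(comm_KA hk hd).eq]; group
    refine h'.long s' (g := c * d) (mul_mem ht k'K) e (fun e2 => a'K ?_) (e1 ▸ conj_mem_cj.2 ht)
      (by rw [e1, conj_mul, t2]; simp)
    simpa [mul_assoc] using conj_mem_of_mem_normalizer' (s'.A_le_H hc) e2
  · have key : ∀ k1 ∈ Kc (Tech.cj g A), ∀ a2 ∈ Tech.cj g A, k1 * a2 ∈ L →
        ⁅c * a2 * c⁻¹, g * s * g⁻¹⁆ ∈ Kc (Tech.cj g A) := fun k1 hk1 a2 ha2 hl => by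
      have e2 := commutatorElement_eq_one_iff_commute.2 (h.LZ _ hl _ cZ)
      rw [eζ, comm_KA' hk1 ha2 k'K a'A] at e2
      rw [← e, ← conjugate_commutatorElement, ← inv_eq_of_mul_eq_one_right e2]
      exact conj_mem_of_mem_normalizer (s'.A_le_H hc) (inv_mem (GD.comm_mem hk1 k'K))
    exact h'.nshort _ (mul_mem (mul_mem hc ha1) (inv_mem hc)) _ (mul_mem (mul_mem hc hb1) (inv_mem hc))
      (key k1 hk1 a1 ha1 aL) (key k2 hk2 b1 hb1 bL) (by rw [← conjugate_commutatorElement, e])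

end Gv

end CfsgLib.SzC
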