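import Cfsg.Agent.Lib.SzC.Defs

/-! Package BAS: computations in a frame (plans/SZC.md) -/

set_option autoImplicit false
set_option linter.unusedSectionVars false

namespace CfsgLib.SzC

open Subgroup Cfsg CfsgLib.Tech CfsgLib.StdR2 CfsgLib.Classical CfsgLib.ExtraTwo
open scoped commutatorElement

variable {G : Type*} [Group G] [Finite G] {f : Fd G}

theorem bas_two : (2 : GF4) = 0 := by decide

theorem bas_add_self (a : GF4) : a + a = 0 := by revert a; decide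

theorem bas_eq {a b : GF4} (h : a + b = 0) : a = b := by revert a b; decide

theorem bas_pow1 : ∀ c : GF4, c ≠ 0 → ∃ i : Fin 3, ω ^ (i : ℕ) = c := by decide

theorem bas_pow2 : ∀ c : GF4, c ≠ 0 → ∃ i : Fin 3, (ω + 1) ^ (i : ℕ) = c := by decide

theorem bas_div {a : GF4} (ha : a ≠ 0) (c : GF4) : ∃ b, a * b = c := ⟨c / a, mul_div_cancel₀ c ha⟩

theorem bas_fix {φ : GF4 → GF4} (h0 : φ 0 = 0) {j : ℕ} (hj : ∀ a, φ^[2 ^ j] a = a) : ∃ a, a ≠ 0 ∧ φ a = a := by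
  classical
  have h1 := Equiv.Perm.card_fixedPoints_modEq (p := 2) (n := j) (f := (φ : Function.End GF4)) (
    (hom_coe_pow (fun g : Function.End GF4 => g) rfl (fun _ _ => rfl) φ (2 ^ j)).trans (funext hj))
  by_contra hc
  push Not at hc
  rw [card_GF4, (Fintype.card_eq_one_iff (α := Function.fixedPoints φ)).2
    ⟨⟨0, h0⟩, fun a => Subtype.ext (by_contra fun e => hc a e a.2)⟩] at h1
  exact absurd h1 (by decide)

theorem bas_cases : ∀ ψ : GF4 → GF4, Function.Injective ψ → ψ 0 = 0 → ∀ c0, c0 ≠ 0 → ψ c0 = c0 →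
    (∀ c, ψ c = c) ∨ ∀ c, c ≠ 0 → c ≠ c0 → ψ c = c + c0 := by decide +kernel

theorem bas_third : ∀ c c0 : GF4, c ≠ 0 → c ≠ c0 → c + c0 ≠ 0 ∧ c + c0 ≠ c0 ∧ c + c0 + c0 = c := by decide

namespace Fm

variable (h : Fm f)
include h

theorem x_inj {a b c a' b' c' : GF4} (e : f.x a b c = f.x a' b' c') : a = a' ∧ b = b' ∧ c = c' := by
  have m : f.x a' b' (c' + a' * b') * f.x a b c ∈ f.K := by rw [← h.x_inv, e, inv_mul_cancel]; exact one_mem _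
  rw [h.mul] at m
  obtain ⟨h1, h2, h3⟩ := h.inj _ _ _ m
  obtain rfl := bas_eq h1
  obtain rfl := bas_eq h2
  exact ⟨rfl, rfl, by linear_combination h3 - (c' + a' * b') * bas_two⟩

theorem x_comm (a b c a' b' c' : GF4) :
    f.x a b c * f.x a' b' c' = f.x a' b' c' * f.x a b c * f.x 0 0 (a * b' + a' * b) := by
  rw [h.mul, h.mul, h.mul]
  congr 1
  · ring
  · ring
  · linear_combination (-a' * b) * bas_two

theorem x_sq (a b c : GF4) : f.x a b c * f.x a b c = f.x 0 0 (a * b) := by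
  rw [h.mul, bas_add_self, bas_add_self, bas_add_self, zero_add]

theorem bas_zz (c : GF4) : f.x 0 0 c * f.x 0 0 c = 1 := by rw [h.x_sq, mul_zero, h.x_zero]

theorem bas_ord {c : GF4} (hc : c ≠ 0) : orderOf (f.x 0 0 c) = 2 :=
  orderOf_eq_prime (by rw [sq, h.bas_zz]) fun e => hc (h.x_inj (e.trans h.x_zero.symm)).2.2

theorem bas_zadd (c d : GF4) : f.x 0 0 c * f.x 0 0 d = f.x 0 0 (c + d) := by rw [h.mul]; simp

theorem bas_four (a b c : GF4) : f.x a b c ^ 2 ^ 2 = 1 := by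
  rw [show 2 ^ 2 = 2 * 2 by norm_num, pow_mul, sq, sq, h.x_sq, h.bas_zz]

theorem bas_comm_iff {a b c a' b' c' : GF4} : Commute (f.x a b c) (f.x a' b' c') ↔ a * b' + a' * b = 0 := by
  rw [Commute, SemiconjBy, h.x_comm, mul_eq_left]
  exact ⟨fun e => (h.x_inj (e.trans h.x_zero.symm)).2.2, fun e => by rw [e, h.x_zero]⟩

theorem bas_cz (a b c c' : GF4) : Commute (f.x a b c) (f.x 0 0 c') := h.bas_comm_iff.2 (by simp)

theorem bas_br (a b c a' b' c' : GF4) : ⁅f.x a b c, f.x a' b' c'⁆ = f.x 0 0 (a * b' + a' * b) := by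
  rw [commutatorElement_def, h.x_comm, ((h.bas_cz a' b' c' _).mul_left (h.bas_cz a b c _)).eq]
  group

theorem bas_hx (i : ℕ) (a b c : GF4) :
    f.h ^ i * f.x a b c * (f.h ^ i)⁻¹ = f.x (ω ^ i * a) (ω ^ i * b) ((ω + 1) ^ i * c) := by
  induction i with
  | zero => simp
  | succ i ih =>
    rw [show f.h ^ (i + 1) * f.x a b c * (f.h ^ (i + 1))⁻¹ = f.h * (f.h ^ i * f.x a b c * (f.h ^ i)⁻¹) * f.h⁻¹ by group,
      ih, h.hx]
    congr 1 <;> ring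

theorem bas_xU (a b c : GF4) : f.x a b c ∈ f.U := h.mem_U.2 ⟨a, b, c, rfl⟩

theorem bas_xU1 (a c : GF4) : f.x a 0 c ∈ f.U1 := h.mem_U1.2 ⟨a, c, rfl⟩

theorem bas_xU2 (b c : GF4) : f.x 0 b c ∈ f.U2 := h.mem_U2.2 ⟨b, c, rfl⟩

theorem bas_xZ (c : GF4) : f.x 0 0 c ∈ f.Z := h.mem_Z.2 ⟨c, rfl⟩

theorem orderOf_z : orderOf f.z = 2 := by
  exact h.bas_ord one_ne_zero

theorem U_le : f.U ≤ f.A := by
  intro g hg
  obtain ⟨a, b, c, rfl⟩ := h.mem_U.1 hg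
  exact h.xA ..

theorem U1_le : f.U1 ≤ f.U := by
  intro g hg
  obtain ⟨a, c, rfl⟩ := h.mem_U1.1 hg
  exact h.bas_xU _ _ _

theorem U2_le : f.U2 ≤ f.U := by
  intro g hg
  obtain ⟨a, c, rfl⟩ := h.mem_U2.1 hg
  exact h.bas_xU _ _ _

theorem Z_le1 : f.Z ≤ f.U1 := by
  intro g hg
  obtain ⟨c, rfl⟩ := h.mem_Z.1 hg
  exact h.bas_xU1 _ _

theorem Z_le2 : f.Z ≤ f.U2 := by
  intro g hg
  obtain ⟨c, rfl⟩ := h.mem_Z.1 hg
  exact h.bas_xU2 _ _

theorem cardU : Nat.card f.U = 64 := by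
  rw [← Nat.card_eq_of_bijective (fun p : GF4 × GF4 × GF4 => (⟨f.x p.1 p.2.1 p.2.2, h.bas_xU _ _ _⟩ : f.U))
    ⟨fun p q e => by
      obtain ⟨h1, h2, h3⟩ := h.x_inj (congrArg Subtype.val e)
      exact Prod.ext h1 (Prod.ext h2 h3), fun ⟨g, hg⟩ => by
      obtain ⟨a, b, c, rfl⟩ := h.mem_U.1 hg
      exact ⟨(a, b, c), rfl⟩⟩]
  simp only [Nat.card_eq_fintype_card, Fintype.card_prod, card_GF4]

theorem cardU1 : Nat.card f.U1 = 16 := by
  rw [← Nat.card_eq_of_bijective (fun p : GF4 × GF4 => (⟨f.x p.1 0 p.2, h.bas_xU1 _ _⟩ : f.U1))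
    ⟨fun p q e => by
      obtain ⟨h1, -, h3⟩ := h.x_inj (congrArg Subtype.val e)
      exact Prod.ext h1 h3, fun ⟨g, hg⟩ => by
      obtain ⟨a, c, rfl⟩ := h.mem_U1.1 hg
      exact ⟨(a, c), rfl⟩⟩]
  simp only [Nat.card_eq_fintype_card, Fintype.card_prod, card_GF4]

theorem cardU2 : Nat.card f.U2 = 16 := by
  exact f.sw_U1 ▸ h.sw.cardU1

theorem cardZ : Nat.card f.Z = 4 := by
  rw [← Nat.card_eq_of_bijective (fun p : GF4 => (⟨f.x 0 0 p, h.bas_xZ _⟩ : f.Z))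
    ⟨fun p q e => (h.x_inj (congrArg Subtype.val e)).2.2, fun ⟨g, hg⟩ => by
      obtain ⟨c, rfl⟩ := h.mem_Z.1 hg
      exact ⟨c, rfl⟩⟩]
  simp only [Nat.card_eq_fintype_card, card_GF4]

theorem eq_one_KA {k : G} (hk : k ∈ f.K) (ha : k ∈ f.A) {j : ℕ} (e : k ^ 2 ^ j = 1) : k = 1 := by
  exact orderOf_eq_one_iff.1 (Nat.eq_one_of_dvd_coprimes ((Nat.coprime_two_right.2 (h.odd k ha hk)).pow_right j)
    dvd_rfl (orderOf_dvd_of_pow_eq_one e))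

theorem mem_KA {g : G} : g ∈ f.K ⊔ f.A ↔ ∃ k ∈ f.K, ∃ a ∈ f.A, g = k * a := by
  have hn : f.K ≤ normalizer (f.A : Set G) := centralizer_le_normalizer _
  rw [← SetLike.mem_coe, coe_mul_of_left_le_normalizer_right _ _ hn]
  exact ⟨fun ⟨k, hk, a, ha, e⟩ => ⟨k, hk, a, ha, e.symm⟩, fun ⟨k, hk, a, ha, e⟩ => ⟨k, hk, a, ha, e.symm⟩⟩

/-- the two parts of an element of order at most 2 of `K A` -/
theorem exists_k {t : G} (t2 : t * t = 1) (hi : t ∈ f.K ⊔ f.A) :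
    ∃ k ∈ f.K, ∃ a ∈ f.A, k * k = 1 ∧ a * a = 1 ∧ t = k * a := by
  obtain ⟨k, hk, a, ha, rfl⟩ := h.mem_KA.1 hi
  have c := comm_KA hk ha
  rw [c.symm.mul_mul_mul_comm] at t2
  have m : a * a ∈ f.K := by rw [eq_inv_of_mul_eq_one_right t2]; exact inv_mem (mul_mem hk hk)
  obtain ⟨n, hn⟩ := h.odd _ (mul_mem ha ha) m
  have e : (a * a) ^ n * (a * a) ^ n * (a * a) = 1 := by
    rw [← pow_add, ← pow_succ, ← two_mul, ← hn, pow_orderOf_eq_one]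
  have c1 : Commute a ((a * a) ^ n) := ((Commute.refl a).mul_right (Commute.refl a)).pow_right n
  have e2 : (a * a) ^ n * a * ((a * a) ^ n * a) = 1 := by rw [c1.mul_mul_mul_comm, e]
  have mk := mul_mem hk (inv_mem (pow_mem m n))
  have ma := mul_mem (pow_mem (mul_mem ha ha) n) ha
  refine ⟨_, mk, _, ma, ?_, e2, by group⟩
  have := (comm_KA mk ma).symm.mul_mul_mul_comm (k * ((a * a) ^ n)⁻¹) ((a * a) ^ n * a)
  rw [e2, mul_one, show k * ((a * a) ^ n)⁻¹ * ((a * a) ^ n * a) = k * a by group, c.symm.mul_mul_mul_comm,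
    t2] at this
  exact this.symm

theorem conj_Z {c : GF4} (hc : c ≠ 0) : ∃ i : ℕ, f.h ^ i * f.z * (f.h ^ i)⁻¹ = f.x 0 0 c := by
  obtain ⟨i, hi⟩ := bas_pow2 c hc
  exact ⟨i, by rw [h.bas_hx, mul_zero, mul_one, hi]⟩

theorem NU_of_cen {g : G} (hg : g ∈ normalizer (f.A : Set G)) {c : GF4} (hc : c ≠ 0)
    (e : Commute g (f.x 0 0 c)) : g ∈ normalizer (f.U : Set G) := by
  refine mem_normalizer_of_forall fun u hu => ?_
  obtain ⟨a, b, d, rfl⟩ := h.mem_U.1 hu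
  have m := conj_mem_of_mem_normalizer hg (h.xA a b d)
  obtain ⟨k, hk, a', b', d', e'⟩ := h.cen _ m c hc ((e.mul_left (h.bas_cz ..)).mul_left e.inv_left)
  have kA : k ∈ f.A := by
    have := mul_mem m (inv_mem (h.xA a' b' d'))
    rwa [e', mul_inv_cancel_right] at this
  have k1 : k = 1 := h.eq_one_KA hk kA (j := 2) (by
    have := congrArg (· ^ 2 ^ 2) e'
    simp only [conj_pow, h.bas_four, (comm_KA hk (h.xA ..)).mul_pow, mul_one, mul_inv_cancel] at this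
    exact this.symm)
  rw [e', k1, one_mul]
  exact h.bas_xU _ _ _

theorem NZ_of_NU {g : G} (hg : g ∈ normalizer (f.U : Set G)) : g ∈ normalizer (f.Z : Set G) := by
  refine mem_normalizer_of_forall fun u hu => ?_
  obtain ⟨c, rfl⟩ := h.mem_Z.1 hu
  have key : ∀ u ∈ f.U, Commute (g * f.x 0 0 c * g⁻¹) u := fun u hu => by
    obtain ⟨a, b, d, e⟩ := h.mem_U.1 (conj_mem_of_mem_normalizer' hg hu)
    have := (e ▸ h.bas_cz a b d c).symm.map (MulAut.conj g)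
    simpa [mul_assoc] using this
  obtain ⟨a, b, d, e⟩ := h.mem_U.1 (conj_mem_of_mem_normalizer hg (h.bas_xU 0 0 c))
  rw [e] at key ⊢
  have h1 := h.bas_comm_iff.1 (key _ (h.bas_xU 1 0 0))
  have h2 := h.bas_comm_iff.1 (key _ (h.bas_xU 0 1 0))
  simp only [mul_zero, zero_add, one_mul, mul_one, zero_mul, add_zero] at h1 h2
  rw [h1, h2]
  exact h.bas_xZ _

theorem bas_hU : f.h ∈ normalizer (f.U : Set G) := mem_normalizer_of_forall fun u hu => by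
  obtain ⟨a, b, c, rfl⟩ := h.mem_U.1 hu
  rw [h.hx]; exact h.bas_xU _ _ _

theorem NU_of_NZ {g : G} (hA : g ∈ normalizer (f.A : Set G)) (hg : g ∈ normalizer (f.Z : Set G)) :
    g ∈ normalizer (f.U : Set G) := by
  obtain ⟨c, e⟩ := h.mem_Z.1 (conj_mem_of_mem_normalizer hg (h.bas_xZ 1))
  obtain ⟨i, hi⟩ := h.conj_Z (c := c) (by
    rintro rfl
    rw [h.x_zero, conj_eq_one_iff] at e
    exact one_ne_zero (h.x_inj (e.trans h.x_zero.symm)).2.2)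
  have := mul_mem (pow_mem h.bas_hU i) (h.NU_of_cen (mul_mem (inv_mem (pow_mem (le_normalizer h.hA) i)) hA)
    one_ne_zero (show _ = _ by
      rw [← e, mul_inv_eq_iff_eq_mul] at hi
      rw [mul_assoc, inv_mul_eq_iff_eq_mul, ← mul_assoc, ← mul_assoc, hi]; group))
  rwa [mul_inv_cancel_left] at this

theorem bas_C1 {a : GF4} (ha : a ≠ 0) (c : GF4) : f.U ⊓ centralizer {f.x a 0 c} = f.U1 := by
  ext u
  refine ⟨fun hu => ?_, fun hu => ⟨h.U1_le hu, ?_⟩⟩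
  · obtain ⟨a', b', c', rfl⟩ := h.mem_U.1 hu.1
    have := h.bas_comm_iff.1 (mem_centralizer_singleton_iff.1 hu.2)
    obtain rfl : b' = 0 := by simpa [ha] using this
    exact h.bas_xU1 _ _
  · obtain ⟨a', c', rfl⟩ := h.mem_U1.1 hu
    exact mem_centralizer_singleton_iff.2 (h.bas_comm_iff.2 (by simp))

theorem bas_C2 {b : GF4} (hb : b ≠ 0) (c : GF4) : f.U ⊓ centralizer {f.x 0 b c} = f.U2 := by
  have := h.sw.bas_C1 hb c
  rwa [f.sw_U, f.sw_U1, f.sw_x1] at this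

theorem NU_cases {g : G} (hg : g ∈ normalizer (f.U : Set G)) :
    (g ∈ normalizer (f.U1 : Set G) ∧ g ∈ normalizer (f.U2 : Set G)) ∨
      (Tech.cj g f.U1 = f.U2 ∧ Tech.cj g f.U2 = f.U1) := by
  have nz : ∀ u ∈ f.U, Tech.cj g (f.U ⊓ centralizer {u}) = f.U ⊓ centralizer {g * u * g⁻¹} := fun u _ => by
    rw [cj_inf, cj_centralizer_singleton, mem_normalizer_iff_cj.1 hg]
  obtain ⟨a, b, c, e⟩ := h.mem_U.1 (conj_mem_of_mem_normalizer hg (h.bas_xU 1 0 0))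
  obtain ⟨a', b', c', e'⟩ := h.mem_U.1 (conj_mem_of_mem_normalizer hg (h.bas_xU 0 1 0))
  have s1 : a * b = 0 := (h.x_inj ((h.x_sq a b c).symm.trans (by
    rw [← e, conj_mul, h.x_sq, mul_zero, h.x_zero]; group))).2.2
  have s2 : a' * b' = 0 := (h.x_inj ((h.x_sq a' b' c').symm.trans (by
    rw [← e', conj_mul, h.x_sq, zero_mul, h.x_zero]; group))).2.2
  have nc : a * b' + a' * b ≠ 0 := fun q => by
    have := (h.bas_comm_iff (c := c) (c' := c')).2 q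
    rw [← e, ← e'] at this
    have h1 := this.map (MulAut.conj g⁻¹)
    simp only [MulAut.conj_apply, mul_assoc, inv_mul_cancel_left, inv_inv, inv_mul_cancel, mul_one] at h1
    simpa using h.bas_comm_iff.1 h1
  have n1 := nz _ (h.bas_xU 1 0 0)
  have n2 := nz _ (h.bas_xU 0 1 0)
  rw [e, h.bas_C1 one_ne_zero] at n1
  rw [e', h.bas_C2 one_ne_zero] at n2
  rcases mul_eq_zero.1 s1 with rfl | rfl
  · have h1 : a' ≠ 0 ∧ b ≠ 0 := by simpa using nc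
    obtain rfl := (mul_eq_zero.1 s2).resolve_left h1.1
    exact .inr ⟨n1.trans (h.bas_C2 h1.2 _), n2.trans (h.bas_C1 h1.1 _)⟩
  · have h1 : a ≠ 0 ∧ b' ≠ 0 := by simpa using nc
    obtain rfl := (mul_eq_zero.1 s2).resolve_right h1.2
    exact .inl ⟨mem_normalizer_iff_cj.2 (n1.trans (h.bas_C1 h1.1 _)),
      mem_normalizer_iff_cj.2 (n2.trans (h.bas_C2 h1.2 _))⟩

theorem inner_two {g : G} (hg : g ∈ normalizer (f.A : Set G)) (hz : ∀ c, Commute g (f.x 0 0 c))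
    (h1 : g ∈ normalizer (f.U1 : Set G)) {j : ℕ} (e : g ^ 2 ^ j = 1) :
    ∃ k ∈ f.K, ∃ a b c, g = k * f.x a b c := by
  choose φ ψ hφ using fun a => h.mem_U1.1 (conj_mem_of_mem_normalizer h1 (h.bas_xU1 a 0))
  have all : ∀ a c, ∃ c', g * f.x a 0 c * g⁻¹ = f.x (φ a) 0 c' := fun a c => ⟨_, by
    rw [show f.x a 0 c = f.x a 0 0 * f.x 0 0 c by rw [h.mul]; simp, ← conj_mul, hφ, (hz c).eq, mul_inv_cancel_right,
      h.mul, add_zero, add_zero]⟩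
  have it : ∀ n a, ∃ c', g ^ n * f.x a 0 0 * (g ^ n)⁻¹ = f.x (φ^[n] a) 0 c' := fun n a => by
    induction n with
    | zero => exact ⟨0, by simp⟩
    | succ n ih =>
      obtain ⟨c', e⟩ := ih
      obtain ⟨c'', e'⟩ := all (φ^[n] a) c'
      exact ⟨c'', by rw [Function.iterate_succ_apply', ← e', ← e]; group⟩
  obtain ⟨a, a0, ha⟩ := bas_fix (φ := φ) (j := j) (by
    have := hφ 0
    rw [h.x_zero, mul_one, mul_inv_cancel] at this
    exact (h.x_inj (this.symm.trans h.x_zero.symm)).1) fun a => by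
    obtain ⟨c', e'⟩ := it (2 ^ j) a
    rw [e, one_mul, inv_one, mul_one] at e'
    exact (h.x_inj e').1.symm
  obtain ⟨i, hi⟩ := bas_pow1 a a0
  have hh := pow_mem h.hA i
  obtain ⟨k, hk, a', b', c', e'⟩ := h.aut1 ((f.h ^ (i : ℕ))⁻¹ * g * f.h ^ (i : ℕ))
    (mul_mem (mul_mem (inv_mem (le_normalizer hh)) hg) (le_normalizer hh)) (fun c => by
      have e1 := h.bas_hx i 0 0 c
      rw [mul_zero] at e1
      have := hz ((ω + 1) ^ (i : ℕ) * c)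
      rw [← e1] at this
      generalize f.h ^ (i : ℕ) = w at this
      simpa [mul_assoc] using this.map (MulAut.conj w⁻¹)) (by
      obtain ⟨c, hc⟩ := bas_div (pow_ne_zero (i : ℕ) (show ω + 1 ≠ 0 by decide)) (ψ a)
      refine ⟨c, ?_⟩
      have e1 := h.bas_hx i 1 0 0
      have e2 := h.bas_hx i 1 0 c
      rw [mul_one, mul_zero, hi] at e1 e2
      rw [mul_zero] at e1
      have e3 := hφ a
      rw [ha, ← hc, ← e2, ← e1] at e3
      calc _ = (f.h ^ (i : ℕ))⁻¹ * (g * (f.h ^ (i : ℕ) * f.x 1 0 0 * (f.h ^ (i : ℕ))⁻¹) * g⁻¹) * f.h ^ (i : ℕ) := by group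
        _ = _ := by rw [e3]; group)
  refine ⟨k, hk, ω ^ (i : ℕ) * a', ω ^ (i : ℕ) * b', (ω + 1) ^ (i : ℕ) * c', ?_⟩
  rw [← h.bas_hx i a' b' c', ← mul_assoc, ← mul_assoc, (comm_KA hk hh).eq, mul_assoc _ k, ← e']
  group

theorem bas_actZ {g : G} (hg : g ∈ normalizer (f.Z : Set G)) {j : ℕ} (e : g ^ 2 ^ j = 1) :
    ∃ ψ : GF4 → GF4, Function.Injective ψ ∧ ψ 0 = 0 ∧ (∀ c, g * f.x 0 0 c * g⁻¹ = f.x 0 0 (ψ c)) ∧
      ∃ c, c ≠ 0 ∧ ψ c = c := by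
  choose ψ hψ using fun c => h.mem_Z.1 (conj_mem_of_mem_normalizer hg (h.bas_xZ c))
  have h0 : ψ 0 = 0 := by
    have := hψ 0
    rw [h.x_zero, mul_one, mul_inv_cancel] at this
    exact (h.x_inj (this.symm.trans h.x_zero.symm)).2.2
  have it : ∀ n c, g ^ n * f.x 0 0 c * (g ^ n)⁻¹ = f.x 0 0 (ψ^[n] c) := fun n c => by
    induction n with
    | zero => simp
    | succ n ih => rw [Function.iterate_succ_apply', ← hψ, ← ih]; group
  refine ⟨ψ, fun c d q => ?_, h0, hψ, bas_fix (j := j) h0 fun c => ?_⟩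
  · have := hψ c
    rw [q, ← hψ, mul_left_inj, mul_right_inj] at this
    exact (h.x_inj this).2.2
  · have := it (2 ^ j) c
    rw [e, one_mul, inv_one, mul_one] at this
    exact (h.x_inj this).2.2.symm

theorem sq_inner {g : G} (hg : g ∈ normalizer (f.A : Set G)) {j : ℕ} (e : g ^ 2 ^ j = 1) :
    g * g ∈ f.K ⊔ f.A := by
  obtain ⟨a, ha, hn⟩ := exists_cj_norm h.syl (isPGroup_zpowers_of_pow e) (zpowers_le.2 hg)
  have gU : a * g * a⁻¹ ∈ normalizer (f.U : Set G) := hn (conj_mem_cj.2 (mem_zpowers g))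
  have gA : a * g * a⁻¹ ∈ normalizer (f.A : Set G) :=
    mul_mem (mul_mem (le_normalizer ha) hg) (inv_mem (le_normalizer ha))
  have ge : (a * g * a⁻¹) ^ 2 ^ j = 1 := by rw [conj_pow, e, mul_one, mul_inv_cancel]
  obtain ⟨ψ, h1, h0, hψ, c0, c1, c2⟩ := h.bas_actZ (h.NZ_of_NU gU) ge
  obtain ⟨k, hk, a', b', c', e'⟩ := h.inner_two (mul_mem gA gA) (fun c => by
      have : ψ (ψ c) = c := by
        rcases bas_cases ψ h1 h0 c0 c1 c2 with q | q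
        · rw [q, q]
        by_cases z0 : c = 0
        · rw [z0, h0, h0]
        by_cases z1 : c = c0
        · rw [z1, c2, c2]
        obtain ⟨q1, q2, q3⟩ := bas_third c c0 z0 z1
        rw [q c z0 z1, q _ q1 q2, q3]
      have e1 := hψ (ψ c)
      rw [this, ← hψ c] at e1
      exact mul_inv_eq_iff_eq_mul.1 (Eq.trans (by group) e1))
    (by
      rcases h.NU_cases gU with q | q
      · exact mul_mem q.1 q.1
      · rw [mem_normalizer_iff_cj, cj_mul, q.1, q.2]) (j := j) (by rw [← sq, ← pow_mul, mul_comm, pow_mul, ge, one_pow])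
  have m := mul_mem (mul_mem (inv_mem (mem_sup_right ha : a ∈ f.K ⊔ f.A))
    (h.mem_KA.2 ⟨k, hk, _, h.xA a' b' c', e'⟩)) (mem_sup_right ha)
  rwa [show a⁻¹ * (a * g * a⁻¹ * (a * g * a⁻¹)) * a = g * g by group] at m

theorem cenUbar {g : G} (hg : g ∈ normalizer (f.A : Set G))
    (e : ∀ a b c, ∃ c', g * f.x a b c * g⁻¹ = f.x a b c') : ∃ k ∈ f.K, ∃ a b c, g = k * f.x a b c := by
  refine h.aut1 g hg (fun c => ?_) (e 1 0 0)
  obtain ⟨c1, e1⟩ := e c 0 0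
  obtain ⟨c2, e2⟩ := e 0 1 0
  have := conjugate_commutatorElement (f.x c 0 0) (f.x 0 1 0) g
  rw [e1, e2, h.bas_br, h.bas_br, mul_one, zero_mul, add_zero] at this
  exact mul_inv_eq_iff_eq_mul.1 this

theorem bas_strip {k u : G} (hk : k ∈ f.K) {a b c : GF4} (e : Commute (k * u) (f.x a b c)) :
    Commute u (f.x a b c) := by
  have := (comm_KA hk (h.xA a b c)).inv_left.mul_left e
  rwa [inv_mul_cancel_left] at this

theorem cenU {g : G} (hg : g ∈ normalizer (f.A : Set G)) (e : ∀ a b c, Commute g (f.x a b c)) :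
    ∃ k ∈ f.K, ∃ c, g = k * f.x 0 0 c := by
  obtain ⟨k, hk, a, b, c, rfl⟩ := h.cenUbar hg fun a b c => ⟨c, by rw [(e a b c).eq, mul_inv_cancel_right]⟩
  have h1 := h.bas_comm_iff.1 (h.bas_strip hk (e 1 0 0))
  have h2 := h.bas_comm_iff.1 (h.bas_strip hk (e 0 1 0))
  simp only [mul_zero, zero_add, one_mul, mul_one, zero_mul, add_zero] at h1 h2
  exact ⟨k, hk, c, by rw [h1, h2]⟩

theorem cenU1 {g : G} (hg : g ∈ normalizer (f.A : Set G)) (e : ∀ a c, Commute g (f.x a 0 c)) :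
    ∃ k ∈ f.K, ∃ a c, g = k * f.x a 0 c := by
  obtain ⟨k, hk, a, b, c, rfl⟩ := h.aut1 g hg (e 0) ⟨0, by rw [(e 1 0).eq, mul_inv_cancel_right]⟩
  have h1 := h.bas_comm_iff.1 (h.bas_strip hk (e 1 0))
  simp only [mul_zero, zero_add, one_mul] at h1
  exact ⟨k, hk, a, c, by rw [h1]⟩

theorem bas_y (a b c : GF4) : f.x 0 b 0 * f.x a 0 c * (f.x 0 b 0)⁻¹ = f.x a 0 (c + a * b) := by
  rw [mul_inv_eq_iff_eq_mul, h.mul, h.mul]
  congr 1
  · ring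
  · ring
  · linear_combination (-a * b) * bas_two

theorem gen1 {Γ : Subgroup G} (hU : f.U ≤ Γ) {a c : GF4} (ha : a ≠ 0)
    (h1 : ∀ g ∈ f.A, Commute g (f.x a 0 c) → g ∈ Γ) : f.n ∈ Γ := by
  obtain ⟨b, hb⟩ := bas_div ha c
  have e : f.x 0 b 0 * f.n * f.x 0 0 a * (f.x 0 b 0 * f.n)⁻¹ = f.x a 0 c := by
    rw [show f.x 0 b 0 * f.n * f.x 0 0 a * (f.x 0 b 0 * f.n)⁻¹ = f.x 0 b 0 * (f.n * f.x 0 0 a * f.n⁻¹) * (f.x 0 b 0)⁻¹
      by group, h.nx, h.bas_y, zero_add, hb]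
  have yn := mul_mem (h.xA 0 b 0) h.nA
  have m1 := h1 _ (mul_mem (mul_mem yn (h.xA 0 1 0)) (inv_mem yn))
    (e ▸ (h.bas_cz 0 1 0 a).map (MulAut.conj (f.x 0 b 0 * f.n)))
  have m2 := h1 _ (pow_mem (mul_mem h.nA (h.xA 0 1 0)) 3) (comm_KA h.n3 (h.xA ..))
  have y := hU (h.bas_xU 0 b 0)
  have u := hU (h.bas_xU 0 1 0)
  have m3 := mul_mem (mul_mem (inv_mem u) (mul_mem (inv_mem (mul_mem (mul_mem (inv_mem y) m1) y)) m2)) (inv_mem u)
  have ni : f.n⁻¹ = f.n := inv_eq_of_mul_eq_one_right h.nn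
  rwa [show (f.x 0 b 0)⁻¹ * (f.x 0 b 0 * f.n * f.x 0 1 0 * (f.x 0 b 0 * f.n)⁻¹) * f.x 0 b 0 =
    f.n * f.x 0 1 0 * f.n⁻¹ by group, ni, show (f.x 0 1 0)⁻¹ * ((f.n * f.x 0 1 0 * f.n)⁻¹ * (f.n * f.x 0 1 0) ^ 3) *
      (f.x 0 1 0)⁻¹ = f.n by rw [pow_succ, pow_succ, pow_one]; group] at m3

theorem gen2 {Γ : Subgroup G} (hU : f.U ≤ Γ) {a c b c' : GF4} (ha : a ≠ 0) (hb : b ≠ 0)
    (h1 : ∀ g ∈ f.A, Commute g (f.x a 0 c) → g ∈ Γ)
    (h2 : ∀ g ∈ f.A, Commute g (f.x 0 b c') → g ∈ Γ) : f.A ≤ Γ := by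
  refine h.gen Γ hU (h.gen1 hU ha h1) (h.sw.gen1 (f.sw_U ▸ hU) hb (c := c') fun g hg e => h2 g hg ?_)
    fun g hg => h1 g hg.1 (comm_KA hg.2 (h.xA ..))
  rwa [f.sw_x1] at e

theorem der2 {Y : Subgroup G} (h1 : Y ≤ f.U) (h2 : 32 ≤ Nat.card Y) : f.Z ≤ ⁅Y, Y⁆ := by
  have hY : ∀ u ∈ f.U, ∀ v ∈ f.U, u ∉ Y → v ∉ Y → u * v ∈ Y := fun u hu v hv nu nv => by
    have e := card_mul_relIndex' h1
    rw [h.cardU] at e
    have e1 : Y.relIndex f.U ≠ 1 := fun q => nu (relIndex_eq_one.1 q hu)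
    have e2 : Y.relIndex f.U = 2 := by
      have : Y.relIndex f.U ≤ 2 := by nlinarith
      have : Y.relIndex f.U ≠ 0 := fun q => by simp [q] at e
      omega
    exact (mul_mem_iff_of_index_two e2 (a := ⟨u, hu⟩) (b := ⟨v, hv⟩)).2 (by simp [mem_subgroupOf, nu, nv])
  intro g hg
  obtain ⟨c, rfl⟩ := h.mem_Z.1 hg
  by_cases hc : ∀ b, ∃ a c, f.x a b c ∈ Y
  · obtain ⟨a, a0, d, ha⟩ : ∃ a, a ≠ 0 ∧ ∃ d, f.x a 0 d ∈ Y := by
      by_contra q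
      push Not at q
      have := hY _ (h.bas_xU 1 0 0) _ (h.bas_xU ω 0 0) (q _ one_ne_zero _) (q _ (by decide) _)
      rw [h.mul, add_zero] at this
      exact q _ (by decide) _ this
    obtain ⟨b, hb⟩ := bas_div a0 c
    obtain ⟨a', c', m⟩ := hc b
    have := commutator_mem_commutator ha m
    rwa [h.bas_br, mul_zero, add_zero, hb] at this
  · push Not at hc
    obtain ⟨b', hb'⟩ := hc
    obtain ⟨b, b0, d, hb⟩ : ∃ b, b ≠ 0 ∧ ∃ d, f.x 0 b d ∈ Y := by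
      by_contra q
      push Not at q
      have := hY _ (h.bas_xU 0 1 0) _ (h.bas_xU 0 ω 0) (q _ one_ne_zero _) (q _ (by decide) _)
      rw [h.mul, add_zero] at this
      exact q _ (by decide) _ this
    obtain ⟨a, ha⟩ := bas_div b0 c
    have m := hY _ (h.bas_xU a b' 0) _ (h.bas_xU 0 b' 0) (hb' _ _) (hb' _ _)
    rw [h.mul, bas_add_self, add_zero] at m
    have := commutator_mem_commutator m hb
    rwa [h.bas_br, mul_zero, add_zero, mul_comm, ha] at this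

theorem bas_out {l t : G} (hl : l ∈ f.A) (hn : t ∉ f.K ⊔ f.A) : l * t * l⁻¹ ∉ f.K ⊔ f.A := fun q => hn (by
  have := mul_mem (mul_mem (inv_mem (mem_sup_right hl : l ∈ f.K ⊔ f.A)) q) (mem_sup_right hl)
  rwa [show l⁻¹ * (l * t * l⁻¹) * l = t by group] at this)

theorem bas_mv {s : G} (hs : s ∈ normalizer (f.Z : Set G)) {c : GF4} (hc : ¬ Commute s (f.x 0 0 c)) :
    ⁅f.x 0 0 c, s⁆ ∈ f.Z ∧ orderOf ⁅f.x 0 0 c, s⁆ = 2 := by
  have m : ⁅f.x 0 0 c, s⁆ ∈ f.Z := by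
    have := mul_mem (h.bas_xZ c) (conj_mem_of_mem_normalizer hs (inv_mem (h.bas_xZ c)))
    rwa [← mul_assoc, ← mul_assoc] at this
  obtain ⟨d, e⟩ := h.mem_Z.1 m
  refine ⟨m, e ▸ h.bas_ord ?_⟩
  rintro rfl
  exact hc (commutatorElement_eq_one_iff_commute.1 (e.trans h.x_zero)).symm

theorem exists_comm {t : G} (ht : t ∈ normalizer (f.A : Set G)) (t2 : t * t = 1)
    (hn : t ∉ f.K ⊔ f.A) : ∃ a ∈ f.A, ∃ b ∈ f.A, orderOf b = 2 ∧ b * t = a * t * a⁻¹ := by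
  have t2' : t ^ 2 ^ 1 = 1 := by rw [pow_one, sq, t2]
  obtain ⟨l, hl, hn'⟩ := exists_cj_norm h.syl (isPGroup_zpowers_of_pow t2') (zpowers_le.2 ht)
  have gU : l * t * l⁻¹ ∈ normalizer (f.U : Set G) := hn' (conj_mem_cj.2 (mem_zpowers t))
  have gA : l * t * l⁻¹ ∈ normalizer (f.A : Set G) :=
    mul_mem (mul_mem (le_normalizer hl) ht) (inv_mem (le_normalizer hl))
  have g2 : l * t * l⁻¹ * (l * t * l⁻¹) = 1 := by rw [conj_mul, t2, mul_one, mul_inv_cancel]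
  have gn := h.bas_out hl hn
  suffices ∃ a ∈ f.A, ∃ b ∈ f.A, orderOf b = 2 ∧ b * (l * t * l⁻¹) = a * (l * t * l⁻¹) * a⁻¹ by
    obtain ⟨a, ha, b, hb, o, e⟩ := this
    refine ⟨l⁻¹ * a * l, mul_mem (mul_mem (inv_mem hl) ha) hl, l⁻¹ * b * l⁻¹⁻¹,
      mul_mem (mul_mem (inv_mem hl) hb) (inv_mem (inv_mem hl)), ((MulAut.conj l⁻¹).orderOf_eq b).trans o, ?_⟩
    calc l⁻¹ * b * l⁻¹⁻¹ * t = l⁻¹ * (b * (l * t * l⁻¹)) * l := by group
      _ = _ := by rw [e]; group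
  generalize l * t * l⁻¹ = s at gU gA g2 gn
  have s2 : s ^ 2 ^ 1 = 1 := by rw [pow_one, sq, g2]
  by_cases hz : ∀ c, Commute s (f.x 0 0 c)
  · obtain ⟨q, -⟩ := (h.NU_cases gU).resolve_left fun q => by
      obtain ⟨k, hk, a, b, c, e⟩ := h.inner_two gA hz q.1 s2
      exact gn (h.mem_KA.2 ⟨k, hk, _, h.xA .., e⟩)
    obtain ⟨b, c, e⟩ := h.mem_U2.1 (q ▸ conj_mem_cj.2 (h.bas_xU1 1 0) : s * f.x 1 0 0 * s⁻¹ ∈ f.U2)
    have b0 : b ≠ 0 := by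
      rintro rfl
      rw [mul_inv_eq_iff_eq_mul, ← (hz c).eq, mul_right_inj] at e
      exact one_ne_zero (h.x_inj e).1
    have si : s⁻¹ = s := inv_eq_of_mul_eq_one_right g2
    have u2 : (f.x 1 0 0)⁻¹ = f.x 1 0 0 := inv_eq_of_mul_eq_one_right (by rw [h.x_sq, mul_zero, h.x_zero])
    refine ⟨f.x 1 0 0 * f.x 0 b c, mul_mem (h.xA ..) (h.xA ..), f.x 0 0 b, h.xA .., h.bas_ord b0, ?_⟩
    have e1 : f.x 0 0 b = f.x 1 0 0 * f.x 0 b c * (f.x 1 0 0 * f.x 0 b c) := by rw [h.mul, h.x_sq]; simp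
    rw [e1, ← e, mul_inv_rev, mul_inv_rev, mul_inv_rev, u2, si, si]
    calc _ = f.x 1 0 0 * s * f.x 1 0 0 * s * f.x 1 0 0 * s * f.x 1 0 0 * (s * s) := by group
      _ = f.x 1 0 0 * s * f.x 1 0 0 * s * (s * s) * f.x 1 0 0 * s * f.x 1 0 0 := by rw [g2]; group
      _ = _ := by group
  · push Not at hz
    obtain ⟨c, hc⟩ := hz
    obtain ⟨e, o⟩ := h.bas_mv (h.NZ_of_NU gU) hc
    exact ⟨_, h.xA 0 0 c, _, h.U_le (h.U1_le (h.Z_le1 e)), o, by rw [commutatorElement_def]; group⟩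

theorem four_outer {t y : G} (ht : t ∈ normalizer (f.A : Set G)) (hy : y ∈ normalizer (f.A : Set G))
    (t2 : t * t = 1) (y2 : y * y = 1) (c : Commute t y) (h1 : t ∉ f.K ⊔ f.A) (h2 : y ∉ f.K ⊔ f.A)
    (h3 : t * y ∉ f.K ⊔ f.A) : ∃ γ φ, (γ = t ∨ γ = y ∨ γ = t * y) ∧ (φ = t ∨ φ = y ∨ φ = t * y) ∧
      ∃ ζ ∈ f.A, Commute ζ γ ∧ orderOf ⁅ζ, φ⁆ = 2 := by
  have p2 : ∀ {s : G}, s * s = 1 → s ^ 2 ^ 1 = 1 := fun e => by rw [pow_one, sq, e]
  obtain ⟨l, hl, hn'⟩ := exists_cj_norm h.syl ((isPGroup_zpowers_of_pow (p2 t2)).to_sup_of_normal_right'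
    (isPGroup_zpowers_of_pow (p2 y2)) (zpowers_le.2 (centralizer_le_normalizer _ fun w hw =>
      mem_centralizer_singleton_iff.1 ((zpowers_le (H := centralizer {t})).2
        (mem_centralizer_singleton_iff.2 c.symm.eq) hw)))) (sup_le (zpowers_le.2 ht) (zpowers_le.2 hy))
  have tU : l * t * l⁻¹ ∈ normalizer (f.U : Set G) := hn' (conj_mem_cj.2 (mem_sup_left (mem_zpowers t)))
  have yU : l * y * l⁻¹ ∈ normalizer (f.U : Set G) := hn' (conj_mem_cj.2 (mem_sup_right (mem_zpowers y)))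
  have q2 : ∀ {s : G}, s * s = 1 → (l * s * l⁻¹) ^ 2 ^ 1 = 1 := fun e => by
    rw [conj_pow, p2 e, mul_one, mul_inv_cancel]
  obtain ⟨γ, hγ, cγ⟩ : ∃ γ, (γ = t ∨ γ = y ∨ γ = t * y) ∧ ∀ c, Commute (l * γ * l⁻¹) (f.x 0 0 c) := by
    obtain ⟨ψ, i1, z1, a1, c0, c1, c2⟩ := h.bas_actZ (h.NZ_of_NU tU) (q2 t2)
    obtain ⟨χ, i2, z2, a2, -⟩ := h.bas_actZ (h.NZ_of_NU yU) (q2 y2)
    rcases bas_cases ψ i1 z1 c0 c1 c2 with q | q
    · exact ⟨t, .inl rfl, fun c => mul_inv_eq_iff_eq_mul.1 (by rw [a1, q])⟩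
    have cc : ∀ d, l * (t * y) * l⁻¹ * f.x 0 0 d * (l * (t * y) * l⁻¹)⁻¹ = f.x 0 0 (ψ (χ d)) := fun d => by
      rw [← a1, ← a2]; group
    have f0 : χ c0 = c0 := by
      have e1 := cc c0
      have e2 : l * (y * t) * l⁻¹ * f.x 0 0 c0 * (l * (y * t) * l⁻¹)⁻¹ = f.x 0 0 (χ c0) := by
        have := a1 c0
        rw [c2] at this
        rw [← a2]
        conv_rhs => rw [← this]
        group
      rw [c.eq, e2] at e1
      by_contra ne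
      have n0 : χ c0 ≠ 0 := fun e => c1 (i2 (e.trans z2.symm))
      have := (h.x_inj e1).2.2
      rw [q _ n0 ne, left_eq_add] at this
      exact c1 this
    rcases bas_cases χ i2 z2 c0 c1 f0 with q' | q'
    · exact ⟨y, .inr (.inl rfl), fun c => mul_inv_eq_iff_eq_mul.1 (by rw [a2, q'])⟩
    refine ⟨t * y, .inr (.inr rfl), fun d => mul_inv_eq_iff_eq_mul.1 (by
      rw [cc]
      by_cases e0 : d = 0
      · rw [e0, z2, z1]
      by_cases e1 : d = c0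
      · rw [e1, f0, c2]
      obtain ⟨q1, q2, q3⟩ := bas_third d c0 e0 e1
      rw [q' d e0 e1, q _ q1 q2, q3])⟩
  obtain ⟨φ, hφ, nφ⟩ : ∃ φ, (φ = t ∨ φ = y ∨ φ = t * y) ∧ l * φ * l⁻¹ ∈ normalizer (f.U1 : Set G) := by
    rcases h.NU_cases tU with q | q
    · exact ⟨t, .inl rfl, q.1⟩
    rcases h.NU_cases yU with q' | q'
    · exact ⟨y, .inr (.inl rfl), q'.1⟩
    exact ⟨t * y, .inr (.inr rfl), by rw [← conj_mul, mem_normalizer_iff_cj, cj_mul, q'.1, q.2]⟩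
  obtain ⟨φA, φU, φ2, φn⟩ : φ ∈ normalizer (f.A : Set G) ∧ l * φ * l⁻¹ ∈ normalizer (f.U : Set G) ∧ φ * φ = 1 ∧
      φ ∉ f.K ⊔ f.A := by
    rcases hφ with rfl | rfl | rfl
    · exact ⟨ht, tU, t2, h1⟩
    · exact ⟨hy, yU, y2, h2⟩
    · exact ⟨mul_mem ht hy, by rw [← conj_mul]; exact mul_mem tU yU, by rw [c.symm.mul_mul_mul_comm, t2, y2, one_mul], h3⟩
  obtain ⟨d, hd⟩ : ∃ d, ¬ Commute (l * φ * l⁻¹) (f.x 0 0 d) := by
    by_contra hz
    push Not at hz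
    obtain ⟨k, hk, a, b, c, e⟩ := h.inner_two
      (mul_mem (mul_mem (le_normalizer hl) φA) (inv_mem (le_normalizer hl))) hz nφ (q2 φ2)
    exact h.bas_out hl φn (h.mem_KA.2 ⟨k, hk, _, h.xA .., e⟩)
  refine ⟨γ, φ, hγ, hφ, l⁻¹ * f.x 0 0 d * l, mul_mem (mul_mem (inv_mem hl) (h.xA ..)) hl, ?_, ?_⟩
  · simpa [mul_assoc] using (cγ d).symm.map (MulAut.conj l⁻¹)
  · refine Eq.trans ?_ (h.bas_mv (h.NZ_of_NU φU) hd).2
    rw [← (MulAut.conj l).orderOf_eq, map_commutatorElement]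
    simp [mul_assoc]

theorem trans1 {a c : GF4} (h0 : ¬ (a = 0 ∧ c = 0)) : ∃ g ∈ f.A, g ∈ normalizer (f.U1 : Set G) ∧
    ∃ α γ : GF4, ∀ a' c', g * f.x a' 0 c' * g⁻¹ = f.x (α * a' + a * c') 0 (γ * a' + c * c') := by
  have key : ∀ g ∈ f.A, (∃ α γ : GF4, ∀ a' c', g * f.x a' 0 c' * g⁻¹ = f.x (α * a' + a * c') 0 (γ * a' + c * c')) →
      ∃ g ∈ f.A, g ∈ normalizer (f.U1 : Set G) ∧
        ∃ α γ : GF4, ∀ a' c', g * f.x a' 0 c' * g⁻¹ = f.x (α * a' + a * c') 0 (γ * a' + c * c') :=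
    fun g hg ⟨α, γ, e⟩ => ⟨g, hg, mem_normalizer_of_forall fun u hu => by
      obtain ⟨a', c', rfl⟩ := h.mem_U1.1 hu
      rw [e]; exact h.bas_xU1 _ _, α, γ, e⟩
  by_cases ha : a = 0
  · subst ha
    obtain ⟨i, hi⟩ := bas_pow2 c fun e => h0 ⟨rfl, e⟩
    exact key _ (pow_mem h.hA i) ⟨ω ^ (i : ℕ), 0, fun a' c' => by rw [h.bas_hx, hi]; simp⟩
  · obtain ⟨i, hi⟩ := bas_pow1 a ha
    obtain ⟨b, hb⟩ := bas_div ha c
    refine key _ (mul_mem (mul_mem (h.xA 0 b 0) (pow_mem h.hA i)) h.nA) ⟨0, (ω + 1) ^ (i : ℕ), fun a' c' => ?_⟩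
    rw [show f.x 0 b 0 * f.h ^ (i : ℕ) * f.n * f.x a' 0 c' * (f.x 0 b 0 * f.h ^ (i : ℕ) * f.n)⁻¹ =
      f.x 0 b 0 * (f.h ^ (i : ℕ) * (f.n * f.x a' 0 c' * f.n⁻¹) * (f.h ^ (i : ℕ))⁻¹) * (f.x 0 b 0)⁻¹ by group,
      h.nx, h.bas_hx, mul_zero, h.bas_y, hi, ← hb]
    congr 1 <;> ring

theorem not_two : ¬ IsPGroup 2 f.A := by
  intro hp
  obtain ⟨j, e⟩ := isPGroup_iff_mem.1 hp _ h.hA
  have := h.bas_hx (2 ^ j) 1 0 0
  rw [e, one_mul, inv_one, mul_one, mul_one] at this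
  have key : ∀ j : ℕ, ω ^ 2 ^ j = ω ∨ ω ^ 2 ^ j = ω + 1 := fun j => by
    induction j with
    | zero => exact .inl (by simp)
    | succ j ih => rcases ih with q | q <;> rw [pow_succ, pow_mul, q] <;> decide
  rcases key j with q | q <;> rw [q] at this <;> exact absurd (h.x_inj this).1 (by decide)

end Fm

end CfsgLib.SzC
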