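import Cfsg.Agent.Lib.SzC.CVA
import Cfsg.Agent.Lib.SzC.SB

/-! Package CB: an involution of `A` in a conjugate of `K` (plans/SZC2.md) -/

set_option autoImplicit false
set_option linter.unusedSectionVars false

namespace CfsgLib.SzC

open Subgroup Cfsg CfsgLib.Tech CfsgLib.StdR2 CfsgLib.Classical CfsgLib.ExtraTwo
open scoped commutatorElement

variable {G : Type*} [Group G] [Finite G] {d : Cd G} {z ψ χ : GF4 → G}

namespace CB

theorem f1 : ∀ b : GF4, b * b * 1 + b * b * 1 * 1 = 0 := by decide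
theorem f2 : ∀ l : GF4, ¬ ∀ b, l * (b * b) = b := by decide
theorem f3 : ∀ a a' : GF4, (∀ b, a * b + b * b * a' = 0) → a = 0 ∧ a' = 0 := by decide

theorem core (h : Al d z ψ) (s : St0 d.A) {g k ζ : G} (hg : g ∉ d.H) (hk : k ∈ d.K) (hζ : d.Co ζ 0 0 1)
    (ht : k * ζ ∈ Tech.cj g d.K) (o : orderOf (k * ζ) = 2) : ∃ y ∈ d.A, orderOf y = 2 ∧ y ∈ Tech.cj g d.K := by
  by_contra! hn
  have hc := h.toCv
  have t2 := mul_self_of_orderOf o
  have tH : k * ζ ∈ d.H := s.KA_le_H (mul_mem_sup hk (hc.Co_A hζ))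
  let U0 := d.U ⊓ centralizer {ζ}
  have m1 : ∀ u b c, d.Co u (b * b) b c → u ∈ U0 := fun u b c hu => mem_inf.2 ⟨hc.Co_mem hu,
    mem_centralizer_singleton_iff.2 (by
      have := h.act _ _ _ _ _ _ hu hζ
      rwa [f1, h.ψ_zero, mul_one, mul_inv_eq_iff_eq_mul] at this)⟩
  have m2 : ∀ u c, d.Co u 0 0 c → u ∈ U0 := fun u c hu => m1 u 0 c (by rwa [mul_zero])
  have ct : ∀ u ∈ U0, Commute u (k * ζ) := fun u hu =>
    (comm_KA hk (hc.U_le (mem_inf.1 hu).1)).symm.mul_right (mem_centralizer_singleton_iff.1 (mem_inf.1 hu).2)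
  have hU0 : IsPGroup 2 U0 := h.syl.pgroup.to_inf_left
  have hQ : IsPGroup 2 ↥(U0 ⊔ zpowers (k * ζ)) := hU0.to_sup_of_normal_right' (isPGroup_two_zpowers t2)
    fun u hu => mem_normalizer_of_forall fun x hx => by
      obtain ⟨n, rfl⟩ := hx
      show u * (k * ζ) ^ n * u⁻¹ ∈ _
      rw [((ct u hu).zpow_right n).eq, mul_inv_cancel_right]; exact ⟨n, rfl⟩
  have hN : ∀ x ∈ d.H, Commute x (k * ζ) → x ∈ normalizer ((Tech.cj g d.K ⊓ d.H : Subgroup G) : Set G) :=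
    fun x hx cx => mem_normalizer_of_forall fun y hy => mem_inf.2 ⟨s.conj_mem_cj_K (s.mem_cj_H ht o cx) (mem_inf.1 hy).1,
      mul_mem (mul_mem hx (mem_inf.1 hy).2) (inv_mem hx)⟩
  obtain ⟨T, hT, hTn, hTle⟩ := Alt4.exists_syl_norm hQ (sup_le
    (fun u hu => hN u (s.A_le_H (hc.U_le (mem_inf.1 hu).1)) (ct u hu)) (zpowers_le.2 (hN _ tH (Commute.refl _))))
  have tT : k * ζ ∈ T := hTle (mem_inf.2 ⟨mem_sup_right (mem_zpowers _), mem_inf.2 ⟨ht, tH⟩⟩)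
  have TA : ∀ x ∈ T, x ∈ d.A → x = 1 := fun x hx hA => by
    by_contra h1
    obtain ⟨y, hy, oy⟩ := exists_involution_of_pgroup (T := T ⊓ d.A) hT.pgroup.to_inf_left
      (fun e => h1 (mem_bot.1 (e ▸ mem_inf.2 ⟨hx, hA⟩)))
    exact hn y (mem_inf.1 hy).2 oy (mem_inf.1 (hT.le (mem_inf.1 hy).1)).1
  have TK : ∀ x ∈ T, x ∈ d.K → x = 1 := fun x hx hK => by
    obtain ⟨j, hj⟩ := isPGroup_iff_mem.1 hT.pgroup x hx
    exact eq_one_of_two s.ti hg hK (mem_inf.1 (hT.le hx)).1 hj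
  have TU : ∀ x ∈ T, ∀ u ∈ U0, x * u = u * x := fun x hx u hu => by
    have uA := hc.U_le (mem_inf.1 hu).1
    have h1 := TA (x * u * x⁻¹ * u⁻¹) (by
      rw [show x * u * x⁻¹ * u⁻¹ = x * (u * x⁻¹ * u⁻¹) by group]
      exact mul_mem hx (conj_mem_of_mem_normalizer (hTn (mem_sup_left hu)) (inv_mem hx)))
      (mul_mem (s.conj_A (mem_inf.1 (hT.le hx)).2 uA) (inv_mem uA))
    rwa [mul_inv_eq_one, mul_inv_eq_iff_eq_mul] at h1
  have dec : ∀ x ∈ T, ∃ k' ∈ d.K, ∃ u c, d.Co u 0 0 c ∧ x = k' * u := by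
    intro x hx
    rcases hc.inner_or_T1 (s.norm ▸ (mem_inf.1 (hT.le hx)).2) (isPGroup_iff_mem.1 hT.pgroup x hx) (fun ξ c hξ => by
      rw [commutatorElement_eq_one_iff_mul_comm.2 (TU x hx ξ (m2 ξ c hξ))]; exact one_mem _) with
      ⟨k', hk', u, hu, rfl⟩ | ⟨l, -, h1, -⟩
    · obtain ⟨a, b, c, hu'⟩ := (h.memU u).1 hu
      obtain ⟨rfl, rfl⟩ := f3 a b fun b' => by
        obtain ⟨v, hv⟩ := h.surj (b' * b') b' 0
        have h1 := hc.Co_comm hu' hv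
        have h2 := TU _ hx v (m1 v b' 0 hv)
        rw [mul_assoc, ← mul_assoc v, ← (comm_KA hk' (hc.Co_A hv)).eq, mul_assoc, mul_right_inj] at h2
        rw [commutatorElement_eq_one_iff_mul_comm.2 h2] at h1
        exact (hc.Co_unique h1 hc.Co_one).2.2
      exact ⟨k', hk', u, c, hu', rfl⟩
    · refine absurd (fun b => ?_) (f2 l)
      obtain ⟨v, hv⟩ := h.surj (b * b) b 0
      obtain ⟨c', h2⟩ := h1 _ _ _ _ hv
      rw [TU x hx v (m1 v b 0 hv), mul_inv_cancel_right] at h2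
      exact (hc.Co_unique h2 hv).2.1
  have ZU0 : d.Z ≤ U0 := fun u hu => by
    obtain ⟨c, hu⟩ := hc.mem_Z.1 hu
    exact m2 u c hu
  have Tt : ∀ x ∈ T, x * (k * ζ) = k * ζ * x := fun x hx => by
    obtain ⟨k', hk', u, c, hu, rfl⟩ := dec x hx
    have h1 := TK _ (mul_mem (mul_mem (mul_mem hx tT) (inv_mem hx)) (inv_mem tT)) (by
      have : k' * u * (k * ζ) * (k' * u)⁻¹ * (k * ζ)⁻¹ = k' * k * k'⁻¹ * k⁻¹ := by
        calc _ = k' * (u * (k * ζ)) * u⁻¹ * k'⁻¹ * (k * ζ)⁻¹ := by group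
          _ = k' * k * (ζ * k'⁻¹) * (k * ζ)⁻¹ := by rw [(ct u (m2 u c hu)).eq]; group
          _ = _ := by rw [← (comm_KA (inv_mem hk') (hc.Co_A hζ)).eq]; group
      rw [this]
      exact mul_mem (mul_mem (mul_mem hk' hk) (inv_mem hk')) (inv_mem hk))
    rwa [mul_inv_eq_one, mul_inv_eq_iff_eq_mul] at h1
  have hP : IsPGroup 2 ↥(d.Z ⊔ T) := (hU0.to_le ZU0).to_sup_of_normal_right' hT.pgroup
    fun u hu => hTn (mem_sup_left (ZU0 hu))
  obtain ⟨R, R0, -, hPR, -, -, ⟨e⟩, -, hR0⟩ := Alt4.exists_R0_iso s.ti hg hT (P := d.K ⊓ (d.Z ⊔ T))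
    (fun e => ne_one_of_orderOf o (mem_bot.1 (e ▸ tT))) hP.to_inf_right inf_le_left
    (fun x hx => mem_normalizer_of_forall fun y hy => mem_inf.2
      ⟨conj_mem_of_mem_normalizer (mem_inf.1 (hT.le hx)).2 (mem_inf.1 hy).1,
        mul_mem (mul_mem (mem_sup_right hx) (mem_inf.1 hy).2) (inv_mem (mem_sup_right hx))⟩)
  have hPR0 : d.K ⊓ (d.Z ⊔ T) ≤ R0 := fun r hr => hR0 _ tT o r (hPR hr) (mem_centralizer_singleton_iff.1
    ((sup_le (fun u hu => mem_centralizer_singleton_iff.2 (ct u (ZU0 hu)).eq)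
      (fun x hx => mem_centralizer_singleton_iff.2 (Tt x hx)) : d.Z ⊔ T ≤ centralizer {k * ζ}) (mem_inf.1 hr).2))
  obtain ⟨w, hwU, hwK, hw1⟩ := h.ne
  have wZ : w ∈ d.Z := hc.W_le (mem_inf.2 ⟨hwU, hwK⟩)
  choose kk hkk uu cc hu hx using dec
  have mP : ∀ x (hx' : x ∈ T), kk x hx' ∈ d.K ⊓ (d.Z ⊔ T) := fun x hx' => mem_inf.2 ⟨hkk x hx', by
    rw [show kk x hx' = x * (uu x hx')⁻¹ by rw [eq_mul_inv_iff_mul_eq]; exact (hx x hx').symm]
    exact mul_mem (mem_sup_right hx') (inv_mem (mem_sup_left (hc.mem_Z.2 ⟨_, hu x hx'⟩)))⟩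
  have key : ∀ x (hx' : x ∈ T) y (hy' : y ∈ T), ∀ a ∈ d.A, kk y hy' = kk x hx' * a → x = y := by
    intro x hx' y hy' a ha h1
    have := TA (x⁻¹ * y) (mul_mem (inv_mem hx') hy') (by
      rw [show x⁻¹ * y = (uu x hx')⁻¹ * a * uu y hy' by
        nth_rewrite 1 [hx x hx']; nth_rewrite 1 [hx y hy']; rw [h1]; group]
      exact mul_mem (mul_mem (inv_mem (hc.Co_A (hu x hx'))) ha) (hc.Co_A (hu y hy')))
    exact inv_mul_eq_one.1 this
  let F : T ⊕ T → R0 := Sum.elim (fun x => ⟨kk x x.2, hPR0 (mP x x.2)⟩)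
    fun x => ⟨kk x x.2 * w, hPR0 (mul_mem (mP x x.2) (mem_inf.2 ⟨hwK, mem_sup_left wZ⟩))⟩
  have wA := hc.U_le hwU
  have hF : Function.Injective F := by
    rintro (x | x) (y | y) hxy <;> have h1 := congrArg Subtype.val hxy
    · exact congrArg _ (Subtype.ext (key _ x.2 _ y.2 1 (one_mem _) (by rw [mul_one]; exact h1.symm)))
    · obtain rfl : y = x := Subtype.ext (key _ y.2 _ x.2 w wA h1)
      exact absurd (left_eq_mul.1 h1) hw1
    · obtain rfl : x = y := Subtype.ext (key _ x.2 _ y.2 w wA h1.symm)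
      exact absurd (mul_eq_left.1 h1) hw1
    · exact congrArg _ (Subtype.ext (key _ x.2 _ y.2 1 (one_mem _) (by
        rw [mul_one]; exact (mul_right_cancel h1).symm)))
  have h1 := Nat.card_le_card_of_injective F hF
  rw [Nat.card_sum, Nat.card_congr e.toEquiv] at h1
  have := Nat.card_pos (α := T)
  omega

end CB

theorem Cv.exists_A (h : Cv d) (s : St0 d.A) {g t : G} (hg : g ∉ d.H) (ht : t ∈ Tech.cj g d.K)
    (o : orderOf t = 2) (hi : t ∈ d.K ⊔ d.A) :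
    ∃ a ∈ d.A, ∃ ζ, d.Co ζ 0 0 1 ∧ orderOf ζ = 2 ∧ ζ ∈ Tech.cj (a * g) d.K := by
  obtain ⟨z, ψ, ha⟩ := h.exists_al
  have t2 := mul_self_of_orderOf o
  obtain ⟨a, hA, k, hk, ζ, hζ, e⟩ := h.exists_k hi (fun hK => ne_one_of_orderOf o (s.eq_one hg hK ht t2)) t2
  have hg' : a * g ∉ d.H := fun h1 => hg ((mul_mem_cancel_left (s.A_le_H hA)).1 h1)
  obtain ⟨y, hy, oy, hyK⟩ := CB.core ha s hg' hk hζ (by rw [← e, cj_mul]; exact conj_mem_cj.2 ht)
    (by rw [← e, orderOf_conj_eq, o])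
  have y2 := mul_self_of_orderOf oy
  obtain ⟨a', hA', h1⟩ := h.cls2 hy (fun hK => ne_one_of_orderOf oy (s.eq_one hg' hK hyK y2))
    (by rw [y2]; exact one_mem _) ⟨1, by rw [pow_one, pow_two, y2]⟩
  exact ⟨a' * a, mul_mem hA' hA, _, h1, by rw [orderOf_conj_eq, oy], by
    rw [mul_assoc a' a g, cj_mul]; exact conj_mem_cj.2 hyK⟩

end CfsgLib.SzC
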