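import Cfsg.Agent.Lib.SzC.Zero

/-! Package CK: `C_K(v) = V × O` (plans/SZC.md) -/

set_option autoImplicit false
set_option linter.unusedSectionVars false

namespace CfsgLib.SzC

open Subgroup Cfsg CfsgLib.Tech CfsgLib.StdR2 CfsgLib.Classical CfsgLib.ExtraTwo
open scoped commutatorElement

variable {G : Type*} [Group G] [Finite G] {f : Fd G}
  {V O : Subgroup G} {g0 : G} {R : Subgroup G} {p : G → C4} {μ : GF4}

theorem S1.ck_z (h : S1 f V O g0 R p μ) {r : G} (hr : r ∈ R) (c : GF4) : Commute r (f.x 0 0 c) := by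
  have := h.comm r hr _ (h.UR (h.toFm.bas_xU 0 0 c))
  rwa [h.pU, show b4 (p r) (0, 0, 0, 0) = 0 by simp [b4], h.toFm.x_zero, mul_one] at this

theorem S1.ck_conj (h : S1 f V O g0 R p μ) {r s : G} (hr : r ∈ R) (hs : s ∈ R) :
    r * s * r⁻¹ = s * f.x 0 0 (b4 (p r) (p s)) := by
  rw [h.comm r hr s hs, mul_assoc s, (h.ck_z hr _).eq, ← mul_assoc, mul_inv_cancel_right]

theorem S1.ck_same (h : S1 f V O g0 R p μ) {r s : G} (hr : r ∈ R) (hs : s ∈ R) (e : p r = p s) :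
    ∃ c, s = r * f.x 0 0 c := by
  have z : ∀ w : C4, w + w = 0 := fun w =>
    Prod.ext (bas_add_self _) (Prod.ext (bas_add_self _) (Prod.ext (bas_add_self _) (bas_add_self _)))
  obtain ⟨c, hc⟩ := h.toFm.mem_Z.1 (mul_mem (inv_mem (h.pker _ (mul_mem hr hr) (by rw [h.pmul r hr r hr, z])))
    (h.pker _ (mul_mem hr hs) (by rw [h.pmul r hr s hs, e, z])))
  exact ⟨c, by rw [← hc]; group⟩

theorem S1.ck_pz (h : S1 f V O g0 R p μ) {r : G} (hr : r ∈ R) (c : GF4) : p (r * f.x 0 0 c) = p r := by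
  rw [h.pmul r hr _ (h.UR (h.toFm.bas_xU 0 0 c)), h.pU]; exact add_zero _

theorem S1.R_NE (h : S1 f V O g0 R p μ) : R ≤ normalizer (EE f V : Set G) := by
  refine fun r hr => mem_normalizer_of_forall fun e he => ?_
  obtain ⟨v, hv, c, rfl⟩ := h.mem_E.1 he
  rw [← conj_mul, h.ck_conj hr (h.VR hv), (h.ck_z hr c).eq, mul_inv_cancel_right, mul_assoc, h.toFm.bas_zadd]
  exact h.mem_E.2 ⟨v, hv, _, rfl⟩

theorem S1.h_NR (h : S1 f V O g0 R p μ) : f.h ∈ normalizer (R : Set G) := by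
  refine h.NE (mem_normalizer_of_forall fun u hu => ?_)
  obtain ⟨v, hv, c, rfl⟩ := h.mem_E.1 hu
  rw [← conj_mul, h.hx, mul_zero, ← (comm_KA (h.sylV.le hv) h.hA).eq, mul_inv_cancel_right]
  exact h.mem_E.2 ⟨v, hv, _, rfl⟩

/-- an element of `N(R) ∩ C(Z)` that acts trivially on `R / Z` -/
theorem S1.kerO (h : S1 f V O g0 R p μ) {g : G} (hg : g ∈ normalizer (R : Set G))
    (hz : ∀ c, Commute g (f.x 0 0 c)) (e : ∀ r ∈ R, p (g * r * g⁻¹) = p r) :
    ∃ r ∈ R, ∃ o ∈ O, g = r * o := by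
  have fm := h.toFm
  have act : ∀ r ∈ R, ∃ c, g * r * g⁻¹ = r * f.x 0 0 c := fun r hr =>
    h.ck_same hr (conj_mem_of_mem_normalizer hg hr) (e r hr).symm
  obtain ⟨v1, m1, p1⟩ := h.Vp 1
  obtain ⟨c, hc⟩ := act v1 (h.VR m1)
  obtain ⟨s, hs, ps⟩ := h.psurj (0, c, 0, 0)
  have e1 := h.ck_conj hs (h.VR m1)
  rw [ps, p1, show b4 (0, c, 0, 0) (1, 0, 0, 0) = c by simp [b4], ← hc] at e1
  have act' : ∀ r ∈ R, ∃ c, s⁻¹ * g * r * (s⁻¹ * g)⁻¹ = r * f.x 0 0 c := fun r hr => by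
    obtain ⟨c, q⟩ := act r hr
    refine ⟨b4 (p s⁻¹) (p r) + c, ?_⟩
    rw [show s⁻¹ * g * r * (s⁻¹ * g)⁻¹ = s⁻¹ * (g * r * g⁻¹) * s⁻¹⁻¹ by group, q, ← conj_mul,
      h.ck_conj (inv_mem hs) hr, (h.ck_z (inv_mem hs) c).eq, mul_inv_cancel_right, mul_assoc, fm.bas_zadd]
  have hz' : ∀ c, Commute (s⁻¹ * g) (f.x 0 0 c) := fun c => (h.ck_z hs c).inv_left.mul_left (hz c)
  obtain ⟨-, nV⟩ := h.NV_of (g := s⁻¹ * g) (fm.Z_le1.trans fm.U1_le) (mem_normalizer_of_forall fun u hu => by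
      obtain ⟨v, hv, c, rfl⟩ := h.mem_E.1 hu
      obtain ⟨c', q⟩ := act' v (h.VR hv)
      rw [← conj_mul, q, (hz' c).eq, mul_inv_cancel_right, mul_assoc, fm.bas_zadd]
      exact h.mem_E.2 ⟨v, hv, _, rfl⟩) m1 (fun q => by
      have := h.pU 0 0 0
      rw [fm.x_zero, ← q, p1] at this
      simp at this) (by
      rw [show s⁻¹ * g * v1 * (s⁻¹ * g)⁻¹ = s⁻¹ * (g * v1 * g⁻¹) * s by group, ← e1]
      simpa [mul_assoc] using m1)
  obtain ⟨v, hv, o, ho, a, b, d, q⟩ := h.cenV (g := s⁻¹ * g) (fun v hv => by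
      obtain ⟨c', q⟩ := act' v (h.VR hv)
      have m := mul_mem (inv_mem hv) (conj_mem_of_mem_normalizer nV hv)
      rw [q, inv_mul_cancel_left] at m
      rw [(fm.inj _ _ _ (h.sylV.le m)).2.2, fm.x_zero, mul_one] at q
      exact mul_inv_eq_iff_eq_mul.1 q) fun a b c => by
      obtain ⟨c', q⟩ := act' _ (h.UR (fm.bas_xU a b c))
      exact ⟨_, by rw [q, fm.mul, add_zero, add_zero]⟩
  refine ⟨s * v * f.x a b d, mul_mem (mul_mem hs (h.VR hv)) (h.UR (fm.bas_xU _ _ _)), o, ho, ?_⟩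
  rw [inv_mul_eq_iff_eq_mul.1 q, mul_assoc v, (comm_KA (h.OK ho) (h.xA ..)).eq]
  group

theorem S0.ck_sq (h : S0 f V O g0) {g : G} (h1 : ∀ v ∈ V, Commute g v) (h2 : ∀ a b c, Commute g (f.x a b c)) :
    g * g ∈ O := by
  obtain ⟨v, hv, o, ho, c, rfl⟩ := h.cenVU h1 h2
  rw [(comm_KA (mul_mem (h.sylV.le hv) (h.OK ho)) (h.xA ..)).symm.mul_mul_mul_comm, h.toFm.bas_zz, mul_one,
    (h.OV o ho v hv).mul_mul_mul_comm, h.sqV v hv, one_mul]
  exact mul_mem ho ho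

theorem S1.NO (h : S1 f V O g0 R p μ) : normalizer (R : Set G) ≤ normalizer (O : Set G) := by
  refine fun g hg => mem_normalizer_of_forall fun o ho => ?_
  have c : ∀ r ∈ R, Commute (g * o * g⁻¹) r := fun r hr => by
    simpa [mul_assoc] using (h.RO _ (conj_mem_of_mem_normalizer' hg hr) o ho).symm.map (MulAut.conj g)
  have m := h.ck_sq (fun v hv => c v (h.VR hv)) fun a b d => c _ (h.UR (h.toFm.bas_xU a b d))
  obtain ⟨k, hk⟩ := h.oddO
  have e : o ^ (2 * k + 1) = 1 := hk ▸ congrArg Subtype.val (pow_card_eq_one' (x := (⟨o, ho⟩ : O)))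
  have : g * o * g⁻¹ = (g * o * g⁻¹ * (g * o * g⁻¹)) ^ (k + 1) := by
    rw [conj_mul, conj_pow, ← pow_two, ← pow_mul, show 2 * (k + 1) = 2 * k + 1 + 1 by ring, pow_succ, e, one_mul]
  rw [this]
  exact pow_mem m _

theorem S1.cK (h : S1 f V O g0 R p μ) {l : G} (lU : l ∈ normalizer (f.U : Set G))
    (lO : ∀ o ∈ O, Commute l o) (lV : ∀ v ∈ V, l * v * l⁻¹ ∈ R ∧ ∃ y, p (l * v * l⁻¹) = (0, y, 0, 0))
    {v k : G} (hv : v ∈ V) (h1 : v ≠ 1) (hk : k ∈ f.K) (e : Commute k v) :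
    ∃ w ∈ V, ∃ o ∈ O, k = w * o := by
  have fm := h.toFm
  have VK : V ≤ f.K := h.sylV.le
  refine h.cV k hk fun w hw => commutatorElement_eq_one_iff_commute.1 ?_
  have oK : ⁅k, w⁆ ∈ f.K := mul_mem (mul_mem (mul_mem hk (VK hw)) (inv_mem hk)) (inv_mem (VK hw))
  have os : ∀ g ∈ normalizer (EE f V : Set G), ⁅k, w⁆ ∈ cj g f.K := fun g hg => by
    obtain ⟨v', hv', c, q⟩ := h.mem_E.1 (conj_mem_of_mem_normalizer' hg (mem_sup_left hv))
    obtain ⟨c', q'⟩ := fm.mem_Z.1 (conj_mem_of_mem_normalizer (h.NE_Z hg) (fm.bas_xZ c))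
    have m : v * f.x 0 0 c' ∈ cj g f.K := by
      rw [mem_cj, ← q', show g⁻¹ * (v * (g * f.x 0 0 c * g⁻¹)) * g = g⁻¹ * v * g * f.x 0 0 c by group, q, mul_assoc,
        fm.bas_zz, mul_one]
      exact VK hv'
    have o2 : orderOf (v * f.x 0 0 c') = 2 := orderOf_eq_prime (by
      rw [(comm_KA (VK hv) (h.xA ..)).mul_pow, pow_two, pow_two, h.sqV v hv, fm.bas_zz, one_mul]) fun q => h1 (by
      have := eq_inv_of_mul_eq_one_right q
      rwa [(fm.inj 0 0 c' (by rw [this]; exact inv_mem (VK hv))).2.2, fm.x_zero, mul_one] at q)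
    have key : ∀ x ∈ f.K, Commute x v → ∃ k' ∈ cj g f.K, ∃ c, x = k' * (f.cj g).x 0 0 c := fun x hx cx => by
      have := (fm.cj g).cenU (g := x) (by
        rw [Fd.cj_A, ← cj_normalizer, h.norm]
        exact h.toSt0.mem_cj_H m o2 (cx.mul_right (comm_KA hx (h.xA ..)))) fun a b c =>
        comm_KA hx (fm.U_le (conj_mem_of_mem_normalizer (h.NE_U hg) (fm.bas_xU a b c)))
      rwa [Fd.cj_K] at this
    obtain ⟨k1, m1, c1, q1⟩ := key k hk e
    obtain ⟨k2, m2, c2, q2⟩ := key w (VK hw) (by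
      have := h.comm w (h.VR hw) v (h.VR hv)
      obtain ⟨x, hx⟩ := h.pV w hw
      obtain ⟨y, hy⟩ := h.pV v hv
      rwa [hx, hy, show b4 (x, 0, 0, 0) (y, 0, 0, 0) = 0 by simp [b4], fm.x_zero, mul_one] at this)
    have cA : ∀ k' ∈ cj g f.K, ∀ c, Commute k' ((f.cj g).x 0 0 c) := fun k' hk' c =>
      comm_KA (A := (f.cj g).A) ((f.cj_K g).ge hk') ((fm.cj g).xA ..)
    have : ⁅k, w⁆ = ⁅k1, k2⁆ := by
      have d1 := cA k1 m1 c2
      have d2 := cA k2 m2 c1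
      have d3 := (fm.cj g).bas_cz 0 0 c1 c2
      rw [q1, q2]
      generalize (f.cj g).x 0 0 c1 = z1 at *
      generalize (f.cj g).x 0 0 c2 = z2 at *
      rw [commutatorElement_def, commutatorElement_def]
      calc _ = k1 * (z1 * (k2 * z2) * z1⁻¹) * (k1⁻¹ * z2⁻¹) * k2⁻¹ := by group
        _ = _ := by
          rw [(d2.symm.mul_right d3).eq, mul_inv_cancel_right, d1.inv_inv.eq]; group
    rw [this]
    exact mul_mem (mul_mem (mul_mem m1 m2) (inv_mem m1)) (inv_mem m2)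
  have iv : w * ⁅k, w⁆ * w⁻¹ = ⁅k, w⁆⁻¹ := by
    rw [commutatorElement_inv, commutatorElement_def, commutatorElement_def,
      inv_eq_of_mul_eq_one_right (h.sqV w hw)]
    calc _ = w * k * w * k⁻¹ * (w * w) := by group
      _ = _ := by rw [h.sqV w hw, mul_one]
  generalize ⁅k, w⁆ = o at oK os iv
  have cP : ∀ r ∈ R, ∀ y, p r = (0, y, 0, 0) → Commute o r := fun r hr y py => by
    obtain ⟨s, hs, ps⟩ := h.psurj (0, (ω + 1) * y, 0, 0)
    have s2 := h.sq s hs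
    have m := conj_mem_of_mem_normalizer h.h_NR hs
    obtain ⟨c, rfl⟩ := h.ck_same (mul_mem hs m) hr (by
      rw [h.pmul s hs _ m, h.ph s hs, ps, py]
      simp only [Prod.mk_add_mk, mul_zero, add_zero, Prod.mk.injEq, true_and, and_true]
      exact (by decide : ∀ y : GF4, (ω + 1) * y + (ω + 1) * ((ω + 1) * y) = y) y)
    have c1 : Commute o (s * f.h * s⁻¹) := by
      simpa [mul_assoc] using (comm_KA (mem_cj.1 (os s (h.R_NE hs))) h.hA).map (MulAut.conj s)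
    rw [show s * (f.h * s * f.h⁻¹) = s * f.h * s⁻¹ * (s * s) * f.h⁻¹ by group, s2]
    exact ((c1.mul_right (comm_KA oK (h.xA ..))).mul_right (comm_KA oK h.hA).inv_right).mul_right
      (comm_KA oK (h.xA ..))
  have m := h.ck_sq (g := l⁻¹ * o * l) (fun u hu => by
      obtain ⟨m, y, py⟩ := lV u hu
      simpa [mul_assoc] using (cP _ m y py).map (MulAut.conj l⁻¹)) fun a b c => by
      simpa [mul_assoc] using
        (comm_KA oK (fm.U_le (conj_mem_of_mem_normalizer lU (fm.bas_xU a b c)))).map (MulAut.conj l⁻¹)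
  have m2 : o * o ∈ O := by
    have := (lO _ m).eq
    rw [show l * (l⁻¹ * o * l * (l⁻¹ * o * l)) = o * o * l by group, mul_left_inj] at this
    exact this ▸ m
  refine eq_one_of_two h.ti h.gH oK (os g0 h.gE) (j := 2) ?_
  have q : o * o = o⁻¹ * o⁻¹ := by rw [← iv, conj_mul, ← (h.OV _ m2 w hw).eq, mul_inv_cancel_right]
  calc o ^ 2 ^ 2 = o * o * (o * o) := by rw [show 2 ^ 2 = 2 * 2 by norm_num, pow_mul, pow_two, pow_two]
    _ = o * o * (o⁻¹ * o⁻¹) := by rw [← q]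
    _ = 1 := by group

end CfsgLib.SzC
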