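import Cfsg.Agent.Lib.SzC.CVB

/-! Package CVA: the structure of `U` (plans/SZC2.md) -/

set_option autoImplicit false
set_option linter.unusedSectionVars false

namespace CfsgLib.SzC

open Subgroup Cfsg CfsgLib.Tech CfsgLib.StdR2 CfsgLib.Classical CfsgLib.ExtraTwo
open scoped commutatorElement

variable {G : Type*} [Group G] [Finite G] {d : Cd G} {z ψ χ : GF4 → G}

theorem cva_two : ∀ a : GF4, a + a = 0 := by decide

theorem cva_bl {u v x : G} (h1 : Commute ⁅v, x⁆ u) (h2 : Commute ⁅v, x⁆ ⁅u, x⁆) :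
    ⁅u * v, x⁆ = ⁅u, x⁆ * ⁅v, x⁆ :=
  calc ⁅u * v, x⁆ = u * ⁅v, x⁆ * u⁻¹ * ⁅u, x⁆ := by group
    _ = _ := by rw [← h1.eq, mul_inv_cancel_right, h2.eq]

theorem cva_br {u x y : G} (h1 : Commute ⁅u, y⁆ x) : ⁅u, x * y⁆ = ⁅u, x⁆ * ⁅u, y⁆ :=
  calc ⁅u, x * y⁆ = ⁅u, x⁆ * (x * ⁅u, y⁆ * x⁻¹) := by group
    _ = _ := by rw [← h1.eq, mul_inv_cancel_right]

theorem cva_inv {X : Type*} (F : GF4 → GF4 → X) (hF : ∀ a e, F (ω * a) ((ω + 1) * e) = F a e)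
    (h0 : ∀ a, F a 0 = F 0 1) (a e : GF4) : F a e = F (a * e) 1 := by
  have : e = 0 ∨ e = 1 ∨ e = ω ∨ e = ω + 1 := by revert e; decide
  rcases this with rfl | rfl | rfl | rfl
  · rw [h0, mul_zero]
  · rw [mul_one]
  · rw [← hF, mul_comm ω, show (ω + 1) * ω = 1 by decide]
  · rw [← hF (a * (ω + 1)) 1, mul_one, show ω * (a * (ω + 1)) = a by revert a; decide]

theorem cva_inv2 {X : Type*} (F : GF4 → GF4 → X) (hF : ∀ a b, F (ω * a) (ω * b) = F a b)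
    (h0 : ∀ a, F a 0 = F 0 1) (a b : GF4) : F a b = F (a * b * b) 1 := by
  have : b = 0 ∨ b = 1 ∨ b = ω ∨ b = ω + 1 := by revert b; decide
  rcases this with rfl | rfl | rfl | rfl
  · rw [h0, mul_zero]
  · rw [mul_one, mul_one]
  · rw [← hF (a * ω * ω) 1, mul_one, show ω * (a * ω * ω) = a by revert a; decide]
  · rw [← hF, show ω * (ω + 1) = 1 by decide, show a * (ω + 1) * (ω + 1) = ω * a by revert a; decide]

theorem cva_zero {φ : GF4 → G} (h : ∀ c c', φ (c + c') = φ c * φ c') : φ 0 = 1 := by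
  have := h 0 0
  rw [add_zero] at this
  exact mul_eq_left.1 this.symm

theorem cva_sq {φ : GF4 → G} (h : ∀ c c', φ (c + c') = φ c * φ c') (c : GF4) : φ c * φ c = 1 := by
  rw [← h, cva_two, cva_zero h]

namespace Cv

variable (h : Cv d) {u v ζ ξ : G} {a b c a' b' c' e e' : GF4}
include h

theorem cva_K (hu : u ∈ d.U) (hζ : d.Co ζ 0 0 e) : ⁅u, ζ⁆ ∈ d.K := by
  obtain ⟨a, b, c, hu⟩ := (h.memU u).1 hu
  exact (h.ker _ _ _ _ (h.Co_comm hu hζ)).2 ⟨rfl, rfl, by simp⟩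

theorem cva_U (hu : u ∈ d.U) (hv : v ∈ d.U) : ⁅u, v⁆ ∈ d.U :=
  mul_mem (mul_mem (mul_mem hu hv) (inv_mem hu)) (inv_mem hv)

theorem cva_left (hu : u ∈ d.U) (hv : v ∈ d.U) (hζ : d.Co ζ 0 0 e) : ⁅u * v, ζ⁆ = ⁅u, ζ⁆ * ⁅v, ζ⁆ :=
  cva_bl (comm_KA (h.cva_K hv hζ) (h.U_le hu))
    (comm_KA (h.cva_K hv hζ) (h.U_le (h.cva_U hu (h.Co_mem hζ))))

/-- `Z` is abelian -/
theorem commZ (h1 : d.Co ξ 0 0 c) (h2 : d.Co ζ 0 0 e) : Commute ξ ζ := by
  obtain ⟨u, hu⟩ := h.surj c 0 0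
  obtain ⟨v, hv⟩ := h.surj 0 1 0
  have h3 := h.Co_comm hu hv
  rw [mul_one, mul_zero, add_zero] at h3
  obtain ⟨w, hw, hK, rfl⟩ := h.eq_mod h1 h3
  refine Commute.mul_left ?_ (comm_KA hK (h.Co_A h2))
  have hu := h.Co_mem hu
  have hv := h.Co_mem hv
  have e1 := h.cva_left (h.Co_mem h3) (mul_mem hv hu) h2
  rw [show ⁅u, v⁆ * (v * u) = u * v by group, h.cva_left hu hv h2, h.cva_left hv hu h2,
    (comm_KA (h.cva_K hv h2) (h.U_le (h.cva_U hu (h.Co_mem h2)))).eq] at e1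
  exact commutatorElement_eq_one_iff_commute.1 (mul_eq_right.1 e1.symm)

theorem cva_quot (hu : d.Co u a b c) (hv : d.Co v a b c') : ∃ e, d.Co (v⁻¹ * u) 0 0 e := by
  have h1 := h.mul _ _ _ _ _ _ _ _ (h.Co_inv hv) hu
  rw [cva_two, cva_two] at h1
  exact ⟨_, h1⟩

theorem cva_congr (hu : d.Co u a b c) (hv : d.Co v a b c') (hζ : d.Co ζ 0 0 e) (hξ : d.Co ξ 0 0 e) :
    ⁅u, ζ⁆ = ⁅v, ξ⁆ := by
  obtain ⟨_, h1⟩ := h.cva_quot hu hv
  rw [show u = v * (v⁻¹ * u) by group, h.cva_left (h.Co_mem hv) (h.Co_mem h1) hζ,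
    commutatorElement_eq_one_iff_commute.2 (h.commZ h1 hζ), mul_one]
  obtain ⟨w, hw, hK, rfl⟩ := h.eq_mod hζ hξ
  have := commutatorElement_eq_one_iff_commute.2 (comm_KA hK (h.Co_A hv)).symm
  rw [cva_br (by rw [this]; exact Commute.one_left _), this, mul_one]

theorem cva_h (hζ : d.Co ζ 0 0 e) : d.Co ⁅ζ, d.h⁆ 0 0 (ω * e) := by
  have := h.mul _ _ _ _ _ _ _ _ hζ (h.hx _ _ _ _ (h.Co_inv hζ))
  convert this using 1
  · group
  · decide
  · decide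
  · generalize e = x; revert x; decide

end Cv

theorem Cv.exists_al (h : Cv d) : ∃ z ψ, Al d z ψ := by
  choose s hs using h.surj
  have sU := fun a b c => h.Co_mem (hs a b c)
  obtain ⟨β, hβ⟩ : ∃ β : GF4 → GF4 → GF4 → G, ∀ a b e, β a b e = ⁅s a b 0, s 0 0 e⁆ := ⟨_, fun _ _ _ => rfl⟩
  have b1 : ∀ {u a b c ζ e}, d.Co u a b c → d.Co ζ 0 0 e → ⁅u, ζ⁆ = β a b e := fun hu hζ =>
    hβ .. ▸ h.cva_congr hu (hs ..) hζ (hs ..)
  have bK : ∀ a b e, β a b e ∈ d.K := fun a b e => hβ .. ▸ h.cva_K (sU ..) (hs ..)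
  have bU : ∀ a b e, β a b e ∈ d.U := fun a b e => hβ .. ▸ h.cva_U (sU ..) (sU ..)
  have badd : ∀ a b a' b' e, β (a + a') (b + b') e = β a b e * β a' b' e := fun a b a' b' e => by
    rw [← b1 (h.mul _ _ _ _ _ _ _ _ (hs a b 0) (hs a' b' 0)) (hs 0 0 e), h.cva_left (sU ..) (sU ..) (hs ..),
      hβ, hβ]
  have b0 : ∀ a b, β a b 0 = 1 := fun a b => by rw [← b1 (hs a b 0) h.Co_one]; simp
  have b00 : ∀ e, β 0 0 e = 1 := fun e => by rw [← b1 h.Co_one (hs 0 0 e)]; simp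
  have bsq : ∀ a b e, β a b e * β a b e = 1 := fun a b e => by rw [← badd, cva_two, cva_two, b00]
  have bh : ∀ a b e, β (ω * a) (ω * b) ((ω + 1) * e) = β a b e := fun a b e => by
    have h2 := h.hx _ _ _ _ (hs 0 0 e)
    rw [mul_zero] at h2
    rw [← b1 (h.hx _ _ _ _ (hs a b 0)) h2, ← conjugate_commutatorElement, ← hβ, ← (comm_KA (bK a b e) h.hA).eq,
      mul_inv_cancel_right]
  have p1 : ∀ a e, β a 0 e = β (a * e) 0 1 :=
    cva_inv (fun a e => β a 0 e) (fun a e => by simpa using bh a 0 e) fun a => by rw [b0, b00]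
  have p2 : ∀ b e, β 0 b e = β 0 (b * e) 1 :=
    cva_inv (fun b e => β 0 b e) (fun b e => by simpa using bh 0 b e) fun a => by rw [b0, b00]
  have q1 : ∀ u a c v b e, d.Co u a 0 c → d.Co v 0 b e → ⁅u, v⁆ * ⁅u, v⁆ = β (a * a * b) 0 1 := by
    intro u a c v b e hu hv
    have e1 := commutatorElement_eq_one_iff_commute.2
      (comm_KA ((h.ker _ _ _ _ (h.Co_sq hu)).2 ⟨rfl, rfl, mul_zero a⟩) (h.Co_A hv))
    rw [show ⁅u * u, v⁆ = ⁅u, ⁅u, v⁆⁆ * (⁅u, v⁆ * ⁅u, v⁆) by group, b1 hu (h.Co_comm hu hv), p1] at e1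
    rw [← inv_eq_of_mul_eq_one_right e1, inv_eq_of_mul_eq_one_right (bsq ..)]
    congr 1; ring
  have q2 : ∀ u a c v b e, d.Co u a 0 c → d.Co v 0 b e → ⁅u, v⁆ * ⁅u, v⁆ = β 0 (a * b * b) 1 := by
    intro u a c v b e hu hv
    have e1 := commutatorElement_eq_one_iff_commute.2
      (comm_KA ((h.ker _ _ _ _ (h.Co_sq hv)).2 ⟨rfl, rfl, zero_mul b⟩) (h.Co_A hu)).symm
    rw [show ⁅u, v * v⁆ = ⁅u, v⁆ * ⁅v, ⁅u, v⁆⁆ * ⁅u, v⁆ by group, b1 hv (h.Co_comm hu hv), p2,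
      ← (comm_KA (bK _ _ _) (h.Co_A (h.Co_comm hu hv))).eq, mul_assoc] at e1
    rw [← inv_eq_of_mul_eq_one_right e1, inv_eq_of_mul_eq_one_right (bsq ..)]
    congr 1; ring
  have p3 : ∀ y, β 0 y 1 = β (y * y) 0 1 := fun y => by
    simpa using (q2 _ _ _ _ _ _ (hs y 0 0) (hs 0 1 0)).symm.trans (q1 _ _ _ _ _ _ (hs y 0 0) (hs 0 1 0))
  obtain ⟨z, hz⟩ : ∃ z : GF4 → G, ∀ c, z c = ⁅s 0 0 ((ω + 1) * c), d.h⁆ := ⟨_, fun _ => rfl⟩
  have w1 : ∀ c : GF4, ω * ((ω + 1) * c) = c := by decide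
  have zc : ∀ {ζ c}, d.Co ζ 0 0 ((ω + 1) * c) → ⁅ζ, d.h⁆ = z c := fun {ζ c} hζ => by
    obtain ⟨w, -, hK, rfl⟩ := h.eq_mod hζ (hs ..)
    have := commutatorElement_eq_one_iff_commute.2 (comm_KA hK h.hA)
    rw [cva_bl (by rw [this]; exact Commute.one_left _) (by rw [this]; exact Commute.one_left _), this, mul_one, hz]
  have zCo : ∀ c, d.Co (z c) 0 0 c := fun c => by
    have := h.cva_h (hs 0 0 ((ω + 1) * c))
    rwa [w1, ← hz] at this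
  have zadd : ∀ c c', z (c + c') = z c * z c' := fun c c' => by
    have := h.mul _ _ _ _ _ _ _ _ (hs 0 0 ((ω + 1) * c)) (hs 0 0 ((ω + 1) * c'))
    rw [add_zero, mul_zero, add_zero, ← mul_add] at this
    rw [← zc this, cva_bl (h.commZ (h.cva_h (hs ..)) (hs ..)) (h.commZ (h.cva_h (hs ..)) (h.cva_h (hs ..))), hz, hz]
  refine ⟨z, fun y => β y 0 1, h, zCo, zadd, fun c => ?_, fun y => bU .., fun y => bK _ _ _, fun y y' => ?_,
    fun u a b c ζ e hu hζ => ?_, q1, fun y => ?_, fun a => ⟨_, h.nx _ _ _ (zCo a), ?_⟩,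
    fun b => ⟨_, h.mx _ _ _ (zCo b), ?_⟩⟩
  · have := h.hx _ _ _ _ (hs 0 0 ((ω + 1) * c))
    rw [mul_zero] at this
    rw [← zc this, hz, conjugate_commutatorElement, mul_inv_cancel_right]
  · simpa using badd y 0 y' 0 1
  · rw [show u * ζ * u⁻¹ = ⁅u, ζ⁆ * ζ by group, b1 hu hζ, (comm_KA (bK _ _ _) (h.Co_A hζ)).eq]
    have e1 := badd a 0 0 b e
    have e2 := badd (a * e) 0 (b * b * e * e) 0 1
    rw [add_zero, zero_add, p1, p2, p3] at e1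
    rw [add_zero] at e2
    rw [e1, e2]; congr 3; ring
  · have h3 := h.Co_comm (hs 1 0 0) (hs 0 y 0)
    rw [one_mul, mul_zero, add_zero] at h3
    obtain ⟨w, hw, hK, e1⟩ := h.eq_mod h3 (zCo y)
    refine ⟨w, hw, hK, ?_⟩
    have := q1 _ _ _ _ _ _ (hs 1 0 0) (hs 0 y 0)
    rwa [e1, (comm_KA hK (h.Co_A (zCo y))).mul_mul_mul_comm, cva_sq zadd, one_mul, one_mul, one_mul] at this
  · rw [conj_mul, cva_sq zadd]; simp
  · rw [conj_mul, cva_sq zadd]; simp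

theorem Al.z_sq (h : Al d z ψ) (c : GF4) : z c * z c = 1 := cva_sq h.zadd c

theorem Al.ψ_sq (h : Al d z ψ) (y : GF4) : ψ y * ψ y = 1 := cva_sq h.ψadd y

theorem Al.sw (h : Al d z ψ) : Al d.sw z fun y => ψ (y * y) where
  toCv := h.toCv.sw
  zCo := fun c => (d.sw_Co1 ..).2 (h.zCo c)
  zadd := h.zadd
  hz := h.hz
  ψU := fun _ => h.ψU _
  ψK := fun _ => h.ψK _
  ψadd := fun y y' => by rw [← h.ψadd]; congr 1; revert y y'; decide
  act := fun u a b c ζ e hu hζ => by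
    rw [h.act u b a _ ζ e hu ((d.sw_Co1 ..).1 hζ)]
    congr 2; clear hu hζ; revert a b e; decide
  sqc := fun u a c v b e hu hv => by
    have := h.sqc v b e u a c ((d.sw_Co2 ..).1 hv) ((d.sw_Co1 ..).1 hu)
    rw [← commutatorElement_inv, ← mul_inv_rev, this, inv_eq_of_mul_eq_one_right (h.ψ_sq _)]
    congr 1; clear this hu hv; revert a b; decide
  root := fun y => h.root _
  lift1 := fun a => by simpa using h.lift2 a
  lift2 := fun a => by simpa using h.lift1 a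

theorem Al.cj (h : Al d z ψ) (g : G) : Al (d.cj g) (fun c => g * z c * g⁻¹) fun y => g * ψ y * g⁻¹ where
  toCv := h.toCv.cj g
  zCo := fun c => (d.cj_Co' ..).2 (h.zCo c)
  zadd := fun c c' => by rw [h.zadd, conj_mul]
  hz := fun c => by
    rw [← h.hz, show (d.cj g).h = g * d.h * g⁻¹ from rfl]; group
  ψU := fun _ => conj_mem_cj.2 (h.ψU _)
  ψK := fun _ => d.cj_K g ▸ conj_mem_cj.2 (h.ψK _)
  ψadd := fun y y' => by rw [h.ψadd, conj_mul]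
  act := fun u a b c ζ e hu hζ => by
    have := h.act _ a b c _ e ((d.cj_Co ..).1 hu) ((d.cj_Co ..).1 hζ)
    rw [← inv_mul_eq_iff_eq_mul.2 this]; group
  sqc := fun u a c v b e hu hv => by
    rw [← h.sqc _ a c _ b e ((d.cj_Co ..).1 hu) ((d.cj_Co ..).1 hv)]; group
  root := fun y => by
    obtain ⟨w, h1, h2, h3⟩ := h.root y
    exact ⟨_, conj_mem_cj.2 h1, d.cj_K g ▸ conj_mem_cj.2 h2, by rw [conj_mul, h3]⟩
  lift1 := fun a => by
    obtain ⟨u, h1, h2⟩ := h.lift1 a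
    exact ⟨_, (d.cj_Co' g ..).2 h1, by rw [conj_mul, h2]; simp⟩
  lift2 := fun a => by
    obtain ⟨u, h1, h2⟩ := h.lift2 a
    exact ⟨_, (d.cj_Co' g ..).2 h1, by rw [conj_mul, h2]; simp⟩

theorem Al.ψ_zero (h : Al d z ψ) : ψ 0 = 1 := cva_zero h.ψadd

theorem Al.commZ (h : Al d z ψ) {ζ ξ : G} {c e : GF4} (h1 : d.Co ζ 0 0 c) (h2 : d.Co ξ 0 0 e) :
    Commute ζ ξ := h.toCv.commZ h1 h2

/-- the action of a graph automorphism on the values of `ψ` -/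
theorem Al.ψ_T1 (h : Al d z ψ) {g : G} {l : GF4}
    (h1 : ∀ u a b c, d.Co u a b c → ∃ c', d.Co (g * u * g⁻¹) (l * l * b) (l * a) c')
    (h2 : ∀ u c, d.Co u 0 0 c → d.Co (g * u * g⁻¹) 0 0 c) (y : GF4) :
    g * ψ y * g⁻¹ = ψ (l * l * y * y) := by
  obtain ⟨u, hu⟩ := h.surj y 0 0
  obtain ⟨c', hu'⟩ := h1 _ _ _ _ hu
  have e1 := h.act _ _ _ _ _ _ hu (h.zCo 1)
  have e2 := h.act _ _ _ _ _ _ hu' (h2 _ _ (h.zCo 1))
  rw [show y * 1 + 0 * 0 * 1 * 1 = y by ring] at e1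
  rw [show l * l * 0 * 1 + l * y * (l * y) * 1 * 1 = l * l * y * y by ring] at e2
  rw [← inv_mul_eq_iff_eq_mul.2 e1, ← inv_mul_eq_iff_eq_mul.2 e2]; group

/-- the action of a field automorphism on the values of `ψ` -/
theorem Al.ψ_T2 (h : Al d z ψ) {g : G} {α β : GF4}
    (h1 : ∀ u a b c, d.Co u a b c → ∃ c', d.Co (g * u * g⁻¹) (α * a * a) (β * b * b) c')
    (h2 : ∀ u c, d.Co u 0 0 c → d.Co (g * u * g⁻¹) 0 0 (α * β * c * c)) (y : GF4) :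
    g * ψ y * g⁻¹ = ψ (α * α * β * y * y) := by
  obtain ⟨u, hu⟩ := h.surj y 0 0
  obtain ⟨c', hu'⟩ := h1 _ _ _ _ hu
  have e1 := h.act _ _ _ _ _ _ hu (h.zCo 1)
  have e2 := h.act _ _ _ _ _ _ hu' (h2 _ _ (h.zCo 1))
  rw [show y * 1 + 0 * 0 * 1 * 1 = y by ring] at e1
  rw [show α * y * y * (α * β * 1 * 1) + β * 0 * 0 * (β * 0 * 0) * (α * β * 1 * 1) * (α * β * 1 * 1) =
    α * α * β * y * y by ring] at e2
  rw [← inv_mul_eq_iff_eq_mul.2 e1, ← inv_mul_eq_iff_eq_mul.2 e2]; group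

theorem Al.exists_el (h : Al d z ψ) (h1 : ∀ y, ψ y = 1) : ∃ χ, El d z χ := by
  have k := h.toCv
  have cen : ∀ u ∈ d.U, ∀ ζ e, d.Co ζ 0 0 e → Commute u ζ := fun u hu ζ e hζ => by
    obtain ⟨a, b, c, hu⟩ := (h.memU u).1 hu
    have := h.act _ _ _ _ _ _ hu hζ
    rw [h1, mul_one] at this
    exact mul_inv_eq_iff_eq_mul.1 this
  have hc : ∀ {u v x}, u ∈ d.U → v ∈ d.U → x ∈ d.U → Commute ⁅u, v⁆ x := fun {u v x} hu hv hx => by
    obtain ⟨a, b, c, hu⟩ := (h.memU u).1 hu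
    obtain ⟨a', b', c', hv⟩ := (h.memU v).1 hv
    exact (cen x hx _ _ (k.Co_comm hu hv)).symm
  have bl : ∀ {u v x}, u ∈ d.U → v ∈ d.U → x ∈ d.U → ⁅u * v, x⁆ = ⁅u, x⁆ * ⁅v, x⁆ := fun hu hv hx =>
    cva_bl (hc hv hx hu) (hc hv hx (k.cva_U hu hx))
  have br : ∀ {u x y}, u ∈ d.U → x ∈ d.U → y ∈ d.U → ⁅u, x * y⁆ = ⁅u, x⁆ * ⁅u, y⁆ := fun hu hx hy =>
    cva_br (hc hu hy hx)
  have cg : ∀ {u u' v v' a b c c' a' b' e e'}, d.Co u a b c → d.Co u' a b c' → d.Co v a' b' e →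
      d.Co v' a' b' e' → ⁅u, v⁆ = ⁅u', v'⁆ := fun {u u' v v' a b c c' a' b' e e'} hu hu' hv hv' => by
    obtain ⟨_, h2⟩ := k.cva_quot hu hu'
    obtain ⟨_, h3⟩ := k.cva_quot hv hv'
    rw [show u = u' * (u'⁻¹ * u) by group, bl (k.Co_mem hu') (k.Co_mem h2) (k.Co_mem hv),
      commutatorElement_eq_one_iff_commute.2 (cen _ (k.Co_mem hv) _ _ h2).symm, mul_one,
      show v = v' * (v'⁻¹ * v) by group, br (k.Co_mem hu') (k.Co_mem hv') (k.Co_mem h3),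
      commutatorElement_eq_one_iff_commute.2 (cen _ (k.Co_mem hu') _ _ h3), mul_one]
  have ab1 : ∀ {u v a c a' c'}, d.Co u a 0 c → d.Co v a' 0 c' → ⁅u, v⁆ = 1 := fun hu hv => by
    rw [cg hu (h.nx _ _ _ (h.zCo _)) hv (h.nx _ _ _ (h.zCo _)), ← conjugate_commutatorElement,
      commutatorElement_eq_one_iff_commute.2 (h.commZ (h.zCo _) (h.zCo _))]; simp
  have ab2 : ∀ {u v b c b' c'}, d.Co u 0 b c → d.Co v 0 b' c' → ⁅u, v⁆ = 1 := fun hu hv => by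
    rw [cg hu (h.mx _ _ _ (h.zCo _)) hv (h.mx _ _ _ (h.zCo _)), ← conjugate_commutatorElement,
      commutatorElement_eq_one_iff_commute.2 (h.commZ (h.zCo _) (h.zCo _))]; simp
  choose s hs using h.surj
  have sU := fun a b c => k.Co_mem (hs a b c)
  obtain ⟨C, hC⟩ : ∃ C : GF4 → GF4 → G, ∀ a b, C a b = ⁅s a 0 0, s 0 b 0⁆ * z (a * b) := ⟨_, fun _ _ => rfl⟩
  have CU : ∀ a b, C a b ∈ d.U := fun a b => hC .. ▸ mul_mem (k.cva_U (sU ..) (sU ..)) (k.Co_mem (h.zCo _))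
  have CK : ∀ a b, C a b ∈ d.K := fun a b => hC .. ▸
    (h.ker _ _ _ _ (h.mul _ _ _ _ _ _ _ _ (k.Co_comm (hs a 0 0) (hs 0 b 0)) (h.zCo (a * b)))).2
      ⟨add_zero 0, add_zero 0, by simp [cva_two]⟩
  have Cadd : ∀ y y', C (y + y') 1 = C y 1 * C y' 1 := fun y y' => by
    have := h.mul _ _ _ _ _ _ _ _ (hs y 0 0) (hs y' 0 0)
    rw [add_zero] at this
    rw [hC, hC, hC, cg (hs ..) this (hs ..) (hs 0 1 0), bl (sU ..) (sU ..) (sU ..), add_mul, h.zadd,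
      (hc (sU ..) (sU ..) (k.Co_mem (h.zCo _))).mul_mul_mul_comm]
  have Ci := cva_inv2 C (fun a b => by
    have e1 := h.hx _ _ _ _ (hs a 0 0)
    have e2 := h.hx _ _ _ _ (hs 0 b 0)
    rw [mul_zero] at e1 e2
    rw [hC, cg (hs ..) e1 (hs ..) e2, ← conjugate_commutatorElement,
      show ω * a * (ω * b) = (ω + 1) * (a * b) by clear e1 e2; revert a b; decide, ← h.hz, conj_mul, ← hC,
      ← (comm_KA (CK a b) h.hA).eq, mul_inv_cancel_right]) fun a => by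
    rw [hC, hC, ab1 (hs ..) (hs ..), ab2 (hs ..) (hs ..), mul_zero, zero_mul]
  have comm : ∀ u a c v b e, d.Co u a 0 c → d.Co v 0 b e → ⁅u, v⁆ = z (a * b) * C (a * b * b) 1 :=
    fun u a c v b e hu hv => by
      rw [← Ci, ← (comm_KA (CK a b) (k.Co_A (h.zCo _))).eq, hC, mul_assoc, h.z_sq, mul_one,
        cg hu (hs a 0 0) hv (hs 0 b 0)]
  have mm : ∀ c y c' y', z c * C y 1 * (z c' * C y' 1) = z (c + c') * C (y + y') 1 := fun c y c' y' => by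
    rw [h.zadd, Cadd, (comm_KA (CK y 1) (k.Co_A (h.zCo _))).mul_mul_mul_comm]
  have C0 : C 0 1 = 1 := cva_zero (φ := fun y => C y 1) Cadd
  let M : Subgroup G :=
    { carrier := {x | ∃ c y, x = z c * C y 1}
      mul_mem' := by
        rintro _ _ ⟨c, y, rfl⟩ ⟨c', y', rfl⟩
        exact ⟨_, _, mm ..⟩
      one_mem' := ⟨0, 0, by rw [cva_zero h.zadd, C0, mul_one]⟩
      inv_mem' := by
        rintro _ ⟨c, y, rfl⟩
        exact ⟨c, y, inv_eq_of_mul_eq_one_right (by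
          rw [mm, cva_two, cva_two, cva_zero h.zadd, C0, mul_one])⟩ }
  have onto : ∀ w ∈ d.U, w ∈ d.K → ∃ y, w = C y 1 := fun w hw hK => by
    have : ⁅d.U, d.U⁆ ≤ M := commutator_le.2 fun u hu v hv => by
      obtain ⟨a, b, c, hu⟩ := (h.memU u).1 hu
      obtain ⟨a', b', c', hv⟩ := (h.memU v).1 hv
      obtain ⟨u1, u2, h2, h3, rfl⟩ := k.split hu
      obtain ⟨v1, v2, h4, h5, rfl⟩ := k.split hv
      rw [bl (k.Co_mem h2) (k.Co_mem h3) (k.Co_mem hv), br (k.Co_mem h2) (k.Co_mem h4) (k.Co_mem h5),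
        br (k.Co_mem h3) (k.Co_mem h4) (k.Co_mem h5), ab1 h2 h4, ab2 h3 h5, one_mul, mul_one,
        ← commutatorElement_inv v1]
      exact mul_mem ⟨_, _, comm _ _ _ _ _ _ h2 h5⟩ (inv_mem ⟨_, _, comm _ _ _ _ _ _ h4 h3⟩)
    obtain ⟨c, y, e⟩ := this (h.der w hw hK)
    have : c = 0 := ((h.ker _ _ _ _ (h.zCo c)).1 (by
      rw [eq_mul_inv_of_mul_eq e.symm]; exact mul_mem hK (inv_mem (CK _ _)))).2.2
    exact ⟨y, by rw [e, this, cva_zero h.zadd, one_mul]⟩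
  have sq : ∀ {u x a b c}, d.Co u a b c → d.Co x a b 0 → x * x = 1 → u * u = 1 := fun {u x a b c} hu hx x2 => by
    have := h.mul _ _ _ _ _ _ _ _ hx (h.zCo c)
    simp only [add_zero, zero_add, mul_zero] at this
    obtain ⟨w, hw, hK, rfl⟩ := k.eq_mod hu this
    obtain ⟨y, rfl⟩ := onto w hw hK
    rw [(comm_KA hK (k.Co_A this)).mul_mul_mul_comm, cva_sq (φ := fun y => C y 1) Cadd, mul_one,
      (cen _ (k.Co_mem hx) _ _ (h.zCo c)).symm.mul_mul_mul_comm, x2, h.z_sq, mul_one]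
  refine ⟨fun y => C y 1, k, h.zCo, h.zadd, h.hz, cen, fun u a c hu => ?_, fun u b c hu => ?_,
    fun _ => CU .., fun _ => CK _ _, Cadd, comm, onto⟩
  · obtain ⟨x, hx, x2⟩ := h.lift1 a
    exact sq hu hx x2
  · obtain ⟨x, hx, x2⟩ := h.lift2 b
    exact sq hu hx x2

theorem El.z_sq (h : El d z χ) (c : GF4) : z c * z c = 1 := cva_sq h.zadd c

theorem El.χ_sq (h : El d z χ) (y : GF4) : χ y * χ y = 1 := cva_sq h.χadd y

theorem El.z_zero (h : El d z χ) : z 0 = 1 := cva_zero h.zadd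

theorem El.χ_zero (h : El d z χ) : χ 0 = 1 := cva_zero h.χadd

theorem El.sw (h : El d z χ) : El d.sw z fun y => χ (y * y) where
  toCv := h.toCv.sw
  zCo := fun c => (d.sw_Co1 ..).2 (h.zCo c)
  zadd := h.zadd
  hz := h.hz
  cen := fun u hu ζ e hζ => h.cen u hu ζ e ((d.sw_Co1 ..).1 hζ)
  sq1 := fun u a c hu => h.sq2 u a c ((d.sw_Co1 ..).1 hu)
  sq2 := fun u a c hu => h.sq1 u a c ((d.sw_Co2 ..).1 hu)
  χU := fun _ => h.χU _
  χK := fun _ => h.χK _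
  χadd := fun y y' => by rw [← h.χadd]; congr 1; revert y y'; decide
  comm := fun u a c v b e hu hv => by
    have := h.comm v b e u a c ((d.sw_Co2 ..).1 hv) ((d.sw_Co1 ..).1 hu)
    rw [← commutatorElement_inv, this, mul_inv_rev, inv_eq_of_mul_eq_one_right (h.χ_sq _),
      inv_eq_of_mul_eq_one_right (h.z_sq _), (comm_KA (h.χK _) (h.toCv.Co_A (h.zCo _))).eq, mul_comm b]
    congr 2; clear this hu hv; revert a b; decide
  onto := fun w hw hK => by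
    obtain ⟨y, e⟩ := h.onto w hw hK
    exact ⟨y * y, by rw [e]; congr 1; clear e; revert y; decide⟩

theorem El.cj (h : El d z χ) (g : G) : El (d.cj g) (fun c => g * z c * g⁻¹) fun y => g * χ y * g⁻¹ where
  toCv := h.toCv.cj g
  zCo := fun c => (d.cj_Co' ..).2 (h.zCo c)
  zadd := fun c c' => by rw [h.zadd, conj_mul]
  hz := fun c => by
    rw [← h.hz, show (d.cj g).h = g * d.h * g⁻¹ from rfl]; group
  cen := fun u hu ζ e hζ => by
    simpa [mul_assoc] using (h.cen _ (mem_cj.1 hu) _ e ((d.cj_Co ..).1 hζ)).map (MulAut.conj g).toMonoidHom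
  sq1 := fun u a c hu => by
    simpa [mul_assoc] using congrArg (fun t => g * t * g⁻¹) (h.sq1 _ a c ((d.cj_Co ..).1 hu))
  sq2 := fun u a c hu => by
    simpa [mul_assoc] using congrArg (fun t => g * t * g⁻¹) (h.sq2 _ a c ((d.cj_Co ..).1 hu))
  χU := fun _ => conj_mem_cj.2 (h.χU _)
  χK := fun _ => d.cj_K g ▸ conj_mem_cj.2 (h.χK _)
  χadd := fun y y' => by rw [h.χadd, conj_mul]
  comm := fun u a c v b e hu hv => by
    rw [conj_mul, ← h.comm _ a c _ b e ((d.cj_Co ..).1 hu) ((d.cj_Co ..).1 hv)]; group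
  onto := fun w hw hK => by
    obtain ⟨y, e⟩ := h.onto _ (mem_cj.1 hw) (mem_cj.1 (d.cj_K g ▸ hK))
    exact ⟨y, by rw [← e]; group⟩

end CfsgLib.SzC
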