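import Cfsg.Agent.Lib.SzC.Defs2
import Cfsg.Agent.Lib.Alt4.R1

/-! Package CVB: computations with `Cv` (plans/SZC2.md) -/

set_option autoImplicit false
set_option linter.unusedSectionVars false

namespace CfsgLib.SzC

open Subgroup Cfsg CfsgLib.Tech CfsgLib.StdR2 CfsgLib.Classical CfsgLib.ExtraTwo
open scoped commutatorElement

variable {G : Type*} [Group G] [Finite G] {d : Cd G} {z ψ χ : GF4 → G}

namespace CVBx

theorem two : (2 : GF4) = 0 := by decide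

theorem tw_mul {a b : G} (c : Commute a b) (ha : Tw a) (hb : Tw b) : Tw (a * b) := by
  obtain ⟨i, hi⟩ := ha
  obtain ⟨j, hj⟩ := hb
  exact ⟨i + j, by rw [c.mul_pow, pow_add, pow_mul, hi, one_pow, mul_comm (2 ^ i), pow_mul, hj, one_pow, one_mul]⟩

theorem tw_inv {a : G} (ha : Tw a) : Tw a⁻¹ := ha.imp fun _ e => by rw [inv_pow, e, inv_one]

theorem tw_conj {a : G} (ha : Tw a) (g : G) : Tw (g * a * g⁻¹) := ha.imp fun _ e => by rw [conj_pow, e]; group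

theorem tw_pow {a : G} (ha : Tw a) (n : ℕ) : Tw (a ^ n) := ha.imp fun _ e => by
  rw [← pow_mul, mul_comm, pow_mul, e, one_pow]

theorem tw_zp {a : G} (ha : Tw a) : IsPGroup 2 (zpowers a) := ha.elim fun _ e => isPGroup_zpowers_of_pow e

variable {G' : Type*} [Group G'] [Finite G'] {j : G →* G'} (hj : Function.Injective j) {A : Subgroup G} {x : G}
include hj

theorem tw_map : Tw (j x) ↔ Tw x := exists_congr fun _ => by rw [← map_pow, map_eq_one_iff j hj]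

theorem K_map : j x ∈ Kc (A.map j) ↔ x ∈ Kc A :=
  ⟨fun h a ha => hj (by rw [map_mul, map_mul]; exact h _ ⟨a, ha, rfl⟩), by
    rintro h _ ⟨a, ha, rfl⟩
    rw [← map_mul, ← map_mul, h a ha]⟩

theorem N_map : j x ∈ normalizer ((A.map j : Subgroup G') : Set G') ↔ x ∈ normalizer (A : Set G) :=
  ⟨fun h => mem_normalizer_of_forall fun a ha => (mem_map_iff_mem hj).1 (by
    rw [map_mul, map_mul, map_inv]; exact conj_mem_of_mem_normalizer h ⟨a, ha, rfl⟩),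
    fun h => le_normalizer_map j ⟨x, h, rfl⟩⟩

theorem Co_map {d : Cd G} {a b c : GF4} : (d.map j).Co (j x) a b c ↔ d.Co x a b c :=
  ⟨fun ⟨_, h, e⟩ => hj e ▸ h, fun h => ⟨x, h, rfl⟩⟩

end CVBx

open CVBx

namespace Cv

variable (h : Cv d) {u v : G} {a b c a' b' c' : GF4}
include h

theorem Co_mem (hu : d.Co u a b c) : u ∈ d.U := (h.memU u).2 ⟨a, b, c, hu⟩

theorem U_le : d.U ≤ d.A := h.syl.le

theorem Co_A (hu : d.Co u a b c) : u ∈ d.A := h.U_le (h.Co_mem hu)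

theorem Co_unique (h1 : d.Co u a b c) (h2 : d.Co u a' b' c') : a = a' ∧ b = b' ∧ c = c' := by
  obtain ⟨x, y, w, k⟩ := (h.memU _).1 (inv_mem (h.Co_mem h1))
  obtain ⟨e1, e2, e3⟩ := (h.ker _ _ _ _ (h.mul _ _ _ _ _ _ _ _ h1 k)).1 (by simp)
  obtain ⟨f1, f2, f3⟩ := (h.ker _ _ _ _ (h.mul _ _ _ _ _ _ _ _ h2 k)).1 (by simp)
  obtain rfl : a = a' := by linear_combination e1 - f1
  exact ⟨rfl, by linear_combination e2 - f2, by linear_combination e3 - f3⟩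

theorem Co_K (h1 : u ∈ d.U) (h2 : u ∈ d.K) : d.Co u 0 0 0 := by
  obtain ⟨x, y, w, k⟩ := (h.memU _).1 h1
  obtain ⟨rfl, rfl, rfl⟩ := (h.ker _ _ _ _ k).1 h2
  exact k

theorem Co_one : d.Co 1 0 0 0 := h.Co_K (one_mem _) (one_mem _)

theorem Co_inv (hu : d.Co u a b c) : d.Co u⁻¹ a b (c + a * b) := by
  obtain ⟨x, y, w, k⟩ := (h.memU _).1 (inv_mem (h.Co_mem hu))
  obtain ⟨e1, e2, e3⟩ := (h.ker _ _ _ _ (h.mul _ _ _ _ _ _ _ _ hu k)).1 (by simp)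
  obtain rfl : x = a := by linear_combination e1 - a * two
  obtain rfl : y = b := by linear_combination e2 - b * two
  obtain rfl : w = c + x * y := by linear_combination e3 - (c + x * y) * two
  exact k

theorem Co_sq (hu : d.Co u a b c) : d.Co (u * u) 0 0 (a * b) := by
  convert h.mul _ _ _ _ _ _ _ _ hu hu using 1
  · linear_combination (-a) * two
  · linear_combination (-b) * two
  · linear_combination (-c) * two

theorem Co_conj (hu : d.Co u a b c) (hv : d.Co v a' b' c') :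
    d.Co (u * v * u⁻¹) a' b' (c' + a * b' + a' * b) := by
  convert h.mul _ _ _ _ _ _ _ _ (h.mul _ _ _ _ _ _ _ _ hu hv) (h.Co_inv hu) using 1
  · linear_combination (-a) * two
  · linear_combination (-b) * two
  · linear_combination (-c - a * b) * two

theorem Co_comm (hu : d.Co u a b c) (hv : d.Co v a' b' c') : d.Co ⁅u, v⁆ 0 0 (a * b' + a' * b) := by
  rw [commutatorElement_def]
  convert h.mul _ _ _ _ _ _ _ _ (h.Co_conj hu hv) (h.Co_inv hv) using 1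
  · linear_combination (-a') * two
  · linear_combination (-b') * two
  · linear_combination (-c' - a' * b') * two

theorem eq_mod (hu : d.Co u a b c) (hv : d.Co v a b c) : ∃ w ∈ d.U, w ∈ d.K ∧ u = v * w := by
  have := h.mul _ _ _ _ _ _ _ _ (h.Co_inv hv) hu
  exact ⟨_, h.Co_mem this, (h.ker _ _ _ _ this).2 ⟨by linear_combination a * two, by linear_combination b * two,
    by linear_combination (c + a * b) * two⟩, by group⟩

theorem split (hu : d.Co u a b c) : ∃ u1 u2, d.Co u1 a 0 0 ∧ d.Co u2 0 b (c + a * b) ∧ u = u1 * u2 := by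
  obtain ⟨u1, k⟩ := h.surj a 0 0
  refine ⟨u1, u1⁻¹ * u, k, ?_, by group⟩
  convert h.mul _ _ _ _ _ _ _ _ (h.Co_inv k) hu using 1
  · linear_combination (-a) * two
  · ring
  · ring

theorem mem_U1 : u ∈ d.U1 ↔ ∃ a c, d.Co u a 0 c := by
  refine ⟨fun hu => ?_, fun hu => subset_closure hu⟩
  induction hu using closure_induction with
  | mem _ hx => exact hx
  | one => exact ⟨0, 0, h.Co_one⟩
  | mul _ _ _ _ h1 h2 =>
    obtain ⟨a, c, k⟩ := h1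
    obtain ⟨a', c', k'⟩ := h2
    exact ⟨_, _, add_zero (0 : GF4) ▸ h.mul _ _ _ _ _ _ _ _ k k'⟩
  | inv _ _ h1 =>
    obtain ⟨a, c, k⟩ := h1
    exact ⟨_, _, h.Co_inv k⟩

theorem mem_U2 : u ∈ d.U2 ↔ ∃ b c, d.Co u 0 b c := by
  refine ⟨fun hu => ?_, fun hu => subset_closure hu⟩
  induction hu using closure_induction with
  | mem _ hx => exact hx
  | one => exact ⟨0, 0, h.Co_one⟩
  | mul _ _ _ _ h1 h2 =>
    obtain ⟨a, c, k⟩ := h1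
    obtain ⟨a', c', k'⟩ := h2
    exact ⟨_, _, add_zero (0 : GF4) ▸ h.mul _ _ _ _ _ _ _ _ k k'⟩
  | inv _ _ h1 =>
    obtain ⟨a, c, k⟩ := h1
    exact ⟨_, _, h.Co_inv k⟩

theorem mem_Z : u ∈ d.Z ↔ ∃ c, d.Co u 0 0 c := by
  refine ⟨fun hu => ?_, fun hu => subset_closure hu⟩
  induction hu using closure_induction with
  | mem _ hx => exact hx
  | one => exact ⟨0, h.Co_one⟩
  | mul _ _ _ _ h1 h2 =>
    obtain ⟨c, k⟩ := h1
    obtain ⟨c', k'⟩ := h2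
    exact ⟨_, add_zero (0 : GF4) ▸ h.mul _ _ _ _ _ _ _ _ k k'⟩
  | inv _ _ h1 =>
    obtain ⟨c, k⟩ := h1
    exact ⟨_, h.Co_inv k⟩

theorem U1_le : d.U1 ≤ d.U := fun _ hu => let ⟨_, _, k⟩ := h.mem_U1.1 hu; h.Co_mem k

theorem U2_le : d.U2 ≤ d.U := fun _ hu => let ⟨_, _, k⟩ := h.mem_U2.1 hu; h.Co_mem k

theorem Z_le1 : d.Z ≤ d.U1 := fun _ hu => let ⟨_, k⟩ := h.mem_Z.1 hu; h.mem_U1.2 ⟨_, _, k⟩

theorem Z_le2 : d.Z ≤ d.U2 := fun _ hu => let ⟨_, k⟩ := h.mem_Z.1 hu; h.mem_U2.2 ⟨_, _, k⟩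

theorem W_le : d.U ⊓ d.K ≤ d.Z := fun _ hu => h.mem_Z.2 ⟨0, h.Co_K hu.1 hu.2⟩

theorem U_eq : d.U1 ⊔ d.U2 = d.U := by
  refine le_antisymm (sup_le h.U1_le h.U2_le) fun u hu => ?_
  obtain ⟨a, b, c, k⟩ := (h.memU u).1 hu
  obtain ⟨u1, u2, k1, k2, rfl⟩ := h.split k
  exact mul_mem (mem_sup_left (h.mem_U1.2 ⟨_, _, k1⟩)) (mem_sup_right (h.mem_U2.2 ⟨_, _, k2⟩))

theorem card_of {ι : Type} (f : ι → GF4 × GF4 × GF4) (hf : Function.Injective f) {X : Subgroup G}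
    (hX : ∀ u, u ∈ X ↔ ∃ i, d.Co u (f i).1 (f i).2.1 (f i).2.2) :
    Nat.card X = Nat.card ι * Nat.card (d.U ⊓ d.K : Subgroup G) := by
  choose s hs using h.surj
  have k : ∀ (i : ι) (w : (d.U ⊓ d.K : Subgroup G)),
      d.Co (s (f i).1 (f i).2.1 (f i).2.2 * w) (f i).1 (f i).2.1 (f i).2.2 := fun i w => by
    simpa using h.mul _ _ _ _ _ _ _ _ (hs (f i).1 (f i).2.1 (f i).2.2) (h.Co_K w.2.1 w.2.2)
  rw [← Nat.card_prod, eq_comm]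
  refine Nat.card_eq_of_bijective (fun x => (⟨_, (hX _).2 ⟨x.1, k x.1 x.2⟩⟩ : X)) ⟨fun ⟨i, w⟩ ⟨i', w'⟩ e => ?_, fun u => ?_⟩
  · replace e : s (f i).1 (f i).2.1 (f i).2.2 * w = s (f i').1 (f i').2.1 (f i').2.2 * w' := congrArg Subtype.val e
    obtain ⟨e1, e2, e3⟩ := h.Co_unique (k i w) (e ▸ k i' w')
    obtain rfl : i = i' := hf (Prod.ext e1 (Prod.ext e2 e3))
    exact Prod.ext rfl (Subtype.ext (mul_left_cancel e))
  · obtain ⟨i, hi⟩ := (hX u).1 u.2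
    obtain ⟨w, h1, h2, e⟩ := h.eq_mod hi (hs _ _ _)
    exact ⟨(i, ⟨w, h1, h2⟩), Subtype.ext e.symm⟩

theorem cardU : Nat.card d.U = 64 * Nat.card (d.U ⊓ d.K : Subgroup G) := by
  rw [h.card_of (ι := GF4 × GF4 × GF4) id Function.injective_id fun u => (h.memU u).trans
    ⟨fun ⟨a, b, c, k⟩ => ⟨(a, b, c), k⟩, fun ⟨_, k⟩ => ⟨_, _, _, k⟩⟩]
  simp [card_GF4]

theorem cardU1 : Nat.card d.U1 = 16 * Nat.card (d.U ⊓ d.K : Subgroup G) := by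
  rw [h.card_of (ι := GF4 × GF4) (fun i => (i.1, 0, i.2)) (fun _ _ e => by simpa [Prod.ext_iff] using e)
    fun u => h.mem_U1.trans ⟨fun ⟨a, c, k⟩ => ⟨(a, c), k⟩, fun ⟨_, k⟩ => ⟨_, _, k⟩⟩]
  simp [card_GF4]

theorem cardU2 : Nat.card d.U2 = 16 * Nat.card (d.U ⊓ d.K : Subgroup G) := by
  rw [h.card_of (ι := GF4 × GF4) (fun i => (0, i.1, i.2)) (fun _ _ e => by simpa [Prod.ext_iff] using e)
    fun u => h.mem_U2.trans ⟨fun ⟨a, c, k⟩ => ⟨(a, c), k⟩, fun ⟨_, k⟩ => ⟨_, _, k⟩⟩]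
  simp [card_GF4]

theorem cardZ : Nat.card d.Z = 4 * Nat.card (d.U ⊓ d.K : Subgroup G) := by
  rw [h.card_of (ι := GF4) (fun i => (0, 0, i)) (fun _ _ e => by simpa [Prod.ext_iff] using e) fun u => h.mem_Z]
  simp [card_GF4]

theorem tw_U (hu : u ∈ d.U) : Tw u := isPGroup_iff_mem.1 h.syl.pgroup u hu

theorem two_mem {k : G} (h1 : k ∈ d.A) (h2 : k ∈ d.K) (h3 : Tw k) : k ∈ d.U := h.syl.le_of_normalizes (tw_zp h3) (zpowers_le.2 h1)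
  (zpowers_le.2 (centralizer_le_normalizer _ fun u hu => h2 u (h.U_le hu))) (mem_zpowers k)

/-- `W` lies in every Sylow 2-subgroup of `K` -/
theorem W_le_syl {R : Subgroup G} (hR : IsSylowIn 2 R d.K) : d.U ⊓ d.K ≤ R := hR.le_of_normalizes (h.syl.pgroup.to_le inf_le_left) inf_le_right
  fun w hw => centralizer_le_normalizer _ fun _ hr => (hR.le hr w (h.U_le hw.1)).symm

theorem mem_KA {g : G} : g ∈ d.K ⊔ d.A ↔ ∃ k ∈ d.K, ∃ a ∈ d.A, g = k * a := by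
  have hn : d.K ≤ normalizer (d.A : Set G) := centralizer_le_normalizer _
  rw [← SetLike.mem_coe, coe_mul_of_left_le_normalizer_right _ _ hn]
  exact ⟨fun ⟨k, hk, a, ha, e⟩ => ⟨k, hk, a, ha, e.symm⟩, fun ⟨k, hk, a, ha, e⟩ => ⟨k, hk, a, ha, e.symm⟩⟩

theorem cls2 {y : G} (h1 : y ∈ d.A) (h2 : y ∉ d.K) (h3 : y * y ∈ d.K) (h4 : Tw y) :
    ∃ g ∈ d.A, d.Co (g * y * g⁻¹) 0 0 1 := by
  obtain ⟨g, hg, k, hk, ζ, hζ, e⟩ := h.cls y h1 h2 h3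
  have c := comm_KA hk (h.Co_A hζ)
  have e' : k = g * y * g⁻¹ * ζ⁻¹ := by rw [e, mul_inv_cancel_right]
  have := h.mul _ _ _ _ _ _ _ _ (h.Co_K (h.two_mem (e' ▸ mul_mem (mul_mem (mul_mem hg h1) (inv_mem hg))
    (inv_mem (h.Co_A hζ))) hk (e' ▸ tw_mul (e ▸ (c.mul_left (Commute.refl ζ)).inv_right) (tw_conj h4 g)
      (tw_inv (h.tw_U (h.Co_mem hζ))))) hk) hζ
  exact ⟨g, hg, by simpa [e] using this⟩

theorem exists_k {t : G} (h1 : t ∈ d.K ⊔ d.A) (h2 : t ∉ d.K) (t2 : t * t = 1) :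
    ∃ g ∈ d.A, ∃ k ∈ d.K, ∃ ζ, d.Co ζ 0 0 1 ∧ g * t * g⁻¹ = k * ζ := by
  obtain ⟨k, hk, a, ha, rfl⟩ := h.mem_KA.1 h1
  have c := comm_KA hk ha
  rw [c.symm.mul_mul_mul_comm] at t2
  obtain ⟨g, hg, k', hk', ζ, hζ, e⟩ := h.cls a ha (fun e => h2 (mul_mem hk e)) (by
    rw [eq_inv_of_mul_eq_one_right t2]; exact inv_mem (mul_mem hk hk))
  exact ⟨g, hg, k * k', mul_mem hk hk', ζ, hζ, by rw [mul_assoc k, ← e, ← mul_assoc, ← (comm_KA hk hg).eq]; group⟩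

theorem exists_cj_norm {P : Subgroup G} (h1 : IsPGroup 2 P) (h2 : P ≤ normalizer (d.A : Set G)) :
    ∃ a ∈ d.A, Tech.cj a P ≤ normalizer (d.U : Set G) := StdR2.exists_cj_norm h.syl h1 h2

/-- an inner 2-element of `N(U)` -/
theorem inner_KU {g : G} (h1 : g ∈ d.K ⊔ d.A) (h2 : g ∈ normalizer (d.U : Set G)) (h3 : Tw g) :
    ∃ k ∈ d.K, ∃ u ∈ d.U, g = k * u := by
  obtain ⟨k, hk, a, ha, rfl⟩ := h.mem_KA.1 h1
  have c := comm_KA hk ha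
  obtain ⟨i, m, hm, e⟩ := Nat.exists_eq_two_pow_mul_odd (orderOf_pos a).ne'
  have aN : a ∈ normalizer (d.U : Set G) :=
    (mul_mem_cancel_left (centralizer_le_normalizer _ fun u hu => hk u (h.U_le hu))).1 h2
  have aU : a ^ m ∈ d.U := h.syl.le_of_normalizes (tw_zp ⟨i, by rw [← pow_mul, mul_comm, ← e, pow_orderOf_eq_one]⟩)
    (zpowers_le.2 (pow_mem ha m)) (zpowers_le.2 (pow_mem aN m)) (mem_zpowers _)
  obtain ⟨l, hl⟩ := h3
  obtain ⟨n, hn⟩ := exists_pow_eq_self_of_coprime (x := k * a) (n := m)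
    (((Nat.coprime_two_right.2 hm).pow_right l).coprime_dvd_right (orderOf_dvd_of_pow_eq_one hl))
  exact ⟨(k ^ m) ^ n, pow_mem (pow_mem hk m) n, (a ^ m) ^ n, pow_mem aU n, by
    rw [← (c.pow_pow m m).mul_pow, ← c.mul_pow, hn]⟩

theorem inner_of_fix {g : G} (h1 : g ∈ normalizer (d.A : Set G)) (h2 : g ∈ normalizer (d.U : Set G))
    (h3 : Tw g) (h4 : ∀ u a b c, d.Co u a b c → ∃ c', d.Co (g * u * g⁻¹) a b c') :
    ∃ k ∈ d.K, ∃ u ∈ d.U, g = k * u := by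
  obtain ⟨u, hu⟩ := h.surj 1 0 0
  obtain ⟨v, hv⟩ := h.surj ω 0 0
  obtain ⟨c, k⟩ := h4 _ _ _ _ hu
  obtain ⟨c', k'⟩ := h4 _ _ _ _ hv
  rcases h.types g h1 h2 h3 with e | ⟨l, -, e, -⟩ | ⟨α, β, -, -, e, -⟩ | ⟨l, -, e, -⟩
  · exact e
  · obtain ⟨_, e⟩ := e _ _ _ _ hu
    exact absurd (h.Co_unique k e).1 (by simp)
  · obtain ⟨_, e1⟩ := e _ _ _ _ hu
    obtain ⟨_, e2⟩ := e _ _ _ _ hv
    exact absurd (h.Co_unique k' e2).1 ((by decide : ∀ α : GF4, 1 = α * 1 * 1 → ω ≠ α * ω * ω) α (h.Co_unique k e1).1)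
  · obtain ⟨_, e⟩ := e _ _ _ _ hu
    exact absurd (h.Co_unique k e).1 (by simp)

theorem inner_or_T1 {g : G} (h1 : g ∈ normalizer (d.A : Set G)) (h3 : Tw g)
    (h4 : ∀ ζ c, d.Co ζ 0 0 c → ⁅g, ζ⁆ ∈ d.K) : (∃ k ∈ d.K, ∃ u ∈ d.U, g = k * u) ∨ d.T1 g := by
  obtain ⟨u, hu⟩ := h.surj 0 0 1
  obtain ⟨v, hv⟩ := h.surj 0 0 ω
  have key : ∀ l : GF4, ¬ ∀ u c, d.Co u 0 0 c → d.Co (g * u * g⁻¹) 0 0 (l * c * c) := fun l e =>
    (by decide : ∀ l : GF4, l * 1 * 1 + (1 + 0 * 0) + 0 * 0 = 0 → l * ω * ω + (ω + 0 * 0) + 0 * 0 ≠ 0) l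
      ((h.ker _ _ _ _ (h.mul _ _ _ _ _ _ _ _ (e _ _ hu) (h.Co_inv hu))).1 (h4 _ _ hu)).2.2
      ((h.ker _ _ _ _ (h.mul _ _ _ _ _ _ _ _ (e _ _ hv) (h.Co_inv hv))).1 (h4 _ _ hv)).2.2
  rcases h.types g h1 (h.NU g h1 u 1 one_ne_zero hu (h4 _ _ hu)) h3 with
    e | e | ⟨α, β, -, -, -, e⟩ | ⟨l, -, -, e⟩
  exacts [.inl e, .inr e, absurd e (key _), absurd e (key _)]

theorem sw : Cv d.sw := by
  have s : ∀ {u a b c}, d.Co u a b c → d.sw.Co u b a (c + b * a) := fun {u a b c} k => by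
    rw [Cd.sw_Co]; convert k using 1; linear_combination (b * a) * two
  refine ⟨fun u => (h.memU u).trans ⟨fun ⟨a, b, c, k⟩ => ⟨_, _, _, s k⟩, fun ⟨a, b, c, k⟩ => ⟨_, _, _, k⟩⟩,
    fun a b c => h.surj _ _ _, fun u a b c v a' b' c' k k' => ?_, fun u a b c k => (h.ker _ _ _ _ k).trans ?_,
    h.ne, h.syl, h.mA, h.nA, h.hA, by simpa using h.mx, by simpa using h.nx, fun u a b c k => ?_, h.mm, h.nn,
    by simp only [Cd.sw_Co2]; exact h.m3, by simp only [Cd.sw_Co1]; exact h.n3, h.der,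
    by simp only [Cd.sw_Co1]; exact h.cls, by simp only [Cd.sw_Co1]; exact h.NU,
    by simp only [Cd.sw_Co1]; exact h.cenU, h.sqi, fun g h1 h2 h3 => (h.types g h1 h2 h3).imp_right (Or.imp ?_ (Or.imp ?_ ?_))⟩
  · rw [Cd.sw_Co]
    convert h.mul _ _ _ _ _ _ _ _ k k' using 1
    linear_combination (a * b') * two
  · exact ⟨fun ⟨e1, e2, e3⟩ => ⟨e2, e1, by simpa [e1] using e3⟩, fun ⟨e1, e2, e3⟩ => ⟨e2, e1, by simp [e1, e3]⟩⟩
  · rw [Cd.sw_Co, Cd.sw_h]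
    convert h.hx _ _ _ _ k using 1
    linear_combination (a * b) * (by decide : ω * ω = ω + 1)
  · rintro ⟨l, l0, e, e'⟩
    refine ⟨l * l, mul_ne_zero l0 l0, fun u a b c k => ?_, by simpa using e'⟩
    obtain ⟨c', k'⟩ := e _ _ _ _ k
    rw [(by decide : ∀ l : GF4, l * l * (l * l) = l) l]
    exact ⟨_, s k'⟩
  · rintro ⟨α, β, h1, h2, e, e'⟩
    refine ⟨β, α, h2, h1, fun u a b c k => ?_, by simpa [mul_comm β α] using e'⟩
    obtain ⟨c', k'⟩ := e _ _ _ _ k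
    exact ⟨_, s k'⟩
  · rintro ⟨l, l0, e, e'⟩
    refine ⟨l, l0, fun u a b c k => ?_, by simpa using e'⟩
    obtain ⟨c', k'⟩ := e _ _ _ _ k
    exact ⟨_, s k'⟩

theorem map {G' : Type*} [Group G'] [Finite G'] {j : G →* G'} (hj : Function.Injective j)
    (hN : normalizer ((d.A.map j : Subgroup G') : Set G') ≤ j.range) : Cv (d.map j) := by
  have K := fun x => K_map (A := d.A) (x := x) hj
  have cj : ∀ g u : G, j g * j u * (j g)⁻¹ = j (g * u * g⁻¹) := fun g u => by simp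
  have C : ∀ {x a b c}, d.Co x a b c → (d.map j).Co (j x) a b c := (Co_map hj).2
  have ku : ∀ {g}, (∃ k ∈ d.K, ∃ u ∈ d.U, g = k * u) → ∃ k ∈ (d.map j).K, ∃ u ∈ (d.map j).U, j g = k * u :=
    fun ⟨k, h1, u, h2, e⟩ => ⟨j k, (K k).2 h1, j u, ⟨u, h2, rfl⟩, by rw [e, map_mul]⟩
  refine ⟨fun u => ⟨?_, ?_⟩, fun a b c => ?_, ?_, ?_, ?_, ⟨map_mono h.U_le, h.syl.pgroup.map j, ?_⟩, ⟨_, h.nA, rfl⟩,
    ⟨_, h.mA, rfl⟩, ⟨_, h.hA, rfl⟩, ?_, ?_, ?_, map_mul j d.n d.n ▸ (K _).2 h.nn, map_mul j d.m d.m ▸ (K _).2 h.mm,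
    ?_, ?_, ?_, ?_, fun g hg => ?_, fun g hg => ?_, fun g hg => ?_, fun g hg => ?_⟩
  · rintro ⟨u, hu, rfl⟩
    obtain ⟨a, b, c, k⟩ := (h.memU u).1 hu
    exact ⟨a, b, c, C k⟩
  · rintro ⟨a, b, c, u, k, rfl⟩
    exact ⟨u, h.Co_mem k, rfl⟩
  · obtain ⟨u, k⟩ := h.surj a b c
    exact ⟨_, C k⟩
  · rintro _ a b c _ a' b' c' ⟨u, k, rfl⟩ ⟨v, k', rfl⟩
    exact map_mul j u v ▸ C (h.mul _ _ _ _ _ _ _ _ k k')
  · rintro _ a b c ⟨u, k, rfl⟩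
    exact (K u).trans (h.ker _ _ _ _ k)
  · obtain ⟨w, h1, h2, h3⟩ := h.ne
    exact ⟨j w, ⟨w, h1, rfl⟩, (K w).2 h2, fun e => h3 ((map_eq_one_iff j hj).1 e)⟩
  · exact relIndex_map_map_of_injective d.U d.A hj ▸ h.syl.not_dvd
  · rintro _ a c ⟨u, k, rfl⟩
    exact cj d.n u ▸ C (h.nx _ _ _ k)
  · rintro _ a c ⟨u, k, rfl⟩
    exact cj d.m u ▸ C (h.mx _ _ _ k)
  · rintro _ a b c ⟨u, k, rfl⟩
    exact cj d.h u ▸ C (h.hx _ _ _ _ k)
  · rintro _ ⟨u, k, rfl⟩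
    exact map_mul j d.n u ▸ map_pow j (d.n * u) 3 ▸ (K _).2 (h.n3 u k)
  · rintro _ ⟨u, k, rfl⟩
    exact map_mul j d.m u ▸ map_pow j (d.m * u) 3 ▸ (K _).2 (h.m3 u k)
  · rintro _ ⟨w, h1, rfl⟩ h2
    exact (map_commutator d.U d.U j).le ⟨w, h.der w h1 ((K w).1 h2), rfl⟩
  · rintro _ ⟨y, h1, rfl⟩ h2 h3
    obtain ⟨g, hg, k, hk, ζ, hζ, e⟩ := h.cls y h1 (fun e => h2 ((K y).2 e)) ((K _).1 (map_mul j y y ▸ h3))
    exact ⟨j g, ⟨g, hg, rfl⟩, j k, (K k).2 hk, j ζ, C hζ, by rw [cj, e, map_mul]⟩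
  all_goals obtain ⟨g, rfl⟩ := hN hg
  all_goals replace hg := (N_map hj).1 hg
  · rintro _ c c0 ⟨ζ, k, rfl⟩ e
    exact (N_map hj).2 (h.NU g hg ζ c c0 k ((K _).1 (map_commutatorElement j g ζ ▸ e)))
  · intro e
    obtain ⟨k, hk, ζ, c, hζ, rfl⟩ := h.cenU g hg fun u hu => (K _).1 (map_commutatorElement j g u ▸ e _ ⟨u, hu, rfl⟩)
    exact ⟨j k, (K k).2 hk, j ζ, c, C hζ, map_mul j k ζ⟩
  · intro e
    obtain ⟨k, hk, a, ha, e⟩ := h.mem_KA.1 (h.sqi g hg ((tw_map hj).1 e))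
    rw [← map_mul, e, map_mul]
    exact mul_mem (mem_sup_left ((K k).2 hk)) (mem_sup_right ⟨a, ha, rfl⟩)
  · intro e1 e2
    refine (h.types g hg ((N_map hj).1 e1) ((tw_map hj).1 e2)).imp ku (Or.imp ?_ (Or.imp ?_ ?_))
    · rintro ⟨l, l0, e, e'⟩
      refine ⟨l, l0, ?_, ?_⟩
      · rintro _ a b c ⟨u, k, rfl⟩
        exact (e _ _ _ _ k).imp fun _ k => cj g u ▸ C k
      · rintro _ c ⟨u, k, rfl⟩
        exact cj g u ▸ C (e' _ _ k)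
    · rintro ⟨α, β, h1, h2, e, e'⟩
      refine ⟨α, β, h1, h2, ?_, ?_⟩
      · rintro _ a b c ⟨u, k, rfl⟩
        exact (e _ _ _ _ k).imp fun _ k => cj g u ▸ C k
      · rintro _ c ⟨u, k, rfl⟩
        exact cj g u ▸ C (e' _ _ k)
    · rintro ⟨l, l0, e, e'⟩
      refine ⟨l, l0, ?_, ?_⟩
      · rintro _ a b c ⟨u, k, rfl⟩
        exact (e _ _ _ _ k).imp fun _ k => cj g u ▸ C k
      · rintro _ c ⟨u, k, rfl⟩
        exact cj g u ▸ C (e' _ _ k)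

theorem cj (g : G) : Cv (d.cj g) :=
  h.map (j := (MulAut.conj g).toMonoidHom) (MulAut.conj g).injective fun x _ => (MulAut.conj g).surjective x

end Cv

end CfsgLib.SzC
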