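import Cfsg.Agent.Lib.StdR2.Gen
import Cfsg.Agent.Lib.StdR2.HePsl
import Cfsg.Agent.Lib.ExtraTwo.Classify

/-! Standard subgroups of type `L₃(4)` whose centraliser has 2-rank at least 2 (plans/SZC.md):
definitions and the interfaces between the packages. -/

set_option autoImplicit false
set_option linter.unusedSectionVars false

namespace CfsgLib.SzC

open Subgroup Cfsg CfsgLib.Tech CfsgLib.StdR2 CfsgLib.Classical CfsgLib.ExtraTwo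
open scoped commutatorElement

variable {G : Type*} [Group G]

/-- `K = C(A)` -/
abbrev Kc (A : Subgroup G) : Subgroup G := centralizer (A : Set G)

/-- `H = N(K)` -/
abbrev Hc (A : Subgroup G) : Subgroup G := normalizer (Kc A : Set G)

/-- the involutions that are conjugate into `K` -/
def Dc (A : Subgroup G) : Set G := {d | orderOf d = 2 ∧ ∃ g, d ∈ cj g (Kc A)}

theorem mem_Kc {A : Subgroup G} {k : G} : k ∈ Kc A ↔ ∀ a ∈ A, Commute k a :=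
  ⟨fun h a ha => (h a ha).symm, fun h a ha => (h a ha).eq.symm⟩

theorem comm_KA {A : Subgroup G} {k a : G} (hk : k ∈ Kc A) (ha : a ∈ A) : Commute k a :=
  mem_Kc.1 hk a ha

theorem Kc_cj (g : G) (A : Subgroup G) : Kc (cj g A) = cj g (Kc A) := by rw [Kc, cj_centralizer]

theorem Hc_cj (g : G) (A : Subgroup G) : Hc (cj g A) = cj g (Hc A) := by
  rw [Hc, Kc_cj, cj_normalizer]

theorem Dc_conj {A : Subgroup G} {d : G} (hd : d ∈ Dc A) (g : G) : g * d * g⁻¹ ∈ Dc A := by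
  obtain ⟨h1, k, h2⟩ := hd
  exact ⟨(MulEquiv.orderOf_eq (MulAut.conj g) d).trans h1, g * k, by rw [cj_mul]; exact conj_mem_cj.2 h2⟩

theorem Dc_cj (g : G) (A : Subgroup G) : Dc (cj g A) = Dc A := by
  ext d
  simp only [Dc, Kc_cj, ← cj_mul, Set.mem_ofPred_eq]
  exact and_congr_right fun _ => ⟨fun ⟨k, h⟩ => ⟨_, h⟩, fun ⟨k, h⟩ => ⟨k * g⁻¹, by simpa using h⟩⟩

/-- `A` is standard, not normal, and lies in the simple group `F*(G)`. -/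
structure St0 (A : Subgroup G) : Prop where
  perf : ⁅A, A⁆ = A
  simp : ∀ N : Subgroup G, N ≤ A → A ≤ normalizer (N : Set G) → N ≤ Kc A ∨ N = A
  ti : IsTightlyEmbedded (Kc A)
  norm : normalizer (A : Set G) = Hc A
  nc : ∀ g, g ∉ Hc A → ¬ A ≤ cj g (Kc A)
  four : ∃ v ∈ Kc A, ∃ w ∈ Kc A, orderOf v = 2 ∧ orderOf w = 2 ∧ v ≠ w ∧ Commute v w
  ntop : Hc A ≠ ⊤
  lay : ∃ X : Subgroup G, X.Normal ∧ IsSimpleGroup X ∧ centralizer (X : Set G) = ⊥ ∧ A ≤ X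

theorem St0.cj [Finite G] {A : Subgroup G} (h : St0 A) (g : G) : St0 (cj g A) where
  perf := by rw [← map_commutator, h.perf]
  simp := fun N h1 h2 => by
    have e : N = Tech.cj g (Tech.cj g⁻¹ N) := by rw [← cj_mul, mul_inv_cancel, cj_one]
    rw [e, cj_le_cj_iff] at h1
    rw [e, ← cj_normalizer, cj_le_cj_iff] at h2
    rw [e, Kc_cj, cj_le_cj_iff]
    exact (h.simp _ h1 h2).imp id (congrArg _)
  ti := by
    rw [Kc_cj]
    refine ⟨by rw [card_cj]; exact h.ti.1, fun k hk => ?_⟩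
    have := h.ti.2 (g⁻¹ * k * g) (by rwa [← cj_normalizer, mem_cj] at hk)
    rw [← card_cj g, cj_inf] at this
    have e : Tech.cj g (Tech.cj (g⁻¹ * k * g) (Kc A)) = Tech.cj k (Tech.cj g (Kc A)) := by
      rw [← cj_mul, ← cj_mul]; congr 1; group
    exact (congrArg (fun Y => Odd (Nat.card (Tech.cj g (Kc A) ⊓ Y : Subgroup G))) e).mp this
  norm := by rw [← cj_normalizer, h.norm, Hc_cj]
  nc := fun k hk e => by
    rw [Hc_cj, mem_cj] at hk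
    refine h.nc _ hk ((cj_le_cj_iff g).1 ?_)
    rw [Kc_cj, ← cj_mul] at e
    rwa [← cj_mul, show g * (g⁻¹ * k * g) = k * g by group]
  four := by
    obtain ⟨v, h1, w, h2, h3, h4, h5, h6⟩ := h.four
    rw [Kc_cj]
    exact ⟨_, conj_mem_cj.2 h1, _, conj_mem_cj.2 h2, (MulEquiv.orderOf_eq (MulAut.conj g) v).trans h3,
      (MulEquiv.orderOf_eq (MulAut.conj g) w).trans h4, fun e => h5 (by simpa using e),
      h6.map (MulAut.conj g).toMonoidHom⟩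
  ntop := fun e => h.ntop (cj_injective g (by rw [← Hc_cj, e, cj_top]))
  lay := by
    obtain ⟨X, h1, h2, h3, h4⟩ := h.lay
    exact ⟨X, h1, h2, h3, by rw [← cj_eq_of_normal g X]; exact cj_mono g h4⟩

/-! ### Frames: `A / Z(A) ≅ L₃(4)` with `Z(A)` of odd order -/

/-- the data of a frame: `x a b c` is the unitriangular matrix with entries `a, b` and `c` in the
corner, `n, m` are the permutation matrices `(2 3), (1 2)`, and `h = diag(ω, 1, ω²)` -/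
structure Fd (G : Type*) [Group G] where
  A : Subgroup G
  x : GF4 → GF4 → GF4 → G
  n : G
  m : G
  h : G

namespace Fd

variable (f : Fd G)

/-- `K` -/
abbrev K : Subgroup G := Kc f.A
/-- `H` -/
abbrev H : Subgroup G := Hc f.A
/-- `D` -/
abbrev D : Set G := Dc f.A
/-- the Sylow 2-subgroup -/
def U : Subgroup G := closure {g | ∃ a b c, g = f.x a b c}
/-- the first `E₁₆` -/
def U1 : Subgroup G := closure {g | ∃ a c, g = f.x a 0 c}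
/-- the second `E₁₆` -/
def U2 : Subgroup G := closure {g | ∃ b c, g = f.x 0 b c}
/-- the centre of `U` -/
def Z : Subgroup G := closure {g | ∃ c, g = f.x 0 0 c}
/-- the involution `z` -/
abbrev z : G := f.x 0 0 1

/-- the conjugate frame -/
def cj (g : G) : Fd G :=
  ⟨Tech.cj g f.A, fun a b c => g * f.x a b c * g⁻¹, g * f.n * g⁻¹, g * f.m * g⁻¹, g * f.h * g⁻¹⟩

/-- the dual frame -/
def sw : Fd G := ⟨f.A, fun a b c => f.x b a (c + a * b), f.m, f.n, f.h⟩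

@[simp] theorem cj_A (g : G) : (f.cj g).A = Tech.cj g f.A := rfl
@[simp] theorem cj_x (g : G) (a b c : GF4) : (f.cj g).x a b c = g * f.x a b c * g⁻¹ := rfl
@[simp] theorem cj_n (g : G) : (f.cj g).n = g * f.n * g⁻¹ := rfl
@[simp] theorem cj_m (g : G) : (f.cj g).m = g * f.m * g⁻¹ := rfl
@[simp] theorem cj_h (g : G) : (f.cj g).h = g * f.h * g⁻¹ := rfl
theorem cj_K (g : G) : (f.cj g).K = Tech.cj g f.K := Kc_cj g f.A
theorem cj_H (g : G) : (f.cj g).H = Tech.cj g f.H := Hc_cj g f.A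
theorem cj_D (g : G) : (f.cj g).D = f.D := Dc_cj g f.A

theorem cj_U (g : G) : (f.cj g).U = Tech.cj g f.U := by
  rw [U, U, Tech.cj, MonoidHom.map_closure]
  congr 1; ext y
  exact ⟨fun ⟨a, b, c, e⟩ => ⟨_, ⟨a, b, c, rfl⟩, e.symm⟩, fun ⟨_, ⟨a, b, c, e⟩, e'⟩ => ⟨a, b, c, e' ▸ e ▸ rfl⟩⟩

theorem cj_U1 (g : G) : (f.cj g).U1 = Tech.cj g f.U1 := by
  rw [U1, U1, Tech.cj, MonoidHom.map_closure]
  congr 1; ext y
  exact ⟨fun ⟨a, c, e⟩ => ⟨_, ⟨a, c, rfl⟩, e.symm⟩, fun ⟨_, ⟨a, c, e⟩, e'⟩ => ⟨a, c, e' ▸ e ▸ rfl⟩⟩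

theorem cj_U2 (g : G) : (f.cj g).U2 = Tech.cj g f.U2 := by
  rw [U2, U2, Tech.cj, MonoidHom.map_closure]
  congr 1; ext y
  exact ⟨fun ⟨a, c, e⟩ => ⟨_, ⟨a, c, rfl⟩, e.symm⟩, fun ⟨_, ⟨a, c, e⟩, e'⟩ => ⟨a, c, e' ▸ e ▸ rfl⟩⟩

theorem cj_Z (g : G) : (f.cj g).Z = Tech.cj g f.Z := by
  rw [Z, Z, Tech.cj, MonoidHom.map_closure]
  congr 1; ext y
  exact ⟨fun ⟨c, e⟩ => ⟨_, ⟨c, rfl⟩, e.symm⟩, fun ⟨_, ⟨c, e⟩, e'⟩ => ⟨c, e' ▸ e ▸ rfl⟩⟩

@[simp] theorem sw_A : f.sw.A = f.A := rfl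
theorem sw_x (a b c : GF4) : f.sw.x a b c = f.x b a (c + a * b) := rfl
@[simp] theorem sw_n : f.sw.n = f.m := rfl
@[simp] theorem sw_m : f.sw.m = f.n := rfl
@[simp] theorem sw_h : f.sw.h = f.h := rfl
@[simp] theorem sw_x1 (a c : GF4) : f.sw.x a 0 c = f.x 0 a c := by rw [sw_x, mul_zero, add_zero]
@[simp] theorem sw_x2 (b c : GF4) : f.sw.x 0 b c = f.x b 0 c := by rw [sw_x, zero_mul, add_zero]
theorem sw_U1 : f.sw.U1 = f.U2 := by simp only [U1, U2, sw_x1]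
theorem sw_U2 : f.sw.U2 = f.U1 := by simp only [U1, U2, sw_x2]
theorem sw_Z : f.sw.Z = f.Z := by simp only [Z, sw_x1]

theorem sw_U : f.sw.U = f.U := by
  rw [U, U]; congr 1; ext y
  exact ⟨fun ⟨a, b, c, e⟩ => ⟨_, _, _, e⟩, fun ⟨a, b, c, e⟩ => ⟨b, a, c - b * a, by
    rw [sw_x, sub_add_cancel, e]⟩⟩

end Fd

/-- a frame -/
structure Fm (f : Fd G) : Prop where
  mul : ∀ a b c a' b' c', f.x a b c * f.x a' b' c' = f.x (a + a') (b + b') (c + c' + a * b')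
  inj : ∀ a b c, f.x a b c ∈ f.K → a = 0 ∧ b = 0 ∧ c = 0
  xA : ∀ a b c, f.x a b c ∈ f.A
  nA : f.n ∈ f.A
  mA : f.m ∈ f.A
  hA : f.h ∈ f.A
  nx : ∀ a c, f.n * f.x a 0 c * f.n⁻¹ = f.x c 0 a
  mx : ∀ b c, f.m * f.x 0 b c * f.m⁻¹ = f.x 0 c b
  hx : ∀ a b c, f.h * f.x a b c * f.h⁻¹ = f.x (ω * a) (ω * b) ((ω + 1) * c)
  nn : f.n * f.n = 1
  mm : f.m * f.m = 1
  n3 : (f.n * f.x 0 1 0) ^ 3 ∈ f.K
  m3 : (f.m * f.x 1 0 0) ^ 3 ∈ f.K
  nh : f.n * f.h * f.n⁻¹ * f.h ∈ f.K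
  mh : f.m * f.h * f.m⁻¹ * f.h ∈ f.K
  odd : ∀ a ∈ f.A, a ∈ f.K → Odd (orderOf a)
  syl : IsSylowIn 2 f.U f.A
  cls : ∀ a ∈ f.A, orderOf a = 2 → ∃ b ∈ f.A, a = b * f.z * b⁻¹
  cen : ∀ g ∈ f.A, ∀ c, c ≠ 0 → Commute g (f.x 0 0 c) → ∃ k ∈ f.K, ∃ a b c, g = k * f.x a b c
  gen : ∀ Γ : Subgroup G, f.U ≤ Γ → f.n ∈ Γ → f.m ∈ Γ → f.A ⊓ f.K ≤ Γ → f.A ≤ Γ
  aut1 : ∀ g ∈ normalizer (f.A : Set G), (∀ c, Commute g (f.x 0 0 c)) →
    (∃ c, g * f.x 1 0 0 * g⁻¹ = f.x 1 0 c) → ∃ k ∈ f.K, ∃ a b c, g = k * f.x a b c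
  aut2 : ∀ g ∈ normalizer (f.A : Set G), (∀ c, Commute g (f.x 0 0 c)) →
    (∃ c, g * f.x 0 1 0 * g⁻¹ = f.x 0 1 c) → ∃ k ∈ f.K, ∃ a b c, g = k * f.x a b c

namespace Fm

variable {f : Fd G} (h : Fm f)
include h

theorem x_zero : f.x 0 0 0 = 1 := by
  have := h.mul 0 0 0 0 0 0
  simp only [add_zero, mul_zero] at this
  exact mul_eq_left.1 this

theorem x_inv (a b c : GF4) : (f.x a b c)⁻¹ = f.x a b (c + a * b) :=
  inv_eq_of_mul_eq_one_right (by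
    rw [h.mul, ← h.x_zero]; congr 1 <;> revert a b c <;> decide)

theorem mem_U {g : G} : g ∈ f.U ↔ ∃ a b c, g = f.x a b c := by
  refine ⟨fun hg => ?_, fun hg => subset_closure hg⟩
  induction hg using closure_induction with
  | mem _ hx => exact hx
  | one => exact ⟨0, 0, 0, h.x_zero.symm⟩
  | mul _ _ _ _ h1 h2 =>
    obtain ⟨a, b, c, rfl⟩ := h1
    obtain ⟨a', b', c', rfl⟩ := h2
    exact ⟨_, _, _, h.mul ..⟩
  | inv _ _ h1 =>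
    obtain ⟨a, b, c, rfl⟩ := h1
    exact ⟨_, _, _, h.x_inv ..⟩

theorem mem_U1 {g : G} : g ∈ f.U1 ↔ ∃ a c, g = f.x a 0 c := by
  refine ⟨fun hg => ?_, fun hg => subset_closure hg⟩
  induction hg using closure_induction with
  | mem _ hx => exact hx
  | one => exact ⟨0, 0, h.x_zero.symm⟩
  | mul _ _ _ _ h1 h2 =>
    obtain ⟨a, c, rfl⟩ := h1
    obtain ⟨a', c', rfl⟩ := h2
    exact ⟨_, _, by rw [h.mul, add_zero]⟩
  | inv _ _ h1 =>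
    obtain ⟨a, c, rfl⟩ := h1
    exact ⟨_, _, h.x_inv ..⟩

theorem mem_U2 {g : G} : g ∈ f.U2 ↔ ∃ b c, g = f.x 0 b c := by
  refine ⟨fun hg => ?_, fun hg => subset_closure hg⟩
  induction hg using closure_induction with
  | mem _ hx => exact hx
  | one => exact ⟨0, 0, h.x_zero.symm⟩
  | mul _ _ _ _ h1 h2 =>
    obtain ⟨a, c, rfl⟩ := h1
    obtain ⟨a', c', rfl⟩ := h2
    exact ⟨_, _, by rw [h.mul, add_zero]⟩
  | inv _ _ h1 =>
    obtain ⟨a, c, rfl⟩ := h1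
    exact ⟨_, _, h.x_inv ..⟩

theorem mem_Z {g : G} : g ∈ f.Z ↔ ∃ c, g = f.x 0 0 c := by
  refine ⟨fun hg => ?_, fun hg => subset_closure hg⟩
  induction hg using closure_induction with
  | mem _ hx => exact hx
  | one => exact ⟨0, h.x_zero.symm⟩
  | mul _ _ _ _ h1 h2 =>
    obtain ⟨c, rfl⟩ := h1
    obtain ⟨c', rfl⟩ := h2
    exact ⟨_, by rw [h.mul, add_zero]⟩
  | inv _ _ h1 =>
    obtain ⟨c, rfl⟩ := h1
    exact ⟨_, h.x_inv ..⟩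

theorem sw : Fm f.sw where
  mul := fun a b c a' b' c' => by
    simp only [Fd.sw_x, h.mul]; congr 1
    have : (2 : GF4) = 0 := by decide
    linear_combination (-a * b') * this
  inj := fun a b c e => by
    obtain ⟨rfl, rfl, e⟩ := h.inj _ _ _ e
    simpa using e
  xA := fun _ _ _ => h.xA ..
  nA := h.mA
  mA := h.nA
  hA := h.hA
  nx := fun a c => by simpa using h.mx a c
  mx := fun a c => by simpa using h.nx a c
  hx := fun a b c => by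
    simp only [Fd.sw_x, Fd.sw_h, h.hx]; congr 1
    have : ω * ω = ω + 1 := by decide
    linear_combination (-a * b) * this
  nn := h.mm
  mm := h.nn
  n3 := by rw [Fd.sw_x2]; exact h.m3
  m3 := by rw [Fd.sw_x1]; exact h.n3
  nh := h.mh
  mh := h.nh
  odd := h.odd
  syl := f.sw_U ▸ h.syl
  cls := by simpa using h.cls
  cen := fun g hg c c0 e => by
    obtain ⟨k, hk, a, b, c, e⟩ := h.cen g hg c c0 (by simpa using e)
    exact ⟨k, hk, b, a, c - b * a, by rw [Fd.sw_x, sub_add_cancel, e]⟩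
  gen := fun Γ h1 h2 h3 h4 => h.gen Γ (f.sw_U ▸ h1) h3 h2 h4
  aut1 := fun g hg h1 h2 => by
    obtain ⟨k, hk, a, b, c, e⟩ := h.aut2 g hg (by simpa using h1) (by simpa using h2)
    exact ⟨k, hk, b, a, c - b * a, by rw [Fd.sw_x, sub_add_cancel, e]⟩
  aut2 := fun g hg h1 h2 => by
    obtain ⟨k, hk, a, b, c, e⟩ := h.aut1 g hg (by simpa using h1) (by simpa using h2)
    exact ⟨k, hk, b, a, c - b * a, by rw [Fd.sw_x, sub_add_cancel, e]⟩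

theorem cj [Finite G] (g : G) : Fm (f.cj g) where
  mul := fun a b c a' b' c' => by simp only [Fd.cj_x, conj_mul, h.mul]
  inj := fun a b c e => h.inj a b c (by rwa [Fd.cj_K, Fd.cj_x, conj_mem_cj] at e)
  xA := fun _ _ _ => conj_mem_cj.2 (h.xA ..)
  nA := conj_mem_cj.2 h.nA
  mA := conj_mem_cj.2 h.mA
  hA := conj_mem_cj.2 h.hA
  nx := fun a c => by rw [Fd.cj_x, Fd.cj_x, Fd.cj_n, ← h.nx a c]; group
  mx := fun a c => by rw [Fd.cj_x, Fd.cj_x, Fd.cj_m, ← h.mx a c]; group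
  hx := fun a b c => by simp only [Fd.cj_x, Fd.cj_h, ← h.hx]; group
  nn := by simp only [Fd.cj_n, conj_mul, h.nn]; group
  mm := by simp only [Fd.cj_m, conj_mul, h.mm]; group
  n3 := by
    rw [Fd.cj_K, Fd.cj_n, Fd.cj_x, conj_mul, conj_pow]; exact conj_mem_cj.2 h.n3
  m3 := by
    rw [Fd.cj_K, Fd.cj_m, Fd.cj_x, conj_mul, conj_pow]; exact conj_mem_cj.2 h.m3
  nh := by
    rw [Fd.cj_K, mem_cj]; convert h.nh using 1; simp only [Fd.cj_n, Fd.cj_h]; group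
  mh := by
    rw [Fd.cj_K, mem_cj]; convert h.mh using 1; simp only [Fd.cj_m, Fd.cj_h]; group
  odd := fun a h1 h2 => by
    rw [Fd.cj_K, mem_cj] at h2
    have := h.odd _ (mem_cj.1 h1) h2
    rwa [show g⁻¹ * a * g = g⁻¹ * a * g⁻¹⁻¹ by rw [inv_inv],
      show orderOf (g⁻¹ * a * g⁻¹⁻¹) = orderOf a from MulEquiv.orderOf_eq (MulAut.conj g⁻¹) a] at this
  syl := by rw [Fd.cj_U]; exact h.syl.cj g
  cls := fun a h1 h2 => by
    obtain ⟨b, hb, e⟩ := h.cls _ (mem_cj.1 h1) (by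
      rw [← h2, show g⁻¹ * a * g = g⁻¹ * a * g⁻¹⁻¹ by rw [inv_inv]]
      exact MulEquiv.orderOf_eq (MulAut.conj g⁻¹) a)
    exact ⟨_, conj_mem_cj.2 hb, by
      rw [show a = g * (g⁻¹ * a * g) * g⁻¹ by group, e, Fd.z, Fd.z, Fd.cj_x]; group⟩
  cen := fun y hy c c0 e => by
    obtain ⟨k, hk, a, b, c, e⟩ := h.cen _ (mem_cj.1 hy) c c0 (by
      simpa [mul_assoc] using e.map (MulAut.conj g⁻¹).toMonoidHom)
    exact ⟨_, f.cj_K g ▸ conj_mem_cj.2 hk, a, b, c, by rw [Fd.cj_x, conj_mul, ← e]; group⟩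
  gen := fun Γ h1 h2 h3 h4 => by
    have e : Γ = Tech.cj g (Tech.cj g⁻¹ Γ) := by rw [← cj_mul, mul_inv_cancel, cj_one]
    rw [e, Fd.cj_U, cj_le_cj_iff] at h1
    rw [e, Fd.cj_K, Fd.cj_A, ← cj_inf, cj_le_cj_iff] at h4
    rw [e, Fd.cj_n, conj_mem_cj] at h2
    rw [e, Fd.cj_m, conj_mem_cj] at h3
    rw [e, Fd.cj_A, cj_le_cj_iff]
    exact h.gen _ h1 h2 h3 h4
  aut1 := fun y hy h1 ⟨c, h2⟩ => by
    rw [Fd.cj_A, ← cj_normalizer, mem_cj] at hy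
    obtain ⟨k, hk, a, b, c, e⟩ := h.aut1 _ hy (fun c => by
      simpa [mul_assoc] using (h1 c).map (MulAut.conj g⁻¹).toMonoidHom) ⟨c, by
        simpa [mul_assoc] using congrArg (fun t => g⁻¹ * t * g) h2⟩
    exact ⟨_, f.cj_K g ▸ conj_mem_cj.2 hk, a, b, c, by rw [Fd.cj_x, conj_mul, ← e]; group⟩
  aut2 := fun y hy h1 ⟨c, h2⟩ => by
    rw [Fd.cj_A, ← cj_normalizer, mem_cj] at hy
    obtain ⟨k, hk, a, b, c, e⟩ := h.aut2 _ hy (fun c => by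
      simpa [mul_assoc] using (h1 c).map (MulAut.conj g⁻¹).toMonoidHom) ⟨c, by
        simpa [mul_assoc] using congrArg (fun t => g⁻¹ * t * g) h2⟩
    exact ⟨_, f.cj_K g ▸ conj_mem_cj.2 hk, a, b, c, by rw [Fd.cj_x, conj_mul, ← e]; group⟩

end Fm

/-- The hypothesis of the Suzuki case. -/
structure St (f : Fd G) : Prop extends Fm f, St0 f.A

theorem St.sw {f : Fd G} (h : St f) : St f.sw := ⟨h.toFm.sw, h.toSt0⟩

theorem St.cj [Finite G] {f : Fd G} (h : St f) (g : G) : St (f.cj g) := ⟨h.toFm.cj g, h.toSt0.cj g⟩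

/-- `E = V × Z` -/
abbrev EE (f : Fd G) (V : Subgroup G) : Subgroup G := V ⊔ f.Z

/-- Stage 0: the four-group `V` is Sylow in `K`, `C_K(V) = V × O`, and `g₀ ∈ N(E)` moves `V`. -/
structure S0 (f : Fd G) (V O : Subgroup G) (g0 : G) : Prop extends St f where
  sylV : IsSylowIn 2 V f.K
  cardV : Nat.card V = 4
  sqV : ∀ v ∈ V, v * v = 1
  nD : ∀ g, f.z ∉ cj g f.K
  gH : g0 ∉ f.H
  gE : g0 ∈ normalizer (EE f V : Set G)
  OK : O ≤ f.K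
  oddO : Odd (Nat.card O)
  OV : ∀ o ∈ O, ∀ v ∈ V, Commute o v
  cV : ∀ k ∈ f.K, (∀ v ∈ V, Commute k v) → ∃ v ∈ V, ∃ o ∈ O, k = v * o

theorem S0.sw {f : Fd G} {V O : Subgroup G} {g0 : G} (h : S0 f V O g0) : S0 f.sw V O g0 :=
  ⟨h.toSt.sw, h.sylV, h.cardV, h.sqV, fun g => by rw [Fd.z, Fd.sw_x1]; exact h.nD g, h.gH, by rw [EE, f.sw_Z]; exact h.gE,
    h.OK, h.oddO, h.OV, h.cV⟩

/-- coordinates `(x, y, a, b)` on `R / Z` -/
abbrev C4 : Type := GF4 × GF4 × GF4 × GF4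

/-- the quadratic form `xy + ab` -/
def q4 (w : C4) : GF4 := w.1 * w.2.1 + w.2.2.1 * w.2.2.2

/-- its polar form -/
def b4 (w w' : C4) : GF4 := w.1 * w'.2.1 + w.2.1 * w'.1 + w.2.2.1 * w'.2.2.2 + w.2.2.2 * w'.2.2.1

/-- exchange of `a` and `b` -/
def s4 (w : C4) : C4 := (w.1, w.2.1, w.2.2.2, w.2.2.1)

/-- Stage 1: the group `R = S ∘ U` of order `2^10` in coordinates. -/
structure S1 (f : Fd G) (V O : Subgroup G) (g0 : G) (R : Subgroup G) (p : G → C4) (μ : GF4) : Prop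
    extends S0 f V O g0 where
  VR : V ≤ R
  UR : f.U ≤ R
  pV : ∀ v ∈ V, ∃ x, p v = (x, 0, 0, 0)
  Vp : ∀ x, ∃ v ∈ V, p v = (x, 0, 0, 0)
  pU : ∀ a b c, p (f.x a b c) = (0, 0, a, b)
  pmul : ∀ r ∈ R, ∀ s ∈ R, p (r * s) = p r + p s
  psurj : ∀ w, ∃ r ∈ R, p r = w
  pker : ∀ r ∈ R, p r = 0 → r ∈ f.Z
  sq : ∀ r ∈ R, r * r = f.x 0 0 (q4 (p r) + μ * (p r).2.1)
  comm : ∀ r ∈ R, ∀ s ∈ R, r * s = s * r * f.x 0 0 (b4 (p r) (p s))
  RO : ∀ r ∈ R, ∀ o ∈ O, Commute r o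
  ph : ∀ r ∈ R, p (f.h * r * f.h⁻¹) =
    ((p r).1, (ω + 1) * (p r).2.1, ω * (p r).2.2.1, ω * (p r).2.2.2)
  NE : normalizer (EE f V : Set G) ≤ normalizer (R : Set G)

theorem S1.sw {f : Fd G} {V O : Subgroup G} {g0 : G} {R : Subgroup G} {p : G → C4} {μ : GF4}
    (h : S1 f V O g0 R p μ) : S1 f.sw V O g0 R (fun r => s4 (p r)) μ where
  toS0 := h.toS0.sw
  VR := h.VR
  UR := f.sw_U ▸ h.UR
  pV := fun v hv => (h.pV v hv).imp fun x e => by rw [e]; rfl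
  Vp := fun x => (h.Vp x).imp fun v e => ⟨e.1, by rw [e.2]; rfl⟩
  pU := fun a b c => by rw [Fd.sw_x, h.pU]; rfl
  pmul := fun r hr s hs => by rw [h.pmul r hr s hs]; rfl
  psurj := fun w => (h.psurj (s4 w)).imp fun r e => ⟨e.1, by rw [e.2]; rfl⟩
  pker := fun r hr e => f.sw_Z ▸ h.pker r hr (congrArg s4 e)
  sq := fun r hr => by
    rw [h.sq r hr, Fd.sw_x1]; congr 2
    simp only [q4, s4]; ring
  comm := fun r hr s hs => by
    rw [h.comm r hr s hs, Fd.sw_x1]; congr 2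
    simp only [b4, s4]; ring
  RO := h.RO
  ph := fun r hr => by rw [Fd.sw_h, h.ph r hr]; rfl
  NE := by rw [EE, f.sw_Z]; exact h.NE

/-- `g` acts on `V U₁` as the translation `v ↦ v · (ξ v)(t, w)` -/
def Tr (f : Fd G) (V : Subgroup G) (ξ : G → GF4) (g : G) (t w : GF4) : Prop :=
  ∀ v ∈ V, g * v * g⁻¹ = v * f.x (ξ v * t) 0 (ξ v * w)

/-- The group `M = 2^{4+6}` that belongs to `U₁`; `ξ` is the coordinate on `V`. -/
structure MX (f : Fd G) (V O R : Subgroup G) (ξ : G → GF4) (M : Subgroup G) : Prop where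
  MO : ∀ g ∈ M, ∀ o ∈ O, Commute g o
  MU : ∀ g ∈ M, ∀ a c, Commute g (f.x a 0 c)
  MR : M ≤ normalizer (R : Set G)
  NM : normalizer ((V ⊔ f.U1 : Subgroup G) : Set G) ≤ normalizer (M : Set G)
  lin : ∀ g ∈ M, ∃ t w, Tr f V ξ g t w
  ex : ∀ t w, ∃ g ∈ M, Tr f V ξ g t w
  sq : ∀ g ∈ M, ∀ t w, Tr f V ξ g t w → ∃ l, g * g = f.x (t * l) 0 (w * l)
  SM : ∀ r ∈ R, (∀ a c, Commute r (f.x a 0 c)) → r ∈ M
  ker : ∀ g ∈ M, ∀ w, Tr f V ξ g 0 w → g ∈ R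

/-- the action of `M` on `R / Z` -/
def mt (κ t : GF4) (w : C4) : C4 :=
  (w.1 + κ * t * t * w.2.2.2, w.2.1 + t * w.2.2.2,
    w.2.2.1 + t * w.1 + κ * t * t * w.2.1 + κ * t * t * t * w.2.2.2, w.2.2.2)

/-- `M` acts on `R / Z` with parameter `κ` -/
def Kap (f : Fd G) (V R : Subgroup G) (p : G → C4) (M : Subgroup G) (κ : GF4) : Prop :=
  ∀ g ∈ M, ∀ t w, Tr f V (fun v => (p v).1) g t w → ∀ r ∈ R, p (g * r * g⁻¹) = mt κ t (p r)

/-! ### The permutation model of `R = 2^{2+8}` -/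

/-- `R / Z` is the space of vectors with coordinate sum `0` -/
abbrev C5 : Type := Fin 5 → GF4

/-- the sum of the coordinates -/
def s5 (β : C5) : GF4 := β 0 + β 1 + β 2 + β 3 + β 4

/-- the quadratic form: the second elementary symmetric function -/
def q5 (β : C5) : GF4 := β 0 * (β 1 + β 2 + β 3 + β 4) + β 1 * (β 2 + β 3 + β 4) + β 2 * (β 3 + β 4) + β 3 * β 4

/-- its polar form on the vectors of sum `0` -/
def b5 (β γ : C5) : GF4 := β 0 * γ 0 + β 1 * γ 1 + β 2 * γ 2 + β 3 * γ 3 + β 4 * γ 4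

/-- multiples of vectors over the prime field -/
def Rat5 (β : C5) : Prop := ∃ l : GF4, ∀ i, β i = 0 ∨ β i = l

instance (β : C5) : Decidable (Rat5 β) := by unfold Rat5; infer_instance

/-- vectors over the prime field -/
def Two5 (β : C5) : Prop := ∀ i, β i = 0 ∨ β i = 1

instance (β : C5) : Decidable (Two5 β) := by unfold Two5; infer_instance

/-- The permutation model of `R = 2^{2+8}` with centre `Z = {ζ c}`. -/
structure RF (D : Set G) (Z R : Subgroup G) (ζ : GF4 → G) (p : G → C5) (ν : G → Equiv.Perm (Fin 5)) :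
    Prop where
  Dconj : ∀ d ∈ D, ∀ g, g * d * g⁻¹ ∈ D
  memZ : ∀ y, y ∈ Z ↔ ∃ c, y = ζ c
  ζadd : ∀ c d, ζ (c + d) = ζ c * ζ d
  ζinj : ∀ c, ζ c = 1 → c = 0
  ZR : Z ≤ R
  cen : R ≤ centralizer (Z : Set G)
  sum : ∀ r ∈ R, s5 (p r) = 0
  mul : ∀ r ∈ R, ∀ s ∈ R, p (r * s) = p r + p s
  surj : ∀ β, s5 β = 0 → ∃ r ∈ R, p r = β
  ker : ∀ r ∈ R, p r = 0 ↔ r ∈ Z
  sq : ∀ r ∈ R, r * r = ζ (q5 (p r))
  comm : ∀ r ∈ R, ∀ s ∈ R, r * s = s * r * ζ (b5 (p r) (p s))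
  act : ∀ g ∈ normalizer (R : Set G), g ∈ centralizer (Z : Set G) → ∀ r ∈ R, ∀ i,
    p (g * r * g⁻¹) (ν g i) = p r i
  ker2 : ∀ g ∈ normalizer (R : Set G), g ∈ centralizer (Z : Set G) → ν g = 1 → g ^ 4 = 1 → g ∈ R
  memD : ∀ r ∈ R, r ∈ D ↔ q5 (p r) = 0 ∧ ¬ Rat5 (p r)
  DN : ∀ c ∈ centralizer (Z : Set G), ∀ r ∈ R, r ∈ D → c * r * c⁻¹ ∈ R → c ∈ normalizer (R : Set G)

/-- the point of `U₁` -/
def e1 : C5 := ![0, 1, 1, 1, 1]
/-- the point of `U₂` -/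
def e2 : C5 := ![1, 0, 1, 1, 1]
/-- the point of `V` -/
def eV : C5 := ![0, 0, 1, ω + 1, ω]
/-- the point of `P` -/
def eP : C5 := ![0, 0, 1, ω, ω + 1]
/-- the 3-cycle `2 ↦ 3 ↦ 4 ↦ 2` -/
def c3 : Fin 5 → Fin 5 := ![0, 1, 3, 4, 2]

/-- Stage 2: the permutation model. -/
structure S2 (f : Fd G) (V O : Subgroup G) (g0 : G) (R : Subgroup G) (p : G → C5)
    (ν : G → Equiv.Perm (Fin 5)) (κ : GF4) (M1 M2 : Subgroup G) : Prop extends S0 f V O g0 where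
  rf : RF f.D f.Z R (f.x 0 0) p ν
  κ0 : κ ≠ 0
  VR : V ≤ R
  UR : f.U ≤ R
  pV : ∀ v ∈ V, p v = p v 2 • eV
  Vp : ∀ x : GF4, ∃ v ∈ V, p v = x • eV
  pU : ∀ a b c, p (f.x a b c) = (κ * a) • e1 + (κ * κ * b) • e2
  RO : ∀ r ∈ R, ∀ o ∈ O, Commute r o
  ph : ∀ r ∈ R, ∀ i, p (f.h * r * f.h⁻¹) i = ω * p r (c3 i)
  NE : normalizer (EE f V : Set G) ≤ normalizer (R : Set G)
  kerO : ∀ g ∈ normalizer (R : Set G), g ∈ centralizer (f.Z : Set G) → ν g = 1 →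
    ∃ r ∈ R, ∃ o ∈ O, g = r * o
  NO : normalizer (R : Set G) ≤ normalizer (O : Set G)
  alt : ∀ π : Equiv.Perm (Fin 5), Equiv.Perm.sign π = 1 → ∃ g ∈ normalizer (R : Set G),
    g ∈ centralizer (f.Z : Set G) ∧ (∀ o ∈ O, Commute g o) ∧ ν g = π
  mx1 : MX f V O R (fun v => p v 2) M1
  mx2 : MX f.sw V O R (fun v => p v 2) M2
  ev1 : ∀ g ∈ M1, Equiv.Perm.sign (ν g) = 1
  ev2 : ∀ g ∈ M2, Equiv.Perm.sign (ν g) = 1
  ch1 : ∀ g ∈ normalizer (R : Set G), (∀ a c, Commute g (f.x a 0 c)) → (∀ o ∈ O, Commute g o) →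
    g ^ 4 = 1 → Equiv.Perm.sign (ν g) = 1 → g ∈ M1
  ch2 : ∀ g ∈ normalizer (R : Set G), (∀ b c, Commute g (f.x 0 b c)) → (∀ o ∈ O, Commute g o) →
    g ^ 4 = 1 → Equiv.Perm.sign (ν g) = 1 → g ∈ M2

/-- Stage 3: the element `σ` that acts as the Frobenius map, and an element `ρ` that moves `Z`. -/
structure S3 (f : Fd G) (V O : Subgroup G) (g0 : G) (R : Subgroup G) (p : G → C5)
    (ν : G → Equiv.Perm (Fin 5)) (κ : GF4) (M1 M2 : Subgroup G) (σ ρ : G) : Prop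
    extends S2 f V O g0 R p ν κ M1 M2 where
  σR : σ ∈ normalizer (R : Set G)
  σO : ∀ o ∈ O, Commute σ o
  σZ : ∀ c, σ * f.x 0 0 c * σ⁻¹ = f.x 0 0 (c * c)
  σp : ∀ r ∈ R, ∀ i, p (σ * r * σ⁻¹) i = p r i * p r i
  σσ : σ * σ ∈ R
  σ2 : ∀ r ∈ R, Two5 (p r) → σ * r * σ⁻¹ = r ∨ σ * r * σ⁻¹ = r * f.z
  ρM : ρ ∈ normalizer (M1 : Set G)
  ρU : ρ ∈ normalizer (f.U1 : Set G)
  ρz : Commute ρ f.z
  ρO : ∀ o ∈ O, Commute ρ o
  ρZ : ρ ∉ normalizer (f.Z : Set G)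

/-- Stage 4: the extraspecial group `Q`. -/
structure S4 (f : Fd G) (V O : Subgroup G) (g0 : G) (R : Subgroup G) (p : G → C5)
    (ν : G → Equiv.Perm (Fin 5)) (κ : GF4) (M1 M2 : Subgroup G) (σ ρ : G) (Q : Subgroup G) : Prop
    extends S3 f V O g0 R p ν κ M1 M2 σ ρ where
  CZ : centralizer (f.Z : Set G) ≤ normalizer (R : Set G)
  memQ : ∀ y, y ∈ Q ↔ (y ∈ R ∧ Two5 (p y)) ∨ ∃ r ∈ R, Two5 (p r) ∧ y = σ * r
  es : ES Q f.z
  cardQ : Nat.card Q = 128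
  NZQ : ∀ g ∈ normalizer (f.Z : Set G), Commute g f.z → g ∈ normalizer (R : Set G) ∧
    g ∈ normalizer (Q : Set G)
  cQ : ∀ g, (∀ u ∈ Q, Commute g u) ↔ ∃ o ∈ O, g = o ∨ g = f.z * o

/-- An extraspecial group of order `2^7` with `C(Q) = ⟨z⟩ × O` whose normaliser is transitive on the
non-central involutions. -/
structure QY (Q O : Subgroup G) (z : G) : Prop where
  es : ES Q z
  card : Nat.card Q = 128
  oddO : Odd (Nat.card O)
  cQ : ∀ g, (∀ u ∈ Q, Commute g u) ↔ ∃ o ∈ O, g = o ∨ g = z * o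
  tr : ∀ s ∈ Q, s * s = 1 → s ∉ zpowers z → ∀ s' ∈ Q, s' * s' = 1 → s' ∉ zpowers z →
    ∃ g ∈ normalizer (Q : Set G), g * s * g⁻¹ = s'

end CfsgLib.SzC
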