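import Cfsg.Agent.Lib.SzC.Defs
import Cfsg.Agent.Lib.G2C.Defs

/-! Standard subgroups with centre of even order (plans/SZC2.md): definitions. -/

set_option autoImplicit false
set_option linter.unusedSectionVars false

namespace CfsgLib.SzC

open Subgroup Cfsg CfsgLib.Tech CfsgLib.StdR2 CfsgLib.Classical CfsgLib.ExtraTwo
open scoped commutatorElement

variable {G : Type*} [Group G]

/-- a 2-element -/
def Tw (g : G) : Prop := ∃ k : ℕ, g ^ 2 ^ k = 1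

/-- some conjugate of `K` contains an inner involution -/
def Inn0 (A : Subgroup G) : Prop :=
  ∃ g, g ∉ Hc A ∧ ∃ t ∈ Tech.cj g (Kc A), orderOf t = 2 ∧ t ∈ Kc A ⊔ A

/-- the 2-elements of `Z(A)` that commute with `t` have order at most 2 -/
def Elm (A : Subgroup G) (t : G) : Prop := ∀ w ∈ A, w ∈ Kc A → Tw w → Commute w t → w * w = 1

/-- a four-group in `K` -/
def Four (K : Subgroup G) : Prop :=
  ∃ v ∈ K, ∃ w ∈ K, orderOf v = 2 ∧ orderOf w = 2 ∧ v ≠ w ∧ Commute v w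

/-! ### The double cover of `G₂(4)` -/

/-- what is used about `A = 2 · G₂(4)`: `w` is the central involution, `L = 2^{3+8} : A₅` has centre
`Z`, and `s` lies over a short root element -/
structure Gv (A : Subgroup G) (w : G) (L Z : Subgroup G) (s : G) : Prop where
  wA : w ∈ A
  wK : w ∈ Kc A
  ow : orderOf w = 2
  cenA : ∀ a ∈ A, a ∈ Kc A → a = 1 ∨ a = w
  LA : L ≤ A
  perfL : ⁅L, L⁆ = L
  cardL : Nat.card L = 122880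
  genL : L ≤ closure {l | l ∈ L ∧ l ^ 4 = 1}
  ZL : Z ≤ L
  wZ : w ∈ Z
  cardZ : Nat.card Z = 8
  sqZ : ∀ ζ ∈ Z, ζ * ζ = 1
  LZ : ∀ l ∈ L, ∀ ζ ∈ Z, Commute l ζ
  sA : s ∈ A
  idx : ∀ a ∈ normalizer (A : Set G), ∀ b ∈ normalizer (A : Set G),
    a ∈ Kc A ⊔ A ∨ b ∈ Kc A ⊔ A ∨ a * b ∈ Kc A ⊔ A
  comm : ∀ t ∈ normalizer (A : Set G), t * t = 1 → t ∉ Kc A ⊔ A →
    ∃ a ∈ A, ∃ b ∈ A, b * b = 1 ∧ b ∉ Kc A ∧ b * t = a * t * a⁻¹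
  cls : ∀ a ∈ A, a ∉ Kc A → a * a ∈ Kc A → ∃ c ∈ A, c * a * c⁻¹ ∈ Z ∨ c * a * c⁻¹ = s
  cenZ : ∀ a ∈ A, ∀ ζ ∈ Z, ζ ∉ Kc A → ⁅a, ζ⁆ ∈ Kc A → a ∈ L
  cenS : ∀ C : Subgroup G, C ≤ A → (∀ a ∈ C, ⁅a, s⁆ ∈ Kc A) → Nat.card C ≤ 7680
  cenL : ∀ g ∈ normalizer (A : Set G), (∀ l ∈ L, ⁅g, l⁆ ∈ Kc A) → g ∈ Kc A ⊔ Z
  top : ∀ b ∈ A, b * b = 1 → b ∉ Z → ∀ Γ : Subgroup G, L ≤ Γ → (∀ a ∈ A, Commute a b → a ∈ Γ) → A ≤ Γ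
  nrm : ∀ N : Subgroup G, N ≤ L → L ≤ normalizer (N : Set G) → w ∉ N → (∀ b ∈ N, b * b = 1 → b ∈ Z) →
    N ≤ Z
  short : ∃ Λ : Subgroup G, Λ ≤ A ∧ ⁅Λ, Λ⁆ = Λ ∧ (∀ l ∈ Λ, Commute l s) ∧ ∃ a ∈ Λ, ∃ b ∈ Λ, a ∈ L ∧ b ∈ L ∧
    ⁅a, b⁆ ∈ Z ∧ ⁅a, b⁆ ∉ Kc A ∧ ∃ d ∈ A, d * s * d⁻¹ = s * ⁅a, b⁆
  nshort : ∀ a ∈ A, ∀ b ∈ A, ⁅a, s⁆ ∈ Kc A → ⁅b, s⁆ ∈ Kc A → ⁅a, b⁆ ≠ s
  chr : ∀ (θ : L ≃* L) (x : L), (x : G) = w → (θ x : G) = w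

/-- a central extension by `⟨w⟩` of a group that contains `G₂(4)`, with perfect preimage -/
structure Cov {F : Type*} [Field F] [Fintype F] {Q : Type*} [Group Q] (φ : G →* Q) (ι : G2C.Γ F →* Q)
    (w : G) : Prop where
  emb : G2C.Emb ι
  surj : Function.Surjective φ
  ker : ∀ g, φ g = 1 ↔ g = 1 ∨ g = w
  ow : orderOf w = 2
  perf : ⁅(G2C.AA ι).comap φ, (G2C.AA ι).comap φ⁆ = (G2C.AA ι).comap φ

/-! ### Covers of `L₃(4)` with centre of even order -/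

/-- the data: `U` is a Sylow 2-subgroup of `A`, `Co u a b c` says that `u ∈ U` lies over the
unitriangular matrix with entries `a, b` and `c` in the corner -/
structure Cd (G : Type*) [Group G] where
  A : Subgroup G
  U : Subgroup G
  Co : G → GF4 → GF4 → GF4 → Prop
  n : G
  m : G
  h : G

namespace Cd

variable (d : Cd G)

/-- `K` -/
abbrev K : Subgroup G := Kc d.A
/-- `H` -/
abbrev H : Subgroup G := Hc d.A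
/-- the preimage of the first `E₁₆` -/
def U1 : Subgroup G := closure {g | ∃ a c, d.Co g a 0 c}
/-- the preimage of the second `E₁₆` -/
def U2 : Subgroup G := closure {g | ∃ b c, d.Co g 0 b c}
/-- the preimage of the centre -/
def Z : Subgroup G := closure {g | ∃ c, d.Co g 0 0 c}

/-- the image under a homomorphism -/
def map {G' : Type*} [Group G'] (j : G →* G') : Cd G' :=
  ⟨d.A.map j, d.U.map j, fun y a b c => ∃ x, d.Co x a b c ∧ j x = y, j d.n, j d.m, j d.h⟩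

/-- the conjugate data -/
def cj (g : G) : Cd G := d.map (MulAut.conj g).toMonoidHom

/-- the dual data -/
def sw : Cd G := ⟨d.A, d.U, fun u a b c => d.Co u b a (c + a * b), d.m, d.n, d.h⟩

@[simp] theorem cj_A (g : G) : (d.cj g).A = Tech.cj g d.A := rfl
@[simp] theorem cj_U (g : G) : (d.cj g).U = Tech.cj g d.U := rfl
theorem cj_K (g : G) : (d.cj g).K = Tech.cj g d.K := Kc_cj g d.A
theorem cj_H (g : G) : (d.cj g).H = Tech.cj g d.H := Hc_cj g d.A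

theorem cj_Co (g u : G) (a b c : GF4) : (d.cj g).Co u a b c ↔ d.Co (g⁻¹ * u * g) a b c :=
  ⟨fun ⟨x, hx, e⟩ => by rw [← e]; simpa [mul_assoc] using hx, fun h => ⟨_, h, by simp [mul_assoc]⟩⟩

theorem cj_Co' (g u : G) (a b c : GF4) : (d.cj g).Co (g * u * g⁻¹) a b c ↔ d.Co u a b c := by
  rw [cj_Co]; simp [mul_assoc]

theorem cj_U1 (g : G) : (d.cj g).U1 = Tech.cj g d.U1 := by
  rw [U1, U1, Tech.cj, MonoidHom.map_closure]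
  congr 1; ext y
  exact ⟨fun ⟨a, c, x, e, e'⟩ => ⟨x, ⟨a, c, e⟩, e'⟩, fun ⟨x, ⟨a, c, e⟩, e'⟩ => ⟨a, c, x, e, e'⟩⟩

theorem cj_U2 (g : G) : (d.cj g).U2 = Tech.cj g d.U2 := by
  rw [U2, U2, Tech.cj, MonoidHom.map_closure]
  congr 1; ext y
  exact ⟨fun ⟨a, c, x, e, e'⟩ => ⟨x, ⟨a, c, e⟩, e'⟩, fun ⟨x, ⟨a, c, e⟩, e'⟩ => ⟨a, c, x, e, e'⟩⟩

theorem cj_Z (g : G) : (d.cj g).Z = Tech.cj g d.Z := by
  rw [Z, Z, Tech.cj, MonoidHom.map_closure]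
  congr 1; ext y
  exact ⟨fun ⟨c, x, e, e'⟩ => ⟨x, ⟨c, e⟩, e'⟩, fun ⟨x, ⟨c, e⟩, e'⟩ => ⟨c, x, e, e'⟩⟩

@[simp] theorem sw_A : d.sw.A = d.A := rfl
@[simp] theorem sw_U : d.sw.U = d.U := rfl
@[simp] theorem sw_n : d.sw.n = d.m := rfl
@[simp] theorem sw_m : d.sw.m = d.n := rfl
@[simp] theorem sw_h : d.sw.h = d.h := rfl
theorem sw_Co (u : G) (a b c : GF4) : d.sw.Co u a b c ↔ d.Co u b a (c + a * b) := Iff.rfl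
@[simp] theorem sw_Co1 (u : G) (a c : GF4) : d.sw.Co u a 0 c ↔ d.Co u 0 a c := by
  rw [sw_Co, mul_zero, add_zero]
@[simp] theorem sw_Co2 (u : G) (b c : GF4) : d.sw.Co u 0 b c ↔ d.Co u b 0 c := by
  rw [sw_Co, zero_mul, add_zero]
theorem sw_U1 : d.sw.U1 = d.U2 := by simp only [U1, U2, sw_Co1]
theorem sw_U2 : d.sw.U2 = d.U1 := by simp only [U1, U2, sw_Co2]
theorem sw_Z : d.sw.Z = d.Z := by simp only [Z, sw_Co1]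

/-- `g` acts on `U` as a graph automorphism -/
def T1 (g : G) : Prop := ∃ l : GF4, l ≠ 0 ∧
  (∀ u a b c, d.Co u a b c → ∃ c', d.Co (g * u * g⁻¹) (l * l * b) (l * a) c') ∧
  ∀ u c, d.Co u 0 0 c → d.Co (g * u * g⁻¹) 0 0 c

/-- `g` acts on `U` as a field automorphism -/
def T2 (g : G) : Prop := ∃ α β : GF4, α ≠ 0 ∧ β ≠ 0 ∧
  (∀ u a b c, d.Co u a b c → ∃ c', d.Co (g * u * g⁻¹) (α * a * a) (β * b * b) c') ∧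
  ∀ u c, d.Co u 0 0 c → d.Co (g * u * g⁻¹) 0 0 (α * β * c * c)

/-- `g` acts on `U` as a graph-field automorphism -/
def T3 (g : G) : Prop := ∃ l : GF4, l ≠ 0 ∧
  (∀ u a b c, d.Co u a b c → ∃ c', d.Co (g * u * g⁻¹) (l * b * b) (l * a * a) c') ∧
  ∀ u c, d.Co u 0 0 c → d.Co (g * u * g⁻¹) 0 0 (l * l * c * c)

end Cd

/-- what is used about `A` with `A / Z(A) ≅ L₃(4)` and `W = U ∩ K = O₂(Z(A)) ≠ 1` -/
structure Cv (d : Cd G) : Prop where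
  memU : ∀ u, u ∈ d.U ↔ ∃ a b c, d.Co u a b c
  surj : ∀ a b c, ∃ u, d.Co u a b c
  mul : ∀ u a b c v a' b' c', d.Co u a b c → d.Co v a' b' c' →
    d.Co (u * v) (a + a') (b + b') (c + c' + a * b')
  ker : ∀ u a b c, d.Co u a b c → (u ∈ d.K ↔ a = 0 ∧ b = 0 ∧ c = 0)
  ne : ∃ w ∈ d.U, w ∈ d.K ∧ w ≠ 1
  syl : IsSylowIn 2 d.U d.A
  nA : d.n ∈ d.A
  mA : d.m ∈ d.A
  hA : d.h ∈ d.A
  nx : ∀ u a c, d.Co u a 0 c → d.Co (d.n * u * d.n⁻¹) c 0 a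
  mx : ∀ u b c, d.Co u 0 b c → d.Co (d.m * u * d.m⁻¹) 0 c b
  hx : ∀ u a b c, d.Co u a b c → d.Co (d.h * u * d.h⁻¹) (ω * a) (ω * b) ((ω + 1) * c)
  nn : d.n * d.n ∈ d.K
  mm : d.m * d.m ∈ d.K
  n3 : ∀ v, d.Co v 0 1 0 → (d.n * v) ^ 3 ∈ d.K
  m3 : ∀ v, d.Co v 1 0 0 → (d.m * v) ^ 3 ∈ d.K
  der : ∀ w ∈ d.U, w ∈ d.K → w ∈ ⁅d.U, d.U⁆
  cls : ∀ y ∈ d.A, y ∉ d.K → y * y ∈ d.K → ∃ g ∈ d.A, ∃ k ∈ d.K, ∃ ζ, d.Co ζ 0 0 1 ∧ g * y * g⁻¹ = k * ζ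
  NU : ∀ g ∈ normalizer (d.A : Set G), ∀ ζ c, c ≠ 0 → d.Co ζ 0 0 c → ⁅g, ζ⁆ ∈ d.K →
    g ∈ normalizer (d.U : Set G)
  cenU : ∀ g ∈ normalizer (d.A : Set G), (∀ u ∈ d.U, ⁅g, u⁆ ∈ d.K) →
    ∃ k ∈ d.K, ∃ ζ c, d.Co ζ 0 0 c ∧ g = k * ζ
  sqi : ∀ g ∈ normalizer (d.A : Set G), Tw g → g * g ∈ d.K ⊔ d.A
  types : ∀ g ∈ normalizer (d.A : Set G), g ∈ normalizer (d.U : Set G) → Tw g →
    (∃ k ∈ d.K, ∃ u ∈ d.U, g = k * u) ∨ d.T1 g ∨ d.T2 g ∨ d.T3 g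

/-- the section `z` over the centre and the commutator map `ψ` -/
structure Al (d : Cd G) (z ψ : GF4 → G) : Prop extends Cv d where
  zCo : ∀ c, d.Co (z c) 0 0 c
  zadd : ∀ c c', z (c + c') = z c * z c'
  hz : ∀ c, d.h * z c * d.h⁻¹ = z ((ω + 1) * c)
  ψU : ∀ y, ψ y ∈ d.U
  ψK : ∀ y, ψ y ∈ d.K
  ψadd : ∀ y y', ψ (y + y') = ψ y * ψ y'
  act : ∀ u a b c ζ e, d.Co u a b c → d.Co ζ 0 0 e → u * ζ * u⁻¹ = ζ * ψ (a * e + b * b * e * e)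
  sqc : ∀ u a c v b e, d.Co u a 0 c → d.Co v 0 b e → ⁅u, v⁆ * ⁅u, v⁆ = ψ (a * a * b)
  root : ∀ y, ∃ w ∈ d.U, w ∈ d.K ∧ w * w = ψ y
  lift1 : ∀ a, ∃ u, d.Co u a 0 0 ∧ u * u = 1
  lift2 : ∀ b, ∃ u, d.Co u 0 b 0 ∧ u * u = 1

/-- the case `ψ = 1`: `W` is elementary abelian -/
structure El (d : Cd G) (z χ : GF4 → G) : Prop extends Cv d where
  zCo : ∀ c, d.Co (z c) 0 0 c
  zadd : ∀ c c', z (c + c') = z c * z c'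
  hz : ∀ c, d.h * z c * d.h⁻¹ = z ((ω + 1) * c)
  cen : ∀ u ∈ d.U, ∀ ζ e, d.Co ζ 0 0 e → Commute u ζ
  sq1 : ∀ u a c, d.Co u a 0 c → u * u = 1
  sq2 : ∀ u b c, d.Co u 0 b c → u * u = 1
  χU : ∀ y, χ y ∈ d.U
  χK : ∀ y, χ y ∈ d.K
  χadd : ∀ y y', χ (y + y') = χ y * χ y'
  comm : ∀ u a c v b e, d.Co u a 0 c → d.Co v 0 b e → ⁅u, v⁆ = z (a * b) * χ (a * b * b)
  onto : ∀ w ∈ d.U, w ∈ d.K → ∃ y, w = χ y

end CfsgLib.SzC
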