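import Cfsg.Agent.Lib.SzC.CK

/-! Package EXC: the split case does not occur (plans/SZC.md) -/

set_option autoImplicit false
set_option linter.unusedSectionVars false

namespace CfsgLib.SzC

open Subgroup Cfsg CfsgLib.Tech CfsgLib.StdR2 CfsgLib.Classical CfsgLib.ExtraTwo
open scoped commutatorElement

variable {G : Type*} [Group G] [Finite G] {f : Fd G}
  {V O : Subgroup G} {g0 : G} {R : Subgroup G} {p : G → C4} {μ : GF4}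

namespace ExcX

theorem add_self (w : C4) : w + w = 0 := by
  have : ∀ c : GF4, c + c = 0 := by decide
  exact Prod.ext (this _) (Prod.ext (this _) (Prod.ext (this _) (this _)))

theorem add_eq_zero {w w' : C4} (e : w + w' = 0) : w = w' := by
  rw [← add_zero w', ← add_self w, ← add_assoc, add_comm w', e, zero_add]

section S1

variable (h : S1 f V O g0 R p μ)
include h

theorem xR (a b c : GF4) : f.x a b c ∈ R := h.UR (h.toFm.mem_U.2 ⟨a, b, c, rfl⟩)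

theorem p_one : p 1 = 0 := by rw [← h.toFm.x_zero, h.pU]; rfl

theorem p_inv {r : G} (hr : r ∈ R) : p r⁻¹ = p r :=
  add_eq_zero (by rw [← h.pmul _ (inv_mem hr) r hr, inv_mul_cancel, p_one h])

theorem p_eq {r s : G} (hr : r ∈ R) (hs : s ∈ R) (e : p r = p s) : ∃ c, r = s * f.x 0 0 c := by
  obtain ⟨c, hc⟩ := h.toFm.mem_Z.1 (h.pker _ (mul_mem (inv_mem hs) hr) (by
    rw [h.pmul _ (inv_mem hs) r hr, p_inv h hs, e, add_self]))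
  exact ⟨c, by rw [← hc, mul_inv_cancel_left]⟩

theorem comm_of {r s : G} (hr : r ∈ R) (hs : s ∈ R) (e : b4 (p r) (p s) = 0) : Commute r s := by
  have := h.comm r hr s hs
  rwa [e, h.toFm.x_zero, mul_one] at this

theorem VA {v a : G} (hv : v ∈ V) (ha : a ∈ f.A) : Commute v a := comm_KA (h.sylV.le hv) ha

theorem n_N : f.n ∈ normalizer ((V ⊔ f.U1 : Subgroup G) : Set G) :=
  h.toS0.A_N1 h.nA (mem_normalizer_fintype fun y hy => by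
    obtain ⟨a, c, rfl⟩ := h.toFm.mem_U1.1 hy
    exact h.toFm.mem_U1.2 ⟨c, a, h.nx a c⟩)

theorem PU {π : G} (hπ : π ∈ R) {y : GF4} (e : p π = (0, y, 0, 0)) (a b c : GF4) : Commute π (f.x a b c) :=
  comm_of h hπ (xR h a b c) (by rw [e, h.pU]; simp [b4])

theorem PV {π : G} (hπ : π ∈ R) {y : GF4} (e : p π = (0, y, 0, 0)) {v : G} (hv : v ∈ V) :
    π * v * π⁻¹ = v * f.x 0 0 ((p v).1 * y) := by
  obtain ⟨x, hx⟩ := h.pV v hv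
  rw [h.comm π hπ v (h.VR hv), e, hx, mul_assoc v, (PU h hπ e 0 0 _).eq, mul_assoc, mul_inv_cancel_right]
  simp [b4, mul_comm]

theorem Ph {π : G} (hπ : π ∈ R) {y : GF4} (e : p π = (0, y, 0, 0)) :
    f.h * π * f.h⁻¹ ∈ R ∧ p (f.h * π * f.h⁻¹) = (0, (ω + 1) * y, 0, 0) :=
  ⟨conj_mem_of_mem_normalizer h.h_NR hπ, by rw [h.ph π hπ, e]; simp⟩

theorem n_inv : f.n⁻¹ = f.n := inv_eq_of_mul_eq_one_right h.nn

theorem Pn_tr {π : G} (hπ : π ∈ R) {y : GF4} (e : p π = (0, y, 0, 0)) :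
    Tr f V (fun v => (p v).1) (f.n * π * f.n⁻¹) y 0 := fun v hv => by
  have c := VA h hv h.nA
  calc f.n * π * f.n⁻¹ * v * (f.n * π * f.n⁻¹)⁻¹ = f.n * (π * (f.n⁻¹ * v * f.n) * π⁻¹) * f.n⁻¹ := by group
    _ = f.n * v * f.n⁻¹ * (f.n * f.x 0 0 ((p v).1 * y) * f.n⁻¹) := by
      rw [mul_assoc f.n⁻¹, c.eq, inv_mul_cancel_left, PV h hπ e hv]; group
    _ = _ := by rw [h.nx, ← c.eq, mul_inv_cancel_right, mul_zero]

/-- `P ∩ P^n = 1` -/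
theorem PPn {π π' : G} (hπ : π ∈ R) {y : GF4} (e : p π = (0, y, 0, 0)) (hπ' : π' ∈ R) {y' : GF4}
    (e' : p π' = (0, y', 0, 0)) (k : π = f.n * π' * f.n⁻¹) : π = 1 := by
  obtain ⟨v, hv, e1⟩ := h.Vp 1
  have h1 := Pn_tr h hπ' e' v hv
  rw [← k, PV h hπ e hv, e1] at h1
  obtain ⟨h2, -, h3⟩ := h.toFm.x_inj (mul_left_cancel h1)
  simp only [e1, one_mul, mul_zero] at h2 h3
  subst h2 h3
  obtain ⟨c, rfl⟩ := h.toFm.mem_Z.1 (h.pker _ hπ e)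
  obtain ⟨c', rfl⟩ := h.toFm.mem_Z.1 (h.pker _ hπ' e')
  rw [h.nx] at k
  rw [(h.toFm.x_inj k).2.2, h.toFm.x_zero]

end S1

variable (h : S1 f V O g0 R p 0) {M : Subgroup G} (h1 : MX f V O R (fun v => (p v).1) M)
  (k1 : Kap f V R p M 0)
include h

theorem P_sq {π : G} (hπ : π ∈ R) {y : GF4} (e : p π = (0, y, 0, 0)) : π * π = 1 := by
  rw [h.sq π hπ, e, ← h.toFm.x_zero]
  simp [q4]

include h1

theorem Pn_mem {π : G} (hπ : π ∈ R) {y : GF4} (e : p π = (0, y, 0, 0)) : f.n * π * f.n⁻¹ ∈ M :=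
  conj_mem_of_mem_normalizer (h1.NM (n_N h)) (h1.SM π hπ fun a c => PU h hπ e a 0 c)

include k1

theorem Pn_act {π : G} (hπ : π ∈ R) {y : GF4} (e : p π = (0, y, 0, 0)) {r : G} (hr : r ∈ R) :
    f.n * π * f.n⁻¹ * r * (f.n * π * f.n⁻¹)⁻¹ ∈ R ∧
      p (f.n * π * f.n⁻¹ * r * (f.n * π * f.n⁻¹)⁻¹) = mt 0 y (p r) :=
  ⟨conj_mem_of_mem_normalizer (h1.MR (Pn_mem h h1 hπ e)) hr, k1 _ (Pn_mem h h1 hπ e) y 0 (Pn_tr h hπ e) r hr⟩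

theorem Pn_cm {π π' : G} (hπ : π ∈ R) {y : GF4} (e : p π = (0, y, 0, 0)) (hπ' : π' ∈ R) {y' : GF4}
    (e' : p π' = (0, y', 0, 0)) : ∃ c, ⁅π, f.n * π' * f.n⁻¹⁆ = f.x 0 0 c := by
  obtain ⟨a, b⟩ := Pn_act h h1 k1 hπ' e' hπ
  obtain ⟨c, hc⟩ := p_eq h hπ a (by rw [b, e]; simp [mt])
  refine ⟨c, ?_⟩
  have c1 := (h1.MU _ (Pn_mem h h1 hπ' e') 0 c).eq
  have c2 := (PU h hπ e 0 0 c).eq
  generalize f.n * π' * f.n⁻¹ = m at hc c1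
  generalize f.x 0 0 c = ζ at hc c1 c2
  rw [mul_assoc (m * π), (Commute.inv_left c1).eq, ← mul_assoc, mul_assoc m, c2, ← mul_assoc, c1] at hc
  rw [commutatorElement_def]
  nth_rw 1 [hc]
  group

theorem Pn_comm {π π' : G} (hπ : π ∈ R) {y : GF4} (e : p π = (0, y, 0, 0)) (hπ' : π' ∈ R) {y' : GF4}
    (e' : p π' = (0, y', 0, 0)) : Commute π (f.n * π' * f.n⁻¹) := by
  obtain ⟨c, hc⟩ := Pn_cm h h1 k1 hπ e hπ' e'
  obtain ⟨d, hd⟩ := Pn_cm h h1 k1 hπ' e' hπ e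
  have h2 : f.n * (f.n * π * f.n⁻¹) * f.n⁻¹ = π := by
    rw [← mul_assoc, ← mul_assoc, h.nn, one_mul, mul_assoc, n_inv h, h.nn, mul_one]
  have h3 : f.n * ⁅π', f.n * π * f.n⁻¹⁆ * f.n⁻¹ = ⁅π, f.n * π' * f.n⁻¹⁆⁻¹ := by
    rw [commutatorElement_inv]
    conv_rhs => rw [← h2]
    simp only [commutatorElement_def]
    group
  rw [hc, hd, h.nx, h.toFm.x_inv] at h3
  have h4 := (h.toFm.x_inj h3).2.2
  rw [mul_zero, add_zero] at h4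
  rw [← h4, h.toFm.x_zero] at hc
  exact commutatorElement_eq_one_iff_commute.1 hc

theorem phi {π : G} (hπ : π ∈ R) {y : GF4} (e : p π = (0, y, 0, 0)) (b : GF4) : ∃ φ ∈ R, p φ = (0, y * b, 0, 0) ∧
    f.x 0 b 0 * (f.n * π * f.n⁻¹) * (f.x 0 b 0)⁻¹ = φ * (f.n * π * f.n⁻¹) := by
  obtain ⟨a1, a2⟩ := Pn_act h h1 k1 hπ e (xR h 0 b 0)
  refine ⟨_, mul_mem (xR h 0 b 0) (inv_mem a1), ?_, by group⟩
  rw [h.pmul _ (xR h 0 b 0) _ (inv_mem a1), p_inv h a1, a2, h.pU]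
  have : b + b = 0 := (by decide : ∀ b : GF4, b + b = 0) b
  simp [mt, this]

theorem phi_one {π : G} (hπ : π ∈ R) {y : GF4} (e : p π = (0, y, 0, 0)) :
    f.x 0 1 0 * (f.n * π * f.n⁻¹) * (f.x 0 1 0)⁻¹ = π * (f.n * π * f.n⁻¹) := by
  obtain ⟨φ, a1, a2, a3⟩ := phi h h1 k1 hπ e 1
  obtain ⟨ψ, b1, b2, b3⟩ := phi h h1 k1 a1 a2 1
  have c0 := (h.RO π hπ _ (h.toS0.AK_O (pow_mem (mul_mem h.nA (h.xA 0 1 0)) 3) h.n3)).eq
  have c1 := (PU h hπ e 0 1 0).eq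
  have nn : ∀ g : G, f.n * (f.n * g * f.n⁻¹) * f.n⁻¹ = g := fun g => by
    rw [← mul_assoc, ← mul_assoc, h.nn, one_mul, mul_assoc, n_inv h, h.nn, mul_one]
  have e1 : f.n * f.x 0 1 0 * π * (f.n * f.x 0 1 0)⁻¹ = f.n * π * f.n⁻¹ := by
    rw [mul_assoc f.n, ← c1]; group
  have e2 : ∀ π φ : G, f.x 0 1 0 * (f.n * π * f.n⁻¹) * (f.x 0 1 0)⁻¹ = φ * (f.n * π * f.n⁻¹) →
      f.n * f.x 0 1 0 * (f.n * π * f.n⁻¹) * (f.n * f.x 0 1 0)⁻¹ = f.n * φ * f.n⁻¹ * π := fun π φ k => by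
    calc _ = f.n * (f.x 0 1 0 * (f.n * π * f.n⁻¹) * (f.x 0 1 0)⁻¹) * f.n⁻¹ := by group
      _ = f.n * φ * f.n⁻¹ * (f.n * (f.n * π * f.n⁻¹) * f.n⁻¹) := by rw [k]; group
      _ = _ := by rw [nn]
  have e3 : π = f.n * ψ * f.n⁻¹ * φ * (f.n * π * f.n⁻¹) := by
    have a4 := e2 _ _ a3
    have b4 := e2 _ _ b3
    generalize f.n * f.x 0 1 0 = c at c0 e1 a4 b4
    calc π = c * (c * (c * π * c⁻¹) * c⁻¹) * c⁻¹ := by
          rw [show c * (c * (c * π * c⁻¹) * c⁻¹) * c⁻¹ = c ^ 3 * π * (c ^ 3)⁻¹ by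
            simp [pow_succ, mul_assoc], ← c0, mul_inv_cancel_right]
      _ = c * (f.n * φ * f.n⁻¹) * c⁻¹ * (c * π * c⁻¹) := by
          nth_rw 1 [e1]
          rw [a4]; group
      _ = _ := by rw [b4, e1]
  have c2 := (Pn_comm h h1 k1 a1 a2 b1 b2).eq
  have e4 : φ⁻¹ * π = f.n * (ψ * π) * f.n⁻¹ := by
    nth_rw 1 [e3]
    rw [← c2]; group
  have := PPn h (mul_mem (inv_mem a1) hπ) (y := y * 1 + y) (by
    rw [h.pmul _ (inv_mem a1) _ hπ, p_inv h a1, a2, e]; simp) (mul_mem b1 hπ) (y' := y * 1 * 1 + y) (by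
    rw [h.pmul _ b1 _ hπ, b2, e]; simp) e4
  rw [a3, inv_mul_eq_one.1 this]

theorem phi_om {π : G} (hπ : π ∈ R) {y : GF4} (e : p π = (0, y, 0, 0)) :
    f.x 0 ω 0 * (f.n * π * f.n⁻¹) * (f.x 0 ω 0)⁻¹ =
      f.h * (f.h * π * f.h⁻¹) * f.h⁻¹ * (f.n * π * f.n⁻¹) := by
  obtain ⟨a1, a2⟩ := Ph h hπ e
  have e1 := phi_one h h1 k1 a1 a2
  have c0 := (h.RO _ a1 _ (h.toS0.AK_O
    (mul_mem (mul_mem (mul_mem h.nA h.hA) (inv_mem h.nA)) h.hA) h.nh)).eq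
  have c1 := (h.RO _ hπ _ (h.toS0.AK_O
    (mul_mem (mul_mem (mul_mem h.nA h.hA) (inv_mem h.nA)) h.hA) h.nh)).eq
  have e2 : f.x 0 ω 0 = f.h * f.x 0 1 0 * f.h⁻¹ := by rw [h.hx]; simp
  have e3 : f.h * (f.n * (f.h * π * f.h⁻¹) * f.n⁻¹) * f.h⁻¹ = f.n * π * f.n⁻¹ := by
    have n2 := h.nn
    have n3 := n_inv h
    calc _ = f.n * ((f.n⁻¹ * f.h * f.n * f.h) * π * (f.n⁻¹ * f.h * f.n * f.h)⁻¹) * f.n⁻¹ := by group
      _ = _ := by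
        rw [show f.n⁻¹ * f.h * f.n * f.h = f.n * f.h * f.n⁻¹ * f.h by rw [n3], ← c1, mul_inv_cancel_right]
  rw [e2]
  conv_lhs => rw [← e3]
  conv_rhs => rw [← e3]
  calc _ = f.h * (f.x 0 1 0 * (f.n * (f.h * π * f.h⁻¹) * f.n⁻¹) * (f.x 0 1 0)⁻¹) * f.h⁻¹ := by group
    _ = _ := by rw [e1]; group

omit h h1 k1 in
theorem calc_cm {m1 m2 a b φ ζ : G} (φφ : φ * φ = 1) (ab : a * b = b * a * ζ)
    (b1 : b * m1 * b⁻¹ = φ * m1) (a2 : a * m2 * a⁻¹ = φ * m2)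
    (φ1 : Commute φ m1) (φ2 : Commute φ m2) (ζ1 : Commute m1 ζ) (ζ2 : Commute m2 ζ)
    (ζa : Commute a ζ) (ζb : Commute b ζ) (ζφ : Commute φ ζ) : ⁅m1 * a, m2 * b⁆ = ⁅m1, m2⁆ * ζ := by
  have e1 : a * b * a⁻¹ = b * ζ := by rw [ab, mul_assoc b, ζa.eq]; group
  have e2 : b * m1⁻¹ * b⁻¹ = m1⁻¹ * φ := by
    rw [show b * m1⁻¹ * b⁻¹ = (b * m1 * b⁻¹)⁻¹ by group, b1, mul_inv_rev, inv_eq_of_mul_eq_one_right φφ]
  calc ⁅m1 * a, m2 * b⁆ = m1 * (a * m2 * a⁻¹) * (a * b * a⁻¹) * m1⁻¹ * b⁻¹ * m2⁻¹ := by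
        rw [commutatorElement_def]; group
    _ = m1 * (φ * m2) * ζ * (b * m1⁻¹ * b⁻¹) * m2⁻¹ := by rw [a2, e1, ζb.eq]; group
    _ = m1 * m2 * (φ * ζ * m1⁻¹ * φ) * m2⁻¹ := by rw [e2, φ2.eq]; group
    _ = m1 * m2 * (m1⁻¹ * ζ) * m2⁻¹ := by
        rw [ζφ.eq, mul_assoc ζ, φ1.inv_right.eq, mul_assoc ζ, mul_assoc m1⁻¹, φφ, mul_one, ζ1.inv_left.eq]
    _ = _ := by rw [commutatorElement_def, mul_assoc _ m2⁻¹, ζ2.inv_left.eq]; group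

omit k1 in
theorem conj_v {π : G} (hπ : π ∈ R) (e : p π = (0, 1, 0, 0)) {v : G} (hv : v ∈ V) :
    v * (f.n * π * f.n⁻¹) * v⁻¹ = f.n * π * f.n⁻¹ * f.x (p v).1 0 0 := by
  have e1 := Pn_tr h hπ e v hv
  have c := (h1.MU _ (Pn_mem h h1 hπ e) (p v).1 0).eq
  have vv := h.sqV v hv
  simp only [mul_one, mul_zero] at e1
  generalize f.n * π * f.n⁻¹ = m at e1 c
  rw [inv_eq_of_mul_eq_one_right vv, c, mul_assoc, show m * v = v * f.x (p v).1 0 0 * m by rw [← e1]; group,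
    ← mul_assoc, ← mul_assoc, vv, one_mul]

end ExcX

open ExcX in
theorem S1.not_split (h : S1 f V O g0 R p 0) {M1 M2 : Subgroup G}
    (h1 : MX f V O R (fun v => (p v).1) M1) (h2 : MX f.sw V O R (fun v => (p v).1) M2)
    (k1 : Kap f V R p M1 0) (k2 : Kap f.sw V R (fun r => s4 (p r)) M2 0) : False := by
  obtain ⟨π, hπ, e⟩ := h.psurj (0, 1, 0, 0)
  have sw : ∀ {φ : G} {y : GF4}, p φ = (0, y, 0, 0) → s4 (p φ) = (0, y, 0, 0) := fun k => by rw [k]; rfl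
  have m1 := Pn_mem h h1 hπ e
  have m2 : f.m * π * f.m⁻¹ ∈ M2 := Pn_mem h.sw h2 hπ (sw e)
  have u2 : ∀ b c, Commute (f.m * π * f.m⁻¹) (f.x 0 b c) := fun b c => f.sw_x1 b c ▸ h2.MU _ m2 b c
  have t1 := fun r hr => Pn_act h h1 k1 hπ e (r := r) hr
  have t2 : ∀ r ∈ R, f.m * π * f.m⁻¹ * r * (f.m * π * f.m⁻¹)⁻¹ ∈ R ∧
      p (f.m * π * f.m⁻¹ * r * (f.m * π * f.m⁻¹)⁻¹) = s4 (mt 0 1 (s4 (p r))) := fun r hr =>
    (Pn_act h.sw h2 k2 hπ (sw e) hr).imp_right fun k => by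
      have := congrArg s4 k
      exact this
  have s1 : f.n * π * f.n⁻¹ * (f.n * π * f.n⁻¹) = 1 := by rw [conj_mul, P_sq h hπ e]; group
  have s2 : f.m * π * f.m⁻¹ * (f.m * π * f.m⁻¹) = 1 := by rw [conj_mul, P_sq h hπ e]; group
  have key : ∀ (c : GF4) (φ : G) (y : GF4), φ ∈ R → p φ = (0, y, 0, 0) →
      f.x 0 c 0 * (f.n * π * f.n⁻¹) * (f.x 0 c 0)⁻¹ = φ * (f.n * π * f.n⁻¹) →
      f.x c 0 0 * (f.m * π * f.m⁻¹) * (f.x c 0 0)⁻¹ = φ * (f.m * π * f.m⁻¹) → ∀ v ∈ V, (p v).1 = c →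
      v * ⁅f.n * π * f.n⁻¹, f.m * π * f.m⁻¹⁆ * v⁻¹ = ⁅f.n * π * f.n⁻¹, f.m * π * f.m⁻¹⁆ * f.x 0 0 (c * c) :=
    fun c φ y a b e1 e2 v hv hc => by
    have v1 := conj_v h h1 hπ e hv
    have v2 : v * (f.m * π * f.m⁻¹) * v⁻¹ = f.m * π * f.m⁻¹ * f.sw.x (p v).1 0 0 := conj_v h.sw h2 hπ (sw e) hv
    rw [f.sw_x1] at v2
    rw [conjugate_commutatorElement, v1, v2, hc]
    refine calc_cm (P_sq h a b) (by rw [h.toFm.x_comm]; simp)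
      e1 e2 (Pn_comm h h1 k1 a b hπ e) (Pn_comm h.sw h2 k2 a (sw b) hπ (sw e))
      (h1.MU _ m1 0 _) (u2 0 _) ?_ ?_ (PU h a b ..)
    all_goals exact comm_of h (xR h ..) (xR h ..) (by simp [h.pU, b4])
  obtain ⟨r, hr, o, ho, e0⟩ := h.kerO (g := ⁅f.n * π * f.n⁻¹, f.m * π * f.m⁻¹⁆)
    (by
      rw [commutatorElement_def]
      exact mul_mem (mul_mem (mul_mem (h1.MR m1) (h2.MR m2)) (inv_mem (h1.MR m1))) (inv_mem (h2.MR m2)))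
    (fun c => by
      rw [commutatorElement_def]
      exact (((h1.MU _ m1 0 c).mul_left (u2 0 c)).mul_left (h1.MU _ m1 0 c).inv_left).mul_left (u2 0 c).inv_left)
    fun r hr => by
      obtain ⟨a1, b1⟩ := t2 r hr
      obtain ⟨a2, b2⟩ := t1 _ a1
      obtain ⟨a3, b3⟩ := t2 _ a2
      obtain ⟨-, b4⟩ := t1 _ a3
      rw [b3, b2, b1] at b4
      have : ∀ w : C4, mt 0 1 (s4 (mt 0 1 (s4 (mt 0 1 (s4 (mt 0 1 (s4 w))))))) = w := by decide +kernel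
      rw [this] at b4
      rw [← b4, commutatorElement_def]
      generalize f.n * π * f.n⁻¹ = a at s1
      generalize f.m * π * f.m⁻¹ = b at s2
      congr 1
      simp only [mul_inv_rev, inv_eq_of_mul_eq_one_right s1, inv_eq_of_mul_eq_one_right s2, mul_assoc]
  have fin : ∀ c : GF4, ∀ v ∈ V, p v = (c, 0, 0, 0) → v * (r * o) * v⁻¹ = r * o * f.x 0 0 (c * c) →
      c * (p r).2.1 = c * c := fun c v hv hc k => by
    have c1 := h.comm v (h.VR hv) r hr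
    have c2 := h.RO _ (xR h 0 0 (b4 (p v) (p r))) o ho
    have c3 := h.RO _ (h.VR hv) o ho
    have c4 := VA h hv (h.xA 0 0 (b4 (p v) (p r)))
    rw [← mul_assoc, c1, mul_assoc r, c4.eq, mul_assoc r, mul_assoc _ v, c3.eq, ← mul_assoc _ o, c2.eq, ← mul_assoc r,
      mul_inv_cancel_right, ← mul_assoc] at k
    have := (h.toFm.x_inj (mul_left_cancel k)).2.2
    rw [hc] at this
    simpa [b4] using this
  obtain ⟨v, hv, e1⟩ := h.Vp 1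
  obtain ⟨w, hw, e2⟩ := h.Vp ω
  obtain ⟨a1, a2⟩ := Ph h hπ e
  obtain ⟨a3, a4⟩ := Ph h a1 a2
  have f1 := fin 1 v hv e1 (e0 ▸ key 1 π 1 hπ e (phi_one h h1 k1 hπ e)
    (f.sw_x2 1 0 ▸ phi_one h.sw h2 k2 hπ (sw e)) v hv (by rw [e1]))
  have f2 := fin ω w hw e2 (e0 ▸ key ω _ _ a3 a4 (phi_om h h1 k1 hπ e)
    (f.sw_x2 ω 0 ▸ phi_om h.sw h2 k2 hπ (sw e)) w hw (by rw [e2]))
  rw [one_mul, one_mul] at f1
  rw [f1] at f2
  exact absurd f2 (by decide)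

end CfsgLib.SzC
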