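import Cfsg.Agent.Lib.SzC.Defs2
import Cfsg.Agent.Lib.G2C.FD
import Cfsg.Agent.Lib.Schur.Basic

/-! Package GA: the double cover of `G₂(4)`, first facts (plans/SZC2.md) -/

set_option autoImplicit false
set_option linter.unusedSectionVars false

namespace CfsgLib.SzC

open Subgroup Cfsg CfsgLib.Tech CfsgLib.StdR2 CfsgLib.Classical CfsgLib.ExtraTwo
open scoped commutatorElement

variable {G : Type*} [Group G] [Finite G] {F : Type*} [Field F] [Fintype F] {Q : Type*} [Group Q] [Finite Q]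
  {φ : G →* Q} {ι : G2C.Γ F →* Q} {w : G}

namespace Cov

variable (h : Cov φ ι w)
include h

theorem φw : φ w = 1 := (h.ker w).2 (Or.inr rfl)

theorem w_ne : w ≠ 1 := fun e => by
  have := h.ow
  rw [e, orderOf_one] at this
  omega

theorem ww : w * w = 1 := by rw [← sq, ← h.ow, pow_orderOf_eq_one]

theorem cw (g : G) : Commute g w := by
  rcases (h.ker (g * w * g⁻¹)).1 (by simp [h.φw]) with e | e
  · exact absurd (conj_eq_one_iff.1 e) h.w_ne
  · exact mul_inv_eq_iff_eq_mul.1 e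

theorem eq_or {a b : G} (e : φ a = φ b) : a = b ∨ a = b * w := by
  rcases (h.ker (b⁻¹ * a)).1 (by simp [e]) with k | k
  · exact Or.inl (inv_mul_eq_one.1 k).symm
  · exact Or.inr (inv_mul_eq_iff_eq_mul.1 k)

theorem sq_eq {a b : G} (e : φ a = φ b) : a * a = b * b := by
  rcases h.eq_or e with rfl | rfl
  · rfl
  · rw [mul_assoc, ← mul_assoc w, ← (h.cw b).eq, mul_assoc b w, h.ww, mul_one]

theorem ker_le : φ.ker ≤ center G := fun g hg => mem_center_iff.2 fun k => by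
  rcases (h.ker g).1 hg with rfl | rfl
  · simp
  · exact h.cw k

/-- a perfect subgroup that centralises an element modulo `w` centralises it -/
theorem comm_of_perf {Λ : Subgroup G} (hΛ : ⁅Λ, Λ⁆ = Λ) {y : G} (hy : ∀ l ∈ Λ, Commute (φ l) (φ y)) :
    ∀ l ∈ Λ, Commute l y := by
  have h1 : ⁅Λ, zpowers y⁆ ≤ center G := (commutator_le.2 fun l hl u hu => by
    obtain ⟨n, rfl⟩ := mem_zpowers_iff.1 hu
    rw [MonoidHom.mem_ker, map_commutatorElement, map_zpow, commutatorElement_eq_one_iff_commute]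
    exact (hy l hl).zpow_right n).trans h.ker_le
  have h2 : ⁅⁅Λ, zpowers y⁆, Λ⁆ = ⊥ :=
    commutator_eq_bot_iff_le_centralizer.2 (h1.trans (center_le_centralizer _))
  have h3 := commutator_commutator_eq_bot_of_rotate h2 (by rwa [commutator_comm (zpowers y)])
  rw [hΛ, commutator_eq_bot_iff_le_centralizer] at h3
  exact fun l hl => (h3 hl y (mem_zpowers y)).symm

theorem memK {g : G} : g ∈ Kc ((G2C.AA ι).comap φ) ↔ φ g ∈ G2C.KK ι := by
  rw [mem_Kc, G2C.mem_KK]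
  refine ⟨fun k a ha => ?_, fun k a ha =>
    (h.comm_of_perf h.perf (fun l hl => (k _ hl).symm) a ha).symm⟩
  obtain ⟨a, rfl⟩ := h.surj a
  exact (k a ha).map φ

theorem memN {g : G} : g ∈ normalizer (((G2C.AA ι).comap φ : Subgroup G) : Set G) ↔
    φ g ∈ normalizer (G2C.AA ι : Set Q) := by
  rw [← comap_normalizer_eq_of_surjective _ h.surj, mem_comap]

theorem memKA {g : G} : g ∈ Kc ((G2C.AA ι).comap φ) ⊔ (G2C.AA ι).comap φ ↔ φ g ∈ G2C.KK ι ⊔ G2C.AA ι := by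
  rw [show Kc ((G2C.AA ι).comap φ) = (G2C.KK ι).comap φ from Subgroup.ext fun _ => h.memK,
    comap_sup_eq φ _ _ h.surj, mem_comap]

theorem card_comap (M : Subgroup Q) : Nat.card (M.comap φ) = 2 * Nat.card M := by
  have h1 : φ.ker = zpowers w := le_antisymm (fun g hg => by
    rcases (h.ker g).1 hg with rfl | rfl
    · exact one_mem _
    · exact mem_zpowers _) (zpowers_le.2 h.φw)
  have h2 := Schur.card_eq_card_ker_mul h.surj
  rw [h1, Nat.card_zpowers, h.ow, ← card_mul_index M, ← card_mul_index (M.comap φ),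
    index_comap_of_surjective _ h.surj, ← mul_assoc] at h2
  exact Nat.eq_of_mul_eq_mul_right (Nat.pos_of_ne_zero index_ne_zero_of_finite) h2

theorem w_comap (M : Subgroup Q) : w ∈ M.comap φ := by
  rw [mem_comap, h.φw]
  exact one_mem _

/-- transfer -/
theorem w_mem : w ∈ ⁅(G2C.RA ι ⊔ G2C.XX ι 7).comap φ, (G2C.RA ι ⊔ G2C.XX ι 7).comap φ⁆ := by
  have hle : (G2C.RA ι ⊔ G2C.XX ι 7).comap φ ≤ (G2C.AA ι).comap φ :=
    comap_mono (sup_le (G2C.RA_le_LL.trans G2C.LL_le) (G2C.XX_le _))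
  have h1 := h.w_comap (G2C.AA ι)
  rw [← h.perf, ← map_subtype_commutator] at h1
  obtain ⟨z, hz, e⟩ := h1
  change (z : G) = w at e
  have h2 := card_mul_relIndex' hle
  rw [h.card_comap, h.card_comap, h.emb.cardU, h.emb.cardA] at h2
  have h3 := Schur.mem_commutator_of_coprime
    (((G2C.RA ι ⊔ G2C.XX ι 7).comap φ).subgroupOf ((G2C.AA ι).comap φ)) (z := z)
    (mem_center_iff.2 fun g => Subtype.ext (by simpa [e] using (h.cw g).eq)) hz (by
      rw [← orderOf_coe, e, h.ow, show (((G2C.RA ι ⊔ G2C.XX ι 7).comap φ).subgroupOf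
        ((G2C.AA ι).comap φ)).index = 61425 by rw [← relIndex]; omega]
      decide)
  have h4 := mem_map_of_mem ((G2C.AA ι).comap φ).subtype h3
  rwa [map_commutator, map_subgroupOf_eq_of_le hle, coe_subtype, e] at h4

theorem le_of_map {M : Subgroup Q} {N : Subgroup G} (h1 : M ≤ N.map φ) (h2 : w ∈ N) :
    M.comap φ ≤ N := fun l hl => by
  obtain ⟨c, hc, e⟩ := h1 hl
  rcases h.eq_or e.symm with rfl | rfl
  · exact hc
  · exact mul_mem hc h2

theorem perfL : ⁅(G2C.LL ι).comap φ, (G2C.LL ι).comap φ⁆ = (G2C.LL ι).comap φ := by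
  have hle : (G2C.RA ι ⊔ G2C.XX ι 7).comap φ ≤ (G2C.LL ι).comap φ :=
    comap_mono (sup_le G2C.RA_le_LL (G2C.X7_le.trans G2C.A2_le_LL))
  refine le_antisymm (commutator_le.2 fun a ha b hb =>
    mul_mem (mul_mem (mul_mem ha hb) (inv_mem ha)) (inv_mem hb))
    (h.le_of_map ?_ (commutator_mono hle hle h.w_mem))
  rw [map_commutator, map_comap_eq_self_of_surjective h.surj, h.emb.perfL]

theorem LZ {l ζ : G} (hl : φ l ∈ G2C.LL ι) (hζ : φ ζ ∈ G2C.ZZ ι) : Commute l ζ :=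
  h.comm_of_perf h.perfL (fun _ k => h.emb.LZ k hζ) l hl

theorem sqZ {ζ : G} (hζ : φ ζ ∈ G2C.ZZ ι) : ζ * ζ = 1 := by
  refine ((h.ker _).1 (by rw [map_mul, h.emb.sqZ hζ])).resolve_right fun e => ?_
  have h1 : φ ζ ≠ 1 := fun k => h.w_ne (by rw [← e, h.sq_eq (k.trans (map_one φ).symm), one_mul])
  obtain ⟨τ, hτ⟩ := h.emb.exists_tau
  obtain ⟨τ, rfl⟩ := h.surj τ
  have h2 : ∀ g : G, g * ζ * g⁻¹ * (g * ζ * g⁻¹) = w := fun g => by
    rw [conj_mul, e, (h.cw g).mul_inv_cancel]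
  have h3 : φ (τ * ζ * τ⁻¹) ∈ G2C.ZZ ι := by
    rw [map_mul, map_mul, map_inv]
    exact conj_mem_of_mem_normalizer hτ.nZ hζ
  have h4 : φ (ζ * (τ * ζ * τ⁻¹)) ≠ 1 := fun k => h1 (hτ.fZ _ hζ (by
    rw [map_mul, ← h.emb.sqZ hζ, mul_right_inj, map_mul, map_mul, map_inv] at k
    exact mul_inv_eq_iff_eq_mul.1 k))
  obtain ⟨i, hi⟩ := hτ.trans h.emb hζ h1 (by rw [map_mul]; exact mul_mem hζ h3) h4
  have h5 := h.sq_eq (a := τ ^ i * ζ * (τ ^ i)⁻¹) (by rw [← hi]; simp)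
  rw [h2, (h.LZ (G2C.ZZ_le_LL hζ) h3).symm.mul_mul_mul_comm, e, h2, h.ww] at h5
  exact h.w_ne h5

theorem long_sq {a : G} (ha : G2C.Long ι (φ a)) : a * a = 1 := by
  obtain ⟨b, -, e⟩ := ha
  obtain ⟨b, rfl⟩ := h.surj b
  obtain ⟨ζ, hζ⟩ := h.surj (G2C.zz ι)
  rw [h.sq_eq (b := b * ζ * b⁻¹) (by simp [e, hζ]), conj_mul, h.sqZ (hζ ▸ G2C.zz_mem)]
  simp

theorem genL : (G2C.LL ι).comap φ ≤ closure {l | l ∈ (G2C.LL ι).comap φ ∧ l ^ 4 = 1} := by
  refine h.le_of_map (h.emb.genL.trans ((closure_le _).2 ?_))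
    (subset_closure ⟨h.w_comap _, by rw [show 4 = 2 * 2 from rfl, pow_mul, sq w, h.ww, one_pow]⟩)
  rintro l ⟨h1, h2⟩
  obtain ⟨l, rfl⟩ := h.surj l
  refine ⟨l, subset_closure ⟨h1, ?_⟩, rfl⟩
  rw [show 4 = 2 * 2 from rfl, pow_mul, sq, sq]
  rcases (h.ker (l * l)).1 (by rw [map_mul, h2]) with e | e <;> rw [e]
  · exact one_mul _
  · exact h.ww

end Cov

end CfsgLib.SzC
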