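import Cfsg.Agent.Lib.SzC.GA

/-! Package GB: short root elements lift to elements of order 4 (plans/SZC2.md) -/

set_option autoImplicit false
set_option linter.unusedSectionVars false

namespace CfsgLib.SzC

open Subgroup Cfsg CfsgLib.Tech CfsgLib.StdR2 CfsgLib.Classical CfsgLib.ExtraTwo
open scoped commutatorElement

variable {G : Type*} [Group G] [Finite G] {F : Type*} [Field F] [Fintype F] {Q : Type*} [Group Q] [Finite Q]
  {φ : G →* Q} {ι : G2C.Γ F →* Q} {w : G}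

/-- the norm map of `τ` on `R / [R, R]` kills `[R X, R X]` -/
theorem gb_aux {R X : Subgroup G} {τ : G} (hτ : τ ∈ normalizer (R : Set G))
    (hX : X ≤ normalizer (R : Set G)) (hXX : ∀ x ∈ X, ∀ y ∈ X, Commute x y)
    (hτX : ∀ x ∈ X, Commute τ x)
    (hN : ∀ r ∈ R, ∀ x ∈ X, Commute x (r * (τ * r * τ⁻¹) * (τ * (τ * r * τ⁻¹) * τ⁻¹))) (hw : w ∈ R)
    (hτw : Commute τ w) (hww : w * w = 1) (h : w ∈ ⁅R ⊔ X, R ⊔ X⁆) : w ∈ ⁅R, R⁆ := by
  let c := R.normalizerMonoidHom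
  have hc : ∀ g (r : R), (c g r : G) = g * r * (g : G)⁻¹ := fun _ _ => rfl
  let t := c ⟨τ, hτ⟩
  let ν : R →* Abelianization R := Abelianization.of * Abelianization.of.comp t.toMonoidHom *
    Abelianization.of.comp (t * t).toMonoidHom
  have hν : ∀ r : R, ν r = Abelianization.of (r * t r * t (t r)) := fun r => by simp [ν]
  have h1 : ∀ x (hx : x ∈ X) (r : R), ν (c ⟨x, hX hx⟩ r) = ν r := fun x hx r => by
    have k : ∀ s : R, t (c ⟨x, hX hx⟩ s) = c ⟨x, hX hx⟩ (t s) := fun s => by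
      rw [← MulAut.mul_apply, ← MulAut.mul_apply, ← map_mul, ← map_mul]
      exact congrArg (c · s) (Subtype.ext (hτX x hx).eq)
    rw [hν, hν, k, k, ← map_mul, ← map_mul]
    exact congrArg _ (Subtype.ext (hN r r.2 x hx).mul_inv_cancel)
  have h2 : ⁅R ⊔ X, R ⊔ X⁆ ≤ ν.ker.map R.subtype := commutator_le.2 fun u hu v hv => by
    rw [← SetLike.mem_coe, coe_mul_of_right_le_normalizer_left _ _ hX] at hu hv
    obtain ⟨r, hr, x, hx, rfl⟩ := hu
    obtain ⟨s, hs, y, hy, rfl⟩ := hv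
    refine ⟨⟨r, hr⟩ * c ⟨x, hX hx⟩ ⟨s, hs⟩ * (c ⟨y, hX hy⟩ ⟨r, hr⟩)⁻¹ * (⟨s, hs⟩ : R)⁻¹, ?_, ?_⟩
    · rw [SetLike.mem_coe, MonoidHom.mem_ker, map_mul, map_mul, map_mul, map_inv, map_inv, h1 x hx, h1 y hy,
        mul_inv_cancel_comm, mul_inv_cancel]
    · change r * (x * s * x⁻¹) * (y * r * y⁻¹)⁻¹ * s⁻¹ = ⁅r * x, s * y⁆
      rw [show ⁅r * x, s * y⁆ = r * (x * s * x⁻¹) * (x * y * x⁻¹ * r⁻¹ * y⁻¹) * s⁻¹ by group,
        (hXX x hx y hy).mul_inv_cancel]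
      group
  obtain ⟨z, hz, rfl⟩ := h2 h
  have h3 : t z = z := Subtype.ext hτw.mul_inv_cancel
  rw [SetLike.mem_coe, MonoidHom.mem_ker, hν, h3, h3, show z * z = 1 from Subtype.ext hww, one_mul,
    ← MonoidHom.mem_ker, Abelianization.ker_of] at hz
  rw [← map_subtype_commutator]
  exact mem_map_of_mem _ hz

namespace Cov

variable (h : Cov φ ι w)
include h

theorem comm_congr {a a' b b' : G} (e : φ a = φ a') (e' : φ b = φ b') : ⁅a, b⁆ = ⁅a', b'⁆ := by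
  have k : ∀ {a a' : G} (b : G), φ a = φ a' → ⁅a, b⁆ = ⁅a', b⁆ := fun {a a'} b e => by
    rcases h.eq_or e with rfl | rfl
    · rfl
    · rw [show ⁅a' * w, b⁆ = a' * (w * b * w⁻¹) * a'⁻¹ * b⁻¹ by group, (h.cw b).symm.mul_inv_cancel,
        commutatorElement_def]
  rw [k b e, ← commutatorElement_inv, k a' e', commutatorElement_inv]

theorem sq_comm {t y : G} (e : Commute (φ t) (φ y)) : Commute (t * t) y := by
  refine mul_inv_eq_iff_eq_mul.1 ?_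
  rw [show t * t * y * (t * t)⁻¹ = t * (t * y * t⁻¹) * t⁻¹ by group]
  rcases h.eq_or (a := t * y * t⁻¹) (b := y) (by simp [e.eq]) with k | k
  · rw [k, k]
  · rw [k, ← conj_mul, k, (h.cw t).mul_inv_cancel, mul_assoc, h.ww, mul_one]

/-- if lifts of commuting involutions commute then `w ∉ [R, R]` -/
theorem not_mem_RR (C : ∀ g k, φ g ∈ G2C.AA ι → φ k ∈ G2C.AA ι → φ g * φ g = 1 → φ k * φ k = 1 →
    Commute (φ g) (φ k) → Commute g k) : w ∉ ⁅(G2C.RA ι).comap φ, (G2C.RA ι).comap φ⁆ := by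
  choose L hL using h.surj
  have E := h.emb
  have C1 : ∀ {g k r s t u}, φ g = G2C.x ι r t → φ k = G2C.x ι s u →
      Commute (G2C.x ι r t) (G2C.x ι s u) → ⁅g, k⁆ = 1 := fun e e' c =>
    commutatorElement_eq_one_iff_commute.2 (C _ _ (e ▸ G2C.XX_le _ (G2C.x_mem _ _ _))
      (e' ▸ G2C.XX_le _ (G2C.x_mem _ _ _)) (e ▸ E.x_sq _ _) (e' ▸ E.x_sq _ _) (e ▸ e' ▸ c))
  have B : ∀ {g a b}, φ g ∈ G2C.RA ι → φ a ∈ G2C.RA ι → φ b ∈ G2C.RA ι → Commute g ⁅a, b⁆ :=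
    fun hg ha hb => h.LZ (G2C.RA_le_LL hg) (by rw [map_commutatorElement]; exact E.commR ha hb)
  have m : ∀ {g i t}, i ∈ [6, 8, 9, 10, 11] → φ g = G2C.x ι i t → φ g ∈ G2C.RA ι := fun hi e => by
    simp only [List.mem_cons, List.not_mem_nil, or_false] at hi
    rw [e]
    rcases hi with rfl | rfl | rfl | rfl | rfl
    exacts [G2C.X6_le (G2C.x_mem _ _ _), G2C.X8_le (G2C.x_mem _ _ _), G2C.X9_le (G2C.x_mem _ _ _),
      G2C.X10_le (G2C.x_mem _ _ _), G2C.ZZ_le_RA (G2C.x_mem _ _ _)]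
  have key : ∀ {g k g' k' a b c d}, φ g = G2C.x ι 6 a → φ k = G2C.x ι 10 d → φ g' = G2C.x ι 8 b →
      φ k' = G2C.x ι 9 c → a * d = b * c → ⁅g', k'⁆ * ⁅g, k⁆ = 1 := by
    intro g k g' k' a b c d e1 e2 e3 e4 e
    have m1 := m (by decide) e1
    have m2 := m (by decide) e2
    have m3 := m (by decide) e3
    have m4 := m (by decide) e4
    have f1 : φ (g * g') = G2C.rr ι a b 0 0 0 := by simp [G2C.rr, G2C.x_zero, e1, e3]
    have f2 : φ (k' * k) = G2C.rr ι 0 0 c d 0 := by simp [G2C.rr, G2C.x_zero, e2, e4]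
    have m5 : φ (k' * k) ∈ G2C.RA ι := f2 ▸ E.rr_mem _ _ _ _ _
    have := commutatorElement_eq_one_iff_commute.2 (C _ _
      (f1 ▸ G2C.LL_le (G2C.RA_le_LL (E.rr_mem _ _ _ _ _))) (G2C.LL_le (G2C.RA_le_LL m5))
      (by rw [f1, E.rr_mul]; simp [E.add_self, G2C.Emb.rr_zero]) (by rw [f2, E.rr_mul]; simp [E.add_self, G2C.Emb.rr_zero])
      (by rw [← commutatorElement_eq_one_iff_commute, f1, f2, E.rr_comm]; simp [e, E.add_self, G2C.x_zero]))
    rwa [Core.commutatorElement_mul_left_of_commute (B m1 m3 m5),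
      Core.commutatorElement_mul_right_of_commute (B m4 m3 m2),
      Core.commutatorElement_mul_right_of_commute (B m4 m1 m2), C1 e3 e2 (E.x_commute _ _ (by decide)),
      C1 e1 e4 (E.x_commute _ _ (by decide)), mul_one, one_mul] at this
  let z : Multiplicative F →* G := MonoidHom.mk' (fun y => ⁅L (G2C.x ι 6 y.toAdd), L (G2C.x ι 10 1)⁆)
    fun y y' => by
      rw [← Core.commutatorElement_mul_left_of_commute
        (B (m (by decide) (hL _)) (m (by decide) (hL _)) (m (by decide) (hL _)))]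
      exact h.comm_congr (by rw [hL, map_mul φ, hL, hL, ← G2C.x_add, add_comm, toAdd_mul]) rfl
  have k1 : ∀ {g k a d}, φ g = G2C.x ι 6 a → φ k = G2C.x ι 10 d → ⁅g, k⁆ ∈ z.range :=
    fun {g k a d} e e' => ⟨Multiplicative.ofAdd (a * d), mul_left_cancel
      ((key (hL _) (hL _) (hL _) (hL (G2C.x ι 9 1)) rfl).trans
        (key e e' (hL _) (hL _) (mul_one _).symm).symm)⟩
  have k2 : ∀ {g k b c}, φ g = G2C.x ι 8 b → φ k = G2C.x ι 9 c → ⁅g, k⁆ ∈ z.range :=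
    fun {g k b c} e e' => by
      rw [eq_inv_of_mul_eq_one_left (key (hL (G2C.x ι 6 (b * c))) (hL _) e e' (mul_one _))]
      exact inv_mem (k1 (hL _) (hL _))
  let S : Set G := {g | ∃ i ∈ [6, 8, 9, 10, 11], ∃ t, φ g = G2C.x ι i t}
  have hS : (G2C.RA ι).comap φ ≤ closure S := by
    have : ∀ i ∈ [6, 8, 9, 10, 11], G2C.XX ι i ≤ (closure S).map φ := by
      rintro i hi _ ⟨t, rfl⟩
      exact ⟨L _, subset_closure ⟨i, hi, t, hL _⟩, hL _⟩
    exact h.le_of_map (G2C.RA_le (this _ (by decide)) (this _ (by decide)) (this _ (by decide))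
      (this _ (by decide)) (this _ (by decide))) (subset_closure ⟨6, by decide, 0, by rw [h.φw, G2C.x_zero]⟩)
  have hn : ∀ g ∈ S, g ∈ normalizer (z.range : Set G) := fun g ⟨i, hi, t, e⟩ =>
    centralizer_le_normalizer _ (mem_centralizer_iff.2 fun _ ⟨y, e'⟩ =>
      e' ▸ (B (m hi e) (m (by decide) (hL _)) (m (by decide) (hL _))).symm.eq)
  have h1 : ∀ g ∈ S, ∀ k ∈ S, ⁅g, k⁆ ∈ z.range := by
    rintro g ⟨i, hi, t, e⟩ k ⟨j, hj, u, e'⟩
    rcases (by decide : ∀ i ∈ [6, 8, 9, 10, 11], ∀ j ∈ [6, 8, 9, 10, 11], (i < 12 ∧ j < 12 ∧ i + j ≠ 11 ∧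
      ∀ c ∈ Lie.chevG2.commTerms i j, c.2.1 % 2 = 0) ∨ (i = 6 ∧ j = 10) ∨ (i = 10 ∧ j = 6) ∨
        (i = 8 ∧ j = 9) ∨ (i = 9 ∧ j = 8)) i hi j hj with c | ⟨rfl, rfl⟩ | ⟨rfl, rfl⟩ | ⟨rfl, rfl⟩ | ⟨rfl, rfl⟩
    · rw [C1 e e' (E.x_commute _ _ c)]
      exact one_mem _
    · exact k1 e e'
    · exact commutatorElement_inv k g ▸ inv_mem (k1 e' e)
    · exact k2 e e'
    · exact commutatorElement_inv k g ▸ inv_mem (k2 e' e)
  have h2 : ⁅closure S, closure S⁆ ≤ z.range := Core.commutator_closure_left_le hn fun g hg k hk => by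
    induction hk using closure_induction with
    | mem k hk => exact h1 g hg k hk
    | one => simp
    | mul a b ha _ i1 i2 =>
      rw [show ⁅g, a * b⁆ = ⁅g, a⁆ * (a * ⁅g, b⁆ * a⁻¹) by group]
      exact mul_mem i1 (conj_mem_of_mem_normalizer ((closure_le _).2 hn ha) i2)
    | inv a ha i =>
      rw [show ⁅g, a⁻¹⁆ = a⁻¹ * ⁅g, a⁆⁻¹ * a⁻¹⁻¹ by group]
      exact conj_mem_of_mem_normalizer (inv_mem ((closure_le _).2 hn ha)) (inv_mem i)
  intro hw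
  obtain ⟨y, hy⟩ := h2 (commutator_mono hS hS hw)
  have h3 : φ (z y) = G2C.x ι 11 y.toAdd := by
    rw [show z y = ⁅L _, L _⁆ from rfl, map_commutatorElement, hL, hL, G2C.Emb.x6_eq, G2C.Emb.x10_eq, E.rr_comm]
    simp
  rw [hy, h.φw, eq_comm, E.x_eq_one (by decide)] at h3
  exact h.w_ne (by rw [← hy, show y = 1 from h3, map_one])

theorem short_sq {a : G} (ha : G2C.Short ι (φ a)) : a * a = w := by
  obtain ⟨c, -, hc⟩ := ha
  have E := h.emb
  refine ((h.ker _).1 (by rw [map_mul, hc, conj_mul, E.x_sq]; simp)).resolve_left fun e => ?_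
  have H0 : ∀ g, φ g ∈ G2C.AA ι → φ g * φ g = 1 → g * g = 1 := fun g hg e' => by
    by_cases k : φ g = 1
    · rw [h.sq_eq (k.trans (map_one φ).symm), one_mul]
    rcases E.classes hg (orderOf_eq_prime (by rwa [sq]) k) with k | ⟨b, -, hb⟩
    · exact h.long_sq k
    obtain ⟨d, hd⟩ := h.surj (b * c⁻¹)
    rw [h.sq_eq (b := d * a * d⁻¹) (by simp [hb, hc, hd, mul_assoc]), conj_mul, e]
    simp
  have C : ∀ g k, φ g ∈ G2C.AA ι → φ k ∈ G2C.AA ι → φ g * φ g = 1 → φ k * φ k = 1 →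
      Commute (φ g) (φ k) → Commute g k := fun g k hg hk e1 e2 c => by
    have := H0 (g * k) (by rw [map_mul]; exact mul_mem hg hk)
      (by rw [map_mul, c.symm.mul_mul_mul_comm, e1, e2, one_mul])
    rw [Commute, SemiconjBy, eq_inv_of_mul_eq_one_left this, mul_inv_rev,
      inv_eq_of_mul_eq_one_left (H0 g hg e1), inv_eq_of_mul_eq_one_left (H0 k hk e2)]
  obtain ⟨τ, hτ⟩ := E.exists_tau
  obtain ⟨t, ht⟩ := h.surj (τ ^ 2)
  have h1 : φ (t * t) = τ := by rw [map_mul, ht, ← pow_add, pow_succ, hτ.cube, one_mul]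
  have h2 : ∀ y ∈ (G2C.XX ι 7).comap φ, φ y ∈ G2C.A2 ι := fun y hy => G2C.X7_le hy
  refine h.not_mem_RR C (gb_aux (X := (G2C.XX ι 7).comap φ) (τ := t * t) ?_ ?_ ?_
    (fun y hy => h.sq_comm (ht ▸ (hτ.c2 _ (h2 y hy)).pow_left 2)) (fun r hr y hy => ?_) (h.w_comap _)
    (h.cw _) h.ww (by rw [comap_sup_eq φ _ _ h.surj]; exact h.w_mem))
  · rw [← comap_normalizer_eq_of_surjective _ h.surj, mem_comap, h1]
    exact hτ.nR
  · rw [← comap_normalizer_eq_of_surjective _ h.surj]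
    exact fun y hy => E.A2R (h2 y hy)
  · rintro y ⟨s, hs⟩ y' ⟨s', hs'⟩
    refine C _ _ (hs ▸ G2C.XX_le _ (G2C.x_mem _ _ _)) (hs' ▸ G2C.XX_le _ (G2C.x_mem _ _ _))
      (hs ▸ E.x_sq _ _) (hs' ▸ E.x_sq _ _) ?_
    rw [hs, hs']
    exact E.x_commute _ _ (by decide)
  · have m1 := conj_mem_of_mem_normalizer hτ.nR hr
    have m2 := conj_mem_of_mem_normalizer hτ.nR m1
    refine h.LZ (G2C.A2_le_LL (h2 y hy)) ?_
    simp only [map_mul φ _ (t * t)⁻¹, map_mul φ (t * t), map_mul φ (r * _), map_mul φ r, map_inv, h1]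
    refine hτ.fR _ (mul_mem (mul_mem hr m1) m2) ?_
    convert E.commR (mul_mem m1 m2) hr using 1
    have : τ * (τ * (τ * φ r * τ⁻¹) * τ⁻¹) * τ⁻¹ = φ r := by
      rw [show τ * (τ * (τ * φ r * τ⁻¹) * τ⁻¹) * τ⁻¹ = τ ^ 3 * φ r * (τ ^ 3)⁻¹ by
        rw [pow_three]; group, hτ.cube]
      simp
    rw [commutatorElement_def, commutatorElement_def, ← conj_mul, ← conj_mul, this]
    group

theorem short_conj {s : G} (hs : φ s = G2C.x ι 9 1) : ∃ e, φ e ∈ G2C.AA ι ∧ e * s * e⁻¹ = s * w := by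
  obtain ⟨a, h0, h1⟩ := h.emb.exists_ne
  obtain ⟨e, he⟩ := h.surj (G2C.x ι 9 a)
  have k : ∀ {g : G} {c : F}, c ≠ 0 → φ g = G2C.x ι 9 c → g * g = w := fun {g c} hc hg =>
    h.short_sq ⟨ι (G2C.hg 11 c), ⟨_, rfl⟩, by
      rw [hg, G2C.hg_conj ι (by decide) hc, show Lie.chevG2.pairing 11 9 = 1 by decide]
      simp⟩
  have k1 := k one_ne_zero hs
  have k2 := k h0 he
  have k3 := k (g := e * s) (c := a + 1) (fun q => h1 (by rw [eq_neg_of_add_eq_zero_left q, h.emb.neg_eq]))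
    (by rw [map_mul, he, hs, G2C.x_add])
  refine ⟨e, he ▸ G2C.XX_le _ (G2C.x_mem _ _ _), ?_⟩
  rw [inv_eq_of_mul_eq_one_right (show e * (e * w) = 1 by rw [← mul_assoc, k2, h.ww]), ← mul_assoc,
    mul_left_inj, ← mul_left_inj s, mul_assoc (e * s), k3, k1]

end Cov

end CfsgLib.SzC
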