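import Cfsg.Agent.Lib.SzC.GB

/-! Package GC: `w` is characteristic in `L` (plans/SZC2.md) -/

set_option autoImplicit false
set_option linter.unusedSectionVars false

namespace CfsgLib.SzC

open Subgroup Cfsg CfsgLib.Tech CfsgLib.StdR2 CfsgLib.Classical CfsgLib.ExtraTwo
open scoped commutatorElement

variable {G : Type*} [Group G] [Finite G] {F : Type*} [Field F] [Fintype F] {Q : Type*} [Group Q] [Finite Q]
  {φ : G →* Q} {ι : G2C.Γ F →* Q} {w : G}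

namespace GC

/-- coordinates on `R / Z` -/
abbrev V := GF4 × GF4 × GF4 × GF4

/-- the quadratic form -/
def q (v : V) : GF4 := v.2.2.1 * v.2.1 + v.2.2.2 * v.1

/-- the action of `x₇(s)` -/
def m7 (s : GF4) (v : V) : V :=
  (v.1, v.2.1 + s * v.1, v.2.2.1 + s * s * v.1, v.2.2.2 + s * s * s * v.1 + s * s * v.2.1 + s * v.2.2.1)

/-- the action of `x₄(s)` -/
def m4 (s : GF4) (v : V) : V :=
  (v.1 + s * v.2.1 + s * s * v.2.2.1 + s * s * s * v.2.2.2, v.2.1 + s * s * v.2.2.2, v.2.2.1 + s * v.2.2.2, v.2.2.2)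

/-- the short vectors -/
def Sh : Finset V := Finset.univ.image fun s : V => m7 s.1 (m4 s.2.1 (m7 s.2.2.1 (m4 s.2.2.2 (0, 0, 1, 0))))

theorem card_Sh : Sh.card = 60 := by decide +kernel

theorem card_q : ∀ e : GF4, e ≠ 0 → (Finset.univ.filter fun v : V => q v = e).card = 60 := by decide +kernel

set_option synthInstance.maxSize 1024 in
theorem triple : ∀ e : GF4, e ≠ 0 → ∃ a d : GF4, q (a, 0, 0, d) = e ∧ q ((a, 0, 0, d) + (0, 1, 0, 0)) = e ∧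
    q ((a, 0, 0, d) + (0, 0, e, 0)) = e ∧ q ((0, 1, 0, 0) + (0, 0, e, 0)) = e ∧ (0, 1, 0, 0) ∈ Sh ∧
    (0, 0, e, 0) ∈ Sh ∧ (a, 0, 0, d) + (0, 1, 0, 0) + (0, 0, e, 0) ∈ Sh := by decide +kernel

theorem cubic {r s t y w : G} (cw : ∀ g, Commute g w) (w2 : w * w = 1) (y2 : y * y = 1) (h1 : r * r = y)
    (h2 : r * s * (r * s) = y) (h3 : r * t * (r * t) = y) (h4 : s * t * (s * t) = y) (h5 : s * s = w)
    (h6 : t * t = w) (h7 : r * s * t * (r * s * t) = w) : w = 1 := by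
  have wi : w⁻¹ = w := inv_eq_of_mul_eq_one_right w2
  have b1 : r⁻¹ * t * r * t⁻¹ = w := by
    calc _ = (r * r)⁻¹ * (r * t * (r * t)) * (t * t)⁻¹ := by group
      _ = w := by rw [h1, h3, h6, wi]; group
  have b2 : s⁻¹ * t * s * t⁻¹ = y := by
    calc _ = (s * s)⁻¹ * (s * t * (s * t)) * (t * t)⁻¹ := by group
      _ = y := by rw [h5, h4, h6, wi, ← (cw y).eq, mul_assoc, w2, mul_one]
  calc w = r * s * (r * s) * (s⁻¹ * (r⁻¹ * t * r * t⁻¹) * t * s * t⁻¹) * (t * t) := by rw [← h7]; group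
    _ = y * (w * (s⁻¹ * t * s * t⁻¹)) * w := by rw [h2, b1, h6, (cw s⁻¹).eq]; group
    _ = 1 := by rw [b2, ← (cw y).eq, ← mul_assoc, y2, one_mul, w2]

/-- `r` lies over the vector `v` -/
def Ov (φ : G →* Q) (ι : G2C.Γ F →* Q) (ψ : GF4 ≃+* F) (v : V) (r : G) : Prop :=
  ∃ e, φ r = G2C.rr ι (ψ v.1) (ψ v.2.1) (ψ v.2.2.1) (ψ v.2.2.2) e

variable {ψ : GF4 ≃+* F} {v v' : V} {r r' : G}

theorem Ov.mem (h : Cov φ ι w) (o : Ov φ ι ψ v r) : φ r ∈ G2C.RA ι := by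
  obtain ⟨e, o⟩ := o
  rw [o]; exact h.emb.rr_mem _ _ _ _ _

theorem exists_ov (h : Cov φ ι w) (hr : φ r ∈ G2C.RA ι) : ∃ v, Ov φ ι ψ v r := by
  obtain ⟨a, b, c, d, e, o⟩ := h.emb.mem_RA.1 hr
  exact ⟨(ψ.symm a, ψ.symm b, ψ.symm c, ψ.symm d), e, by simpa using o⟩

theorem Ov.mul (h : Cov φ ι w) (o : Ov φ ι ψ v r) (o' : Ov φ ι ψ v' r') : Ov φ ι ψ (v + v') (r * r') := by
  obtain ⟨e, o⟩ := o
  obtain ⟨e', o'⟩ := o'
  exact ⟨_, by rw [map_mul, o, o', h.emb.rr_mul]; simp only [Prod.fst_add, Prod.snd_add, map_add]; rfl⟩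

theorem Ov.iff (h : Cov φ ι w) (o : Ov φ ι ψ v r) (o' : Ov φ ι ψ v' r') : φ (r⁻¹ * r') ∈ G2C.ZZ ι ↔ v = v' := by
  obtain ⟨e, o⟩ := o
  obtain ⟨e', o'⟩ := o'
  have key : ∀ a b : GF4, ψ a + ψ b = 0 ↔ a = b := fun a b => by
    rw [add_eq_zero_iff_eq_neg, h.emb.neg_eq, ψ.injective.eq_iff]
  rw [map_mul, map_inv, o, o', h.emb.rr_inv, h.emb.rr_mul, h.emb.rr_mem_ZZ, key, key, key, key]
  simp only [Prod.ext_iff]

theorem Ov.sq_eq (h : Cov φ ι w) (o : Ov φ ι ψ v r) (o' : Ov φ ι ψ v r') : r' * r' = r * r := by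
  have hz := (o.iff h o').2 rfl
  have c := h.LZ (G2C.RA_le_LL (o.mem h)) hz
  calc r' * r' = r * (r⁻¹ * r') * (r * (r⁻¹ * r')) := by group
    _ = _ := by rw [← sq, c.mul_pow, sq, sq, h.sqZ hz, mul_one]

theorem Ov.sq (h : Cov φ ι w) (o : Ov φ ι ψ v r) : φ (r * r) = G2C.x ι 11 (ψ (q v)) := by
  obtain ⟨e, o⟩ := o
  rw [map_mul, o, h.emb.rr_mul, G2C.Emb.x11_eq]
  simp only [h.emb.add_self, q, map_add, map_mul, zero_add]

theorem conj_sq (h : Cov φ ι w) {g : G} (hg : φ g ∈ G2C.LL ι) (o : Ov φ ι ψ v r) :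
    g * r * g⁻¹ * (g * r * g⁻¹) = r * r := by
  rw [conj_mul, (h.LZ hg (by rw [o.sq h]; exact G2C.x_mem ..)).eq, mul_inv_cancel_right]

theorem mv7 (h : Cov φ ι w) (s : GF4) (o : ∃ r, Ov φ ι ψ v r ∧ r * r = w) :
    ∃ r, Ov φ ι ψ (m7 s v) r ∧ r * r = w := by
  obtain ⟨r, o, r2⟩ := o
  obtain ⟨g, hg⟩ := h.surj (G2C.x ι 7 (ψ s))
  refine ⟨g * r * g⁻¹, ?_, (conj_sq h (hg ▸ G2C.A2_le_LL (G2C.X7_le (G2C.x_mem ..))) o).trans r2⟩
  obtain ⟨e, o⟩ := o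
  obtain ⟨e', h1⟩ := h.emb.x7_rr (ψ s) (ψ v.1) (ψ v.2.1) (ψ v.2.2.1) (ψ v.2.2.2) e
  exact ⟨e', by rw [map_mul, map_mul, map_inv, hg, o, h1]; simp only [m7, map_add, map_mul, pow_succ, pow_zero, one_mul]⟩

theorem mv4 (h : Cov φ ι w) (s : GF4) (o : ∃ r, Ov φ ι ψ v r ∧ r * r = w) :
    ∃ r, Ov φ ι ψ (m4 s v) r ∧ r * r = w := by
  obtain ⟨r, o, r2⟩ := o
  obtain ⟨g, hg⟩ := h.surj (G2C.x ι 4 (ψ s))
  refine ⟨g * r * g⁻¹, ?_, (conj_sq h (hg ▸ G2C.A2_le_LL (G2C.X4_le (G2C.x_mem ..))) o).trans r2⟩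
  obtain ⟨e, o⟩ := o
  obtain ⟨e', h1⟩ := h.emb.x4_rr (ψ s) (ψ v.1) (ψ v.2.1) (ψ v.2.2.1) (ψ v.2.2.2) e
  exact ⟨e', by rw [map_mul, map_mul, map_inv, hg, o, h1]; simp only [m4, map_add, map_mul, pow_succ, pow_zero, one_mul]⟩

theorem sq_Sh (h : Cov φ ι w) (hv : v ∈ Sh) (o : Ov φ ι ψ v r) : r * r = w := by
  obtain ⟨s, -, rfl⟩ := Finset.mem_image.1 hv
  obtain ⟨r0, h0⟩ := h.surj (G2C.x ι 9 1)
  obtain ⟨r', o', e⟩ := mv7 h s.1 (mv4 h s.2.1 (mv7 h s.2.2.1 (mv4 h s.2.2.2 (ψ := ψ) (v := (0, 0, 1, 0))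
    ⟨r0, ⟨0, by simp [h0, G2C.Emb.x9_eq]⟩, h.short_sq ⟨1, one_mem _, by simp [h0]⟩⟩)))
  exact (o'.sq_eq h o).trans e

theorem θZ (h : Cov φ ι w) (θ : (G2C.LL ι).comap φ ≃* (G2C.LL ι).comap φ) {ζ : (G2C.LL ι).comap φ}
    (hζ : φ ζ ∈ G2C.ZZ ι) : φ (θ ζ) ∈ G2C.ZZ ι :=
  h.emb.centL (G2C.LL_le (θ ζ).2) fun l hl => by
    obtain ⟨l, rfl⟩ := h.surj l
    have c : Commute (θ.symm ⟨l, hl⟩) ζ := Subtype.ext (h.LZ (θ.symm ⟨l, hl⟩).2 hζ).eq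
    have c' := c.map θ.toMonoidHom
    simp only [MulEquiv.coe_toMonoidHom, MulEquiv.apply_symm_apply] at c'
    exact ((c'.map (Subgroup.subtype _)).map φ).symm

theorem θR (h : Cov φ ι w) (θ : (G2C.LL ι).comap φ ≃* (G2C.LL ι).comap φ) {r : (G2C.LL ι).comap φ}
    (hr : φ r ∈ G2C.RA ι) : φ (θ r) ∈ G2C.RA ι := by
  let f : (G2C.LL ι).comap φ →* Q := (φ.comp (Subgroup.subtype _)).comp θ.toMonoidHom
  have hN : (((G2C.RA ι).comap φ).subgroupOf ((G2C.LL ι).comap φ)).Normal := ⟨fun n hn g => by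
    rw [mem_subgroupOf, mem_comap] at hn ⊢
    simpa using conj_mem_of_mem_normalizer (h.emb.LR g.2) hn⟩
  have h2 : IsPGroup 2 ((G2C.RA ι).comap φ) := IsPGroup.of_card (n := 11) (by rw [h.card_comap, h.emb.cardRA]; rfl)
  refine h.emb.twoL (B := (((G2C.RA ι).comap φ).subgroupOf ((G2C.LL ι).comap φ)).map f) ?_ (fun l hl => ?_)
    ((h2.of_equiv (subgroupOfEquivOfLe (comap_mono G2C.RA_le_LL)).symm).map f) (mem_map_of_mem f hr)
  · rintro _ ⟨a, -, rfl⟩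
    exact (θ a).2
  · obtain ⟨l, rfl⟩ := h.surj l
    refine le_normalizer_map f ⟨θ.symm ⟨l, hl⟩, by rw [normalizer_eq_top]; trivial, ?_⟩
    simp [f]

end GC

open GC

theorem Cov.chr (h : Cov φ ι w) (θ : (G2C.LL ι).comap φ ≃* (G2C.LL ι).comap φ) (x : (G2C.LL ι).comap φ)
    (hx : (x : G) = w) : (θ x : G) = w := by
  by_contra ne
  have w2 : w * w = 1 := mul_self_of_orderOf_two h.ow
  have w1 := ne_one_of_orderOf_two h.ow
  have φw : φ w = 1 := (h.ker w).2 (Or.inr rfl)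
  let ψ : GF4 ≃+* F := FiniteField.ringEquivOfCardEq (card_GF4.trans h.emb.hF.symm)
  have yZ := θZ h θ (ζ := x) (by rw [hx, φw]; exact one_mem _)
  obtain ⟨e, he⟩ := id yZ
  obtain ⟨e, rfl⟩ := ψ.surjective e
  have e0 : e ≠ 0 := fun e0 => by
    rw [e0, map_zero, G2C.x_zero, h.ker] at he
    exact w1 (hx ▸ congrArg Subtype.val (θ.map_eq_one_iff.1 (Subtype.ext (he.resolve_right ne))))
  have ex : ∀ v : V, ∃ r : (G2C.LL ι).comap φ, Ov φ ι ψ v r := fun v => by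
    obtain ⟨r, hr⟩ := h.surj (G2C.rr ι (ψ v.1) (ψ v.2.1) (ψ v.2.2.1) (ψ v.2.2.2) 0)
    exact ⟨⟨r, G2C.RA_le_LL (Ov.mem h (ψ := ψ) ⟨0, hr⟩)⟩, 0, hr⟩
  choose r hr using ex
  by_cases hall : ∀ v, q v = e → ∀ s, Ov φ ι ψ v s → s * s = θ x
  · obtain ⟨a, d, h1, h2, h3, h4, h5, h6, h7⟩ := triple e e0
    exact w1 (cubic h.cw w2 (h.sqZ yZ) (hall _ h1 _ (hr _)) (hall _ h2 _ ((hr _).mul h (hr _)))
      (hall _ h3 _ ((hr _).mul h (hr _))) (hall _ h4 _ ((hr _).mul h (hr _))) (sq_Sh h h5 (hr _))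
      (sq_Sh h h6 (hr _)) (sq_Sh h h7 (((hr _).mul h (hr _)).mul h (hr _))))
  push Not at hall
  obtain ⟨v0, q0, s0, o0, n0⟩ := hall
  choose f hf using fun v => exists_ov (ψ := ψ) h (θR h θ ((hr v).mem h))
  have key := Finset.card_le_card_of_injOn (s := Sh) (t := (Finset.univ.filter fun v : V => q v = e).erase v0) f
    (fun v hv => by
      have h1 : (θ (r v) : G) * θ (r v) = θ x := by
        rw [← coe_mul, ← map_mul, show r v * r v = x from Subtype.ext ((sq_Sh h hv (hr v)).trans hx.symm)]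
      have h2 := (hf v).sq h
      rw [h1, he, G2C.Emb.x11_eq, G2C.Emb.x11_eq] at h2
      simp only [Finset.coe_erase, Finset.coe_filter, Finset.mem_univ, true_and, Set.mem_sdiff, Set.mem_ofPred_eq,
        Set.mem_singleton_iff]
      exact ⟨(ψ.injective (h.emb.rr_inj h2).2.2.2.2).symm, fun e1 => n0 (((hf v).sq_eq h (e1 ▸ o0)).trans h1)⟩)
    fun v _ v' _ e1 => by
      have h1 := ((hf v).iff h (hf v')).2 e1
      have h2 := θZ h θ.symm (ζ := (θ (r v))⁻¹ * θ (r v')) h1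
      rw [← map_inv, ← map_mul, MulEquiv.symm_apply_apply] at h2
      exact ((hr v).iff h (hr v')).1 h2
  rw [Finset.card_erase_of_mem (by simpa using q0), card_q e e0, card_Sh] at key
  omega

end CfsgLib.SzC
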