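import Cfsg.Agent.Lib.SzC.GC
import Cfsg.Agent.Lib.G2C.FC

/-! Package GD: existence and transport of `Gv` (plans/SZC2.md) -/

set_option autoImplicit false
set_option linter.unusedSectionVars false

namespace CfsgLib.SzC

open Subgroup Cfsg CfsgLib.Tech CfsgLib.StdR2 CfsgLib.Classical CfsgLib.ExtraTwo
open scoped commutatorElement

variable {G : Type*} [Group G] [Finite G] {F : Type*} [Field F] [Fintype F] {Q : Type*} [Group Q] [Finite Q]
  {φ : G →* Q} {ι : G2C.Γ F →* Q} {w : G}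

namespace GD

theorem φw (h : Cov φ ι w) : φ w = 1 := (h.ker w).2 (Or.inr rfl)

theorem ww (h : Cov φ ι w) : w * w = 1 := by rw [← sq, ← h.ow, pow_orderOf_eq_one]

theorem w1 (h : Cov φ ι w) : w ≠ 1 := fun e => by have := h.ow; rw [e, orderOf_one] at this; omega

theorem one_of (h : Cov φ ι w) {a : G} (h1 : φ a ∈ G2C.AA ι) (h2 : a ∈ Kc ((G2C.AA ι).comap φ)) : φ a = 1 :=
  h.emb.eq_one_KA (h.memK.1 h2) h1

theorem comm_mem {H : Subgroup G} {a b : G} (ha : a ∈ H) (hb : b ∈ H) : ⁅a, b⁆ ∈ H :=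
  H.mul_mem (H.mul_mem (H.mul_mem ha hb) (H.inv_mem ha)) (H.inv_mem hb)

theorem comm_of (h : Cov φ ι w) {a b : G} (h1 : φ ⁅a, b⁆ ∈ G2C.AA ι) (h2 : ⁅a, b⁆ ∈ Kc ((G2C.AA ι).comap φ)) :
    Commute (φ a) (φ b) := by
  rw [← commutatorElement_eq_one_iff_commute, ← map_commutatorElement]; exact one_of h h1 h2

theorem zA : G2C.zz ι ∈ G2C.AA ι := G2C.LL_le (G2C.ZZ_le_LL G2C.zz_mem)

theorem long_A {b : Q} (hb : G2C.Long ι b) : b ∈ G2C.AA ι := by
  obtain ⟨c, hc, rfl⟩ := hb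
  exact mul_mem (mul_mem hc zA) (inv_mem hc)

theorem long_ne (h : Cov φ ι w) {b : Q} (hb : G2C.Long ι b) : b ≠ 1 := by
  obtain ⟨c, hc, rfl⟩ := hb
  simpa using h.emb.zz_ne

theorem conj_s (h : Cov φ ι w) {s : G} (hs : φ s = G2C.x ι 9 1) {d y : G} (hd : φ d ∈ G2C.AA ι)
    (e : φ (d * s * d⁻¹) = φ y) : ∃ d, φ d ∈ G2C.AA ι ∧ d * s * d⁻¹ = y := by
  rcases h.eq_or e with e1 | e1
  · exact ⟨d, hd, e1⟩
  · obtain ⟨c, hc, ec⟩ := h.short_conj hs
    refine ⟨d * c, by rw [map_mul]; exact mul_mem hd hc, ?_⟩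
    calc d * c * s * (d * c)⁻¹ = d * (c * s * c⁻¹) * d⁻¹ := by group
      _ = d * s * d⁻¹ * w := by rw [ec, mul_assoc _ d⁻¹, (h.cw d⁻¹).eq]; group
      _ = y := by rw [e1, mul_assoc, ww h, mul_one]

theorem der (h : Cov φ ι w) {Λ : Subgroup Q} (hΛ : ⁅Λ, Λ⁆ = Λ) :
    ∃ M : Subgroup G, ⁅M, M⁆ = M ∧ M.map φ = Λ := by
  have h1 : (⁅Λ.comap φ, Λ.comap φ⁆ : Subgroup G).map φ = Λ := by
    rw [map_commutator, map_comap_eq_self_of_surjective h.surj, hΛ]
  have hle : (⁅Λ.comap φ, Λ.comap φ⁆ : Subgroup G) ≤ Λ.comap φ := commutator_le.2 fun a ha b hb => comm_mem ha hb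
  refine ⟨_, le_antisymm (commutator_mono hle hle) (commutator_le.2 fun a ha b hb => ?_), h1⟩
  have key : ∀ a ∈ Λ.comap φ, ∃ l ∈ (⁅Λ.comap φ, Λ.comap φ⁆ : Subgroup G), ∃ c, (∀ g, Commute g c) ∧ a = l * c := by
    intro a ha
    obtain ⟨l, hl, e⟩ := h1.ge ha
    rcases h.eq_or e.symm with e1 | e1
    exacts [⟨l, hl, 1, fun g => Commute.one_right g, by rw [e1, mul_one]⟩, ⟨l, hl, w, h.cw, e1⟩]
  obtain ⟨l, hl, c, hc, rfl⟩ := key a ha
  obtain ⟨m, hm, d, hd, rfl⟩ := key b hb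
  have : ⁅l * c, m * d⁆ = ⁅l, m⁆ := by
    have e1 : l * c * (m * d) = l * m * (c * d) := by rw [mul_assoc, ← mul_assoc c, ← (hc m).eq]; group
    have e2 : m * d * (l * c) = m * l * (c * d) := by
      rw [mul_assoc, ← mul_assoc d, ← (hd l).eq, mul_assoc l, ← (hd c).eq]; group
    calc _ = l * c * (m * d) * (m * d * (l * c))⁻¹ := by rw [commutatorElement_def]; group
      _ = _ := by rw [e1, e2, commutatorElement_def]; group
  rw [this]; exact commutator_mem_commutator hl hm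

theorem mK {A : Subgroup G} {G' : Type*} [Group G'] {j : G →* G'} (hj : Function.Injective j) {g : G} :
    j g ∈ Kc (A.map j) ↔ g ∈ Kc A := by
  simp only [mem_Kc]
  exact ⟨fun h a ha => hj (by simpa using (h _ (mem_map_of_mem _ ha)).eq),
    by rintro h _ ⟨a, ha, rfl⟩; exact (h a ha).map j⟩

theorem mN {A : Subgroup G} {G' : Type*} [Group G'] [Finite G'] {j : G →* G'} (hj : Function.Injective j)
    {g : G} : j g ∈ normalizer ((A.map j : Subgroup G') : Set G') ↔ g ∈ normalizer (A : Set G) :=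
  ⟨fun h => mem_normalizer_of_forall fun a ha => (mem_map_iff_mem hj).1 (by
      simpa using conj_mem_of_mem_normalizer h (mem_map_of_mem j ha)),
    fun h => le_normalizer_map j (mem_map_of_mem _ h)⟩

end GD

open GD

theorem Cov.gv (h : Cov φ ι w) {s : G} (hs : φ s = G2C.x ι 9 1) :
    Gv ((G2C.AA ι).comap φ) w ((G2C.LL ι).comap φ) ((G2C.ZZ ι).comap φ) s := by
  have e := h.emb
  have sA : φ s ∈ G2C.AA ι := hs ▸ G2C.XX_le 9 (G2C.x_mem ι 9 1)
  have sS : G2C.Short ι (G2C.x ι 9 1) := ⟨1, one_mem _, by simp⟩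
  exact {
  wA := by rw [mem_comap, φw h]; exact one_mem _
  wK := by rw [h.memK, φw h]; exact one_mem _
  ow := h.ow
  cenA := fun a ha hK => (h.ker a).1 (one_of h ha hK)
  LA := comap_mono G2C.LL_le
  perfL := h.perfL
  cardL := by rw [h.card_comap, e.cardL]
  genL := h.genL
  ZL := comap_mono G2C.ZZ_le_LL
  wZ := by rw [mem_comap, φw h]; exact one_mem _
  cardZ := by rw [h.card_comap, e.cardZ]
  sqZ := fun ζ hζ => h.sqZ hζ
  LZ := fun l hl ζ hζ => h.LZ hl hζ
  sA := sA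
  idx := fun a ha b hb => by
    simp only [h.memKA, map_mul]; exact e.index_two (h.memN.1 ha) (h.memN.1 hb)
  comm := fun t ht t2 hn => by
    obtain ⟨a, ha, b, hb, eb⟩ := e.exists_comm_long (h.memN.1 ht) (by rw [← map_mul, t2, map_one])
      (fun e1 => hn (h.memKA.2 e1))
    obtain ⟨a, rfl⟩ := h.surj a
    have e1 : φ (a * t * a⁻¹ * t⁻¹) = b := by simp only [map_mul, map_inv, ← eb, mul_inv_cancel_right]
    exact ⟨a, ha, a * t * a⁻¹ * t⁻¹, by rw [mem_comap, e1]; exact long_A hb, h.long_sq (e1 ▸ hb),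
      fun hK => long_ne h hb (e1 ▸ one_of h (e1 ▸ long_A hb) hK), by group⟩
  cls := fun a ha hK h2 => by
    have a1 : φ a ≠ 1 := fun e1 => hK (h.memK.2 (e1 ▸ one_mem _))
    have a2 : φ a * φ a = 1 := by rw [← map_mul]; exact one_of h (mul_mem ha ha) h2
    rcases e.classes ha (orderOf_eq_two a1 a2) with ⟨b, hb, eb⟩ | ⟨b, hb, eb⟩
    · obtain ⟨b, rfl⟩ := h.surj b
      refine ⟨b⁻¹, inv_mem hb, Or.inl ?_⟩
      rw [mem_comap, map_mul, map_mul, eb]; simpa [mul_assoc] using G2C.zz_mem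
    · obtain ⟨b, rfl⟩ := h.surj b
      obtain ⟨d, hd, ed⟩ := conj_s h hs (y := a) hb (by rw [eb, map_mul, map_mul, map_inv, hs])
      exact ⟨d⁻¹, inv_mem hd, Or.inr (by rw [← ed]; group)⟩
  cenZ := fun a ha ζ hζ hK hc => e.cent_Z ha hζ (fun e1 => hK (h.memK.2 (e1 ▸ one_mem _)))
    (comm_of h (comm_mem (H := (G2C.AA ι).comap φ) ha (G2C.LL_le (G2C.ZZ_le_LL hζ))) hc)
  cenS := fun C hC hc => by
    have : C ≤ (G2C.AA ι ⊓ centralizer {G2C.x ι 9 1}).comap φ := fun a ha =>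
      ⟨hC ha, mem_centralizer_singleton_iff.2 (hs ▸ (comm_of h (comm_mem (H := (G2C.AA ι).comap φ) (hC ha) sA)
        (hc a ha)).eq)⟩
    have h1 := card_le_of_le this
    rwa [h.card_comap, e.card_short sS] at h1
  cenL := fun g hg hc => by
    have h1 : ∀ l ∈ G2C.LL ι, Commute (φ g) l := fun l hl => by
      obtain ⟨l, rfl⟩ := h.surj l
      have hl' : l ∈ (G2C.AA ι).comap φ := G2C.LL_le hl
      exact comm_of h (mul_mem (conj_mem_of_mem_normalizer hg hl') (inv_mem hl')) (hc l hl)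
    obtain ⟨k, hk, a, ha, ea⟩ := G2C.mem_KA.1 (e.inner_of_Z (h.memN.1 hg) fun ζ hζ => h1 ζ (G2C.ZZ_le_LL hζ))
    obtain ⟨k, rfl⟩ := h.surj k
    have h2 : a ∈ G2C.ZZ ι := e.centL ha fun l hl => by
      have := (G2C.comm_KA hk (G2C.LL_le hl)).inv_left.mul_left (h1 l hl)
      rwa [ea, inv_mul_cancel_left] at this
    rw [show g = k * (k⁻¹ * g) by group]
    exact mul_mem_sup (h.memK.2 hk) (by rwa [mem_comap, map_mul, map_inv, ea, inv_mul_cancel_left])
  top := fun b hb b2 hZ Γ hL hC => by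
    have b1 : φ b ≠ 1 := fun e1 => hZ (by rw [mem_comap, e1]; exact one_mem _)
    have o := orderOf_eq_two b1 (by rw [← map_mul, b2, map_one])
    obtain ⟨d, hd, ed⟩ := (e.classes hb o).resolve_right fun hS => w1 h ((h.short_sq hS).symm.trans b2)
    obtain ⟨d, rfl⟩ := h.surj d
    have h1 := e.gen_top (M := Γ.map φ) hb o hZ (fun l hl => by
      obtain ⟨l, rfl⟩ := h.surj l
      exact mem_map_of_mem _ (hL hl)) fun c hc cc => by
        obtain ⟨c, rfl⟩ := h.surj c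
        refine mem_map_of_mem _ (hC c hc ?_)
        have e1 : φ (d⁻¹ * b * d) = G2C.zz ι := by rw [map_mul, map_mul, ed, map_inv]; group
        have := h.LZ (l := d⁻¹ * c * d) (ζ := d⁻¹ * b * d) (e.cent_zz (by
          simpa using mul_mem (mul_mem (inv_mem hd) hc) hd) (by
            rw [← e1]; simpa [mul_assoc] using cc.map (MulAut.conj (φ d)⁻¹).toMonoidHom)) (e1 ▸ G2C.zz_mem)
        simpa [mul_assoc] using this.map (MulAut.conj d).toMonoidHom
    intro a ha
    obtain ⟨c, hc, ec⟩ := h1 ha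
    rcases h.eq_or ec.symm with e1 | e1
    · rwa [e1]
    · rw [e1]; exact mul_mem hc (hL (by rw [mem_comap, φw h]; exact one_mem _))
  nrm := fun N hN hn hw hb => by
    have h1 := e.normal_le_Z (B := N.map φ) (map_le_iff_le_comap.2 hN) (fun l hl => by
      obtain ⟨l, rfl⟩ := h.surj l
      exact le_normalizer_map φ (mem_map_of_mem _ (hn hl))) (by
        rintro _ ⟨b, m, rfl⟩ b2
        rw [← map_mul, h.ker] at b2
        exact hb b m (b2.resolve_right fun e1 => hw (e1 ▸ mul_mem m m)))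
    exact map_le_iff_le_comap.1 h1
  short := by
    obtain ⟨Λ, ΛA, Λp, Λc, a, ha, b, hb, az, bz, ec⟩ := e.short_data
    obtain ⟨M, Mp, rfl⟩ := der h Λp
    obtain ⟨a, ha, rfl⟩ := ha
    obtain ⟨b, hb, rfl⟩ := hb
    rw [← map_commutatorElement] at ec
    obtain ⟨d, hd, ed⟩ := e.short_mul
    obtain ⟨d, rfl⟩ := h.surj d
    exact ⟨M, map_le_iff_le_comap.1 ΛA, Mp, h.comm_of_perf Mp fun l hl => hs ▸ Λc _ (mem_map_of_mem _ hl),
      a, ha, b, hb, e.cent_zz (ΛA (mem_map_of_mem _ ha)) az, e.cent_zz (ΛA (mem_map_of_mem _ hb)) bz,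
      by rw [mem_comap, ec]; exact G2C.zz_mem, fun hK => e.zz_ne (ec ▸ one_of h (ec ▸ zA) hK),
      conj_s h hs hd (by rw [map_mul φ s, ec, hs, ed, map_mul, map_mul, map_inv, hs])⟩
  nshort := fun a ha b hb h1 h2 ec => e.short_not_comm sS ha hb
    (hs ▸ comm_of h (comm_mem (H := (G2C.AA ι).comap φ) ha sA) h1)
    (hs ▸ comm_of h (comm_mem (H := (G2C.AA ι).comap φ) hb sA) h2) (by rw [← map_commutatorElement, ec, hs])
  chr := h.chr }

theorem Gv.map {A L Z : Subgroup G} {s : G} (h : Gv A w L Z s) {G' : Type*} [Group G'] [Finite G']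
    {j : G →* G'} (hj : Function.Injective j) (hN : normalizer ((A.map j : Subgroup G') : Set G') ≤ j.range) :
    Gv (A.map j) (j w) (L.map j) (Z.map j) (j s) := by
  have mm : ∀ {B : Subgroup G} {g : G}, j g ∈ B.map j ↔ g ∈ B := mem_map_iff_mem hj
  have Km : Kc (A.map j) = (Kc A).map j := by
    refine le_antisymm (fun k hk => ?_) (by rintro _ ⟨k, hk, rfl⟩; exact (mK hj).2 hk)
    obtain ⟨k, rfl⟩ := hN (centralizer_le_normalizer _ hk)
    exact mm.2 ((mK hj).1 hk)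
  have cm : ∀ {B : Subgroup G}, Nat.card (B.map j) = Nat.card B := fun {B} =>
    (Nat.card_congr (B.equivMapOfInjective j hj).toEquiv).symm
  have pull : ∀ {B : Subgroup G} {C : Subgroup G'}, C ≤ B.map j → (C.comap j).map j = C := fun hC =>
    map_comap_eq_self (hC.trans (map_le_range _ _))
  exact {
  wA := mm.2 h.wA
  wK := (mK hj).2 h.wK
  ow := by rw [orderOf_injective j hj, h.ow]
  cenA := by
    rintro _ ⟨a, ha, rfl⟩ hK
    exact (h.cenA a ha ((mK hj).1 hK)).imp (fun e => by rw [e, map_one]) (congrArg j)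
  LA := map_mono h.LA
  perfL := by rw [← map_commutator, h.perfL]
  cardL := by rw [cm, h.cardL]
  genL := (map_mono h.genL).trans (by
    rw [MonoidHom.map_closure]
    refine closure_mono ?_
    rintro _ ⟨l, ⟨hl, l4⟩, rfl⟩
    exact ⟨mm.2 hl, by rw [← map_pow, l4, map_one]⟩)
  ZL := map_mono h.ZL
  wZ := mm.2 h.wZ
  cardZ := by rw [cm, h.cardZ]
  sqZ := by rintro _ ⟨ζ, hζ, rfl⟩; rw [← map_mul, h.sqZ ζ hζ, map_one]
  LZ := by rintro _ ⟨l, hl, rfl⟩ _ ⟨ζ, hζ, rfl⟩; exact (h.LZ l hl ζ hζ).map j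
  sA := mm.2 h.sA
  idx := fun a ha b hb => by
    obtain ⟨a, rfl⟩ := hN ha
    obtain ⟨b, rfl⟩ := hN hb
    simp only [Km, ← Subgroup.map_sup, ← map_mul, mm]
    exact h.idx a ((mN hj).1 ha) b ((mN hj).1 hb)
  comm := fun t ht t2 hn => by
    obtain ⟨t, rfl⟩ := hN ht
    rw [Km, ← Subgroup.map_sup, mm] at hn
    obtain ⟨a, ha, b, hb, b2, bK, e⟩ := h.comm t ((mN hj).1 ht) (hj (by rw [map_mul, t2, map_one])) hn
    exact ⟨_, mm.2 ha, _, mm.2 hb, by rw [← map_mul, b2, map_one], fun e1 => bK ((mK hj).1 e1),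
      by rw [← map_mul, e, map_mul, map_mul, map_inv]⟩
  cls := by
    rintro _ ⟨a, ha, rfl⟩ h1 h2
    rw [← map_mul, mK hj] at h2
    obtain ⟨c, hc, e⟩ := h.cls a ha (fun e1 => h1 ((mK hj).2 e1)) h2
    refine ⟨_, mm.2 hc, ?_⟩
    rw [← map_inv, ← map_mul, ← map_mul]
    exact e.imp mm.2 (congrArg j)
  cenZ := by
    rintro _ ⟨a, ha, rfl⟩ _ ⟨ζ, hζ, rfl⟩ h1 h2
    rw [← map_commutatorElement, mK hj] at h2
    exact mm.2 (h.cenZ a ha ζ hζ (fun e1 => h1 ((mK hj).2 e1)) h2)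
  cenS := fun C hC hc => by
    rw [← pull hC, cm]
    exact h.cenS _ (fun a ha => mm.1 (hC ha)) fun a ha => (mK hj).1 (by
      rw [map_commutatorElement]; exact hc _ ha)
  cenL := fun g hg hc => by
    obtain ⟨g, rfl⟩ := hN hg
    rw [Km, ← Subgroup.map_sup, mm]
    exact h.cenL g ((mN hj).1 hg) fun l hl => (mK hj).1 (by
      rw [map_commutatorElement]; exact hc _ (mm.2 hl))
  top := by
    rintro _ ⟨b, hb, rfl⟩ b2 hZ Γ hL hc
    exact map_le_iff_le_comap.2 (h.top b hb (hj (by rw [map_mul, b2, map_one])) (fun e1 => hZ (mm.2 e1)) _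
      (map_le_iff_le_comap.1 hL) fun a ha c => hc _ (mm.2 ha) (c.map j))
  nrm := fun N h1 h2 hw hb => by
    rw [← pull h1]
    refine map_mono (h.nrm _ (fun a ha => mm.1 (h1 ha)) (fun l hl => (mN hj).1 ?_) hw fun b m b2 =>
      mm.1 (hb _ m (by rw [← map_mul, b2, map_one])))
    rw [pull h1]; exact h2 (mm.2 hl)
  short := by
    obtain ⟨Λ, h1, h2, h3, a, ha, b, hb, aL, bL, cZ, cK, d, hd, e⟩ := h.short
    exact ⟨Λ.map j, map_mono h1, by rw [← map_commutator, h2], by rintro _ ⟨l, hl, rfl⟩; exact (h3 l hl).map j,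
      _, mm.2 ha, _, mm.2 hb, mm.2 aL, mm.2 bL, by rw [← map_commutatorElement]; exact mm.2 cZ,
      by rw [← map_commutatorElement, mK hj]; exact cK, _, mm.2 hd,
      by rw [← map_commutatorElement, ← map_mul j s, ← e, map_mul, map_mul, map_inv]⟩
  nshort := by
    rintro _ ⟨a, ha, rfl⟩ _ ⟨b, hb, rfl⟩ h1 h2 e
    rw [← map_commutatorElement, mK hj] at h1 h2
    exact h.nshort a ha b hb h1 h2 (hj (by rw [map_commutatorElement, e]))
  chr := fun θ x hx => by
    obtain ⟨x, rfl⟩ := (L.equivMapOfInjective j hj).surjective x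
    have h1 := h.chr ((L.equivMapOfInjective j hj).trans (θ.trans (L.equivMapOfInjective j hj).symm)) x (hj hx)
    rw [← h1, ← (L.equivMapOfInjective j hj).apply_symm_apply (θ _)]
    rfl }

theorem Gv.cj {A L Z : Subgroup G} {s : G} (h : Gv A w L Z s) (g : G) :
    Gv (Tech.cj g A) (g * w * g⁻¹) (Tech.cj g L) (Tech.cj g Z) (g * s * g⁻¹) :=
  h.map (j := (MulAut.conj g).toMonoidHom) (MulAut.conj g).injective fun x _ => (MulAut.conj g).surjective x

theorem exists_gv {A : Subgroup G} (hp : ⁅A, A⁆ = A) (hF : Fintype.card F = 4)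
    (e : A ⧸ center A ≃* G2C.Γ F) (h2 : Nat.card (center A) = 2) : ∃ w L Z s, Gv A w L Z s := by
  obtain ⟨w0, w1, hw0⟩ : ∃ w0 : center A, w0 ≠ 1 ∧ ∀ x : center A, x = 1 ∨ x = w0 := by
    obtain ⟨y, hy, hu⟩ := (Nat.card_eq_two_iff' (1 : center A)).1 h2
    exact ⟨y, hy, fun x => or_iff_not_imp_left.2 (hu x)⟩
  let inc : A →* normalizer (A : Set G) := inclusion le_normalizer
  have hinc : Function.Injective inc := inclusion_injective _
  have cw : ∀ g : normalizer (A : Set G), g * inc w0 * g⁻¹ = inc w0 := fun g => by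
    have m : (g : G) * (w0 : A) * (g : G)⁻¹ ∈ A := conj_mem_of_mem_normalizer g.2 (w0 : A).2
    have c : (⟨_, m⟩ : A) ∈ center A := mem_center_iff.2 fun a => Subtype.ext (by
      have := congrArg Subtype.val (mem_center_iff.1 w0.2 ⟨_, conj_mem_of_mem_normalizer' g.2 a.2⟩)
      simp only [coe_mul] at this ⊢
      calc (a : G) * (g * (w0 : A) * (g : G)⁻¹) = g * ((g : G)⁻¹ * a * g * (w0 : A)) * (g : G)⁻¹ := by group
        _ = _ := by rw [this]; group)
    rcases hw0 ⟨_, c⟩ with e1 | e1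
    · have e2 : (g : G) * (w0 : A) * (g : G)⁻¹ = 1 := congrArg (fun x : center A => ((x : A) : G)) e1
      exact absurd (Subtype.ext (Subtype.ext (by simpa using e2))) w1
    · exact Subtype.ext (congrArg (fun x : center A => ((x : A) : G)) e1)
  have w2 : w0 * w0 = 1 := (hw0 _).resolve_right fun e1 => w1 (by simpa using e1)
  have w2' : inc w0 * inc w0 = 1 := by rw [← map_mul, ← coe_mul, w2, coe_one, map_one]
  let W : Subgroup (normalizer (A : Set G)) := (center A).map inc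
  have mW : ∀ g, g ∈ W ↔ g = 1 ∨ g = inc w0 := fun g => ⟨by
      rintro ⟨x, hx, rfl⟩
      exact (hw0 ⟨x, hx⟩).imp (fun e1 => by rw [show x = 1 from congrArg Subtype.val e1, map_one])
        fun e1 => by rw [← e1],
    by rintro (rfl | rfl); exacts [one_mem _, mem_map_of_mem _ w0.2]⟩
  have : W.Normal := ⟨fun n hn g => by
    rcases (mW n).1 hn with rfl | rfl
    · simp
    · rwa [cw]⟩
  let ι0 : A ⧸ center A →* normalizer (A : Set G) ⧸ W := QuotientGroup.map _ _ inc fun x hx => mem_map_of_mem _ hx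
  have hι0 : ∀ a : A, ι0 a = (inc a : normalizer (A : Set G) ⧸ W) := fun a => rfl
  have rng : (G2C.AA (ι0.comp e.symm.toMonoidHom)).comap (QuotientGroup.mk' W) = inc.range := by
    ext g
    constructor
    · rintro ⟨y, hy⟩
      obtain ⟨a, ha⟩ := QuotientGroup.mk_surjective (e.symm y)
      have h1 : (inc a : normalizer (A : Set G) ⧸ W) = g := by rw [← hι0, ha]; exact hy
      obtain ⟨x, -, hx⟩ := QuotientGroup.eq.1 h1
      exact ⟨a * x, by rw [map_mul, hx, mul_inv_cancel_left]⟩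
    · rintro ⟨a, rfl⟩
      exact ⟨e a, by simp [hι0]⟩
  have hm : inc.range.map (normalizer (A : Set G)).subtype = A := by
    ext g
    exact ⟨by rintro ⟨_, ⟨a, rfl⟩, rfl⟩; exact a.2, fun hg => ⟨_, ⟨⟨g, hg⟩, rfl⟩, rfl⟩⟩
  have cov : Cov (QuotientGroup.mk' W) (ι0.comp e.symm.toMonoidHom) (inc w0) :=
    { emb := ⟨hF, fun x y hxy => by
        apply e.symm.injective
        obtain ⟨a, ha⟩ := QuotientGroup.mk_surjective (e.symm x)
        obtain ⟨b, hb⟩ := QuotientGroup.mk_surjective (e.symm y)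
        have h1 : (inc a : normalizer (A : Set G) ⧸ W) = inc b := by rw [← hι0, ← hι0, ha, hb]; exact hxy
        rw [← ha, ← hb]
        have h3 := QuotientGroup.eq.1 h1
        rw [← map_inv, ← map_mul, mem_map_iff_mem hinc] at h3
        exact QuotientGroup.eq.2 h3⟩
      surj := QuotientGroup.mk'_surjective W
      ker := fun g => by rw [QuotientGroup.mk'_apply, QuotientGroup.eq_one_iff, mW]
      ow := orderOf_eq_two (fun e1 => w1 (Subtype.ext (hinc (by rw [e1]; rfl)))) w2'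
      perf := by
        rw [rng]
        apply map_injective (normalizer (A : Set G)).subtype_injective
        rw [map_commutator, hm, hp] }
  obtain ⟨s, hs⟩ := cov.surj (G2C.x (ι0.comp e.symm.toMonoidHom) 9 1)
  have h1 := (cov.gv hs).map (j := (normalizer (A : Set G)).subtype) (subtype_injective _) (by
    rw [rng, hm, range_subtype])
  rw [rng, hm] at h1
  exact ⟨_, _, _, _, h1⟩

end CfsgLib.SzC
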