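import Cfsg.Agent.Lib.SzC.CK

/-! Package KAP: the action of `M` on `R / Z` (plans/SZC.md) -/

set_option autoImplicit false
set_option linter.unusedSectionVars false

namespace CfsgLib.SzC

open Subgroup Cfsg CfsgLib.Tech CfsgLib.StdR2 CfsgLib.Classical CfsgLib.ExtraTwo
open scoped commutatorElement

variable {G : Type*} [Group G] [Finite G] {f : Fd G}
  {V O : Subgroup G} {g0 : G} {R : Subgroup G} {p : G → C4} {μ : GF4}

/-- the action on `R / Z` with a free parameter -/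
def kapT (κ t : GF4) (w : C4) : C4 :=
  (w.1 + κ * w.2.2.2, w.2.1 + t * w.2.2.2, w.2.2.1 + t * w.1 + κ * w.2.1 + κ * t * w.2.2.2, w.2.2.2)

theorem kap_alg (t μ χ κ κ' β : GF4) (h1 : ∀ η, χ * η * η + (t * (χ * η) + κ' * η) * 0 + μ * η = μ * η)
    (h2 : κ = t * χ + κ')
    (h3 : ∀ b, (χ * (t * b) + κ * b) * (t * b) +
      (t * (χ * (t * b) + κ * b) + κ' * (t * b) + β * b) * b + μ * (t * b) = 0) :
    χ = 0 ∧ κ' = κ ∧ β = κ * t ∧ μ * t = 0 := by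
  have e1 : χ = 0 := by simpa using h1 1
  subst e1
  have e2 : κ' = κ := by simpa using h2.symm
  subst e2
  have h4 := h3 1
  have h5 := h3 ω
  clear h1 h2 h3
  revert t μ κ' β
  decide +kernel

namespace S1

variable (h : S1 f V O g0 R p μ) {M : Subgroup G} (hM : MX f V O R (fun v => (p v).1) M)
include h

theorem kap_one : p 1 = 0 := by
  simpa using h.pmul 1 (one_mem _) 1 (one_mem _)

theorem kap_inner {s r : G} (hs : s ∈ R) (hr : r ∈ R) : p (s * r * s⁻¹) = p r := by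
  have h1 := h.pmul s hs s⁻¹ (inv_mem hs)
  rw [mul_inv_cancel, h.kap_one] at h1
  rw [h.pmul _ (mul_mem hs hr) _ (inv_mem hs), h.pmul _ hs _ hr, add_right_comm, ← h1, zero_add]

include hM

theorem kap_b4 {g r s : G} (hg : g ∈ M) (hr : r ∈ R) (hs : s ∈ R) :
    b4 (p (g * r * g⁻¹)) (p (g * s * g⁻¹)) = b4 (p r) (p s) := by
  have h1 := h.comm _ (conj_mem_of_mem_normalizer (hM.MR hg) hr) _
    (conj_mem_of_mem_normalizer (hM.MR hg) hs)
  rw [conj_mul, conj_mul, h.comm r hr s hs, mul_assoc g (s * r * _), mul_assoc (s * r),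
    ((hM.MU g hg 0 _).inv_left).symm.eq, ← mul_assoc, ← mul_assoc, ← mul_assoc g] at h1
  exact (h.x_inj (mul_left_cancel h1)).2.2.symm

theorem kap_sq {g r : G} (hg : g ∈ M) (hr : r ∈ R) :
    q4 (p (g * r * g⁻¹)) + μ * (p (g * r * g⁻¹)).2.1 = q4 (p r) + μ * (p r).2.1 := by
  have h1 := h.sq _ (conj_mem_of_mem_normalizer (hM.MR hg) hr)
  rw [conj_mul, h.sq r hr, (hM.MU g hg 0 _).eq, mul_inv_cancel_right] at h1
  exact (h.x_inj h1).2.2.symm

theorem kap_ex {g : G} (hg : g ∈ M) {t w : GF4} (ht : Tr f V (fun v => (p v).1) g t w) :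
    μ * t = 0 ∧ ∃ κ, ∀ r ∈ R, p (g * r * g⁻¹) = kapT κ t (p r) := by
  have two : (2 : GF4) = 0 := by decide
  obtain ⟨v, hv, e1⟩ := h.Vp 1
  have e2 : p (g * v * g⁻¹) = (1, 0, t, 0) := by
    rw [ht v hv, h.pmul _ (h.VR hv) _ (h.UR (h.mem_U.2 ⟨_, _, _, rfl⟩)), h.pU]
    simp [e1]
  have hu : f.x 1 0 0 ∈ R := h.UR (h.mem_U.2 ⟨_, _, _, rfl⟩)
  have a1 : ∀ r ∈ R, (p (g * r * g⁻¹)).2.2.2 = (p r).2.2.2 := fun r hr => by
    have := h.kap_b4 hM hg hr hu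
    rw [(hM.MU g hg 1 0).eq, mul_inv_cancel_right, h.pU] at this
    simpa [b4] using this
  have a2 : ∀ r ∈ R, (p (g * r * g⁻¹)).2.1 = (p r).2.1 + t * (p r).2.2.2 := fun r hr => by
    have := h.kap_b4 hM hg hr (h.VR hv)
    rw [e2, e1] at this
    simp only [b4, a1 r hr] at this
    linear_combination this - ((p r).2.2.2 * t) * two
  obtain ⟨y, hy, e3⟩ := h.psurj (0, 1, 0, 0)
  obtain ⟨b, hb, e4⟩ := h.psurj (0, 0, 0, 1)
  set χ := (p (g * y * g⁻¹)).1 with hχ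
  set κ := (p (g * y * g⁻¹)).2.2.1 with hκ
  set κ' := (p (g * b * g⁻¹)).1 with hκ'
  set β := (p (g * b * g⁻¹)).2.2.1 with hβ
  have a3 : ∀ r ∈ R, (p (g * r * g⁻¹)).1 =
      (p r).1 + χ * ((p r).2.1 + t * (p r).2.2.2) + κ * (p r).2.2.2 := fun r hr => by
    have := h.kap_b4 hM hg hr hy
    simp only [b4, a1 r hr, a2 r hr, a1 y hy, a2 y hy, e3, ← hχ, ← hκ] at this
    linear_combination this - (χ * ((p r).2.1 + t * (p r).2.2.2) + κ * (p r).2.2.2) * two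
  have a4 : ∀ r ∈ R, (p (g * r * g⁻¹)).2.2.1 = (p r).2.2.1 + t * (p (g * r * g⁻¹)).1 +
      κ' * ((p r).2.1 + t * (p r).2.2.2) + β * (p r).2.2.2 := fun r hr => by
    have := h.kap_b4 hM hg hr hb
    simp only [b4, a1 r hr, a2 r hr, a1 b hb, a2 b hb, e4, ← hκ', ← hβ] at this
    linear_combination this - (t * (p (g * r * g⁻¹)).1 +
      κ' * ((p r).2.1 + t * (p r).2.2.2) + β * (p r).2.2.2) * two
  obtain ⟨c1, c2, c3, c4⟩ := kap_alg t μ χ κ κ' β (fun η => by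
      obtain ⟨r, hr, e⟩ := h.psurj (0, η, 0, 0)
      have := h.kap_sq hM hg hr
      simp only [q4, a4 r hr, a3 r hr, a2 r hr, a1 r hr, e] at this
      linear_combination this)
    (by
      have := a4 y hy
      simp only [e3, ← hχ, ← hκ] at this
      linear_combination this)
    (fun η => by
      obtain ⟨r, hr, e⟩ := h.psurj (0, 0, 0, η)
      have := h.kap_sq hM hg hr
      simp only [q4, a4 r hr, a3 r hr, a2 r hr, a1 r hr, e] at this
      linear_combination this)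
  refine ⟨c4, κ, fun r hr => Prod.ext ?_ (Prod.ext (a2 r hr) (Prod.ext ?_ (a1 r hr)))⟩
  · rw [a3 r hr, c1]; simp [kapT]
  · rw [a4 r hr, a3 r hr, c1, c2, c3]
    simp only [kapT]
    linear_combination (κ * t * (p r).2.2.2) * two

theorem kap_uniq {g g' : G} (hg : g ∈ M) (hg' : g' ∈ M) {t w w' : GF4}
    (ht : Tr f V (fun v => (p v).1) g t w) (ht' : Tr f V (fun v => (p v).1) g' t w') {r : G}
    (hr : r ∈ R) : p (g' * r * g'⁻¹) = p (g * r * g⁻¹) := by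
  have h1 : g' * g⁻¹ ∈ R := hM.ker _ (mul_mem hg' (inv_mem hg)) (w' + w) fun v hv => by
    have h2 : g⁻¹ * v * g = v * (f.x ((p v).1 * t) 0 ((p v).1 * w))⁻¹ := by
      rw [eq_mul_inv_iff_mul_eq, mul_assoc, (hM.MU g hg _ _).eq, ← mul_assoc, mul_assoc g⁻¹,
        ← ht v hv]
      group
    calc g' * g⁻¹ * v * (g' * g⁻¹)⁻¹ = g' * (g⁻¹ * v * g) * g'⁻¹ := by group
      _ = g' * v * g'⁻¹ * (f.x ((p v).1 * t) 0 ((p v).1 * w))⁻¹ := by
        rw [h2, ← mul_assoc, mul_assoc (g' * v), ((hM.MU g' hg' _ _).inv_inv).symm.eq, ← mul_assoc]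
      _ = _ := by
        rw [ht' v hv, h.x_inv, mul_assoc, h.mul]
        have e : ∀ a : GF4, a + a = 0 := by decide
        simp [e, mul_add]
  rw [← h.kap_inner h1 (conj_mem_of_mem_normalizer (hM.MR hg) hr)]
  congr 1
  group

theorem kap_step {g : G} {t w κ : GF4} (hg : g ∈ M) (ht : Tr f V (fun v => (p v).1) g t w)
    (e : ∀ r ∈ R, p (g * r * g⁻¹) = kapT κ t (p r)) : ∃ g' ∈ M, ∃ w',
      Tr f V (fun v => (p v).1) g' (ω * t) w' ∧
        ∀ r ∈ R, p (g' * r * g'⁻¹) = kapT (ω * ω * κ) (ω * t) (p r) := by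
  have h1 : f.h ∈ normalizer (f.U1 : Set G) := mem_normalizer_of_forall fun x hx => by
    obtain ⟨a, c, rfl⟩ := h.mem_U1.1 hx
    exact h.mem_U1.2 ⟨_, _, by rw [h.hx, mul_zero]⟩
  have h2 := conj_mem_of_mem_normalizer (hM.NM (h.A_N1 h.hA h1)) hg
  have h3 : Tr f V (fun v => (p v).1) (f.h * g * f.h⁻¹) (ω * t) ((ω + 1) * w) := fun v hv => by
    have c := (comm_KA (h.sylV.le hv) h.hA).symm
    calc f.h * g * f.h⁻¹ * v * (f.h * g * f.h⁻¹)⁻¹ = f.h * (g * (f.h⁻¹ * v * f.h) * g⁻¹) * f.h⁻¹ := by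
          group
      _ = f.h * v * f.h⁻¹ * (f.h * f.x ((p v).1 * t) 0 ((p v).1 * w) * f.h⁻¹) := by
          rw [c.inv_left.eq, inv_mul_cancel_right, ht v hv, conj_mul]
      _ = _ := by
          rw [c.eq, mul_inv_cancel_right, h.hx, mul_zero]
          congr 2 <;> ring
  obtain ⟨-, κ', e'⟩ := h.kap_ex hM h2 h3
  refine ⟨_, h2, _, h3, ?_⟩
  obtain ⟨b, hb, e4⟩ := h.psurj (0, 0, 0, 1)
  have h4 := e' _ (conj_mem_of_mem_normalizer h.h_NR hb)
  rw [show f.h * g * f.h⁻¹ * (f.h * b * f.h⁻¹) * (f.h * g * f.h⁻¹)⁻¹ =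
    f.h * (g * b * g⁻¹) * f.h⁻¹ by group, h.ph _ (conj_mem_of_mem_normalizer (hM.MR hg) hb),
    h.ph b hb, e b hb, e4] at h4
  have h5 : κ = κ' * ω := by simpa [kapT] using congrArg Prod.fst h4
  rwa [show ω * ω * κ = κ' by rw [h5]; generalize κ' = a; revert a; decide]

end S1

theorem S1.kap (h : S1 f V O g0 R p μ) {M : Subgroup G} (hM : MX f V O R (fun v => (p v).1) M) :
    μ = 0 ∧ ∃ κ, Kap f V R p M κ := by
  obtain ⟨g₁, m₁, t₁⟩ := hM.ex 1 0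
  obtain ⟨e₀, κ, e₁⟩ := h.kap_ex hM m₁ t₁
  obtain ⟨g₂, m₂, w₂, t₂, e₂⟩ := h.kap_step hM m₁ t₁ e₁
  obtain ⟨g₃, m₃, w₃, t₃, e₃⟩ := h.kap_step hM m₂ t₂ e₂
  refine ⟨by simpa using e₀, κ, fun g hg t w ht r hr => ?_⟩
  have hc : t = 0 ∨ t = 1 ∨ t = ω * 1 ∨ t = ω * (ω * 1) := by clear ht; revert t; decide
  have e : ∀ κ' : GF4, κ' = κ * t * t → kapT κ' t (p r) = mt κ t (p r) := fun _ e => e ▸ rfl
  rcases hc with rfl | rfl | rfl | rfl
  · rw [h.kap_inner (hM.ker g hg w ht) hr]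
    simp [mt]
  · rw [h.kap_uniq hM m₁ hg t₁ ht hr, e₁ r hr, e _ (by simp)]
  · rw [h.kap_uniq hM m₂ hg t₂ ht hr, e₂ r hr, e _ (by ring)]
  · rw [h.kap_uniq hM m₃ hg t₃ ht hr, e₃ r hr, e _ (by ring)]

end CfsgLib.SzC
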