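import Cfsg.Agent.Lib.SzC.Exc
import Cfsg.Agent.Lib.G2C.P1

/-! Package MX: the group `M = 2^{4+6}` (plans/SZC.md) -/

set_option autoImplicit false
set_option linter.unusedSectionVars false

namespace CfsgLib.SzC

open Subgroup Cfsg CfsgLib.Tech CfsgLib.StdR2 CfsgLib.Classical CfsgLib.ExtraTwo
open scoped commutatorElement

variable {G : Type*} [Group G] [Finite G] {f : Fd G}
  {V O : Subgroup G} {g0 : G} {R : Subgroup G} {p : G → C4} {μ : GF4}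

namespace MXx

open ExcX G2C.P1

/-- the group `M × Z(O)` -/
def N3 (f : Fd G) (V O : Subgroup G) : Subgroup G :=
  normalizer ((V ⊔ f.U1 : Subgroup G) : Set G) ⊓ centralizer (f.U1 : Set G) ⊓ centralizer (O : Set G) ⊓
    cmod (V ⊔ f.U1) f.U1

theorem N3_O {y o : G} (hy : y ∈ N3 f V O) (ho : o ∈ O) : Commute y o := mem_cent.1 hy.1.2 o ho

theorem two (c : GF4) : c + c = 0 := by revert c; decide

variable (h : S1 f V O g0 R p μ)
include h

theorem xU (a c : GF4) : f.x a 0 c ∈ f.U1 := h.toFm.mem_U1.2 ⟨a, c, rfl⟩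

theorem N3_U {y : G} (hy : y ∈ N3 f V O) (a c : GF4) : Commute y (f.x a 0 c) := mem_cent.1 hy.1.1.2 _ (xU h a c)

theorem x_mul (a c a' c' : GF4) : f.x a 0 c * f.x a' 0 c' = f.x (a + a') 0 (c + c') := by
  rw [h.mul]; simp

theorem x_self (a c : GF4) : f.x a 0 c * f.x a 0 c = 1 := by rw [x_mul h, two, two, h.toFm.x_zero]

theorem NE_N3 : normalizer ((V ⊔ f.U1 : Subgroup G) : Set G) ≤ normalizer (N3 f V O : Set G) := fun _ hg =>
  mem_normalizer_of_forall fun _ hy =>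
    ⟨⟨⟨Subgroup.mul_mem _ (Subgroup.mul_mem _ hg hy.1.1.1) (Subgroup.inv_mem _ hg),
      conj_mem_cent (h.toS0.N1_U hg) hy.1.1.2⟩, conj_mem_cent (h.toS0.N1_O hg) hy.1.2⟩,
      conj_mem_cmod hg (h.toS0.N1_U hg) hy.2⟩

theorem mem_N3 {y : G} (h1 : ∀ a c, Commute y (f.x a 0 c)) (h2 : ∀ o ∈ O, Commute y o)
    (h3 : ∀ v ∈ V, ∃ a c, y * v * y⁻¹ = v * f.x a 0 c) : y ∈ N3 f V O := by
  have h4 : y ∈ centralizer (f.U1 : Set G) := mem_cent.2 fun u hu => by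
    obtain ⟨a, c, rfl⟩ := h.toFm.mem_U1.1 hu
    exact h1 a c
  have h5 : ∀ e ∈ V ⊔ f.U1, ∃ a c, y * e * y⁻¹ = e * f.x a 0 c := fun e he => by
    obtain ⟨v, hv, a, c, rfl⟩ := h.toS0.mem_VU1.1 he
    obtain ⟨a', c', k⟩ := h3 v hv
    refine ⟨a', c', ?_⟩
    rw [← conj_mul, k, (h1 a c).eq, mul_inv_cancel_right, mul_assoc, mul_assoc, x_mul h, x_mul h, add_comm a,
      add_comm c]
  refine ⟨⟨⟨mem_normalizer_of_forall fun e he => ?_, h4⟩, mem_cent.2 h2⟩, centralizer_le_normalizer _ h4,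
    fun e he => ?_⟩
  · obtain ⟨a, c, k⟩ := h5 e he
    exact k ▸ mul_mem he (mem_sup_right (xU h a c))
  · obtain ⟨a, c, k⟩ := h5 e he
    obtain ⟨v, hv, a', c', rfl⟩ := h.toS0.mem_VU1.1 he
    rw [commutatorElement_def, k, mul_assoc v, x_mul h, (VA h hv (h.xA ..)).eq, (VA h hv (h.xA ..)).eq, mul_inv_rev,
      mul_assoc, mul_inv_cancel_left]
    exact mul_mem (xU h _ _) (inv_mem (xU h _ _))

theorem N3_V {y : G} (hy : y ∈ N3 f V O) {v : G} (hv : v ∈ V) : ∃ a c, y * v * y⁻¹ = v * f.x a 0 c := by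
  obtain ⟨a, c, k⟩ := h.toFm.mem_U1.1 (hy.2.2 v (mem_sup_left hv))
  exact ⟨a, c, by rw [(VA h hv (h.xA ..)).eq, ← k, commutatorElement_def, inv_mul_cancel_right]⟩

theorem tr_mul {g g' : G} {t w t' w' : GF4} (hg : g ∈ N3 f V O) (e : Tr f V (fun v => (p v).1) g t w)
    (e' : Tr f V (fun v => (p v).1) g' t' w') : Tr f V (fun v => (p v).1) (g * g') (t + t') (w + w') :=
  fun v hv => by
  rw [show g * g' * v * (g * g')⁻¹ = g * (g' * v * g'⁻¹) * g⁻¹ by group, e' v hv, ← conj_mul, e v hv,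
    (N3_U h hg ..).eq, mul_inv_cancel_right, mul_assoc, x_mul h, mul_add, mul_add]

theorem tr_inv {g : G} {t w : GF4} (hg : g ∈ N3 f V O) (e : Tr f V (fun v => (p v).1) g t w) :
    Tr f V (fun v => (p v).1) g⁻¹ t w := fun v hv => by
  have e1 := e v hv
  have c := (N3_U h hg ((p v).1 * t) ((p v).1 * w)).eq
  have s := x_self h ((p v).1 * t) ((p v).1 * w)
  generalize f.x ((p v).1 * t) 0 ((p v).1 * w) = u at e1 c s
  calc g⁻¹ * v * g⁻¹⁻¹ = g⁻¹ * (v * (u * u)) * g := by rw [s]; group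
    _ = g⁻¹ * (v * u) * (u * g) := by group
    _ = g⁻¹ * (g * v * g⁻¹) * (g * u) := by rw [e1, c]
    _ = v * u := by group

theorem tr_uniq {g : G} {t w t' w' : GF4} (e : Tr f V (fun v => (p v).1) g t w)
    (e' : Tr f V (fun v => (p v).1) g t' w') : t = t' ∧ w = w' := by
  obtain ⟨v, hv, k⟩ := h.Vp 1
  have := h.toFm.x_inj (mul_left_cancel ((e v hv).symm.trans (e' v hv)))
  simpa [k] using this

theorem R_N3 {r : G} (hr : r ∈ R) (h1 : ∀ a c, Commute r (f.x a 0 c)) :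
    r ∈ N3 f V O ∧ Tr f V (fun v => (p v).1) r 0 (p r).2.1 := by
  have e : Tr f V (fun v => (p v).1) r 0 (p r).2.1 := fun v hv => by
    obtain ⟨x, hx⟩ := h.pV v hv
    rw [h.comm r hr v (h.VR hv), hx, mul_assoc v, (h1 0 _).eq, mul_assoc, mul_inv_cancel_right]
    simp [b4, mul_comm, hx]
  exact ⟨mem_N3 h h1 (h.RO r hr) fun v hv => ⟨_, _, e v hv⟩, e⟩

theorem exists_s (t w : GF4) : ∃ s ∈ N3 f V O, Tr f V (fun v => (p v).1) s t w ∧ s * s = f.x (t * μ) 0 (w * μ) := by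
  by_cases h0 : t = 0 ∧ w = 0
  · obtain ⟨rfl, rfl⟩ := h0
    exact ⟨1, one_mem _, fun v _ => by simp [h.toFm.x_zero], by simp [h.toFm.x_zero]⟩
  obtain ⟨g, hg, gU, α, γ, e⟩ := h.toFm.trans1 h0
  obtain ⟨s, hs, e1⟩ := h.psurj (0, 1, 0, 0)
  refine ⟨_, conj_mem_of_mem_normalizer (NE_N3 h (h.toS0.A_N1 hg gU)) (R_N3 h hs fun a c => PU h hs e1 a 0 c).1,
    fun v hv => ?_, ?_⟩
  · have c := VA h hv hg
    calc g * s * g⁻¹ * v * (g * s * g⁻¹)⁻¹ = g * (s * (g⁻¹ * v * g) * s⁻¹) * g⁻¹ := by group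
      _ = g * v * g⁻¹ * (g * f.x 0 0 ((p v).1 * 1) * g⁻¹) := by
        rw [mul_assoc g⁻¹, c.eq, inv_mul_cancel_left, PV h hs e1 hv]; group
      _ = _ := by rw [e, ← c.eq, mul_inv_cancel_right]; simp [mul_comm]
  · rw [conj_mul, h.sq s hs, e1, e]
    simp [q4]

theorem ker {y : G} (hy : y ∈ N3 f V O) {v₁ : G} (h1 : v₁ ∈ V) (h2 : v₁ ≠ 1) (e : y * v₁ * y⁻¹ = v₁) :
    ∃ v ∈ V, ∃ o ∈ O ⊓ centralizer (O : Set G), ∃ a c, y = v * o * f.x a 0 c := by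
  have hn := (h.toS0.NV_of h.toFm.U1_le hy.1.1.1 h1 h2 (e.symm ▸ h1)).2
  obtain ⟨v, hv, o, ho, a, c, k⟩ := h.toS0.cenVU1 (g := y) (fun v hv => by
    obtain ⟨a, c, k⟩ := N3_V h hy hv
    have : f.x a 0 c ∈ V ⊓ f.U := ⟨(mul_mem_cancel_left hv).1 (k ▸ conj_mem_of_mem_normalizer hn hv),
      h.toFm.U1_le (xU h a c)⟩
    rw [h.toS0.V_inf_U, mem_bot] at this
    rw [this, mul_one] at k
    exact mul_inv_eq_iff_eq_mul.1 k) (N3_U h hy)
  refine ⟨v, hv, o, ⟨ho, mem_cent.2 fun o' ho' => ?_⟩, a, c, k⟩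
  rw [show o = v⁻¹ * y * (f.x a 0 c)⁻¹ by rw [k]; group]
  exact (((h.OV o' ho' v hv).symm.inv_left).mul_left (N3_O hy ho')).mul_left
    (h.toS0.commOA ho' (h.xA ..)).symm.inv_left

theorem exists_v1 : ∃ v ∈ V, v ≠ 1 ∧ (p v).1 = 1 := by
  obtain ⟨v, hv, k⟩ := h.Vp 1
  refine ⟨v, hv, fun e => ?_, by rw [k]⟩
  rw [e, p_one h] at k
  exact absurd (congrArg Prod.fst k) (by decide)

theorem str {y : G} (hy : y ∈ N3 f V O) : ∃ t w, Tr f V (fun v => (p v).1) y t w ∧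
    ∃ o ∈ O ⊓ centralizer (O : Set G), ∃ l, y * y = o * o * f.x (t * l) 0 (w * l) := by
  obtain ⟨v₁, h1, h2, h3⟩ := exists_v1 h
  obtain ⟨t, w, k⟩ := N3_V h hy h1
  obtain ⟨s, hs, e1, e2⟩ := exists_s h t w
  obtain ⟨v, hv, o, ho, a, c, k'⟩ := ker h (mul_mem (inv_mem hs) hy) h1 h2 (by
    have e3 := tr_inv h hs e1 v₁ h1
    simp only [h3, one_mul] at e3
    rw [show s⁻¹ * y * v₁ * (s⁻¹ * y)⁻¹ = s⁻¹ * (y * v₁ * y⁻¹) * s⁻¹⁻¹ by group, k, ← conj_mul, e3,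
      (N3_U h (inv_mem hs) ..).eq, mul_inv_cancel_right, mul_assoc, x_self h, mul_one])
  obtain rfl : y = s * (v * o * f.x a 0 c) := by rw [← k', mul_inv_cancel_left]
  refine ⟨t, w, fun u hu => ?_, o, ho, μ + (p v).1, ?_⟩
  · have c : Commute (v * o * f.x a 0 c) u :=
      ((h.toS0.commV hv hu).mul_left (h.OV o ho.1 u hu)).mul_left (VA h hu (h.xA ..)).symm
    rw [← e1 u hu, mul_assoc s, c.eq]; group
  · have e3 := tr_inv h hs e1 v hv
    have c1 := (N3_O hs ho.1).eq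
    have c2 := (h.OV o ho.1 v hv).eq
    have c3 := (h.toS0.commOA ho.1 (h.xA a 0 c)).eq
    have c4 := (N3_U h hs a c).eq
    have c5 := (VA h hv (h.xA a 0 c)).eq
    have c6 := x_self h a c
    have c7 := (VA h hv (h.xA ((p v).1 * t) 0 ((p v).1 * w))).eq
    have e4 : s * (v * o * f.x a 0 c) = o * f.x a 0 c * (s * v) := by
      rw [← c2, mul_assoc o, c5, ← mul_assoc s, c1, mul_assoc o, ← mul_assoc s, c4]; group
    have e5 : Commute (o * f.x a 0 c) (s * v) :=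
      Commute.mul_left (Commute.mul_right c1.symm c2) (Commute.mul_right c4.symm c5.symm)
    rw [e4, ← sq, e5.mul_pow, (show Commute o (f.x a 0 c) from c3).mul_pow, sq, sq, sq, c6, mul_one,
      show s * v * (s * v) = s * s * (s⁻¹ * v * s⁻¹⁻¹) * v by group, e2, e3, c7, mul_assoc (f.x ..), mul_assoc (f.x ..),
      h.sqV v hv, mul_one, x_mul h]
    congr 2 <;> ring

theorem pow4 {y o : G} (ho : o ∈ O) {a c : GF4} (e : y * y = o * o * f.x a 0 c) :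
    y ^ 2 ^ 2 = o ^ 2 ^ 2 := by
  have c3 := h.toS0.commOA ho (h.xA a 0 c)
  have k : ∀ y : G, y ^ 2 ^ 2 = (y * y) ^ 2 := fun y => by rw [← sq, ← pow_mul]; rfl
  rw [k, k, e, (c3.mul_left c3).mul_pow, sq (f.x ..), x_self h, mul_one]

variable {M : Subgroup G} (hM : IsSylowIn 2 M (N3 f V O))
include hM

theorem N3_M : N3 f V O ≤ normalizer (M : Set G) := by
  intro y hy
  obtain ⟨d, hd, s, hs, rfl⟩ := exists_mul_of_two hM (C := O ⊓ centralizer (O : Set G))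
    (fun y hy => centralizer_le_normalizer _ (mem_cent.2 fun o ho => N3_O hy ho.1))
    (fun y hy => by
      obtain ⟨t, w, -, o, ho, l, e⟩ := str h hy
      exact ⟨2, pow4 h ho.1 e ▸ pow_mem ho _⟩) hy
  exact mul_mem (centralizer_le_normalizer _ (mem_cent.2 fun r hr => (N3_O (hM.le hr) hd.1).symm))
    (le_normalizer hs)

theorem mem_M {y : G} (hy : y ∈ N3 f V O) (e : y ^ 2 ^ 2 = 1) : y ∈ M :=
  hM.le_of_normalizes (isPGroup_zpowers_of_pow e) (zpowers_le.2 hy) (zpowers_le.2 (N3_M h hM hy)) (mem_zpowers y)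

theorem NM : normalizer ((V ⊔ f.U1 : Subgroup G) : Set G) ≤ normalizer (M : Set G) := by
  intro g hg
  have h1 := hM.cj_of_mem_normalizer (NE_N3 h hg)
  exact mem_normalizer_of_cj_le (hM.le_of_normalizes h1.pgroup h1.le (h1.le.trans (N3_M h hM)))

theorem sqM {g : G} (hg : g ∈ M) {t w : GF4} (e : Tr f V (fun v => (p v).1) g t w) :
    ∃ l, g * g = f.x (t * l) 0 (w * l) := by
  obtain ⟨t', w', e', o, ho, l, k⟩ := str h (hM.le hg)
  obtain ⟨rfl, rfl⟩ := tr_uniq h e e'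
  obtain ⟨j, hj⟩ := hM.pgroup ⟨g, hg⟩
  have h1 : o = 1 := eq_one_of_odd h.oddO ho.1 (k := 2 + j) (by
    rw [pow_add, pow_mul, ← pow4 h ho.1 k, ← pow_mul, mul_comm, pow_mul,
      show g ^ 2 ^ j = 1 from congrArg Subtype.val hj, one_pow])
  exact ⟨l, by rw [k, h1, one_mul, one_mul]⟩

theorem SM {r : G} (hr : r ∈ R) (h1 : ∀ a c, Commute r (f.x a 0 c)) : r ∈ M :=
  mem_M h hM (R_N3 h hr h1).1 (by
    rw [show 2 ^ 2 = 2 * 2 from rfl, pow_mul, sq, sq, h.sq r hr, x_self h])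

theorem kerM {g : G} (hg : g ∈ M) {w : GF4} (e : Tr f V (fun v => (p v).1) g 0 w) : g ∈ R := by
  obtain ⟨s, hs, e1⟩ := h.psurj (0, w, 0, 0)
  have h1 := fun a c => PU h hs e1 a 0 c
  obtain ⟨h2, h3⟩ := R_N3 h hs h1
  have h4 := mul_mem (inv_mem (SM h hM hs h1)) hg
  have h5 := tr_mul h (inv_mem h2) (tr_inv h h2 h3) e
  obtain ⟨v₁, a1, a2, -⟩ := exists_v1 h
  obtain ⟨v, hv, o, ho, a, c, k⟩ := ker h (hM.le h4) a1 a2 (by
    rw [h5 v₁ a1, e1]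
    simp [two, h.toFm.x_zero])
  have h6 : v ∈ M := SM h hM (h.VR hv) fun a c => VA h hv (h.xA ..)
  have h7 : f.x a 0 c ∈ M := SM h hM (xR h a 0 c) fun a' c' => by
    change _ = _
    rw [x_mul h, x_mul h, add_comm a, add_comm c]
  have h8 : o ∈ M := (mul_mem_cancel_left h6).1 ((mul_mem_cancel_right h7).1 (k ▸ h4))
  obtain ⟨j, hj⟩ := hM.pgroup ⟨o, h8⟩
  rw [eq_one_of_odd h.oddO ho.1 (congrArg Subtype.val hj), mul_one] at k
  exact (mul_mem_cancel_left (inv_mem hs)).1 (k ▸ mul_mem (h.VR hv) (xR h a 0 c))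

theorem MR : M ≤ normalizer (R : Set G) := fun m hm => mem_normalizer_of_forall fun r hr => by
  obtain ⟨t, w, e, -⟩ := str h (hM.le hm)
  have mN := hM.le hm
  have hy := xR h 0 (p r).2.2.2 0
  have h1 := mul_mem hr (inv_mem hy)
  have h2 : ∀ a c, Commute (r * (f.x 0 (p r).2.2.2 0)⁻¹) (f.x a 0 c) := fun a c =>
    comm_of h h1 (xR h a 0 c) (by
      rw [h.pmul r hr _ (inv_mem hy), p_inv h hy, h.pU, h.pU]
      simp [b4, two])
  obtain ⟨h3, h4⟩ := R_N3 h h1 h2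
  have h5 := kerM h hM (mul_mem (mul_mem hm (SM h hM h1 h2)) (inv_mem hm)) (w := w + _ + w) (by
    have := tr_mul h (mul_mem mN h3) (tr_mul h mN e h4) (tr_inv h mN e)
    rwa [add_zero, two] at this)
  generalize (p r).2.2.2 = b at hy h5
  have yN : f.x 0 b 0 ∈ normalizer ((V ⊔ f.U1 : Subgroup G) : Set G) :=
    h.toS0.A_N1 (h.xA ..) (mem_normalizer_of_forall fun u hu => by
      obtain ⟨a, c, rfl⟩ := h.toFm.mem_U1.1 hu
      rw [h.toFm.x_inv, h.mul, h.mul, add_zero b, two]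
      exact xU h _ _)
  have h6 : Tr f V (fun v => (p v).1) (f.x 0 b 0 * m⁻¹ * (f.x 0 b 0)⁻¹) t (w + t * b) := fun v hv => by
    have c := VA h hv (h.xA 0 b 0)
    calc _ = f.x 0 b 0 * (m⁻¹ * ((f.x 0 b 0)⁻¹ * v * f.x 0 b 0) * m⁻¹⁻¹) * (f.x 0 b 0)⁻¹ := by group
      _ = f.x 0 b 0 * v * (f.x 0 b 0)⁻¹ * (f.x 0 b 0 * f.x ((p v).1 * t) 0 ((p v).1 * w) * (f.x 0 b 0)⁻¹) := by
        rw [mul_assoc (f.x 0 b 0)⁻¹, c.eq, inv_mul_cancel_left, tr_inv h mN e v hv]; group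
      _ = _ := by
        rw [← c.eq, mul_inv_cancel_right, h.toFm.x_inv, h.mul, h.mul, add_zero, add_zero, two]
        congr 2 <;> ring
  have h7 := kerM h hM (mul_mem hm (conj_mem_of_mem_normalizer (NM h hM yN) (inv_mem hm))) (w := w + (w + t * b)) (by
    have := tr_mul h mN e h6
    rwa [two] at this)
  have := mul_mem h5 (mul_mem h7 hy)
  rwa [show m * (r * (f.x 0 b 0)⁻¹) * m⁻¹ * (m * (f.x 0 b 0 * m⁻¹ * (f.x 0 b 0)⁻¹) * f.x 0 b 0) = m * r * m⁻¹ by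
    group] at this

end MXx

open MXx in
theorem S1.exists_MX (h : S1 f V O g0 R p μ) : ∃ M, MX f V O R (fun v => (p v).1) M := by
  obtain ⟨M, hM, -⟩ := exists_isSylowIn_ge (p := 2) IsPGroup.of_bot (bot_le : ⊥ ≤ N3 f V O)
  refine ⟨M, fun g hg o ho => N3_O (hM.le hg) ho, fun g hg => N3_U h (hM.le hg), MR h hM, NM h hM,
    fun g hg => (str h (hM.le hg)).imp fun t => Exists.imp fun w k => k.1, fun t w => ?_,
    fun g hg t w => sqM h hM hg, fun r => SM h hM, fun g hg w => kerM h hM hg⟩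
  obtain ⟨s, hs, e1, e2⟩ := exists_s h t w
  exact ⟨s, mem_M h hM hs (by
    rw [show 2 ^ 2 = 2 * 2 from rfl, pow_mul, pow_two, pow_two, e2, x_self h]), e1⟩

end CfsgLib.SzC
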