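import Cfsg.Agent.Lib.SzC.Zx

/-! Package ND: the involutions of `A` are not conjugate into `K` (plans/SZC.md) -/

set_option autoImplicit false
set_option linter.unusedSectionVars false

namespace CfsgLib.SzC

open Subgroup Cfsg CfsgLib.Tech CfsgLib.StdR2 CfsgLib.Classical CfsgLib.ExtraTwo
open scoped commutatorElement CfsgLib.BG

variable {G : Type*} [Group G] [Finite G] {f : Fd G}

theorem nd_comm {k x k' x' : G} (h1 : Commute k x) (h2 : Commute k (k' * x')) (h3 : Commute k' x)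
    (h4 : Commute k' x') : ⁅k * x, k' * x'⁆ = ⁅x, x'⁆ := by
  have e1 : ⁅k * x, k' * x'⁆ = k * (x * (k' * x') * x⁻¹) * k⁻¹ * (k' * x')⁻¹ := by
    rw [commutatorElement_def]; group
  have e2 : x * (k' * x') * x⁻¹ * (k' * x')⁻¹ = k' * ⁅x, x'⁆ * k'⁻¹ := by
    rw [commutatorElement_def, ← mul_assoc x, ← h3.eq]; group
  have e3 : Commute k' ⁅x, x'⁆ := ((h3.mul_right h4).mul_right h3.inv_right).mul_right h4.inv_right
  rw [e1, ((h1.mul_right h2).mul_right h1.inv_right).eq, mul_inv_cancel_right, e2, e3.eq, mul_inv_cancel_right]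

/-- two frames whose Sylow subgroups are cut out by the same 2-group -/
structure NDp (f f' : Fd G) (S : Subgroup G) : Prop where
  h : Fm f
  h' : Fm f'
  two : IsPGroup 2 S
  SA : S ≤ 𝒩(f.A)
  SA' : S ≤ 𝒩(f'.A)
  eU : S ⊓ f.A = f.U
  eU' : S ⊓ f'.A = f'.U

namespace NDp

variable {f' : Fd G} {S : Subgroup G} (p : NDp f f' S)
include p

theorem symm : NDp f' f S := ⟨p.h', p.h, p.two, p.SA', p.SA, p.eU', p.eU⟩

theorem US : f.U ≤ S := p.eU.ge.trans inf_le_left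

theorem SU : S ≤ 𝒩(f.U) := p.eU ▸ BG.normsI le_normalizer p.SA

theorem half (hJ : f.U ⊓ f'.U ≠ ⊥) {y : G} (hy : y ∈ S) (hk : y ∈ f'.K) :
    ∃ k ∈ f.K, k ∈ S ∧ ∃ c, y = k * f.x 0 0 c := by
  have h := p.h
  have hUK : f.U ≤ 𝒩(f'.K) := BG.norms_cent (p.US.trans p.SA')
  have hZ : ¬ f.Z ≤ f'.K := fun hZ => by
    obtain ⟨j, hj, j1⟩ := BG.exists_ne_one_of_ne_bot hJ
    obtain ⟨a, b, c, rfl⟩ := h.mem_U.1 hj.1
    by_cases h0 : a = 0 ∧ b = 0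
    · obtain ⟨rfl, rfl⟩ := h0
      exact j1 (p.h'.zx_KU (hZ (h.zx_memZ c)) hj.2)
    · have := h.zx_Z_le (p.US.trans p.symm.SU) (one_mem _) (by rw [one_mul]; exact hj.2) h0
      exact ne_one_of_orderOf_two h.orderOf_z (p.h'.zx_KU (hZ (h.zx_memZ 1)) (this (h.zx_memZ 1)))
  have h1 : ∀ k ∈ f.K, ∀ a b c, k * f.x a b c ∈ f'.K → a = 0 ∧ b = 0 := fun k hk a b c e =>
    by_contra fun h0 => hZ (h.zx_Z_le hUK hk e h0)
  obtain ⟨k, hk', a, b, c, e⟩ := h.cenUbar (p.SA hy) fun a b c => by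
    have hu := h.zx_memU a b c
    obtain ⟨a', b', c', e⟩ := h.mem_U.1 (mul_mem (conj_mem_of_mem_normalizer (p.SU hy) hu) (inv_mem hu))
    obtain ⟨rfl, rfl⟩ := h1 1 (one_mem _) a' b' c' (by
      rw [one_mul, ← e]
      simpa [mul_assoc] using mul_mem hk (conj_mem_of_mem_normalizer (hUK hu) (inv_mem hk)))
    exact ⟨_, by rw [mul_inv_eq_iff_eq_mul.1 e, h.mul, zero_add, zero_add]⟩
  obtain ⟨rfl, rfl⟩ := h1 k hk' a b c (e ▸ hk)
  exact ⟨k, hk', (mul_mem_cancel_right (p.US (h.zx_memU 0 0 c))).1 (e ▸ hy), c, e⟩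

theorem Z_eq (hJ : f.U ⊓ f'.U ≠ ⊥) (ti : ∀ y ∈ f.K, y ∈ f'.K → y * y = 1 → y = 1) {v w : G} (hv : v ∈ S ⊓ f'.K)
    (hw : w ∈ S ⊓ f'.K) (ov : orderOf v = 2) (ow : orderOf w = 2) (ne : v ≠ w) (c : Commute v w) : f'.Z = f.Z := by
  have h := p.h
  have h' := p.h'
  have hR : ∀ r ∈ f.K, r ∈ S → ∀ u ∈ f'.U, Commute r u := fun r h1 h2 u hu => by
    obtain ⟨k, hk, -, c, rfl⟩ := p.symm.half (inf_comm f.U _ ▸ hJ) h2 h1
    exact (comm_KA hk (h'.U_le hu)).mul_left (BG.cents_iff.1 h'.zx_UZ u hu _ (h'.zx_memZ c)).symm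
  have h1 : ∀ v ∈ S ⊓ f'.K, orderOf v = 2 → ∃ k ∈ f.K, ∃ c, c ≠ 0 ∧ v = k * f.x 0 0 c ∧
      ∀ u ∈ f'.U, Commute u (f.x 0 0 c) := fun v hv ov => by
    obtain ⟨k, hk, hk', c, e⟩ := p.half hJ hv.1 hv.2
    refine ⟨k, hk, c, fun c0 => ?_, e, fun u hu => ?_⟩
    · rw [c0, h.x_zero, mul_one] at e
      exact ne_one_of_orderOf_two ov (ti v (e ▸ hk) hv.2 (mul_self_of_orderOf_two ov))
    · simpa [e] using ((hR k hk hk' u hu).inv_left.mul_left (comm_KA hv.2 (h'.U_le hu))).symm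
  obtain ⟨k1, hk1, c1, n1, e1, d1⟩ := h1 v hv ov
  obtain ⟨k2, hk2, c2, n2, e2, d2⟩ := h1 w hw ow
  have n3 : c1 ≠ c2 := fun e => ne (mul_inv_eq_one.1 (ti _ (by
      rw [e1, e2, e, mul_inv_rev, mul_assoc, mul_inv_cancel_left]; exact mul_mem hk1 (inv_mem hk2))
    (mul_mem hv.2 (inv_mem hw.2)) (by
      rw [c.inv_right.symm.mul_mul_mul_comm, mul_self_of_orderOf_two ov, ← mul_inv_rev, mul_self_of_orderOf_two ow]; simp)))
  have hZ : ∀ u ∈ f'.U, ∀ c, Commute u (f.x 0 0 c) := fun u hu c => by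
    rcases zx_span c1 c2 c n1 n2 n3 with rfl | rfl | rfl | rfl
    · exact h.x_zero ▸ Commute.one_right u
    · exact d1 u hu
    · exact d2 u hu
    · simpa [h.mul] using (d1 u hu).mul_right (d2 u hu)
  have hY : 32 ≤ Nat.card (f'.U ⊓ 𝒩(f.U1) : Subgroup G) := by
    have e1 := card_mul_relIndex' (inf_le_left : f'.U ⊓ 𝒩(f.U1) ≤ _)
    have e2 : 𝒩(f.U1).relIndex f'.U ∣ 2 := relIndex_dvd_two_iff.2 (by
      by_cases e : f'.U ≤ 𝒩(f.U1)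
      · exact ⟨1, one_mem _, fun b hb => .inr (e hb)⟩
      obtain ⟨a, ha, ha'⟩ := SetLike.not_le_iff_exists.1 e
      refine ⟨a, ha, fun b hb => (h.NU_cases (p.SU (p.symm.US hb))).symm.imp (fun e => ?_) And.left⟩
      rw [mem_normalizer_iff_cj, cj_mul, ((h.NU_cases (p.SU (p.symm.US ha))).resolve_left fun e => ha' e.1).1, e.2])
    rw [inf_relIndex_left, h'.cardU] at e1
    have := Nat.le_of_dvd two_pos e2
    nlinarith
  have h2 : ∀ y ∈ f'.U ⊓ 𝒩(f.U1), ∃ k ∈ f.K, k ∈ S ∧ ∃ a b c, y = k * f.x a b c := fun y hy => by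
    obtain ⟨j, hj⟩ := isPGroup_iff_mem.1 p.two y (p.symm.US hy.1)
    obtain ⟨k, hk, a, b, c, e⟩ := h.inner_two (p.SA (p.symm.US hy.1)) (hZ y hy.1) hy.2 hj
    exact ⟨k, hk, (mul_mem_cancel_right (p.US (h.zx_memU a b c))).1 (e ▸ p.symm.US hy.1), a, b, c, e⟩
  refine BG.eq_of_le_card ((h'.der2 inf_le_left hY).trans (commutator_le.2 fun y hy y' hy' => ?_))
    (by rw [h.cardZ, h'.cardZ])
  obtain ⟨k, hk, hk', a, b, c, rfl⟩ := h2 y hy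
  obtain ⟨k', hl, -, a', b', c', rfl⟩ := h2 y' hy'
  rw [nd_comm (comm_KA hk (h.xA ..)) (hR k hk hk' _ hy'.1) (comm_KA hl (h.xA ..)) (comm_KA hl (h.xA ..)),
    commutatorElement_def, h.x_comm a b c, mul_assoc (f.x a' b' c'), ← (h.zx_commZ _ a b c).eq, ← mul_assoc,
    ← (h.zx_commZ _ a' b' c').eq]
  simpa [mul_assoc] using h.zx_memZ _

theorem caseA (hJ : f.U ⊓ f'.U = ⊥) {a b : GF4} (hab : a * b = 0) (h0 : ¬ (a = 0 ∧ b = 0)) :
    ∃ c, ∃ k ∈ f'.K, orderOf k = 2 ∧ ∀ g ∈ f.A, Commute g (f.x a b c) → Commute g k := by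
  have h := p.h
  have h' := p.h'
  have hc := BG.cents_iff.1 (BG.commG1.1 (le_bot_iff.1
    ((BG.commg_subI (p.symm.US.trans p.SU) (p.US.trans p.symm.SU)).trans hJ.le)))
  obtain ⟨k', hk', c', e⟩ := h'.cenU (p.SA' (p.US (h.zx_memU a b 0))) fun a' b' c' =>
    hc _ (h.zx_memU _ _ _) _ (h'.zx_memU _ _ _)
  obtain ⟨k, hk, c, e'⟩ := h.cenU (p.SA (p.symm.US (h'.zx_memU 0 0 c'))) fun a' b' c' =>
    (hc _ (h.zx_memU _ _ _) _ (h'.zx_memU _ _ _)).symm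
  have k2 := (h.zx_sq_left hk (h.zx_memU 0 0 c) (e' ▸ h'.zx_sq (mul_zero 0) c')).1
  obtain rfl : k' = k * f.x a b c := mul_right_cancel (b := f'.x 0 0 c') (by
    rw [← e, e', (comm_KA hk (h.xA ..)).symm.mul_mul_mul_comm, k2, one_mul, h.mul, add_zero, add_zero, mul_zero,
      add_zero, show ∀ c : GF4, c + c = 0 by decide])
  exact ⟨c, _, hk', h.zx_ord hk k2 hab (.inr fun e => h0 ⟨e.1, e.2.1⟩), fun g hg e =>
    (comm_KA hk hg).symm.mul_right e⟩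

end NDp

theorem St.nD (h : St f) (g : G) : f.z ∉ Tech.cj g f.K := fun hz => by
  have e := h.toFm
  have s := h.toSt0
  obtain ⟨S, hS, hU⟩ := exists_isSylowIn_ge e.syl.pgroup (e.U_le.trans s.A_le_H)
  have SA : S ≤ 𝒩(f.A) := hS.le.trans h.norm.ge
  have eU : S ⊓ f.A = f.U := e.syl.eq_of_le (hS.pgroup.to_le inf_le_left) (le_inf hU e.U_le) inf_le_right
  have SU : S ≤ 𝒩(f.U) := eU ▸ BG.normsI le_normalizer SA
  obtain ⟨ζ, hζ, o, hc⟩ := exists_mem_center_of_normalized hS.pgroup (e.zx_ZU.trans hU)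
    (fun _ hx => e.NZ_of_NU (SU hx)) (BG.cardG_gt1.1 (by rw [e.cardZ]; norm_num))
  obtain ⟨c, rfl⟩ := e.mem_Z.1 hζ
  obtain ⟨i, hi⟩ := e.conj_Z (c := c) fun c0 => ne_one_of_orderOf_two o (c0 ▸ e.x_zero)
  have h1 : f.x 0 0 c ∈ Tech.cj (f.h ^ i * g) f.K := by rw [cj_mul, ← hi]; exact conj_mem_cj.2 hz
  generalize f.h ^ i * g = g1 at h1
  have h2 : S ≤ Tech.cj g1 f.H := fun y hy => s.mem_cj_H h1 o (hc y hy)
  have hS1 := (hS.cj g1).of_card_le hS.pgroup h2 (card_cj _ _).le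
  have h3 := hS1.inf_of_le_normalizer (N := Tech.cj g1 f.A) (by rw [← cj_normalizer, h.norm])
  rw [inf_eq_right.2 (cj_mono g1 s.A_le_H)] at h3
  obtain ⟨a, ha, e1⟩ := (e.syl.cj g1).exists_cj_eq h3
  have hA : (f.cj (a * g1)).A = Tech.cj g1 f.A := by rw [Fd.cj_A, cj_mul, cj_eq_of_mem ha]
  have hK : (f.cj (a * g1)).K = Tech.cj g1 f.K := by rw [Fd.K, hA, Kc_cj]
  have p : NDp f (f.cj (a * g1)) S := ⟨e, e.cj _, hS.pgroup, SA, by rwa [hA, ← cj_normalizer, h.norm], eU,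
    by rw [hA, Fd.cj_U, cj_mul, e1]⟩
  have hg : g1 ∉ f.H := fun hg => ne_one_of_orderOf_two o
    (e.zx_KU ((mem_normalizer_iff_cj.1 hg).le h1) (e.zx_ZU hζ))
  by_cases hJ : f.U ⊓ (f.cj (a * g1)).U = ⊥
  · obtain ⟨c1, k1, hk1, o1, d1⟩ := p.caseA hJ (mul_zero 1) fun e => one_ne_zero e.1
    obtain ⟨c2, k2, hk2, o2, d2⟩ := p.caseA hJ (zero_mul 1) fun e => one_ne_zero e.2
    exact s.not_le_H hg h1 (s.A_le_H (e.xA ..)) o (e.gen2 (hU.trans h2) one_ne_zero one_ne_zero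
      (fun y hy e => s.mem_cj_H (hK ▸ hk1) o1 (d1 y hy e)) fun y hy e => s.mem_cj_H (hK ▸ hk2) o2 (d2 y hy e))
  have h4 := hS1.inf_of_le_normalizer (N := Tech.cj g1 f.K) (cj_normalizer _ _).le
  rw [inf_eq_right.2 (cj_mono g1 le_normalizer), ← Kc_cj] at h4
  obtain ⟨v, hv, w, hw, ov, ow, ne, cc⟩ := (s.cj g1).exists_two_inv h4
  rw [Kc_cj, ← hK] at hv hw
  have h5 := p.Z_eq hJ (fun y hy hy' y2 => s.eq_one hg hy (hK ▸ hy') y2) hv hw ov ow ne cc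
  exact ne_one_of_orderOf_two o (p.h'.zx_KU (hK ▸ h1) (p.h'.zx_ZU (h5.ge hζ)))

end CfsgLib.SzC
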