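import Cfsg.Agent.Lib.SzC.Defs

/-! Package ORB: finite computations (plans/SZC.md) -/

set_option autoImplicit false
set_option Elab.async false

namespace CfsgLib.SzC

open CfsgLib.StdR2 CfsgLib.Classical Equiv

/-- the coordinates of the permutation model -/
def orbB (κ : GF4) (w : C4) : C5 :=
  ![κ * κ * w.2.2.2, κ * w.2.2.1, w.1 + w.2.1 + (κ * w.2.2.1 + κ * κ * w.2.2.2),
    (ω + 1) * w.1 + ω * w.2.1 + (κ * w.2.2.1 + κ * κ * w.2.2.2),
    ω * w.1 + (ω + 1) * w.2.1 + (κ * w.2.2.1 + κ * κ * w.2.2.2)]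

/-- the five singular points over the prime field -/
def orbW (i : Fin 5) : C5 := fun j => if j = i then 0 else 1

/-- the four-group that fixes `0` -/
def orbD1 : Fin 4 → Perm (Fin 5) := ![1, swap 1 2 * swap 3 4, swap 1 3 * swap 2 4, swap 1 4 * swap 2 3]

/-- the four-group that fixes `1` -/
def orbD2 : Fin 4 → Perm (Fin 5) := ![1, swap 0 2 * swap 3 4, swap 0 3 * swap 2 4, swap 0 4 * swap 2 3]

theorem orb_kap : ∀ κ κ' : GF4, ¬ (κ = 0 ∧ κ' = 0) → κ * κ' = 1 ∨ ∃ t1 t2 t3 t4, ∃ a b,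
    mt κ t1 (s4 (mt κ' t2 (s4 (mt κ t3 (s4 (mt κ' t4 (s4 (1, 0, 0, 0)))))))) = (0, 0, a, b) := by
  decide +kernel

theorem orb_alt : ∀ π : Perm (Fin 5), Perm.sign π = 1 → ∃ a b c d, ∀ i,
    π i = orbD1 a (orbD2 b (orbD1 c (orbD2 d i))) := by
  decide +kernel

theorem orb_sign : ∀ j, Perm.sign (orbD1 j) = 1 ∧ Perm.sign (orbD2 j) = 1 := by decide +kernel

theorem orbB_add (κ : GF4) (w w' : C4) : orbB κ (w + w') = orbB κ w + orbB κ w' := by
  funext i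
  fin_cases i <;> simp [orbB] <;> ring

theorem orb_mt_add (κ t : GF4) (w w' : C4) : mt κ t (w + w') = mt κ t w + mt κ t w' := by
  refine Prod.ext ?_ (Prod.ext ?_ (Prod.ext ?_ ?_)) <;> simp [mt] <;> ring

theorem orb_s4_add (w w' : C4) : s4 (w + w') = s4 w + s4 w' := rfl

/-- a property of the vectors on the four axes -/
def orbAx (P : C4 → Prop) : Prop :=
  ∀ x, P (x, 0, 0, 0) ∧ P (0, x, 0, 0) ∧ P (0, 0, x, 0) ∧ P (0, 0, 0, x)

instance (P : C4 → Prop) [DecidablePred P] : Decidable (orbAx P) := by unfold orbAx; infer_instance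

theorem orbAx.all {P : C4 → Prop} (h : orbAx P) (ha : ∀ w w', P w → P w' → P (w + w')) (w : C4) :
    P w := by
  have := ha _ _ (ha _ _ (h w.1).1 (h w.2.1).2.1) (ha _ _ (h w.2.2.1).2.2.1 (h w.2.2.2).2.2.2)
  obtain ⟨x, y, a, b⟩ := w
  simpa only [Prod.mk_add_mk, add_zero, zero_add] using this

theorem orb_m1a : ∀ κ : GF4, κ ≠ 0 → (∀ t, ∃ j, orbAx fun w => ∀ i,
    orbB κ (mt κ t w) (orbD1 j i) = orbB κ w i) ∧ ∀ j, ∃ t, orbAx fun w => ∀ i,
    orbB κ (mt κ t w) (orbD1 j i) = orbB κ w i := by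
  decide +kernel

theorem orb_m2a : ∀ κ : GF4, κ ≠ 0 → (∀ t, ∃ j, orbAx fun w => ∀ i,
    orbB κ (s4 (mt (κ * κ) t (s4 w))) (orbD2 j i) = orbB κ w i) ∧ ∀ j, ∃ t, orbAx fun w => ∀ i,
    orbB κ (s4 (mt (κ * κ) t (s4 w))) (orbD2 j i) = orbB κ w i := by
  decide +kernel

theorem orb_m1 {κ : GF4} (h : κ ≠ 0) : (∀ t, ∃ j, ∀ w i,
    orbB κ (mt κ t w) (orbD1 j i) = orbB κ w i) ∧ ∀ j, ∃ t, ∀ w i,
    orbB κ (mt κ t w) (orbD1 j i) = orbB κ w i :=
  ⟨fun t => ((orb_m1a κ h).1 t).imp fun _ e => e.all fun _ _ a b i => by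
      rw [orb_mt_add, orbB_add, orbB_add, Pi.add_apply, Pi.add_apply, a, b],
    fun j => ((orb_m1a κ h).2 j).imp fun _ e => e.all fun _ _ a b i => by
      rw [orb_mt_add, orbB_add, orbB_add, Pi.add_apply, Pi.add_apply, a, b]⟩

theorem orb_m2 {κ : GF4} (h : κ ≠ 0) : (∀ t, ∃ j, ∀ w i,
    orbB κ (s4 (mt (κ * κ) t (s4 w))) (orbD2 j i) = orbB κ w i) ∧ ∀ j, ∃ t, ∀ w i,
    orbB κ (s4 (mt (κ * κ) t (s4 w))) (orbD2 j i) = orbB κ w i :=
  ⟨fun t => ((orb_m2a κ h).1 t).imp fun _ e => e.all fun _ _ a b i => by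
      rw [orb_s4_add, orb_mt_add, orb_s4_add, orbB_add, orbB_add, Pi.add_apply, Pi.add_apply, a, b],
    fun j => ((orb_m2a κ h).2 j).imp fun _ e => e.all fun _ _ a b i => by
      rw [orb_s4_add, orb_mt_add, orb_s4_add, orbB_add, orbB_add, Pi.add_apply, Pi.add_apply, a, b]⟩

theorem orb_eta (β : C5) : β = ![β 0, β 1, β 2, β 3, β 4] := by
  funext i; fin_cases i <;> rfl

theorem orb_tra : ∀ a b c d e : GF4, s5 ![a, b, c, d, e] = 0 → q5 ![a, b, c, d, e] = 0 →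
    (¬ Rat5 ![a, b, c, d, e] → ∃ π : Perm (Fin 5), (∀ i, ![a, b, c, d, e] (π i) = eV i) ∧
      Perm.sign π = 1) ∧
    (Rat5 ![a, b, c, d, e] → ∃ l : GF4, ∃ j, ∀ i, ![a, b, c, d, e] i = l * orbW j i) := by
  decide +kernel

theorem orb_tr {β : C5} (h1 : s5 β = 0) (h2 : q5 β = 0) :
    (¬ Rat5 β → ∃ π : Perm (Fin 5), (∀ i, β (π i) = eV i) ∧ Perm.sign π = 1) ∧
    (Rat5 β → ∃ l : GF4, ∃ j, ∀ i, β i = l * orbW j i) := by
  rw [orb_eta β] at h1 h2 ⊢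
  exact orb_tra _ _ _ _ _ h1 h2

theorem orb_q {κ : GF4} (h : κ ≠ 0) (w : C4) : q5 (orbB κ w) = q4 w :=
  (by decide +kernel : ∀ κ : GF4, κ ≠ 0 → ∀ x y a b, q5 (orbB κ (x, y, a, b)) = q4 (x, y, a, b))
    κ h _ _ _ _

theorem orb_s (κ : GF4) (w : C4) : s5 (orbB κ w) = 0 :=
  orbAx.all (P := fun w => s5 (orbB κ w) = 0)
    ((by decide +kernel : ∀ κ : GF4, orbAx fun w => s5 (orbB κ w) = 0) κ) (fun w w' a b => by
      rw [orbB_add]
      simp only [s5, Pi.add_apply] at a b ⊢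
      linear_combination a + b) w

theorem orb_b {κ : GF4} (h : κ ≠ 0) (w w' : C4) : b5 (orbB κ w) (orbB κ w') = b4 w w' := by
  have h1 : ∀ β γ : C5, q5 (β + γ) = q5 β + q5 γ + s5 β * s5 γ - b5 β γ := fun β γ => by
    simp only [q5, s5, b5, Pi.add_apply]; ring
  have h2 : q4 (w + w') = q4 w + q4 w' + b4 w w' := by
    simp only [q4, b4, Prod.fst_add, Prod.snd_add]; ring
  have h3 := h1 (orbB κ w) (orbB κ w')
  rw [← orbB_add, orb_q h, orb_q h, orb_q h, orb_s, h2] at h3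
  have : (2 : GF4) = 0 := by decide
  linear_combination h3 - b4 w w' * this

theorem orb_inj {κ : GF4} (h : κ ≠ 0) {w w' : C4} (e : orbB κ w = orbB κ w') : w = w' := by
  have h1 : ∀ u, b4 w u = b4 w' u := fun u => by rw [← orb_b h, e, orb_b h]
  refine Prod.ext ?_ (Prod.ext ?_ (Prod.ext ?_ ?_))
  · simpa [b4] using h1 (0, 1, 0, 0)
  · simpa [b4] using h1 (1, 0, 0, 0)
  · simpa [b4] using h1 (0, 0, 0, 1)
  · simpa [b4] using h1 (0, 0, 1, 0)

theorem orb_ph (κ : GF4) (w : C4) (i : Fin 5) :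
    orbB κ (w.1, (ω + 1) * w.2.1, ω * w.2.2.1, ω * w.2.2.2) i = ω * orbB κ w (c3 i) := by
  have h1 : ω * ω = ω + 1 := by decide
  have h2 : (2 : GF4) = 0 := by decide
  fin_cases i <;> simp [orbB, c3]
  · ring
  · ring
  · linear_combination (-w.1 - w.2.1) * h1 + (-ω * w.1) * h2
  · linear_combination (-w.1) * h1
  · linear_combination w.2.1 * h1 + (w.2.1 * ω + w.2.1) * h2

theorem orb_surj {κ : GF4} (h : κ ≠ 0) {β : C5} (e : s5 β = 0) : ∃ w, orbB κ w = β := by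
  have : ∀ κ : GF4, κ ≠ 0 → ∀ a b c d e : GF4, s5 ![a, b, c, d, e] = 0 → ∀ i,
    orbB κ (d + a + b + ω * (c + a + b), d + a + b + (ω + 1) * (c + a + b), κ * κ * b, κ * a) i =
      ![a, b, c, d, e] i := by decide +kernel
  rw [orb_eta β] at e ⊢
  exact ⟨_, funext (this κ h _ _ _ _ _ e)⟩

theorem orb_v4 : ∀ π : Perm (Fin 5), Perm.sign π = 1 → (∀ i, π (π (π (π i))) = i) →
    (π 0 = 0 → ∃ j, ∀ i, π i = orbD1 j i) ∧ (π 1 = 1 → ∃ j, ∀ i, π i = orbD2 j i) := by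
  decide +kernel

theorem orb_bW {β : C5} (h : s5 β = 0) (i : Fin 5) : b5 β (orbW i) = β i := by
  have h2 : (2 : GF4) = 0 := by decide
  rw [s5] at h
  fin_cases i <;> simp [b5, orbW]
  · linear_combination h - β 0 * h2
  · linear_combination h - β 1 * h2
  · linear_combination h - β 2 * h2
  · linear_combination h - β 3 * h2
  · linear_combination h - β 4 * h2

theorem orb_W : ∀ i, s5 (orbW i) = 0 ∧ q5 (orbW i) = 0 ∧ Rat5 (orbW i) := by decide +kernel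

theorem orb_toW : ∀ j, ∃ π : Perm (Fin 5), π 0 = j ∧ Perm.sign π = 1 := by decide +kernel

theorem orb_V (κ x : GF4) : orbB κ (x, 0, 0, 0) = x • eV := by
  funext i
  fin_cases i <;> simp [orbB, eV, mul_comm]

theorem orb_U (κ a b : GF4) : orbB κ (0, 0, a, b) = (κ * a) • e1 + (κ * κ * b) • e2 := by
  funext i
  fin_cases i <;> simp [orbB, e1, e2]

end CfsgLib.SzC
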