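import Cfsg.Agent.Lib.SzC.CK
import Cfsg.Agent.Lib.SzC.Orbx

/-! Package ORB: the permutation model (plans/SZC.md) -/

set_option autoImplicit false
set_option linter.unusedSectionVars false

namespace CfsgLib.SzC

open Subgroup Cfsg CfsgLib.Tech CfsgLib.StdR2 CfsgLib.Classical CfsgLib.ExtraTwo
open scoped commutatorElement

variable {G : Type*} [Group G] [Finite G] {f : Fd G}
  {V O : Subgroup G} {g0 : G} {R : Subgroup G} {p : G → C4} {μ : GF4}

/-- `g` permutes the coordinates -/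
def OAct (R : Subgroup G) (q : G → C5) (g : G) (π : Equiv.Perm (Fin 5)) : Prop :=
  g ∈ normalizer (R : Set G) ∧ ∀ r ∈ R, ∀ i, q (g * r * g⁻¹) (π i) = q r i

namespace OAct

variable {q : G → C5} {g g' : G} {π π' : Equiv.Perm (Fin 5)}

theorem one : OAct R q 1 1 := ⟨one_mem _, fun r _ i => by simp⟩

theorem mul (h : OAct R q g π) (h' : OAct R q g' π') : OAct R q (g * g') (π * π') :=
  ⟨mul_mem h.1 h'.1, fun r hr i => by
    rw [← h'.2 r hr, ← h.2 _ (conj_mem_of_mem_normalizer h'.1 hr), Equiv.Perm.mul_apply]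
    congr 1; group⟩

theorem inv (h : OAct R q g π) : OAct R q g⁻¹ π⁻¹ :=
  ⟨inv_mem h.1, fun r hr i => by
    rw [← h.2 _ (conj_mem_of_mem_normalizer (inv_mem h.1) hr)]
    congr 1
    · group
    · simp⟩

theorem uniq (hs : ∀ β, s5 β = 0 → ∃ r ∈ R, q r = β) (h : OAct R q g π) (h' : OAct R q g π') :
    π = π' := Equiv.ext fun i => by
  obtain ⟨r, hr, e⟩ := hs _ (orb_W i).1
  have h1 := h'.2 r hr (π'.symm (π i))
  rw [Equiv.apply_symm_apply, h.2 r hr, e] at h1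
  by_contra ne
  have : π'.symm (π i) ≠ i := fun e => ne (by rw [← e, Equiv.apply_symm_apply, e])
  simp [orbW, this] at h1

end OAct

theorem MX.congr {ξ ξ' : G → GF4} {M : Subgroup G} (h : MX f V O R ξ M) (e : ∀ v ∈ V, ξ v = ξ' v) :
    MX f V O R ξ' M :=
  have t : ∀ g t w, Tr f V ξ g t w ↔ Tr f V ξ' g t w := fun g t w =>
    forall₂_congr fun v hv => by rw [e v hv]
  ⟨h.MO, h.MU, h.MR, h.NM, by simpa only [← t] using h.lin, by simpa only [← t] using h.ex,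
    by simpa only [← t] using h.sq, h.SM, by simpa only [← t] using h.ker⟩

namespace S1

variable (h : S1 f V O g0 R p 0)
include h

theorem orb_xR (a b c : GF4) : f.x a b c ∈ R := h.UR (h.toFm.mem_U.2 ⟨a, b, c, rfl⟩)

theorem orb_cz {r : G} (hr : r ∈ R) (c : GF4) : Commute r (f.x 0 0 c) := by
  have := h.comm r hr _ (h.orb_xR 0 0 c)
  rwa [h.pU, show b4 (p r) (0, 0, 0, 0) = 0 by simp [b4], h.toFm.x_zero, mul_one] at this

theorem orb_peq {r s : G} (hr : r ∈ R) (hs : s ∈ R) (e : p r = p s) : ∃ c, r = s * f.x 0 0 c := by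
  have h1 := h.pmul s hs _ (mul_mem (inv_mem hs) hr)
  rw [mul_inv_cancel_left, e, left_eq_add] at h1
  obtain ⟨c, hc⟩ := h.toFm.mem_Z.1 (h.pker _ (mul_mem (inv_mem hs) hr) h1)
  exact ⟨c, by rw [← hc, mul_inv_cancel_left]⟩

theorem orb_memU {r : G} (hr : r ∈ R) {a b : GF4} (e : p r = (0, 0, a, b)) : r ∈ f.U := by
  obtain ⟨c, rfl⟩ := h.orb_peq hr (h.orb_xR a b 0) (e.trans (h.pU ..).symm)
  exact h.toFm.mem_U.2 ⟨_, _, _, h.mul ..⟩

theorem orb_ord {v : G} (hv : v ∈ V) (e : p v = (1, 0, 0, 0)) : orderOf v = 2 :=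
  orderOf_eq_two (fun e1 => by
    rw [e1, ← h.toFm.x_zero, h.pU] at e
    exact zero_ne_one (congrArg Prod.fst e)) (h.sqV v hv)

theorem orb_VD {v : G} (hv : v ∈ V) (e : p v = (1, 0, 0, 0)) : v ∈ f.D :=
  ⟨h.orb_ord hv e, 1, by rw [cj_one]; exact h.sylV.le hv⟩

theorem orb_pow4 {r : G} (hr : r ∈ R) : r ^ 4 = 1 := by
  rw [show 4 = 2 * 2 from rfl, pow_mul, pow_two, pow_two, h.sq r hr, h.toFm.x_sq, mul_zero,
    h.toFm.x_zero]

theorem orb_odd {o : G} (ho : o ∈ O) {j : ℕ} (e : o ^ 2 ^ j = 1) : o = 1 := by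
  have h4 := Nat.dvd_gcd (orderOf_dvd_of_pow_eq_one e) (orderOf_dvd_natCard O ho)
  rwa [((Nat.coprime_two_left.2 h.oddO).pow_left _).gcd_eq_one, Nat.dvd_one,
    orderOf_eq_one_iff] at h4

theorem orb_kk {M1 M2 : Subgroup G} {κ κ' : GF4}
    (h1 : MX f V O R (fun v => (p v).1) M1) (h2 : MX f.sw V O R (fun v => (p v).1) M2)
    (k1 : Kap f V R p M1 κ) (k2 : Kap f.sw V R (fun r => s4 (p r)) M2 κ')
    (hκ : ¬ (κ = 0 ∧ κ' = 0)) : κ * κ' = 1 := by
  refine (orb_kap κ κ' hκ).resolve_right fun ⟨t1, t2, t3, t4, a, b, e⟩ => ?_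
  have a1 : ∀ t {w}, (∃ r ∈ R, r ∈ f.D ∧ p r = w) → ∃ r ∈ R, r ∈ f.D ∧ p r = mt κ t w := by
    rintro t _ ⟨r, hr, hd, rfl⟩
    obtain ⟨g, hg, e⟩ := h1.ex t 0
    exact ⟨_, conj_mem_of_mem_normalizer (h1.MR hg) hr, Dc_conj hd g, k1 g hg t 0 e r hr⟩
  have a2 : ∀ t {w}, (∃ r ∈ R, r ∈ f.D ∧ p r = w) →
      ∃ r ∈ R, r ∈ f.D ∧ p r = s4 (mt κ' t (s4 w)) := by
    rintro t _ ⟨r, hr, hd, rfl⟩
    obtain ⟨g, hg, e⟩ := h2.ex t 0
    exact ⟨_, conj_mem_of_mem_normalizer (h2.MR hg) hr, Dc_conj hd g, congrArg s4 (k2 g hg t 0 e r hr)⟩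
  obtain ⟨v, hv, ev⟩ := h.Vp 1
  obtain ⟨r, hr, hd, er⟩ := a1 t1 (a2 t2 (a1 t3 (a2 t4 ⟨v, h.VR hv, h.orb_VD hv ev, ev⟩)))
  exact h.toS0.notD (h.toFm.U_le (h.orb_memU hr (er.trans e))) hd

theorem exists_S2 {M1 M2 : Subgroup G} {κ κ' : GF4}
    (h1 : MX f V O R (fun v => (p v).1) M1) (h2 : MX f.sw V O R (fun v => (p v).1) M2)
    (k1 : Kap f V R p M1 κ) (k2 : Kap f.sw V R (fun r => s4 (p r)) M2 κ') (hκ : ¬ (κ = 0 ∧ κ' = 0)) :
    ∃ p' ν, S2 f V O g0 R p' ν κ M1 M2 := by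
  obtain ⟨κ0, rfl⟩ := (by decide : ∀ κ κ' : GF4, κ * κ' = 1 → κ ≠ 0 ∧ κ' = κ * κ) _ _
    (h.orb_kk h1 h2 k1 k2 hκ)
  have F := h.toFm
  obtain ⟨q, hq⟩ : ∃ q : G → C5, ∀ r, q r = orbB κ (p r) := ⟨_, fun _ => rfl⟩
  have cZ : ∀ {g}, g ∈ centralizer (f.Z : Set G) ↔ ∀ c, Commute g (f.x 0 0 c) :=
    ⟨fun e c => (e _ (F.mem_Z.2 ⟨c, rfl⟩)).symm, fun e y hy => by
      obtain ⟨c, rfl⟩ := F.mem_Z.1 hy
      exact (e c).eq.symm⟩
  have zi : ∀ {c d}, f.x 0 0 c = f.x 0 0 d → c = d := fun e => (F.x_inj e).2.2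
  have sum : ∀ r, s5 (q r) = 0 := fun r => hq r ▸ orb_s κ _
  have surj : ∀ β, s5 β = 0 → ∃ r ∈ R, q r = β := fun β e => by
    obtain ⟨w, rfl⟩ := orb_surj κ0 e
    obtain ⟨r, hr, rfl⟩ := h.psurj w
    exact ⟨r, hr, hq r⟩
  have qi : ∀ {r s}, q r = q s → p r = p s := fun e => orb_inj κ0 (by rwa [← hq, ← hq])
  have sq : ∀ r ∈ R, r * r = f.x 0 0 (q5 (q r)) := fun r hr => by
    rw [h.sq r hr, hq, orb_q κ0, zero_mul, add_zero]
  have comm : ∀ r ∈ R, ∀ s ∈ R, r * s = s * r * f.x 0 0 (b5 (q r) (q s)) := fun r hr s hs => by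
    rw [hq, hq, orb_b κ0]; exact h.comm r hr s hs
  have qU : ∀ a b c, q (f.x a b c) = (κ * a) • e1 + (κ * κ * b) • e2 := fun a b c => by
    rw [hq, h.pU, orb_U]
  -- the action of `M1` and `M2`
  have m1 : ∀ g ∈ M1, ∃ j, OAct R q g (orbD1 j) := fun g hg => by
    obtain ⟨t, w, e⟩ := h1.lin g hg
    obtain ⟨j, hj⟩ := (orb_m1 κ0).1 t
    exact ⟨j, h1.MR hg, fun r hr i => by rw [hq, hq, k1 g hg t w e r hr, hj]⟩
  have m1' : ∀ j, ∃ g ∈ M1, OAct R q g (orbD1 j) := fun j => by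
    obtain ⟨t, hj⟩ := (orb_m1 κ0).2 j
    obtain ⟨g, hg, e⟩ := h1.ex t 0
    exact ⟨g, hg, h1.MR hg, fun r hr i => by rw [hq, hq, k1 g hg t 0 e r hr, hj]⟩
  have m2 : ∀ g ∈ M2, ∃ j, OAct R q g (orbD2 j) := fun g hg => by
    obtain ⟨t, w, e⟩ := h2.lin g hg
    obtain ⟨j, hj⟩ := (orb_m2 κ0).1 t
    exact ⟨j, h2.MR hg, fun r hr i => by
      rw [hq, hq, ← hj (p r), ← show s4 (p _) = mt _ t (s4 (p r)) from k2 g hg t w e r hr]; rfl⟩
  have m2' : ∀ j, ∃ g ∈ M2, OAct R q g (orbD2 j) := fun j => by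
    obtain ⟨t, hj⟩ := (orb_m2 κ0).2 j
    obtain ⟨g, hg, e⟩ := h2.ex t 0
    exact ⟨g, hg, h2.MR hg, fun r hr i => by
      rw [hq, hq, ← hj (p r), ← show s4 (p _) = mt _ t (s4 (p r)) from k2 g hg t 0 e r hr]; rfl⟩
  have c1 : ∀ g ∈ M1, g ∈ centralizer (f.Z : Set G) := fun g hg => cZ.2 (h1.MU g hg 0)
  have c2 : ∀ g ∈ M2, g ∈ centralizer (f.Z : Set G) := fun g hg => cZ.2 fun c => by
    simpa using h2.MU g hg 0 c
  have alt : ∀ π : Equiv.Perm (Fin 5), Equiv.Perm.sign π = 1 → ∃ g, OAct R q g π ∧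
      g ∈ centralizer (f.Z : Set G) ∧ ∀ o ∈ O, Commute g o := fun π hπ => by
    obtain ⟨a, b, c, d, e⟩ := orb_alt π hπ
    obtain ⟨x, hx, ex⟩ := m1' a
    obtain ⟨y, hy, ey⟩ := m2' b
    obtain ⟨z, hz, ez⟩ := m1' c
    obtain ⟨w, hw, ew⟩ := m2' d
    obtain rfl : π = orbD1 a * (orbD2 b * (orbD1 c * orbD2 d)) := Equiv.ext e
    exact ⟨_, ex.mul (ey.mul (ez.mul ew)), mul_mem (c1 x hx) (mul_mem (c2 y hy) (mul_mem (c1 z hz)
      (c2 w hw))), fun o ho => (h1.MO x hx o ho).mul_left ((h2.MO y hy o ho).mul_left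
        ((h1.MO z hz o ho).mul_left (h2.MO w hw o ho)))⟩
  obtain ⟨v, hv, ev⟩ := h.Vp 1
  have qv : q v = eV := by rw [hq, ev, orb_V, one_smul]
  have tr : ∀ r ∈ R, q5 (q r) = 0 → ¬ Rat5 (q r) → ∃ g ∈ normalizer (R : Set G),
      g ∈ centralizer (f.Z : Set G) ∧ g * v * g⁻¹ = r := fun r hr e1 e2 => by
    obtain ⟨π, e, hπ⟩ := (orb_tr (sum r) e1).1 e2
    obtain ⟨g, a, b, -⟩ := alt π hπ
    obtain ⟨c, hc⟩ := h.orb_peq hr (conj_mem_of_mem_normalizer a.1 (h.VR hv)) (qi (funext fun i => by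
      obtain ⟨i, rfl⟩ := π.surjective i
      rw [e, a.2 v (h.VR hv), qv]))
    obtain ⟨s, hs, es⟩ := h.psurj (0, c, 0, 0)
    have e3 := h.comm s hs v (h.VR hv)
    rw [es, ev, show b4 (0, c, 0, 0) (1, 0, 0, 0) = c by simp [b4], mul_assoc,
      (h.orb_cz hs c).eq] at e3
    refine ⟨g * s, mul_mem a.1 (le_normalizer hs), mul_mem b (cZ.2 (h.orb_cz hs)), ?_⟩
    calc _ = g * (s * v) * s⁻¹ * g⁻¹ := by group
      _ = g * v * (f.x 0 0 c * g⁻¹) := by rw [e3]; group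
      _ = r := by rw [← (cZ.1 b c).inv_left.eq, hc]; group
  have memD : ∀ r ∈ R, r ∈ f.D ↔ q5 (q r) = 0 ∧ ¬ Rat5 (q r) := fun r hr => by
    refine ⟨fun hd => ?_, fun ⟨e1, e2⟩ => ?_⟩
    · have e1 : q5 (q r) = 0 := zi (by rw [← sq r hr, mul_self_of_orderOf hd.1, F.x_zero])
      refine ⟨e1, fun e2 => ?_⟩
      obtain ⟨l, j, e⟩ := (orb_tr (sum r) e1).2 e2
      obtain ⟨π, rfl, hπ⟩ := orb_toW j
      obtain ⟨g, a, -⟩ := alt π hπ
      have m := conj_mem_of_mem_normalizer a.inv.1 hr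
      refine h.toS0.notD (F.U_le (h.orb_memU m (a := κ * κ * l) (b := 0) ((qi (funext fun i => ?_)).trans
        (h.pU _ _ 0)))) (Dc_conj hd g⁻¹)
      rw [← π.symm_apply_apply i, ← Equiv.Perm.inv_def, a.inv.2 r hr, e, qU, Equiv.Perm.inv_def,
        π.symm_apply_apply, (by decide : ∀ κ l : GF4, κ ≠ 0 → κ * (κ * κ * l) = l) κ l κ0]
      simp only [orbW, π.apply_eq_iff_eq, mul_zero]
      exact (by decide : ∀ (l : GF4) (i : Fin 5), l * (if i = 0 then 0 else 1) =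
        (l • SzC.e1 + (0 : GF4) • SzC.e2) i) l i
    · obtain ⟨g, -, -, rfl⟩ := tr r hr e1 e2
      exact Dc_conj (h.orb_VD hv ev) g
  have act : ∀ g ∈ normalizer (R : Set G), g ∈ centralizer (f.Z : Set G) → ∃ π, OAct R q g π :=
    fun g hg hz => by
      have cR : ∀ {r}, r ∈ R → g * r * g⁻¹ ∈ R := fun hr => conj_mem_of_mem_normalizer hg hr
      have hb : ∀ r ∈ R, ∀ s ∈ R, b5 (q (g * r * g⁻¹)) (q (g * s * g⁻¹)) = b5 (q r) (q s) :=
        fun r hr s hs => zi (by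
          have e := comm _ (cR hr) _ (cR hs)
          rw [conj_mul, conj_mul, comm r hr s hs, mul_assoc g, mul_assoc (s * r),
            ← (cZ.1 hz _).inv_left.eq, ← mul_assoc, ← mul_assoc, mul_right_inj] at e
          exact e.symm)
      choose r hr er using fun i => surj _ (orb_W i).1
      have hw : ∀ i, ∃ l : GF4, ∃ j, ∀ k, q (g * r i * g⁻¹) k = l * orbW j k := fun i => by
        have e1 : q5 (q (g * r i * g⁻¹)) = 0 := zi (by
          rw [← sq _ (cR (hr i)), conj_mul, sq _ (hr i), er, (orb_W i).2.1, F.x_zero, mul_one,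
            mul_inv_cancel])
        refine (orb_tr (sum _) e1).2 (by_contra fun e2 => ?_)
        have := Dc_conj ((memD _ (cR (hr i))).2 ⟨e1, e2⟩) g⁻¹
        rw [show g⁻¹ * (g * r i * g⁻¹) * g⁻¹⁻¹ = r i by group] at this
        exact ((memD _ (hr i)).1 this).2 (er i ▸ (orb_W i).2.2)
      choose l π e using hw
      have e' : ∀ i β, s5 β = 0 → b5 β (q (g * r i * g⁻¹)) = l i * β (π i) := fun i β hβ => by
        rw [← orb_bW hβ]; simp only [b5, e]; ring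
      have key : ∀ i j, i ≠ j → l j * (l i * orbW (π i) (π j)) = 1 := fun i j ne => by
        rw [← e, ← e' j _ (sum _), hb _ (hr i) _ (hr j), er, er, orb_bW (orb_W i).1, orbW,
          if_neg ne.symm]
      have inj : Function.Injective π := fun i j e => by_contra fun ne => by
        simpa [orbW, e] using key i j ne
      have key' : ∀ i j, i ≠ j → l j * l i = 1 := fun i j ne => by
        simpa [orbW, inj.ne ne.symm] using key i j ne
      have l1 : ∀ i, l i = 1 := fun i =>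
        (by decide : ∀ a b c : GF4, b * a = 1 → c * a = 1 → c * b = 1 → a = 1) _ _ _
          (key' i (i + 1) (by revert i; decide)) (key' i (i + 2) (by revert i; decide))
          (key' (i + 1) (i + 2) (by revert i; decide))
      exact ⟨Equiv.ofBijective π (Finite.injective_iff_bijective.1 inj), hg, fun s hs i => by
        rw [Equiv.ofBijective_apply, ← one_mul (q _ (π i)), ← l1 i, ← e' i _ (sum _),
          hb s hs _ (hr i), er, orb_bW (sum s)]⟩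
  classical
  obtain ⟨ν, hν⟩ : ∃ ν : G → Equiv.Perm (Fin 5), ∀ {g π}, OAct R q g π → ν g = π :=
    ⟨fun g => if e : ∃ π, OAct R q g π then e.choose else 1, fun {g π} e => by
      beta_reduce; rw [dif_pos ⟨π, e⟩]; exact (Exists.choose_spec (⟨π, e⟩ : ∃ π, OAct R q g π)).uniq surj e⟩
  have actν : ∀ g ∈ normalizer (R : Set G), g ∈ centralizer (f.Z : Set G) → OAct R q g (ν g) :=
    fun g hg hz => (act g hg hz).elim fun π e => hν e ▸ e
  have kerO : ∀ g, OAct R q g 1 → g ∈ centralizer (f.Z : Set G) → ∃ r ∈ R, ∃ o ∈ O, g = r * o :=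
    fun g a hz => h.kerO a.1 (cZ.1 hz) fun r hr => qi (funext (a.2 r hr))
  have ch : ∀ {f' : Fd G} {M : Subgroup G} {ξ : G → GF4}, MX f' V O R ξ M → (∀ a b c, f'.x a b c ∈ R) →
      ∀ {g m π}, OAct R q g π → m ∈ M → OAct R q m π → g ∈ centralizer (f.Z : Set G) →
      m ∈ centralizer (f.Z : Set G) → (∀ a c, Commute g (f'.x a 0 c)) → g ^ 4 = 1 → g ∈ M :=
    fun {f' M ξ} hM xR {g m π} a hm b gz mz gU g4 => by
      obtain ⟨r, hr, o, ho, e⟩ := kerO _ (by simpa using b.inv.mul a) (mul_mem (inv_mem mz) gz)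
      obtain ⟨t, w, e1⟩ := hM.lin m hm
      obtain ⟨l, e2⟩ := hM.sq m hm t w e1
      have e3 : (m * r) ^ 2 ∈ R := by
        rw [show (m * r) ^ 2 = m * r * m⁻¹ * (m * m) * r by rw [pow_two]; group, e2]
        exact mul_mem (mul_mem (conj_mem_of_mem_normalizer b.1 hr) (xR ..)) hr
      have e4 : g = m * r * o := by rw [mul_assoc, ← e, mul_inv_cancel_left]
      have e5 := ((hM.MO m hm o ho).mul_left (h.RO r hr o ho)).mul_pow (2 * 4)
      rw [← e4, pow_mul (m * r), h.orb_pow4 e3, one_mul, mul_comm, pow_mul, g4, one_pow] at e5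
      rw [h.orb_odd ho (j := 3) e5.symm, mul_one] at e e4
      exact e4 ▸ mul_mem hm (hM.SM r hr fun a c => e ▸ (hM.MU m hm a c).inv_left.mul_left (gU a c))
  have v4 : ∀ {g π}, OAct R q g π → g ^ 4 = 1 → ∀ i, π (π (π (π i))) = i := fun {g π} a g4 i => by
    have := a.mul (a.mul (a.mul a))
    rw [show g * (g * (g * g)) = g ^ 4 by simp [pow_succ, mul_assoc], g4] at this
    exact congrArg (fun σ : Equiv.Perm (Fin 5) => σ i) (this.uniq surj OAct.one)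
  have fx : ∀ {g π r}, OAct R q g π → r ∈ R → Commute g r → ∀ i, q r (π i) = q r i :=
    fun {g π r} a hr c i => by rw [← a.2 r hr i, c.eq, mul_inv_cancel_right]
  -- the centraliser of `v` in `K`
  obtain ⟨l, la, lz, lO⟩ := alt (Equiv.swap 0 1 * Equiv.swap 3 4) (by decide)
  have cK : ∀ k ∈ f.K, Commute k v → ∃ w ∈ V, ∃ o ∈ O, k = w * o := fun k hk e => by
    refine h.cK (l := l) (mem_normalizer_of_forall fun u hu => ?_) lO (fun u hu => ⟨_root_.id
      (conj_mem_of_mem_normalizer la.1 (h.VR hu)), ?_⟩) hv (ne_one_of_orderOf (h.orb_ord hv ev)) hk e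
    · obtain ⟨a, b, c, rfl⟩ := F.mem_U.1 hu
      refine h.orb_memU (conj_mem_of_mem_normalizer la.1 (h.orb_xR ..)) (a := κ * b)
        (b := κ * κ * a) (orb_inj κ0 (funext fun i => ?_))
      obtain ⟨i, rfl⟩ := (Equiv.swap (0 : Fin 5) 1 * Equiv.swap 3 4).surjective i
      rw [← hq, la.2 _ (h.orb_xR ..), hq, h.pU]
      exact (by decide +kernel : ∀ k : GF4, k ≠ 0 → ∀ a b i, orbB k (0, 0, a, b) i =
        orbB k (0, 0, k * b, k * k * a) ((Equiv.swap 0 1 * Equiv.swap 3 4 : Equiv.Perm (Fin 5)) i))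
        κ κ0 a b i
    · obtain ⟨x, ex⟩ := h.pV u hu
      refine ⟨x, orb_inj κ0 (funext fun i => ?_)⟩
      obtain ⟨i, rfl⟩ := (Equiv.swap (0 : Fin 5) 1 * Equiv.swap 3 4).surjective i
      rw [← hq, la.2 _ (h.VR hu), hq, ex]
      exact (by decide +kernel : ∀ k x i, orbB k (x, 0, 0, 0) i =
        orbB k (0, x, 0, 0) ((Equiv.swap 0 1 * Equiv.swap 3 4 : Equiv.Perm (Fin 5)) i)) κ x i
  refine ⟨q, ν, h.toS0,
    { Dconj := fun d hd g => Dc_conj hd g
      memZ := fun y => F.mem_Z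
      ζadd := fun c d => by rw [F.mul]; simp
      ζinj := fun c e => zi (e.trans F.x_zero.symm)
      ZR := (F.Z_le1.trans F.U1_le).trans h.UR
      cen := fun r hr => cZ.2 (h.orb_cz hr)
      sum := fun r _ => sum r
      mul := fun r hr s hs => by rw [hq, hq, hq, h.pmul r hr s hs, orbB_add]
      surj := surj
      ker := fun r hr => ⟨fun e => h.pker r hr ((qi (s := f.x 0 0 0) (by rw [e, qU]; simp)).trans
        (h.pU ..)), fun e => by
          obtain ⟨c, rfl⟩ := F.mem_Z.1 e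
          rw [qU]; simp⟩
      sq := sq
      comm := comm
      act := fun g hg hz => (actν g hg hz).2
      ker2 := fun g hg hz e g4 => ?_
      memD := memD
      DN := fun c hc r hr hd hr' => ?_ }, κ0, h.VR, h.UR, fun u hu => ?_, fun x => ?_, qU, h.RO,
    fun r hr i => by rw [hq, hq, h.ph r hr, orb_ph], h.NE,
    fun g hg hz e => kerO g (e ▸ actν g hg hz) hz, h.NO, fun π hπ => ?_, h1.congr fun u hu => ?_,
    h2.congr fun u hu => ?_, fun g hg => ?_, fun g hg => ?_, fun g hg gU gO g4 e => ?_,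
    fun g hg gU gO g4 e => ?_⟩
  · obtain ⟨r, hr, o, ho, rfl⟩ := kerO g (e ▸ actν g hg hz) hz
    rw [(h.RO r hr o ho).mul_pow, h.orb_pow4 hr, one_mul] at g4
    rwa [h.orb_odd ho (j := 2) g4, mul_one]
  · obtain ⟨g1, n1, z1, rfl⟩ := tr r hr ((memD r hr).1 hd).1 ((memD r hr).1 hd).2
    obtain ⟨g2, n2, z2, e⟩ := tr _ hr' ((memD _ hr').1 (Dc_conj hd c)).1
      ((memD _ hr').1 (Dc_conj hd c)).2
    have cv : Commute (g2⁻¹ * c * g1) v := by
      rw [Commute, SemiconjBy]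
      calc _ = g2⁻¹ * (c * (g1 * v * g1⁻¹) * c⁻¹) * c * g1 := by group
        _ = _ := by rw [← e]; group
    have hz := mul_mem (mul_mem (inv_mem z2) hc) z1
    have hH := h.toSt0.mem_H_of_comm (h.sylV.le hv) (h.orb_ord hv ev) cv
    have : g2⁻¹ * c * g1 ∈ normalizer (R : Set G) := by
      generalize g2⁻¹ * c * g1 = d at cv hz hH
      have nV : d ∈ normalizer (V : Set G) := mem_normalizer_of_forall fun u hu => by
        have uv : Commute u v := by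
          have := h.comm u (h.VR hu) v (h.VR hv)
          obtain ⟨x, ex⟩ := h.pV u hu
          rwa [ex, ev, show b4 (x, 0, 0, 0) (1, 0, 0, 0) = 0 by simp [b4], F.x_zero, mul_one] at this
        obtain ⟨w, hw, o, ho, e⟩ := cK _ (conj_mem_of_mem_normalizer hH (h.sylV.le hu))
          ((cv.mul_left uv).mul_left cv.inv_left)
        have e1 := (h.OV o ho w hw).symm.mul_pow 2
        rw [← e, conj_pow, pow_two, h.sqV u hu, pow_two w, h.sqV w hw, one_mul, mul_one,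
          mul_inv_cancel] at e1
        rwa [e, h.orb_odd ho (j := 1) e1.symm, mul_one]
      exact h.NE (normalizer_inf_normalizer_le_normalizer_sup _ _
        ⟨nV, centralizer_le_normalizer _ hz⟩)
    exact (mul_mem_cancel_left (inv_mem n2)).1 ((mul_mem_cancel_right n1).1 this)
  · obtain ⟨x, ex⟩ := h.pV u hu
    rw [hq, ex, orb_V]
    simp [eV]
  · obtain ⟨u, hu, e⟩ := h.Vp x
    exact ⟨u, hu, by rw [hq, e, orb_V]⟩
  · obtain ⟨g, a, b, c⟩ := alt π hπ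
    exact ⟨g, a.1, b, c, hν a⟩
  · obtain ⟨x, ex⟩ := h.pV u hu
    rw [hq, ex, orb_V]
    simp [eV]
  · obtain ⟨x, ex⟩ := h.pV u hu
    rw [hq, ex, orb_V]
    simp [eV]
  · obtain ⟨j, e⟩ := m1 g hg
    exact hν e ▸ (orb_sign j).1
  · obtain ⟨j, e⟩ := m2 g hg
    exact hν e ▸ (orb_sign j).2
  · have gz := cZ.2 (gU 0)
    have a := actν g hg gz
    obtain ⟨j, ej⟩ := (orb_v4 _ e (v4 a g4)).1 (by
      have := fx a (h.orb_xR 1 0 0) (gU 1 0) 0
      rw [qU] at this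
      revert this κ0
      generalize ν g 0 = i, κ = k
      revert i k
      decide +kernel)
    obtain ⟨m, hm, b⟩ := m1' j
    exact ch h1 h.orb_xR a hm (Equiv.ext ej ▸ b) gz (c1 m hm) gU g4
  · have gz := cZ.2 (gU 0)
    have a := actν g hg gz
    obtain ⟨j, ej⟩ := (orb_v4 _ e (v4 a g4)).2 (by
      have := fx a (h.orb_xR 0 1 0) (gU 1 0) 1
      rw [qU] at this
      revert this κ0
      generalize ν g 1 = i, κ = k
      revert i k
      decide +kernel)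
    obtain ⟨m, hm, b⟩ := m2' j
    exact ch h2 (fun _ _ _ => h.orb_xR ..) a hm (Equiv.ext ej ▸ b) gz (c2 m hm)
      (by simpa using gU) g4

end S1

end CfsgLib.SzC
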