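import Cfsg.Agent.Lib.SzC.ND
import Cfsg.Agent.Lib.G2C.P0

/-! Package P0: stage 0 (plans/SZC.md) -/

set_option autoImplicit false
set_option linter.unusedSectionVars false

namespace CfsgLib.SzC

open Subgroup Cfsg CfsgLib.Tech CfsgLib.StdR2 CfsgLib.Classical CfsgLib.ExtraTwo
open scoped commutatorElement CfsgLib.BG

variable {G : Type*} [Group G] [Finite G] {f : Fd G}

theorem St.p0_AK (h : St f) {g u : G} (hu : u ∈ f.A) (hg : u ∈ Tech.cj g f.K) : orderOf u ≠ 2 := fun o => by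
  obtain ⟨b, -, rfl⟩ := h.cls u hu o
  exact h.nD (b⁻¹ * g) (by rw [cj_mul]; exact mem_cj.2 (by simpa using hg))

theorem St.lt (h : St f) {g k : G} {c : GF4} (hg : g ∉ f.H) (hk : k ∈ f.K) (k2 : k * k = 1)
    (hc : c ≠ 0) (ht : k * f.x 0 0 c ∈ Tech.cj g f.K) : ∃ T, IsSylowIn 2 T (Tech.cj g f.K ⊓ f.H) ∧
      k * f.x 0 0 c ∈ T ∧ T ≤ f.K ⊔ f.Z := by
  have e := h.toFm
  have s := h.toSt0
  have o := e.zx_ord hk k2 (mul_zero 0) (.inr fun e => hc e.2.2)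
  have hUt : ∀ u ∈ f.U, Commute u (k * f.x 0 0 c) := fun u hu =>
    (comm_KA hk (e.U_le hu)).symm.mul_right (BG.cents_iff.1 e.zx_UZ u hu _ (e.zx_memZ c))
  have htM : k * f.x 0 0 c ∈ Tech.cj g f.K ⊓ f.H := ⟨ht, mul_mem (le_normalizer hk) (s.A_le_H (e.xA ..))⟩
  obtain ⟨T, hT, h1, h2⟩ := Alt4.exists_syl_norm (K := Tech.cj g f.K ⊓ f.H) (Q := f.U ⊔ zpowers (k * f.x 0 0 c))
    (e.syl.pgroup.to_sup_of_normal_right' (isPGroup_two_zpowers (mul_self_of_orderOf_two o))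
      (BG.cents_norm fun u hu y hy => by
        obtain ⟨n, rfl⟩ := mem_zpowers_iff.1 hy
        exact ((hUt u hu).zpow_right n).eq.symm))
    (sup_le (BG.normsI (fun u hu => (cj_normalizer _ _).le (s.mem_cj_H ht o (hUt u hu)))
      (BG.norm_of_le (e.U_le.trans s.A_le_H))) (BG.norm_of_le (zpowers_le.2 htM)))
  refine ⟨T, hT, h2 ⟨mem_sup_right (mem_zpowers _), htM⟩, fun y hy => ?_⟩
  have hA : T ≤ 𝒩(f.A) := hT.le.trans (inf_le_right.trans h.norm.ge)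
  have h3 : T ⊓ f.A = ⊥ := by_contra fun h0 => by
    obtain ⟨u, hu, ou⟩ := exists_inv_of_pgroup (hT.pgroup.to_le inf_le_left) h0
    exact h.p0_AK hu.2 (hT.le hu.1).1 ou
  have h4 : T ≤ 𝒞(f.U) := BG.commG1.1 (le_bot_iff.1 ((le_inf (BG.commg_subl.2 (le_sup_left.trans h1))
    ((BG.commgSS le_rfl e.U_le).trans (BG.commg_subr.2 hA))).trans h3.le))
  obtain ⟨k', hk', c', rfl⟩ := e.cenU (hA hy) fun a b c => BG.cents_iff.1 h4 y hy _ (e.zx_memU a b c)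
  exact mul_mem (mem_sup_left hk') (mem_sup_right (e.zx_memZ c'))

theorem Fm.p0_le (h : Fm f) {T W : Subgroup G} (hT : IsSylowIn 2 T f.K) (hW : W ≤ f.K ⊔ f.Z)
    (sq : ∀ w ∈ W, w * w = 1) (hc : W ≤ 𝒞(T)) : W ≤ T ⊔ f.Z := fun w hw => by
  obtain ⟨k, hk, ζ, hζ, rfl⟩ := (zx_KY le_rfl h.zx_ZA).1 (hW hw)
  refine mul_mem (mem_sup_left (zpowers_le.1 (hT.le_of_normalizes
    (isPGroup_two_zpowers (h.zx_sq_left hk (h.zx_ZU hζ) (sq _ hw)).1) (zpowers_le.2 hk)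
    (BG.cents_norm (zpowers_le.2 (BG.mem_cent_iff.2 fun u hu => ?_)))))) (mem_sup_right hζ)
  simpa using ((show Commute u (k * ζ) from (BG.cents_iff.1 hc _ hw u hu).symm).mul_right
    (comm_KA (hT.le hu) (h.zx_ZA hζ)).inv_right).eq

theorem St.p0_V (h : St f) {g k : G} (hg : g ∉ f.H) (hk : k ∈ f.K) (k2 : k * k = 1) (ht : k * f.z ∈ Tech.cj g f.K) :
    ∃ T V, IsSylowIn 2 T (Tech.cj g f.K) ∧ IsSylowIn 2 V f.K ∧ Nat.card V = 4 ∧ k * f.z ∈ T ∧ k ∈ V ∧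
      (∀ e ∈ V ⊔ f.Z, e * e = 1) ∧ V ⊔ T = V ⊔ f.Z := by
  have e := h.toFm
  have s := h.toSt0
  obtain ⟨T, hT, htT, hTKZ⟩ := h.lt hg hk k2 one_ne_zero ht
  have ot := e.zx_ord hk k2 (mul_zero 0) (c := 1) (.inr fun e => one_ne_zero e.2.2)
  have htKA : k * f.z ∈ f.K ⊔ f.A := mul_mem (mem_sup_left hk) (mem_sup_right (e.xA ..))
  obtain ⟨y, hy1, hy2, oy, yne, yc⟩ := h.four_of_inner hg ht ot htKA
  have t2 := mul_self_of_orderOf_two ot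
  have y2 := mul_self_of_orderOf_two oy
  have hTK : T ⊓ f.K = ⊥ := le_bot_iff.1 fun u hu => by
    obtain ⟨j, hj⟩ := isPGroup_iff_mem.1 hT.pgroup u hu.1
    exact eq_one_of_two h.ti hg hu.2 (hT.le hu.1).1 hj
  have hKZ : f.K ≤ 𝒞(f.Z) := BG.centS e.zx_ZA
  have cT : Nat.card T = 4 := le_antisymm (by
      have h1 := BG.TI_cardMg (H := T) (K := f.K) (.inl (hT.le.trans inf_le_right)) hTK
      have h2 := (BG.cardSg (sup_le hTKZ le_sup_left : T ⊔ f.K ≤ f.K ⊔ f.Z)).trans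
        (BG.card_sup_dvd (.inl (BG.cents_norm hKZ)))
      rw [h1, mul_comm, e.cardZ] at h2
      exact Nat.le_of_dvd (by norm_num) (Nat.dvd_of_mul_dvd_mul_left (BG.cardG_pos _) h2))
    (Alt4.card_four y2 t2 yc (ne_one_of_orderOf_two oy) (ne_one_of_orderOf_two ot) yne ▸
      hT.card_le (Alt4.two_four y2 t2 yc) ((closure_le _).2 (Set.pair_subset ⟨hy1, hy2⟩ (hT.le htT))))
  have sqT : ∀ u ∈ T, u * u = 1 := fun u hu => hTK.le (mem_inf.2 ⟨mul_mem hu hu, by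
    obtain ⟨k', hk', ζ, hζ, rfl⟩ := (zx_KY le_rfl e.zx_ZA).1 (hTKZ hu)
    rw [(comm_KA hk' (e.zx_ZA hζ)).symm.mul_mul_mul_comm, e.zx_sqZ ζ hζ, mul_one]
    exact mul_mem hk' hk'⟩)
  have hTZ : T ≤ 𝒞(f.Z) := hTKZ.trans (sup_le hKZ (G2C.cents_of_sq e.zx_sqZ))
  have sqE := G2C.sq_sup sqT e.zx_sqZ hTZ
  have hE := G2C.cents_of_sq sqE
  have h0 : T ⊓ f.Z = ⊥ := le_bot_iff.1 fun u hu => by_contra fun u1 =>
    h.p0_AK (e.zx_ZA hu.2) (hT.le hu.1).1 (orderOf_two_of_mul_self (sqT u hu.1) u1)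
  have hPE : f.K ⊓ (T ⊔ f.Z) ⊔ f.Z = T ⊔ f.Z := le_antisymm (sup_le inf_le_right le_sup_right)
    (sup_le (G2C.le_inf_sup (BG.cents_norm hKZ) hTKZ) le_sup_right)
  obtain ⟨R, R0, hR, hPR, -, hR0, cR0, -, hC⟩ := exists_R0 (P := f.K ⊓ (T ⊔ f.Z)) h.ti hg hT
    (fun e0 => ne_one_of_orderOf_two ot (by simpa [e0] using htT))
    (Alt4.two_of_sq fun x hx => sqE x hx.2) inf_le_left (BG.cents_norm (BG.centSS le_sup_left inf_le_right hE))
  have hPe : f.K ⊓ (T ⊔ f.Z) = R0 := BG.eq_of_le_card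
    (fun x hx => hC _ htT ot x (hPR hx) (BG.cents_iff.1 hE x hx.2 _ (mem_sup_left htT))) (by
      have h1 := BG.card_sup_dvd (H := f.K ⊓ (T ⊔ f.Z)) (K := f.Z) (.inl (inf_le_left.trans (BG.cents_norm hKZ)))
      rw [hPE, BG.TI_cardMg (.inl (BG.cents_norm hTZ)) h0] at h1
      exact cR0 ▸ Nat.le_of_dvd (BG.cardG_pos _) (Nat.dvd_of_mul_dvd_mul_right (BG.cardG_pos _) h1))
  have hkP : k ∈ f.K ⊓ (T ⊔ f.Z) := ⟨hk, by
    simpa using mul_mem (mem_sup_left htT) (inv_mem (mem_sup_right (e.zx_memZ 1)) : _ ∈ T ⊔ f.Z)⟩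
  obtain rfl : R0 = R := le_antisymm hR0 (by
    obtain ⟨c, hc, oc, cc⟩ := exists_mem_center_of_normalized hR.pgroup le_rfl le_normalizer
      (BG.subG1_contra hR0 (BG.cardG_gt1.1 (by omega)))
    have h1 : c ∈ R0 := hC _ htT ot c hc
      ((show Commute c k from (cc k (hPR hkP)).symm).mul_right (comm_KA (hR.le hc) (e.xA ..)))
    obtain ⟨u, hu, ζ, hζ, rfl⟩ := (BG.mem_sup_norm_r (BG.cents_norm hTZ)).1 (hPe.ge h1).2
    refine fun r hr => hC u hu (orderOf_two_of_mul_self (sqT u hu) ?_) r hr ?_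
    · rintro rfl
      exact ne_one_of_orderOf_two oc (e.zx_KU (hR.le hc) (by simpa using e.zx_ZU hζ))
    · simpa using ((show Commute r (u * ζ) from cc r hr).mul_right (comm_KA (hR.le hr) (e.zx_ZA hζ)).inv_right).eq)
  rw [hPe] at hPE
  refine ⟨T, R0, (hR.cj g).of_card_le hT.pgroup (hT.le.trans inf_le_left) (by rw [card_cj, cR0]), hR, cR0.trans cT,
    htT, hPe.le hkP, hPE ▸ sqE, BG.eq_of_le_card (sup_le le_sup_left (le_sup_left.trans hPE.ge)) ?_⟩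
  rw [hPE, BG.TI_cardMg (.inl (BG.cents_norm hTZ)) h0, BG.TI_cardMg (.inl (BG.cents_norm
    (BG.centSS (le_sup_left.trans hPE.le) le_sup_left hE))) (le_bot_iff.1 fun u hu => hTK.le ⟨hu.2, hR.le hu.1⟩),
    cR0, cT, e.cardZ]

theorem St.exists_S0 (h : St f) : ∃ V O g0, S0 f V O g0 := by
  have e := h.toFm
  have s := h.toSt0
  obtain ⟨g, hg, k, hk, k2, ht⟩ := h.exists_inner
  obtain ⟨T, V, hT, hV, cV, htT, hkV, sqE, hE⟩ := h.p0_V hg hk k2 ht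
  have cE := G2C.cents_of_sq sqE
  have hTE : T ≤ V ⊔ f.Z := le_sup_right.trans hE.le
  have ot := e.zx_ord hk k2 (mul_zero 0) (c := 1) (.inr fun e => one_ne_zero e.2.2)
  have e1 := e.cj g
  have hz : f.z ∈ (f.cj g).K ⊔ (f.cj g).A := by
    have := e1.sq_inner (g := f.x 1 1 0) (j := 2) (by
      rw [Fd.cj_A, ← cj_normalizer, h.norm]
      exact s.mem_cj_H ht ot ((comm_KA hk (e.xA ..)).symm.mul_right (e.zx_commZ ..).symm)) (by
      rw [show 2 ^ 2 = 2 * 2 from rfl, pow_mul, pow_two, pow_two, e.x_sq, e.zx_sq (mul_zero 0)])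
    rwa [e.x_sq, mul_one] at this
  obtain ⟨k', hk', a, ha, k'2, a2, ek⟩ := e1.exists_k k2 (by
    simpa only [mul_inv_cancel_right] using mul_mem (mem_sup_left ((f.cj_K g).ge ht)) (inv_mem hz))
  have k1 : k ≠ 1 := fun e => h.nD g (by simpa [e] using ht)
  obtain ⟨b, hb, rfl⟩ := e1.cls a ha (orderOf_two_of_mul_self a2 fun e => k1
    (s.eq_one hg hk (f.cj_K g ▸ by rwa [ek, e, mul_one]) k2))
  have hA2 : Tech.cj (b * g) f.A = Tech.cj g f.A := by rw [cj_mul]; exact cj_eq_of_mem hb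
  have hK2 : Tech.cj (b * g) f.K = Tech.cj g f.K := by rw [← Kc_cj, hA2, Kc_cj]
  have hH2 : Tech.cj (b * g) f.H = Tech.cj g f.H := by rw [← Hc_cj, hA2, Hc_cj]
  have hbg : b * g ∉ f.H := fun hn => h.nD 1 (by
    rw [cj_one, ← mul_mem_cancel_left hk]; exact (mem_normalizer_iff_cj.1 hn).le (hK2.ge ht))
  obtain ⟨T', hT', -, hT'KZ⟩ := (h.cj (b * g)).lt (g := (b * g)⁻¹) (k := k') (c := 1)
    (fun hn => hbg (by rw [Fd.cj_H, mem_cj, inv_mul_cancel_right] at hn; exact inv_mem_iff.1 hn))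
    (by rw [Fd.cj_K, hK2, ← Fd.cj_K]; exact hk') k'2 one_ne_zero
    (by rw [Fd.cj_K, cj_inv_cj]; convert hk using 1; rw [ek, Fd.z, Fd.cj_x, Fd.cj_x]; group)
  rw [Fd.cj_K, Fd.cj_H, cj_inv_cj, hH2] at hT'
  rw [Fd.cj_K, Fd.cj_Z, ← cj_sup] at hT'KZ
  obtain ⟨c, hc, hcV⟩ := hT'.exists_cj_eq (hV.of_le (le_inf hV.le fun v hv =>
    s.mem_cj_H ht ot (BG.cents_iff.1 cE v (mem_sup_left hv) _ (hTE htT))) inf_le_left)
  have hK3 : (f.cj (c * (b * g))).K = Tech.cj g f.K := by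
    rw [Fd.cj_K, cj_mul, hK2]
    exact mem_normalizer_iff_cj.1 ((cj_normalizer _ _).le hc.2)
  have hVle := (e.cj (c * (b * g))).p0_le (W := V) (hK3 ▸ hT)
    (by rw [Fd.cj_K, Fd.cj_Z, ← cj_sup, cj_mul, ← hcV]; exact cj_mono c hT'KZ) (fun v hv => sqE v (mem_sup_left hv))
    (BG.centSS le_sup_left hTE cE)
  obtain ⟨κ, hκ, hκT⟩ := (hV.cj (c * (b * g))).exists_cj_eq (by rw [← Fd.cj_K, hK3]; exact hT)
  have hZ : Tech.cj κ (f.cj (c * (b * g))).Z = (f.cj (c * (b * g))).Z :=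
    Alt4.cj_eq_of_comm fun u hu => (comm_KA ((f.cj_K _).ge hκ) ((e.cj _).zx_ZA hu)).symm
  rw [← hZ, Fd.cj_Z, ← hκT, ← cj_mul, ← cj_mul, ← cj_sup] at hVle
  rw [← cj_mul] at hκT
  obtain ⟨O, hO, odd, hcV'⟩ := G2C.exists_O hV (BG.centSS le_sup_left le_sup_left cE)
  refine ⟨V, O, κ * (c * (b * g)), h, hV, cV, fun v hv => sqE v (mem_sup_left hv), h.nD, fun hn => ?_,
    mem_normalizer_iff_cj.2 (BG.eq_of_le_card (hE.ge.trans (sup_le hVle (hκT ▸ cj_mono _ le_sup_left)))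
      (card_cj _ _).le).symm, hO.trans inf_le_left, odd,
    fun o ho v hv => ((hO ho).2 v hv).symm, fun k' h1 h2 => hcV' k' ⟨h1, fun v hv => (h2 v hv).eq.symm⟩⟩
  have h1 : T ≤ f.K := hκT ▸ (cj_mono _ hV.le).trans (mem_normalizer_iff_cj.1 hn).le
  exact h.nD 1 (by rw [cj_one, ← mul_mem_cancel_left hk]; exact h1 htT)

end CfsgLib.SzC
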