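import Cfsg.Agent.Lib.SzC.Zero

/-! Package P1: the group `R` (plans/SZC.md) -/

set_option autoImplicit false
set_option linter.unusedSectionVars false

namespace CfsgLib.SzC

open Subgroup Cfsg CfsgLib.Tech CfsgLib.StdR2 CfsgLib.Classical CfsgLib.ExtraTwo
open scoped commutatorElement

variable {G : Type*} [Group G] [Finite G] {f : Fd G}
  {V O : Subgroup G} {g0 : G}

theorem p1_cube : ∀ φ : GF4 → GF4, (∀ a b, φ (a + b) = φ a + φ b) → (∀ a, a + φ a + φ (φ a) = 0) →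
    (∀ a, φ a = ω * a) ∨ ∀ a, φ a = (ω + 1) * a := by decide +kernel

theorem p1_lin : ∀ φ : GF4 → GF4, (∀ a b, φ (a + b) = φ a + φ b) →
    ∀ a, φ a + (ω + 1) * φ ((ω + 1) * a) = (φ 1 + (ω + 1) * φ (ω + 1)) * a := by decide +kernel

theorem p1_hom : ∀ m : GF4 → GF4, m 0 = 0 → (∀ y, m ((ω + 1) * y) = (ω + 1) * m y) → ∀ y, m y = m 1 * y := by
  decide +kernel

/-- the elements of `N(Y)` that centralise `X` modulo `Y` -/
def p1cm (X Y : Subgroup G) : Subgroup G where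
  carrier := {y | y ∈ normalizer (Y : Set G) ∧ ∀ x ∈ X, ⁅y, x⁆ ∈ Y}
  one_mem' := ⟨one_mem _, fun x _ => by simp⟩
  mul_mem' := fun {a b} ha hb => ⟨mul_mem ha.1 hb.1, fun x hx => by
    have := mul_mem (conj_mem_of_mem_normalizer ha.1 (hb.2 x hx)) (ha.2 x hx)
    rwa [show a * ⁅b, x⁆ * a⁻¹ * ⁅a, x⁆ = ⁅a * b, x⁆ by
      simp only [commutatorElement_def]; group] at this⟩
  inv_mem' := fun {a} ha => ⟨inv_mem ha.1, fun x hx => by
    have := conj_mem_of_mem_normalizer' ha.1 (inv_mem (ha.2 x hx))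
    rwa [show a⁻¹ * ⁅a, x⁆⁻¹ * a = ⁅a⁻¹, x⁆ by
      simp only [commutatorElement_def]; group] at this⟩

theorem p1_conj_cm {X Y : Subgroup G} {g y : G} (h1 : g ∈ normalizer (X : Set G))
    (h2 : g ∈ normalizer (Y : Set G)) (hy : y ∈ p1cm X Y) : g * y * g⁻¹ ∈ p1cm X Y :=
  ⟨mul_mem (mul_mem h2 hy.1) (inv_mem h2), fun x hx => by
    have := conj_mem_of_mem_normalizer h2 (hy.2 _ (conj_mem_of_mem_normalizer' h1 hx))
    rwa [show g * ⁅y, g⁻¹ * x * g⁆ * g⁻¹ = ⁅g * y * g⁻¹, x⁆ by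
      simp only [commutatorElement_def]; group] at this⟩

theorem p1_conj_cent {X : Subgroup G} {g y : G} (h1 : g ∈ normalizer (X : Set G))
    (hy : y ∈ centralizer (X : Set G)) : g * y * g⁻¹ ∈ centralizer (X : Set G) := by
  rw [← mem_normalizer_iff_cj.1 h1, ← cj_centralizer]; exact conj_mem_cj.2 hy

theorem p1_cent {X : Subgroup G} {y : G} : y ∈ centralizer (X : Set G) ↔ ∀ x ∈ X, Commute y x :=
  ⟨fun h a ha => (h a ha).symm, fun h a ha => (h a ha).eq.symm⟩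

theorem p1_mul_of_two {T Y C : Subgroup G} (hS : IsSylowIn 2 T Y)
    (hn : Y ≤ normalizer (C : Set G)) (h2 : ∀ y ∈ Y, ∃ k : ℕ, y ^ 2 ^ k ∈ C) {y : G} (hy : y ∈ Y) :
    ∃ d ∈ C, ∃ s ∈ T, y = d * s := by
  have hN : (C.subgroupOf Y).Normal := normal_subgroupOf_of_le_normalizer hn
  have hQ : IsPGroup 2 (Y ⧸ C.subgroupOf Y) := fun q => by
    obtain ⟨q, rfl⟩ := QuotientGroup.mk_surjective q
    obtain ⟨k, hk⟩ := h2 q q.2
    exact ⟨k, by rw [← QuotientGroup.mk_pow, QuotientGroup.eq_one_iff]; exact hk⟩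
  have htop : (hS.toSylow : Subgroup Y) ⊔ C.subgroupOf Y = ⊤ := by
    obtain ⟨k, hk⟩ := IsPGroup.iff_card.mp hQ
    have h3 : ((hS.toSylow : Subgroup Y) ⊔ C.subgroupOf Y).index ∣ 2 ^ k :=
      hk ▸ index_dvd_of_le le_sup_right
    have h4 := (Nat.prime_two.coprime_iff_not_dvd.mpr hS.toSylow.not_dvd_index).pow_left k
    exact index_eq_one.mp (Nat.eq_one_of_dvd_coprimes h4 h3 (index_dvd_of_le le_sup_left))
  rw [sup_comm] at htop
  obtain ⟨d, hd, s, hs, e⟩ := mem_sup_of_normal_left.mp (htop.ge (mem_top (⟨y, hy⟩ : Y)))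
  exact ⟨d, hd, s, hS.mem_toSylow.mp hs, (congrArg Subtype.val e).symm⟩

theorem p1_odd {O : Subgroup G} (hO : Odd (Nat.card O)) {o : G} (ho : o ∈ O) {k : ℕ}
    (h : o ^ 2 ^ k = 1) : o = 1 := by
  have h2 : orderOf o ∣ Nat.card O := by
    rw [← orderOf_mk o ho]; exact orderOf_dvd_natCard _
  exact orderOf_eq_one_iff.1 (Nat.eq_one_of_dvd_coprimes
    ((Nat.coprime_two_left.2 hO).pow_left k) (orderOf_dvd_of_pow_eq_one h) h2)

theorem Fm.p1_split (h : Fm f) (a c : GF4) : f.x a 0 c = f.x a 0 0 * f.x 0 0 c := by rw [h.mul]; simp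

theorem Fm.p1_xz (h : Fm f) (a b c d : GF4) : f.x a b c * f.x 0 0 d = f.x a b (c + d) := by rw [h.mul]; simp

theorem Fm.p1_hZ (h : Fm f) : f.h ∈ normalizer (f.Z : Set G) := h.NZ_of_NU h.bas_hU

theorem Fm.p1_hz (h : Fm f) (c : GF4) : f.h * f.x 0 0 c * f.h⁻¹ = f.x 0 0 ((ω + 1) * c) := by rw [h.hx, mul_zero]

theorem Fm.p1_act (h : Fm f) {σ : G} (h1 : σ ∈ normalizer (f.U1 : Set G)) (hz : σ ∈ normalizer (f.Z : Set G))
    (h3 : ∀ u ∈ f.U1, u * (σ * u * σ⁻¹) * (σ * (σ * u * σ⁻¹) * σ⁻¹) ∈ f.Z) :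
    ∃ α, (α = ω ∨ α = ω + 1) ∧ ∀ a c, ∃ c', σ * f.x a 0 c * σ⁻¹ = f.x (α * a) 0 c' := by
  choose φ ψ hφ using fun a => h.mem_U1.1 (conj_mem_of_mem_normalizer h1 (h.bas_xU1 a 0))
  have all : ∀ a c, ∃ c', σ * f.x a 0 c * σ⁻¹ = f.x (φ a) 0 c' := fun a c => by
    obtain ⟨d, hd⟩ := h.mem_Z.1 (conj_mem_of_mem_normalizer hz (h.bas_xZ c))
    exact ⟨_, by rw [h.p1_split, ← conj_mul, hφ, hd, h.p1_xz]⟩
  have ad : ∀ a b, φ (a + b) = φ a + φ b := fun a b => by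
    have := hφ (a + b)
    rw [show f.x (a + b) 0 0 = f.x a 0 0 * f.x b 0 0 by rw [h.mul]; simp, ← conj_mul, hφ, hφ, h.mul] at this
    exact (h.x_inj this).1.symm
  have cb : ∀ a, a + φ a + φ (φ a) = 0 := fun a => by
    obtain ⟨c, e⟩ := h.mem_Z.1 (h3 _ (h.bas_xU1 a 0))
    obtain ⟨c', e'⟩ := all (φ a) (ψ a)
    rw [hφ, e', h.mul, h.mul] at e
    exact (h.x_inj e).1
  rcases p1_cube φ ad cb with q | q
  · exact ⟨ω, .inl rfl, fun a c => q a ▸ all a c⟩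
  · exact ⟨ω + 1, .inr rfl, fun a c => q a ▸ all a c⟩

/-- the action on `U₁` of an element that centralises `U₁ / Z` and `Z` can be made linear -/
theorem Fm.p1_lin1 (h : Fm f) {r : G} (hz : ∀ c, Commute r (f.x 0 0 c)) (h1 : ∀ a, ⁅r, f.x a 0 0⁆ ∈ f.Z) :
    ∃ l, ∀ a, r * (f.h * r * f.h⁻¹) * f.x a 0 0 * (r * (f.h * r * f.h⁻¹))⁻¹ = f.x a 0 (l * a) := by
  choose φ hφ using fun a => h.mem_Z.1 (h1 a)
  have e : ∀ a c, r * f.x a 0 c * r⁻¹ = f.x a 0 (c + φ a) := fun a c => by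
    rw [h.p1_split, ← conj_mul, (hz c).eq, mul_inv_cancel_right, show r * f.x a 0 0 * r⁻¹ = ⁅r, f.x a 0 0⁆ * f.x a 0 0 by
      rw [commutatorElement_def]; group, hφ, h.mul, h.mul]
    congr 1 <;> ring
  have ad : ∀ a b, φ (a + b) = φ a + φ b := fun a b => by
    have := e (a + b) 0
    rw [show f.x (a + b) 0 0 = f.x a 0 0 * f.x b 0 0 by rw [h.mul]; simp, ← conj_mul, e, e, h.mul] at this
    simpa using (h.x_inj this).2.2.symm
  refine ⟨φ 1 + (ω + 1) * φ (ω + 1), fun a => ?_⟩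
  have e1 : f.x a 0 0 = f.h * f.x ((ω + 1) * a) 0 0 * f.h⁻¹ := by
    rw [h.hx, ← mul_assoc, show ω * (ω + 1) = 1 by decide]; simp
  rw [← p1_lin φ ad a]
  calc _ = r * (f.h * (r * (f.h⁻¹ * f.x a 0 0 * f.h) * r⁻¹) * f.h⁻¹) * r⁻¹ := by group
    _ = _ := by
      rw [show f.h⁻¹ * f.x a 0 0 * f.h = f.x ((ω + 1) * a) 0 0 by rw [e1]; group, e, h.hx, ← mul_assoc ω,
        show ω * (ω + 1) = 1 by decide, mul_zero, one_mul, e, zero_add, add_comm]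

theorem S0.p1_nD (h : S0 f V O g0) {g : G} {c : GF4} (e : f.x 0 0 c ∈ cj g f.K) : c = 0 := by
  by_contra hc
  obtain ⟨i, hi⟩ := h.toFm.conj_Z hc
  refine h.nD ((f.h ^ i)⁻¹ * g) ?_
  rw [cj_mul, mem_cj, inv_inv, hi]
  exact e

/-- a parametrisation of `V` -/
structure P1D (f : Fd G) (V O : Subgroup G) (g0 : G) (υ : GF4 → G) : Prop extends S0 f V O g0 where
  add : ∀ x y, υ (x + y) = υ x * υ y
  mem : ∀ x, υ x ∈ V
  sur : ∀ v ∈ V, ∃ x, υ x = v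
  υinj : ∀ x, υ x = 1 → x = 0
  tw : ∀ x, υ x * f.x 0 0 x ∈ cj g0 f.K

theorem S0.p1_D (h : S0 f V O g0) : ∃ υ, P1D f V O g0 υ := by
  have e := h.toFm
  have VK : V ≤ f.K := h.sylV.le
  have one : ∀ v ∈ V, v ∈ cj g0 f.K → v = 1 := fun v hv hk => h.toSt0.eq_one h.gH (VK hv) hk (h.sqV v hv)
  choose a ha b hb using fun w : V => h.mem_E.1 (conj_mem_of_mem_normalizer h.gE (mem_sup_left w.2))
  have bi : Function.Injective b := fun w w' q => by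
    have m : a w * (a w')⁻¹ = g0 * (w * (w' : G)⁻¹) * g0⁻¹ := by
      rw [← conj_mul, show g0 * (w' : G)⁻¹ * g0⁻¹ = (g0 * w' * g0⁻¹)⁻¹ by group, hb, hb, q]; group
    have := one _ (mul_mem (ha w) (inv_mem (ha w'))) (m ▸ conj_mem_cj.2 (VK (mul_mem w.2 (inv_mem w'.2))))
    rw [m, conj_eq_one_iff, mul_inv_eq_one] at this
    exact Subtype.ext this
  have c4 : Nat.card GF4 = 4 := by rw [Nat.card_eq_fintype_card, card_GF4]
  have bs := ((Nat.bijective_iff_injective_and_card b).2 ⟨bi, h.cardV.trans c4.symm⟩).2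
  have ex : ∀ x, ∃ v ∈ V, v * f.x 0 0 x ∈ cj g0 f.K := fun x => by
    obtain ⟨w, rfl⟩ := bs x
    exact ⟨a w, ha w, hb w ▸ conj_mem_cj.2 (VK w.2)⟩
  choose υ m t using ex
  have ad : ∀ x y, υ (x + y) = υ x * υ y := fun x y => by
    have := mul_mem (t (x + y)) (inv_mem (mul_mem (t x) (t y)))
    rw [(comm_KA (VK (m y)) (e.xA 0 0 x)).symm.mul_mul_mul_comm, e.bas_zadd, mul_inv_rev, mul_assoc,
      mul_inv_cancel_left] at this
    exact mul_inv_eq_one.1 (one _ (mul_mem (m _) (inv_mem (mul_mem (m _) (m _)))) this)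
  have ij : ∀ x, υ x = 1 → x = 0 := fun x q => h.p1_nD (by simpa [q] using t x)
  have := ((Nat.bijective_iff_injective_and_card fun x => (⟨υ x, m x⟩ : V)).2 ⟨fun x y q => bas_eq (ij _ (by
    rw [ad, show υ x = υ y from congrArg Subtype.val q, h.sqV _ (m y)])), c4.trans h.cardV.symm⟩).2
  exact ⟨υ, h, ad, m, fun v hv => (this ⟨v, hv⟩).imp fun x q => congrArg Subtype.val q, ij, t⟩

/-- the group `N₂` -/
def p1N (f : Fd G) (V O : Subgroup G) : Subgroup G :=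
  centralizer (f.Z : Set G) ⊓ centralizer (O : Set G) ⊓ p1cm (EE f V) f.Z ⊓ p1cm f.U f.Z

/-- `y` acts on `V Z` as the translation with parameter `t` -/
def P1T (f : Fd G) (υ : GF4 → G) (y : G) (t : GF4) : Prop := ∀ x, y * υ x * y⁻¹ = υ x * f.x 0 0 (t * x)

/-- the trace of `h` on `r` lies in `Z` -/
def P1P (f : Fd G) (R : Subgroup G) (r : G) : Prop :=
  r ∈ R ⊓ centralizer (f.U : Set G) ∧ r * (f.h * r * f.h⁻¹) * (f.h * (f.h * r * f.h⁻¹) * f.h⁻¹) ∈ f.Z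

namespace P1D

variable {υ : GF4 → G} {R : Subgroup G} (h : P1D f V O g0 υ)
include h

theorem fm : Fm f := h.toFm

theorem υK (x : GF4) : υ x ∈ f.K := h.sylV.le (h.mem x)

theorem υ0 : υ 0 = 1 := by
  have := h.add 0 0
  rw [add_zero] at this
  exact left_eq_mul.1 this

theorem Nz {y : G} (hy : y ∈ p1N f V O) (c : GF4) : Commute y (f.x 0 0 c) := p1_cent.1 hy.1.1.1 _ (h.fm.bas_xZ c)

theorem No {y o : G} (hy : y ∈ p1N f V O) (ho : o ∈ O) : Commute y o := p1_cent.1 hy.1.1.2 o ho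

theorem NE : p1N f V O ≤ normalizer (EE f V : Set G) := fun y hy => mem_normalizer_of_forall fun e he => by
  have := mul_mem (mem_sup_right (hy.1.2.2 e he) : _ ∈ EE f V) he
  rwa [commutatorElement_def, inv_mul_cancel_right] at this

theorem NE_N : normalizer (EE f V : Set G) ≤ normalizer (p1N f V O : Set G) := fun _ hg =>
  mem_normalizer_of_forall fun _ hy => ⟨⟨⟨p1_conj_cent (h.NE_Z hg) hy.1.1.1, p1_conj_cent (h.NE_O hg) hy.1.1.2⟩,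
    p1_conj_cm hg (h.NE_Z hg) hy.1.2⟩, p1_conj_cm (h.NE_U hg) (h.NE_Z hg) hy.2⟩

theorem memN {y : G} {t : GF4} (h1 : ∀ c, Commute y (f.x 0 0 c)) (h2 : ∀ o ∈ O, Commute y o) (h3 : P1T f υ y t)
    (h4 : ∀ a b c, ∃ c', y * f.x a b c * y⁻¹ = f.x a b c') : y ∈ p1N f V O := by
  have e := h.fm
  have hz : y ∈ centralizer (f.Z : Set G) := p1_cent.2 fun u hu => by
    obtain ⟨c, rfl⟩ := e.mem_Z.1 hu
    exact h1 c
  refine ⟨⟨⟨hz, p1_cent.2 h2⟩, centralizer_le_normalizer _ hz, fun u hu => ?_⟩, centralizer_le_normalizer _ hz,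
    fun u hu => ?_⟩
  · obtain ⟨v, hv, c, rfl⟩ := h.mem_E.1 hu
    obtain ⟨x, rfl⟩ := h.sur v hv
    rw [commutatorElement_def, ← conj_mul, h3, (h1 c).eq, mul_inv_cancel_right, mul_assoc (υ x),
      (e.bas_cz 0 0 _ _).eq, ← mul_assoc, ((comm_KA (h.υK x) (e.xA ..)).mul_left (e.bas_cz ..)).eq, mul_inv_cancel_right]
    exact e.bas_xZ _
  · obtain ⟨a, b, c, rfl⟩ := e.mem_U.1 hu
    obtain ⟨c', q⟩ := h4 a b c
    rw [commutatorElement_def, q, e.x_inv, e.mul, bas_add_self, bas_add_self]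
    exact e.bas_xZ _

theorem Nu {y : G} (hy : y ∈ p1N f V O) (a b c : GF4) : ∃ c', y * f.x a b c * y⁻¹ = f.x a b c' := by
  obtain ⟨d, q⟩ := h.fm.mem_Z.1 (hy.2.2 _ (h.fm.bas_xU a b c))
  rw [commutatorElement_def, mul_inv_eq_iff_eq_mul, h.fm.mul, zero_add, zero_add] at q
  exact ⟨_, q⟩

theorem T_cent {y : G} (hy : ∀ x, Commute y (υ x)) : P1T f υ y 0 := fun x => by
  rw [zero_mul, h.fm.x_zero, mul_one, (hy x).eq, mul_inv_cancel_right]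

theorem T_A {a : G} (ha : a ∈ f.A) : P1T f υ a 0 := h.T_cent fun x => (comm_KA (h.υK x) ha).symm

theorem T_mul {y y' : G} {t t' : GF4} (hy : y ∈ p1N f V O) (h1 : P1T f υ y t) (h2 : P1T f υ y' t') :
    P1T f υ (y * y') (t + t') := fun x => by
  rw [show y * y' * υ x * (y * y')⁻¹ = y * (y' * υ x * y'⁻¹) * y⁻¹ by group, h2, ← conj_mul, h1, (h.Nz hy _).eq,
    mul_inv_cancel_right, mul_assoc, h.fm.bas_zadd, add_mul]

theorem T_inv {y : G} {t : GF4} (hy : y ∈ p1N f V O) (h1 : P1T f υ y t) : P1T f υ y⁻¹ t := fun x => by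
  have := h1 x
  rw [mul_inv_eq_iff_eq_mul, mul_assoc, ← (h.Nz hy _).eq, ← mul_assoc] at this
  rw [inv_inv, mul_assoc, inv_mul_eq_iff_eq_mul, ← mul_assoc, this, mul_assoc, h.fm.bas_zz, mul_one]

theorem T_uniq {y : G} {t t' : GF4} (h1 : P1T f υ y t) (h2 : P1T f υ y t') : t = t' := by
  simpa using (h.fm.x_inj (mul_left_cancel ((h1 1).symm.trans (h2 1)))).2.2

theorem T_h {y : G} {t : GF4} (h1 : P1T f υ y t) : P1T f υ (f.h * y * f.h⁻¹) ((ω + 1) * t) := fun x => by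
  have c := comm_KA (h.υK x) h.hA
  rw [show f.h * y * f.h⁻¹ * υ x * (f.h * y * f.h⁻¹)⁻¹ = f.h * (y * (f.h⁻¹ * (υ x * f.h)) * y⁻¹) * f.h⁻¹ by group,
    c.eq, inv_mul_cancel_left, h1, ← conj_mul, ← c.eq, mul_inv_cancel_right, h.fm.p1_hz, mul_assoc]

theorem lin {y : G} (hy : y ∈ p1N f V O) : ∃ t, P1T f υ y t := by
  have e := h.fm
  have ex : ∀ x, ∃ c, y * υ x * y⁻¹ = υ x * f.x 0 0 c := fun x => by
    obtain ⟨c, q⟩ := e.mem_Z.1 (hy.1.2.2 _ (mem_sup_left (h.mem x)))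
    rw [commutatorElement_def, mul_inv_eq_iff_eq_mul, ← (comm_KA (h.υK x) (e.xA ..)).eq] at q
    exact ⟨c, q⟩
  choose τ hτ using ex
  obtain ⟨g, hg⟩ : ∃ g, ∀ x, υ x * f.x 0 0 (τ 1 * x) ∈ cj g f.K := by
    by_cases s0 : τ 1 = 0
    · exact ⟨1, fun x => by rw [s0, zero_mul, e.x_zero, mul_one, cj_one]; exact h.υK x⟩
    obtain ⟨i, hi⟩ := bas_pow2 _ s0
    refine ⟨f.h ^ (i : ℕ) * g0, fun x => ?_⟩
    have := (conj_mem_cj (g := f.h ^ (i : ℕ))).2 (h.tw x)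
    rwa [← cj_mul, ← conj_mul, e.bas_hx, ← (comm_KA (h.υK x) (pow_mem h.hA i)).eq, mul_inv_cancel_right, mul_zero,
      hi] at this
  have hH : g⁻¹ * y ∈ f.H := h.toSt0.mem_H (h.υK 1)
    (orderOf_eq_prime (by rw [sq, h.sqV _ (h.mem 1)]) fun q => one_ne_zero (h.υinj 1 q)) (by
      have := hg 1
      rw [mul_one, ← hτ, mem_cj] at this
      simpa [mul_assoc] using this)
  refine ⟨τ 1, fun x => ?_⟩
  have m : y * υ x * y⁻¹ ∈ cj g f.K := by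
    rw [mem_cj]
    simpa [mul_assoc] using conj_mem_of_mem_normalizer hH (h.υK x)
  have := mul_mem (inv_mem (hg x)) (hτ x ▸ m)
  rw [mul_inv_rev, mul_assoc, inv_mul_cancel_left, inv_eq_of_mul_eq_one_right (e.bas_zz _), e.bas_zadd] at this
  rw [hτ, bas_eq (h.p1_nD this)]

theorem U_N : f.U ≤ p1N f V O := fun u hu => by
  obtain ⟨a, b, c, rfl⟩ := h.fm.mem_U.1 hu
  refine h.memN (h.fm.bas_cz a b c) (fun o ho => (comm_KA (h.OK ho) (h.xA ..)).symm) (h.T_A (h.xA ..))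
    fun a' b' c' => ⟨c' + (a * b' + a' * b), ?_⟩
  rw [h.fm.x_comm, mul_assoc, mul_assoc, ← mul_assoc (f.x a b c), (h.fm.bas_cz ..).eq, mul_inv_cancel_right,
    h.fm.p1_xz]

theorem cmV {v w : G} (hv : v ∈ V) (hw : w ∈ V) : Commute v w := by
  obtain ⟨x, rfl⟩ := h.sur v hv
  obtain ⟨y, rfl⟩ := h.sur w hw
  rw [Commute, SemiconjBy, ← h.add, add_comm, h.add]

theorem V_N : V ≤ p1N f V O := fun v hv =>
  h.memN (fun _ => comm_KA (h.sylV.le hv) (h.xA ..)) (fun o ho => (h.OV o ho v hv).symm)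
    (h.T_cent fun x => h.cmV hv (h.mem x)) fun a b c =>
      ⟨c, by rw [(comm_KA (h.sylV.le hv) (h.xA ..)).eq, mul_inv_cancel_right]⟩

theorem ker {y : G} (hy : y ∈ p1N f V O) (h0 : P1T f υ y 0) :
    ∃ v ∈ V, ∃ o ∈ O ⊓ centralizer (O : Set G), ∃ a b c, y = v * o * f.x a b c := by
  obtain ⟨v, hv, o, ho, a, b, c, rfl⟩ := h.cenV (g := y) (fun v hv => by
    obtain ⟨x, rfl⟩ := h.sur v hv
    have := h0 x
    rw [zero_mul, h.fm.x_zero, mul_one] at this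
    exact mul_inv_eq_iff_eq_mul.1 this) (h.Nu hy)
  refine ⟨v, hv, o, ⟨ho, p1_cent.2 fun o' ho' => ?_⟩, a, b, c, rfl⟩
  have h2 := ((h.OV o' ho' v hv).symm.inv_left.mul_left (h.No hy ho')).mul_left
    (comm_KA (h.OK ho') (h.xA a b c)).symm.inv_left
  rwa [show v⁻¹ * (v * o * f.x a b c) * (f.x a b c)⁻¹ = o by group] at h2

theorem T_sq {y : G} (hy : y ∈ p1N f V O) : P1T f υ (y * y) 0 := by
  obtain ⟨t, ht⟩ := h.lin hy
  exact bas_add_self t ▸ h.T_mul hy ht ht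

theorem powO {y : G} (hy : y ∈ p1N f V O) : y ^ 2 ^ 3 ∈ O ⊓ centralizer (O : Set G) := by
  obtain ⟨w, hw, o, ho, a, b, c, e⟩ := h.ker (mul_mem hy hy) (h.T_sq hy)
  have e1 : w ^ 2 ^ 2 = 1 := by rw [show 2 ^ 2 = 2 * 2 by norm_num, pow_mul, sq w, h.sqV w hw, one_pow]
  rw [show y ^ 2 ^ 3 = (y * y) ^ 2 ^ 2 by rw [← pow_two, ← pow_mul]; rfl, e,
    (comm_KA (mul_mem (h.sylV.le hw) (h.OK ho.1)) (h.xA ..)).mul_pow, (h.OV o ho.1 w hw).symm.mul_pow, e1,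
    h.fm.bas_four, one_mul, mul_one]
  exact Subgroup.pow_mem _ ho _

theorem b0 : ∃ b ∈ p1N f V O, P1T f υ b (ω + 1) := by
  have e := h.fm
  have gU := h.NE_U h.gE
  have gZ := h.NE_Z h.gE
  have hZ : g0 * f.h * g0⁻¹ ∈ normalizer (f.Z : Set G) := mul_mem (mul_mem gZ e.p1_hZ) (inv_mem gZ)
  have tr : ∀ u ∈ f.U, u * (g0 * f.h * g0⁻¹ * u * (g0 * f.h * g0⁻¹)⁻¹) *
      (g0 * f.h * g0⁻¹ * (g0 * f.h * g0⁻¹ * u * (g0 * f.h * g0⁻¹)⁻¹) * (g0 * f.h * g0⁻¹)⁻¹) ∈ f.Z := fun u hu => by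
    obtain ⟨a, b, c, q⟩ := e.mem_U.1 (conj_mem_of_mem_normalizer' gU hu)
    have m : f.x a b c * (f.h * f.x a b c * f.h⁻¹) * (f.h * (f.h * f.x a b c * f.h⁻¹) * f.h⁻¹) ∈ f.Z := by
      have w : ∀ a : GF4, a + ω * a + ω * (ω * a) = 0 := by decide
      rw [e.hx, e.hx, e.mul, e.mul, w, w]; exact e.bas_xZ _
    have := conj_mem_of_mem_normalizer gZ m
    rw [← q] at this
    convert this using 1
    group
  have h1 : f.h ∈ normalizer (f.U1 : Set G) := mem_normalizer_of_forall fun u hu => by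
    obtain ⟨a, c, rfl⟩ := e.mem_U1.1 hu
    rw [e.hx, mul_zero]; exact e.bas_xU1 _ _
  have h2 : f.h ∈ normalizer (f.U2 : Set G) := mem_normalizer_of_forall fun u hu => by
    obtain ⟨a, c, rfl⟩ := e.mem_U2.1 hu
    rw [e.hx, mul_zero]; exact e.bas_xU2 _ _
  have n12 : g0 * f.h * g0⁻¹ ∈ normalizer (f.U1 : Set G) ∧ g0 * f.h * g0⁻¹ ∈ normalizer (f.U2 : Set G) := by
    rcases e.NU_cases gU with q | q
    · exact ⟨mul_mem (mul_mem q.1 h1) (inv_mem q.1), mul_mem (mul_mem q.2 h2) (inv_mem q.2)⟩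
    · rw [← q.1, ← cj_normalizer, conj_mem_cj]
      refine ⟨?_, h1⟩
      rw [← q.2, ← cj_normalizer, conj_mem_cj]
      exact h2
  have cT : ∀ x, Commute (g0 * f.h * g0⁻¹) (υ x * f.x 0 0 x) := fun x => by
    simpa [mul_assoc] using (comm_KA (mem_cj.1 (h.tw x)) h.hA).symm.map (MulAut.conj g0)
  have cO : ∀ o ∈ O, Commute (g0 * f.h * g0⁻¹) o := fun o ho => by
    simpa [mul_assoc] using
      (comm_KA (h.OK (conj_mem_of_mem_normalizer' (h.NE_O h.gE) ho)) h.hA).symm.map (MulAut.conj g0)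
  have nf : ¬ Commute (g0 * f.h * g0⁻¹) f.z := fun q => by
    obtain ⟨c, hc⟩ := e.mem_Z.1 (conj_mem_of_mem_normalizer' gZ (e.bas_xZ 1))
    have q1 : Commute f.h (f.x 0 0 c) := by
      rw [← hc]; simpa [mul_assoc] using q.map (MulAut.conj g0⁻¹)
    have q2 := e.p1_hz c
    rw [q1.eq, mul_inv_cancel_right] at q2
    obtain rfl := (by decide : ∀ c : GF4, c = (ω + 1) * c → c = 0) c (e.x_inj q2).2.2
    rw [e.x_zero, mul_assoc, inv_mul_eq_one, right_eq_mul] at hc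
    exact one_ne_zero (e.x_inj (hc.trans e.x_zero.symm)).2.2
  generalize g0 * f.h * g0⁻¹ = σ at hZ tr n12 cT cO nf
  obtain ⟨α, hα, a1⟩ := e.p1_act n12.1 hZ fun u hu => tr u (e.U1_le hu)
  obtain ⟨β, hβ, a2⟩ := e.sw.p1_act (f.sw_U1 ▸ n12.2) (f.sw_Z ▸ hZ) fun u hu =>
    f.sw_Z ▸ tr u (e.U2_le (f.sw_U1 ▸ hu))
  simp only [Fd.sw_x1] at a2
  have az : ∀ c, σ * f.x 0 0 c * σ⁻¹ = f.x 0 0 (α * β * c) := fun c => by
    obtain ⟨c1, e1⟩ := a1 c 0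
    obtain ⟨c2, e2⟩ := a2 1 0
    have := conjugate_commutatorElement (f.x c 0 0) (f.x 0 1 0) σ
    rw [e1, e2, e.bas_br, e.bas_br] at this
    simpa [mul_right_comm] using this
  obtain rfl : α = β := by
    by_contra ne
    have : α * β = 1 := by rcases hα with rfl | rfl <;> rcases hβ with rfl | rfl <;> first | decide | exact absurd rfl ne
    exact nf (mul_inv_eq_iff_eq_mul.1 (by rw [az, this, one_mul]))
  have au : ∀ a b c, ∃ c', σ * f.x a b c * σ⁻¹ = f.x (α * a) (α * b) c' := fun a b c => by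
    obtain ⟨c1, e1⟩ := a1 a (c + a * b)
    obtain ⟨c2, e2⟩ := a2 b 0
    exact ⟨_, by rw [show f.x a b c = f.x a 0 (c + a * b) * f.x 0 b 0 by
      rw [e.mul]; simp [add_assoc, bas_add_self], ← conj_mul, e1, e2, e.mul, add_zero, zero_add]⟩
  have fin : ∀ σ : G, (∀ x, Commute σ (υ x * f.x 0 0 x)) → (∀ o ∈ O, Commute σ o) →
      (∀ c, σ * f.x 0 0 c * σ⁻¹ = f.x 0 0 ((ω + 1) * c)) →
      (∀ a b c, ∃ c', σ * f.x a b c * σ⁻¹ = f.x (ω * a) (ω * b) c') → ∃ b ∈ p1N f V O, P1T f υ b (ω + 1) :=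
    fun σ cT cO az au => by
      have t : P1T f υ (f.h⁻¹ * σ) (ω + 1) := fun x => by
        have q : σ * υ x * σ⁻¹ = υ x * f.x 0 0 ((ω + 1) * ((ω + 1) * x)) := by
          have := mul_inv_eq_iff_eq_mul.2 (cT x).eq
          rw [← conj_mul, az, ← eq_mul_inv_iff_mul_eq, inv_eq_of_mul_eq_one_right (e.bas_zz _), mul_assoc (υ x),
            e.bas_zadd] at this
          rw [this, (by decide : ∀ x : GF4, x + (ω + 1) * x = (ω + 1) * ((ω + 1) * x))]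
        rw [show f.h⁻¹ * σ * υ x * (f.h⁻¹ * σ)⁻¹ = f.h⁻¹ * (σ * υ x * σ⁻¹) * f.h by group, q, ← e.p1_hz,
          ← mul_assoc (υ x), ← mul_assoc (υ x), (comm_KA (h.υK x) h.hA).eq]
        group
      refine ⟨_, h.memN (fun c => ?_) (fun o ho => (comm_KA (h.OK ho) h.hA).symm.inv_left.mul_left (cO o ho)) t
        fun a b c => ?_, t⟩
      · refine mul_inv_eq_iff_eq_mul.1 ?_
        rw [show f.h⁻¹ * σ * f.x 0 0 c * (f.h⁻¹ * σ)⁻¹ = f.h⁻¹ * (σ * f.x 0 0 c * σ⁻¹) * f.h by group, az, ← e.p1_hz]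
        group
      · obtain ⟨c', q⟩ := au a b c
        obtain ⟨d, rfl⟩ := bas_div (show ω + 1 ≠ 0 by decide) c'
        refine ⟨d, ?_⟩
        rw [show f.h⁻¹ * σ * f.x a b c * (f.h⁻¹ * σ)⁻¹ = f.h⁻¹ * (σ * f.x a b c * σ⁻¹) * f.h by group, q, ← e.hx]
        group
  rcases hα with rfl | rfl
  · exact fin σ cT cO (fun c => by rw [az, show ω * ω = ω + 1 by decide]) au
  · refine fin (σ * σ) (fun x => (cT x).mul_left (cT x)) (fun o ho => (cO o ho).mul_left (cO o ho)) (fun c => ?_)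
      fun a b c => ?_
    · rw [show σ * σ * f.x 0 0 c * (σ * σ)⁻¹ = σ * (σ * f.x 0 0 c * σ⁻¹) * σ⁻¹ by group, az, az]
      congr 1; revert c; decide
    · obtain ⟨c1, e1⟩ := au a b c
      obtain ⟨c2, e2⟩ := au ((ω + 1) * a) ((ω + 1) * b) c1
      refine ⟨c2, ?_⟩
      rw [show σ * σ * f.x a b c * (σ * σ)⁻¹ = σ * (σ * f.x a b c * σ⁻¹) * σ⁻¹ by group, e1, e2, ← mul_assoc,
        ← mul_assoc, show (ω + 1) * (ω + 1) = ω by decide]

theorem hE : f.h ∈ normalizer (EE f V : Set G) := mem_normalizer_of_forall fun u hu => by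
  obtain ⟨v, hv, c, rfl⟩ := h.mem_E.1 hu
  rw [← conj_mul, h.fm.p1_hz, ← (comm_KA (h.sylV.le hv) h.hA).eq, mul_inv_cancel_right]
  exact h.mem_E.2 ⟨v, hv, _, rfl⟩

variable (hR : IsSylowIn 2 R (p1N f V O))
include hR

theorem N_R : p1N f V O ≤ normalizer (R : Set G) := fun y hy => by
  obtain ⟨d, hd, s, hs, rfl⟩ := p1_mul_of_two hR (C := O ⊓ centralizer (O : Set G))
    (fun y hy => centralizer_le_normalizer _ (p1_cent.2 fun o ho => h.No hy ho.1)) (fun y hy => ⟨3, h.powO hy⟩) hy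
  exact mul_mem (centralizer_le_normalizer _ (p1_cent.2 fun r hr => (h.No (hR.le hr) hd.1).symm)) (le_normalizer hs)

theorem memR {y : G} (hy : y ∈ p1N f V O) {k : ℕ} (e : y ^ 2 ^ k = 1) : y ∈ R :=
  hR.le_of_normalizes (isPGroup_zpowers_of_pow e) (zpowers_le.2 hy) (zpowers_le.2 (h.N_R hR hy)) (mem_zpowers _)

theorem NE_R : normalizer (EE f V : Set G) ≤ normalizer (R : Set G) := fun g hg => by
  have h1 := hR.cj_of_mem_normalizer (h.NE_N hg)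
  exact mem_normalizer_of_cj_le (hR.le_of_normalizes h1.pgroup h1.le (h1.le.trans (h.N_R hR)))

theorem V_R : V ≤ R := fun v hv => h.memR hR (h.V_N hv) (k := 1) (by rw [pow_one, sq, h.sqV v hv])

theorem x_R (a b c : GF4) : f.x a b c ∈ R := h.memR hR (h.U_N (h.fm.bas_xU a b c)) (h.fm.bas_four a b c)

theorem kerR {y : G} (hy : y ∈ R) (h0 : P1T f υ y 0) : ∃ x a b c, y = υ x * f.x a b c := by
  obtain ⟨w, hw, o, ho, a, b, c, rfl⟩ := h.ker (hR.le hy) h0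
  have h1 := mul_mem (mul_mem (inv_mem (h.V_R hR hw)) hy) (inv_mem (h.x_R hR a b c))
  rw [show w⁻¹ * (w * o * f.x a b c) * (f.x a b c)⁻¹ = o by group] at h1
  obtain ⟨k, hk⟩ := isPGroup_iff_mem.1 hR.pgroup o h1
  obtain ⟨x, rfl⟩ := h.sur w hw
  exact ⟨x, a, b, c, by rw [p1_odd h.oddO ho.1 hk, mul_one]⟩

theorem hconj {r : G} (hr : r ∈ R ⊓ centralizer (f.U : Set G)) : f.h * r * f.h⁻¹ ∈ R ⊓ centralizer (f.U : Set G) :=
  ⟨conj_mem_of_mem_normalizer (h.NE_R hR h.hE) hr.1, p1_conj_cent h.fm.bas_hU hr.2⟩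

theorem s0 : ∃ s ∈ R ⊓ centralizer (f.U : Set G), P1T f υ s 1 := by
  have e := h.fm
  obtain ⟨b, hb, tb⟩ := h.b0
  obtain ⟨k, hk⟩ := h.oddO
  have tp : ∀ k : ℕ, P1T f υ (b ^ (2 * k + 1)) (ω + 1) := fun k => by
    induction k with
    | zero => simpa using tb
    | succ k ih =>
      have := h.T_mul (mul_mem hb hb) (h.T_sq hb) ih
      rwa [zero_add, show b * b * b ^ (2 * k + 1) = b ^ (2 * (k + 1) + 1) by group] at this
  have cR : b ^ (2 * k + 1) ∈ R := h.memR hR (pow_mem hb _) (k := 3) (by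
    rw [← hk, ← pow_mul, mul_comm, pow_mul]
    exact congrArg Subtype.val (pow_card_eq_one' (x := (⟨_, (h.powO hb).1⟩ : O))))
  have tc := tp k
  generalize b ^ (2 * k + 1) = c at cR tc
  have cN := hR.le cR
  obtain ⟨l, hl⟩ := e.p1_lin1 (h.Nz cN) fun a => cN.2.2 _ (e.bas_xU _ _ _)
  obtain ⟨m, hm⟩ := e.sw.p1_lin1 (r := c) (by simpa using h.Nz cN) fun a => by
    rw [f.sw_Z, f.sw_x1]; exact cN.2.2 _ (e.bas_xU _ _ _)
  simp only [Fd.sw_x1, Fd.sw_h] at hm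
  have dR := mul_mem cR (conj_mem_of_mem_normalizer (h.NE_R hR h.hE) cR)
  have td := h.T_mul cN tc (h.T_h tc)
  rw [show ω + 1 + (ω + 1) * (ω + 1) = 1 by decide] at td
  generalize c * (f.h * c * f.h⁻¹) = d at hl hm dR td
  have key : ∀ a b c', d * f.x a b 0 * d⁻¹ = f.x a b c' → m * b + a * l = c' →
      Commute ((f.x m l 0)⁻¹ * d) (f.x a b 0) := fun a b c' q1 q2 => by
    have q3 : f.x m l 0 * f.x a b 0 * (f.x m l 0)⁻¹ = f.x a b c' := by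
      rw [e.x_comm, mul_assoc, mul_assoc, ← mul_assoc (f.x m l 0), (e.bas_cz ..).eq, mul_inv_cancel_right, e.p1_xz,
        zero_add, q2]
    refine mul_inv_eq_iff_eq_mul.1 ?_
    rw [show (f.x m l 0)⁻¹ * d * f.x a b 0 * ((f.x m l 0)⁻¹ * d)⁻¹ = (f.x m l 0)⁻¹ * (d * f.x a b 0 * d⁻¹) * f.x m l 0 by
      group, q1, ← q3]
    group
  have sR := mul_mem (inv_mem (h.x_R hR m l 0)) dR
  refine ⟨_, ⟨sR, p1_cent.2 fun u hu => ?_⟩,
    zero_add (1 : GF4) ▸ h.T_mul (inv_mem (hR.le (h.x_R hR m l 0))) (h.T_A (inv_mem (h.xA ..))) td⟩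
  obtain ⟨a, b, c', rfl⟩ := e.mem_U.1 hu
  rw [show f.x a b c' = f.x a 0 0 * f.x 0 b 0 * f.x 0 0 (c' + a * b) by
    rw [e.mul, e.mul]; simp [add_left_comm, bas_add_self]]
  exact ((key a 0 _ (hl a) (by ring)).mul_right (key 0 b _ (hm b) (by ring))).mul_right (h.Nz (hR.le sR) _)

theorem kerS {y : G} (hy : y ∈ R ⊓ centralizer (f.U : Set G)) (h0 : P1T f υ y 0) : ∃ x c, y = υ x * f.x 0 0 c := by
  obtain ⟨x, a, b, c, rfl⟩ := h.kerR hR hy.1 h0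
  have h1 := h.fm.bas_comm_iff.1 (h.fm.bas_strip (h.υK x) (p1_cent.1 hy.2 _ (h.fm.bas_xU 1 0 0)))
  have h2 := h.fm.bas_comm_iff.1 (h.fm.bas_strip (h.υK x) (p1_cent.1 hy.2 _ (h.fm.bas_xU 0 1 0)))
  simp only [mul_zero, zero_add, one_mul, mul_one, zero_mul, add_zero] at h1 h2
  exact ⟨x, c, by rw [h1, h2]⟩

theorem sqS {y : G} (hy : y ∈ R ⊓ centralizer (f.U : Set G)) : y * y ∈ f.Z := by
  have e := h.fm
  have hN := hR.le hy.1
  obtain ⟨t, ht⟩ := h.lin hN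
  by_cases t0 : t = 0
  · obtain ⟨x, c, rfl⟩ := h.kerS hR hy (t0 ▸ ht)
    rw [(comm_KA (h.υK x) (e.xA ..)).symm.mul_mul_mul_comm, h.sqV _ (h.mem x), e.bas_zz, one_mul]
    exact one_mem _
  obtain ⟨x, c, q⟩ := h.kerS hR (mul_mem hy hy) (h.T_sq hN)
  have q1 : y * (y * y) * y⁻¹ = y * y := by group
  rw [q, ← conj_mul, ht, (h.Nz hN c).eq, mul_inv_cancel_right, mul_left_inj, mul_eq_left] at q1
  rw [q, (mul_eq_zero.1 (e.x_inj (q1.trans e.x_zero.symm)).2.2).resolve_left t0, h.υ0, one_mul]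
  exact e.bas_xZ c

theorem cZ {y z : G} (hy : y ∈ R) (hz : z ∈ f.Z) : Commute y z := p1_cent.1 (hR.le hy).1.1.1 z hz

theorem swS {a b : G} (ha : a ∈ R ⊓ centralizer (f.U : Set G)) (hb : b ∈ R ⊓ centralizer (f.U : Set G)) :
    ∃ z ∈ f.Z, b * a = a * b * z := by
  have m := mul_mem (mul_mem (inv_mem (h.sqS hR ha)) (h.sqS hR (mul_mem ha hb))) (inv_mem (h.sqS hR hb))
  refine ⟨_, m, ?_⟩
  rw [mul_assoc a, (h.cZ hR hb.1 m).eq]
  group

theorem P_mul {r s : G} (hr : P1P f R r) (hs : P1P f R s) : P1P f R (r * s) := by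
  refine ⟨mul_mem hr.1 hs.1, ?_⟩
  have r1 := h.hconj hR hr.1
  have s1 := h.hconj hR hs.1
  have r2 := h.hconj hR r1
  have s2 := h.hconj hR s1
  have hr2 := hr.2
  have hs2 := hs.2
  rw [← conj_mul, ← conj_mul]
  generalize f.h * r * f.h⁻¹ = r' at *
  generalize f.h * s * f.h⁻¹ = s' at *
  generalize f.h * r' * f.h⁻¹ = r'' at *
  generalize f.h * s' * f.h⁻¹ = s'' at *
  obtain ⟨z1, m1, e1⟩ := h.swS hR r1 hs.1
  obtain ⟨z2, m2, e2⟩ := h.swS hR r2 (mul_mem hs.1 s1)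
  have : r * s * (r' * s') * (r'' * s'') = r * r' * r'' * (s * s' * s'') * z2 * z1 := by
    calc _ = r * (s * r') * (s' * r'' * s'') := by group
      _ = r * r' * s * (z1 * (s' * r'' * s'')) := by rw [e1]; group
      _ = r * r' * (s * s' * r'') * s'' * z1 := by
        rw [← (h.cZ hR (mul_mem (mul_mem s1.1 r2.1) s2.1) m1).eq]; group
      _ = r * r' * r'' * (s * s') * (z2 * s'') * z1 := by rw [e2]; group
      _ = _ := by rw [← (h.cZ hR s2.1 m2).eq]; group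
  rw [this]
  exact mul_mem (mul_mem (mul_mem hr2 hs2) m2) m1

theorem P_h {r : G} (hr : P1P f R r) : P1P f R (f.h * r * f.h⁻¹) :=
  ⟨h.hconj hR hr.1, by
    have := conj_mem_of_mem_normalizer h.fm.p1_hZ hr.2
    rwa [← conj_mul, ← conj_mul] at this⟩

theorem P_eq {r s : G} {t : GF4} (hr : P1P f R r) (hs : P1P f R s) (tr : P1T f υ r t) (ts : P1T f υ s t) :
    ∃ c, s = r * f.x 0 0 c := by
  have e := h.fm
  have p := h.P_mul hR hr hs
  obtain ⟨x, c, q⟩ := h.kerS hR p.1 (bas_add_self t ▸ h.T_mul (hR.le hr.1.1) tr ts)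
  have c1 := comm_KA (h.υK x) h.hA
  have hc : ∀ c, f.h * (υ x * f.x 0 0 c) * f.h⁻¹ = υ x * f.x 0 0 ((ω + 1) * c) := fun c => by
    rw [← conj_mul, ← c1.eq, mul_inv_cancel_right, e.p1_hz]
  have p2 := p.2
  rw [q, hc, hc, (comm_KA (h.υK x) (e.xA ..)).symm.mul_mul_mul_comm, h.sqV _ (h.mem x), one_mul, e.bas_zadd,
    ← mul_assoc, ← (comm_KA (h.υK x) (e.xA ..)).eq, mul_assoc, e.bas_zadd] at p2
  obtain ⟨d, hd⟩ := e.mem_Z.1 (mul_mem p2 (inv_mem (e.bas_xZ _)))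
  rw [mul_inv_cancel_right] at hd
  obtain rfl : d = 0 := (e.inj 0 0 d (hd ▸ h.υK x)).2.2
  rw [hd, e.x_zero, one_mul] at q
  obtain ⟨d', hd'⟩ := e.mem_Z.1 (mul_mem (inv_mem (h.sqS hR hr.1)) (e.bas_xZ c))
  exact ⟨d', by rw [← hd', ← q]; group⟩

theorem P_ex (y : GF4) : ∃ π, P1P f R π ∧ P1T f υ π y ∧ (y = 0 → π = 1) := by
  have e := h.fm
  by_cases y0 : y = 0
  · exact ⟨1, ⟨one_mem _, by simp⟩, y0 ▸ h.T_A (one_mem _), fun _ => rfl⟩
  obtain ⟨s, hs, ts⟩ := h.s0 hR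
  have c3 : Commute s (f.h ^ 3) := by
    obtain ⟨k, hk, c, q⟩ := e.cenU (le_normalizer (pow_mem h.hA 3)) fun a b c => mul_inv_eq_iff_eq_mul.1 (by
      rw [e.bas_hx, show ω ^ 3 = 1 by decide, show (ω + 1) ^ 3 = 1 by decide]; simp)
    have kA := mul_mem (pow_mem h.hA 3) (inv_mem (h.xA 0 0 c))
    rw [q, mul_inv_cancel_right] at kA
    exact q ▸ (h.No (hR.le hs.1) (h.AK_O kA hk)).mul_right (h.Nz (hR.le hs.1) c)
  have p1 : P1P f R (s * (f.h * s⁻¹ * f.h⁻¹)) := ⟨mul_mem hs (h.hconj hR (inv_mem hs)), by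
    rw [show s * (f.h * s⁻¹ * f.h⁻¹) * (f.h * (s * (f.h * s⁻¹ * f.h⁻¹)) * f.h⁻¹) *
      (f.h * (f.h * (s * (f.h * s⁻¹ * f.h⁻¹)) * f.h⁻¹) * f.h⁻¹) = s * f.h ^ 3 * s⁻¹ * (f.h ^ 3)⁻¹ by
        rw [pow_three]; group, c3.eq]
    simp⟩
  have t1 := h.T_mul (hR.le hs.1) ts (h.T_h (h.T_inv (hR.le hs.1) ts))
  have : ∀ y : GF4, y ≠ 0 → y = 1 + (ω + 1) * 1 ∨ y = (ω + 1) * (1 + (ω + 1) * 1) ∨
    y = (ω + 1) * ((ω + 1) * (1 + (ω + 1) * 1)) := by decide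
  rcases this y y0 with q | q | q
  · exact ⟨_, p1, q ▸ t1, fun q => absurd q y0⟩
  · exact ⟨_, h.P_h hR p1, q ▸ h.T_h t1, fun q => absurd q y0⟩
  · exact ⟨_, h.P_h hR (h.P_h hR p1), q ▸ h.T_h (h.T_h t1), fun q => absurd q y0⟩

theorem rho : ∃ (ρ : GF4 → G) (θ : GF4 → GF4 → GF4) (μ : GF4), ρ 0 = 1 ∧
    (∀ y, ρ y ∈ R ⊓ centralizer (f.U : Set G)) ∧ (∀ y, P1T f υ (ρ y) y) ∧
    (∀ y y', ρ y * ρ y' = ρ (y + y') * f.x 0 0 (θ y y')) ∧ (∀ y y', θ y y' = θ y' y) ∧ (∀ y, θ y y = μ * y) ∧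
    ∀ y, ∃ c, f.h * ρ y * f.h⁻¹ = ρ ((ω + 1) * y) * f.x 0 0 c := by
  have e := h.fm
  choose ρ pρ tρ zρ using h.P_ex hR
  choose θ hθ using fun y y' => h.P_eq hR (pρ (y + y')) (h.P_mul hR (pρ y) (pρ y')) (tρ _)
    (h.T_mul (hR.le (pρ y).1.1) (tρ y) (tρ y'))
  have hh := fun y => h.P_eq hR (pρ _) (h.P_h hR (pρ y)) (tρ _) (h.T_h (tρ y))
  have sq : ∀ y, ρ y * ρ y = f.x 0 0 (θ y y) := fun y => by rw [hθ, bas_add_self, zρ 0 rfl, one_mul]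
  have sz : ∀ y c, ρ y * f.x 0 0 c * (ρ y * f.x 0 0 c) = f.x 0 0 (θ y y) := fun y c => by
    rw [(h.Nz (hR.le (pρ y).1.1) c).symm.mul_mul_mul_comm, e.bas_zz, mul_one, sq]
  have hm := p1_hom (fun y => θ y y) (by
    have := sq 0
    rw [zρ 0 rfl, one_mul] at this
    exact (e.x_inj (this.symm.trans e.x_zero.symm)).2.2) fun y => by
    obtain ⟨c, q⟩ := hh y
    have := sz ((ω + 1) * y) c
    rw [← q, conj_mul, sq, e.p1_hz] at this
    exact (e.x_inj this).2.2.symm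
  refine ⟨ρ, θ, θ 1 1, zρ 0 rfl, fun y => (pρ y).1, tρ, hθ, fun y y' => ?_, hm, hh⟩
  have q := sz (y + y') (θ y y')
  rw [← hθ, hm, mul_add, ← e.bas_zadd, ← hm, ← hm, ← sq, ← sq, mul_assoc, mul_assoc, mul_right_inj, ← mul_assoc,
    ← mul_assoc, mul_left_inj, hθ, hθ, add_comm y', mul_right_inj] at q
  exact (e.x_inj q).2.2.symm

end P1D

theorem S0.exists_S1 (h : S0 f V O g0) : ∃ R p μ, S1 f V O g0 R p μ := by
  obtain ⟨υ, d⟩ := h.p1_D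
  obtain ⟨R, hR⟩ := exists_isSylowIn 2 (p1N f V O)
  obtain ⟨ρ, θ, μ, r0, rS, rT, rm, θs, θd, rh⟩ := d.rho hR
  have e := d.fm
  let F : C4 × GF4 → G := fun q => υ q.1.1 * ρ q.1.2.1 * f.x q.1.2.2.1 q.1.2.2.2 q.2
  have cρ : ∀ y a b c, Commute (ρ y) (f.x a b c) := fun y a b c => p1_cent.1 (rS y).2 _ (e.bas_xU a b c)
  have cυ : ∀ x a b c, Commute (υ x) (f.x a b c) := fun x a b c => comm_KA (d.υK x) (h.xA a b c)
  have FR : ∀ q, F q ∈ R := fun q => mul_mem (mul_mem (d.V_R hR (d.mem _)) (rS _).1) (d.x_R hR _ _ _)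
  have Fm : ∀ w c w' c', F (w, c) * F (w', c') =
      F (w + w', c + c' + w.2.2.1 * w'.2.2.2 + (w.2.1 * w'.1 + θ w.2.1 w'.2.1)) := by
    rintro ⟨x, y, a, b⟩ c ⟨x', y', a', b'⟩ c'
    show υ x * ρ y * f.x a b c * (υ x' * ρ y' * f.x a' b' c') =
      υ (x + x') * ρ (y + y') * f.x (a + a') (b + b') (c + c' + a * b' + (y * x' + θ y y'))
    have e1 : ρ y * (υ x' * ρ y') = υ x' * ρ (y + y') * f.x 0 0 (y * x' + θ y y') := by
      rw [← mul_assoc, mul_inv_eq_iff_eq_mul.1 (rT y x'), mul_assoc _ (ρ y), rm, mul_assoc (υ x'), ← mul_assoc (f.x 0 0 _),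
        ← (cρ _ _ _ _).eq, ← e.bas_zadd]
      group
    rw [((cυ x' a b c).mul_left (cρ y' a b c)).symm.mul_mul_mul_comm, e.mul, mul_assoc (υ x), e1, d.add,
      ← e.p1_xz _ _ (c + c' + a * b'), (e.bas_cz _ _ _ _).eq]
    group
  have Fi : Function.Injective F := by
    rintro ⟨⟨x, y, a, b⟩, c⟩ ⟨⟨x', y', a', b'⟩, c'⟩ q
    have tF : ∀ x y a b c, P1T f υ (F ((x, y, a, b), c)) y := fun x y a b c => by
      have := d.T_mul (mul_mem (d.V_N (d.mem x)) (hR.le (rS y).1)) (d.T_mul (d.V_N (d.mem x))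
        (d.T_cent fun x' => d.cmV (d.mem x) (d.mem x')) (rT y)) (d.T_A (h.xA a b c))
      rwa [zero_add, add_zero] at this
    obtain rfl : y = y' := d.T_uniq (tF x y a b c) (q ▸ tF x' y' a' b' c')
    replace q : υ x * ρ y * f.x a b c = υ x' * ρ y * f.x a' b' c' := q
    rw [mul_assoc, mul_assoc, (cρ ..).eq, (cρ ..).eq, ← mul_assoc, ← mul_assoc, mul_left_inj] at q
    have q1 : (υ x')⁻¹ * υ x = f.x a' b' c' * (f.x a b c)⁻¹ := by
      rw [inv_mul_eq_iff_eq_mul, ← mul_assoc, ← q, mul_inv_cancel_right]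
    have m := mul_mem (inv_mem (d.υK x')) (d.υK x)
    have q2 := q1
    rw [e.x_inv, e.mul] at q2
    obtain ⟨z1, z2, z3⟩ := e.inj _ _ _ (q2 ▸ m)
    rw [z1, z2, z3, e.x_zero] at q2
    rw [q2, eq_comm, mul_inv_eq_one] at q1
    obtain ⟨rfl, rfl, rfl⟩ := e.x_inj q1
    obtain rfl : x = x' := bas_eq (d.υinj _ (by rw [d.add, mul_right_cancel q, h.sqV _ (d.mem _)]))
    rfl
  have Fs : ∀ r ∈ R, ∃ w c, r = F (w, c) := fun r hr => by
    obtain ⟨y, ty⟩ := d.lin (hR.le hr)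
    obtain ⟨x, a, b, c, q⟩ := d.kerR hR (mul_mem hr (inv_mem (rS y).1))
      (bas_add_self y ▸ d.T_mul (hR.le hr) ty (d.T_inv (hR.le (rS y).1) (rT y)))
    exact ⟨(x, y, a, b), c, by rw [mul_inv_eq_iff_eq_mul.1 q, mul_assoc, ← (cρ ..).eq, ← mul_assoc]⟩
  have pF : ∀ w c, (Function.invFun F (F (w, c))).1 = w := fun w c => by rw [Function.leftInverse_invFun Fi]
  have Fx : ∀ a b c, f.x a b c = F ((0, 0, a, b), c) := fun a b c => by simp only [F, d.υ0, r0, one_mul]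
  have Fv : ∀ x, υ x = F ((x, 0, 0, 0), 0) := fun x => by simp only [F, r0, e.x_zero, mul_one]
  have Fz : ∀ w c c', F (w, c) * f.x 0 0 c' = F (w, c + c') := fun w c c' => by simp only [F, mul_assoc, e.p1_xz]
  refine ⟨R, fun r => (Function.invFun F r).1, μ, h, d.V_R hR, fun u hu => ?_, fun v hv => ?_, fun x => ?_,
    fun a b c => by rw [Fx, pF], fun r hr s hs => ?_, fun w => ⟨_, FR (w, 0), pF w 0⟩, fun r hr q => ?_,
    fun r hr => ?_, fun r hr s hs => ?_, fun r hr o ho => d.No (hR.le hr) ho, fun r hr => ?_, d.NE_R hR⟩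
  · obtain ⟨a, b, c, rfl⟩ := e.mem_U.1 hu
    exact d.x_R hR a b c
  · obtain ⟨x, rfl⟩ := d.sur v hv
    exact ⟨x, by rw [Fv, pF]⟩
  · exact ⟨υ x, d.mem x, by rw [Fv, pF]⟩
  · obtain ⟨w, c, rfl⟩ := Fs r hr
    obtain ⟨w', c', rfl⟩ := Fs s hs
    rw [Fm, pF, pF, pF]
  · obtain ⟨w, c, rfl⟩ := Fs r hr
    rw [pF] at q
    subst q
    exact Fx 0 0 c ▸ e.bas_xZ c
  · obtain ⟨⟨x, y, a, b⟩, c, rfl⟩ := Fs r hr
    rw [Fm, pF, Fx, θd]
    congr 1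
    simp only [q4, Prod.mk_add_mk, bas_add_self, zero_add, Prod.mk.injEq, true_and]
    ring
  · obtain ⟨⟨x, y, a, b⟩, c, rfl⟩ := Fs r hr
    obtain ⟨⟨x', y', a', b'⟩, c', rfl⟩ := Fs s hs
    rw [Fm, Fm, pF, pF, Fz, add_comm (x', y', a', b'), θs y' y]
    congr 2
    simp only [b4]
    linear_combination (-(a' * b) - y' * x) * bas_two
  · obtain ⟨⟨x, y, a, b⟩, c, rfl⟩ := Fs r hr
    obtain ⟨c', q⟩ := rh y
    have : f.h * F ((x, y, a, b), c) * f.h⁻¹ = F ((x, (ω + 1) * y, ω * a, ω * b), (ω + 1) * c + c') := by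
      show f.h * (υ x * ρ y * f.x a b c) * f.h⁻¹ = υ x * ρ _ * f.x _ _ _
      rw [← conj_mul, ← conj_mul, q, e.hx, ← (comm_KA (d.υK x) h.hA).eq, mul_inv_cancel_right, ← e.p1_xz,
        (e.bas_cz ..).eq]
      group
    rw [this, pF, pF]

end CfsgLib.SzC
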