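import Cfsg.Agent.Lib.SzC.RFx
import Cfsg.Agent.Lib.G2C.TI

/-! Package P5: `C(Z) ≤ N(R)` (plans/SZC.md) -/

set_option autoImplicit false
set_option linter.unusedSectionVars false

namespace CfsgLib.SzC

open Subgroup Cfsg CfsgLib.Tech CfsgLib.StdR2 CfsgLib.Classical CfsgLib.ExtraTwo
open scoped commutatorElement

variable {G : Type*} [Group G] [Finite G] {f : Fd G}

open RFx Equiv

namespace P5x

theorem s5_eq (β : C5) : s5 β = ∑ i, β i := by rw [s5, Fin.sum_univ_five]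

theorem b5_eq (β γ : C5) : b5 β γ = ∑ i, β i * γ i := by rw [b5, Fin.sum_univ_five]

theorem s5_comp (β : C5) (e : Perm (Fin 5)) : s5 (β ∘ e) = s5 β := by
  rw [s5_eq, s5_eq]; exact Equiv.sum_comp e β

theorem b5_comp (β γ : C5) (e : Perm (Fin 5)) : b5 (β ∘ e) (γ ∘ e) = b5 β γ := by
  rw [b5_eq, b5_eq]; exact Equiv.sum_comp e fun i => β i * γ i

theorem q5_comp (e : Perm (Fin 5)) : ∀ β : C5, q5 (β ∘ e) = q5 β := by
  induction e using Perm.swap_induction_on with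
  | one => exact fun _ => rfl
  | swap_mul e i j _ ih =>
    intro β
    rw [Perm.coe_mul, ← Function.comp_assoc, ih]
    fin_cases i <;> fin_cases j <;> simp [q5, swap_apply_def] <;> ring

theorem rat_comp (β : C5) (e : Perm (Fin 5)) : Rat5 (β ∘ e) ↔ Rat5 β :=
  exists_congr fun _ => ⟨fun k i => by simpa using k (e.symm i), fun k i => k (e i)⟩

/-- the transposition -/
def t1 : Perm (Fin 5) := swap 0 1
/-- the double transposition -/
def t2 : Perm (Fin 5) := swap 1 2 * swap 3 4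

theorem invol : ∀ π : Perm (Fin 5), π * π = 1 → π ≠ 1 → ∃ e : Perm (Fin 5), e⁻¹ * π * e = t1 ∨ e⁻¹ * π * e = t2 := by
  decide +kernel

theorem dvec : ∀ β : C5, s5 β = 0 → q5 β = 0 → ¬ Rat5 β → ∃ e : Perm (Fin 5), ∀ i, β (e i) = eV i := by
  decide +kernel

theorem stab : ∀ σ : Perm (Fin 5), (∀ i, eV (σ i) = eV i) → σ = 1 ∨ σ = t1 := by decide +kernel

set_option synthInstance.maxSize 2000 in
theorem rvec : ∀ β : C5, s5 β = 0 → q5 β = 0 → Rat5 β → β ≠ 0 → b5 eV β = 0 →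
    β 0 ≠ β 1 ∧ ∃ l : GF4, l ≠ 0 ∧ ((∀ i, β i = l * e1 i) ∨ ∀ i, β i = l * e2 i) := by decide +kernel

theorem fin0 : ∀ x y z : GF4, q5 ![0, x + y + z, x, y, z] = 1 → b5 eV ![0, x + y + z, x, y, z] = 1 →
    ∀ x' y' z' : GF4, q5 ![0, x' + y' + z', x', y', z'] = ω + 1 → b5 eV ![0, x' + y' + z', x', y', z'] = ω + 1 →
    b5 ![0, x + y + z, x, y, z] ![0, x' + y' + z', x', y', z'] ≠ 0 := by decide +kernel

theorem fin1 : ∀ x y z : GF4, q5 ![x + y + z, 0, x, y, z] = 1 → b5 eV ![x + y + z, 0, x, y, z] = 1 →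
    ∀ x' y' z' : GF4, q5 ![x' + y' + z', 0, x', y', z'] = ω + 1 → b5 eV ![x' + y' + z', 0, x', y', z'] = ω + 1 →
    b5 ![x + y + z, 0, x, y, z] ![x' + y' + z', 0, x', y', z'] ≠ 0 := by decide +kernel

theorem form0 : ∀ l : GF4, l ≠ 0 → ∀ β : C5, s5 β = 0 → b5 (fun i => l * e1 i) β = 0 →
    β = ![0, β 2 + β 3 + β 4, β 2, β 3, β 4] := by decide +kernel

theorem form1 : ∀ l : GF4, l ≠ 0 → ∀ β : C5, s5 β = 0 → b5 (fun i => l * e2 i) β = 0 →
    β = ![β 2 + β 3 + β 4, 0, β 2, β 3, β 4] := by decide +kernel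

theorem fin {α β γ : C5} (hα : ∃ l : GF4, l ≠ 0 ∧ ((∀ i, α i = l * e1 i) ∨ ∀ i, α i = l * e2 i))
    (sβ : s5 β = 0) (sγ : s5 γ = 0) (h1 : b5 α β = 0) (h2 : b5 α γ = 0) (h3 : q5 β = 1) (h4 : b5 eV β = 1)
    (h5 : q5 γ = ω + 1) (h6 : b5 eV γ = ω + 1) : b5 β γ ≠ 0 := by
  obtain ⟨l, l0, k | k⟩ := hα
  · obtain rfl : α = _ := funext k
    rw [form0 l l0 β sβ h1] at h3 h4 ⊢
    rw [form0 l l0 γ sγ h2] at h5 h6 ⊢
    exact fin0 _ _ _ h3 h4 _ _ _ h5 h6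
  · obtain rfl : α = _ := funext k
    rw [form1 l l0 β sβ h1] at h3 h4 ⊢
    rw [form1 l l0 γ sγ h2] at h5 h6 ⊢
    exact fin1 _ _ _ h3 h4 _ _ _ h5 h6

/-- the vectors fixed by the double transposition -/
def fv (a b : GF4) : C5 := ![0, a, a, b, b]

theorem fv_fix : ∀ a b : GF4, s5 (fv a b) = 0 ∧ ∀ i, fv a b (t2 i) = fv a b i := by decide +kernel

theorem fv_b : ∀ a b a' b' : GF4, b5 (fv a b) (fv a' b') = 0 := by decide +kernel

theorem fix_fv : ∀ β : C5, s5 β = 0 → (∀ i, β (t2 i) = β i) → β = fv (β 1) (β 3) := by decide +kernel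

theorem fv_cm : ∀ a b : GF4, ∃ γ : C5, s5 γ = 0 ∧ ∀ i, γ (t2 i) + γ i = fv a b (t2 i) := fun a b =>
  ⟨![a + b, a, 0, b, 0], by revert a b; decide +kernel⟩

set_option synthInstance.maxSize 2000 in
theorem sep : ∀ x y v : GF4, (x = 0 ∨ x = ω) → (y = 0 ∨ y = ω) → (v = 0 ∨ v = 1) → x + v = y + 0 → v = 0 := by
  decide

end P5x

open P5x

namespace RF

variable {D : Set G} {Z R R' : Subgroup G} {ζ : GF4 → G} {p p' : G → C5} {ν ν' : G → Equiv.Perm (Fin 5)}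

theorem relabel (h : RF D Z R ζ p ν) (e : Perm (Fin 5)) :
    RF D Z R ζ (fun r => p r ∘ e) (fun g => e⁻¹ * ν g * e) where
  Dconj := h.Dconj
  memZ := h.memZ
  ζadd := h.ζadd
  ζinj := h.ζinj
  ZR := h.ZR
  cen := h.cen
  sum := fun r hr => by rw [s5_comp, h.sum r hr]
  mul := fun r hr s hs => by rw [h.mul r hr s hs]; rfl
  surj := fun β hβ => by
    obtain ⟨r, hr, k⟩ := h.surj (β ∘ e.symm) (by rw [s5_comp, hβ])
    exact ⟨r, hr, by rw [k]; ext1 i; simp⟩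
  ker := fun r hr => by
    rw [← h.ker r hr]
    exact ⟨fun k => funext fun i => by simpa using congrFun k (e.symm i), fun k => by rw [k]; rfl⟩
  sq := fun r hr => by rw [q5_comp, h.sq r hr]
  comm := fun r hr s hs => by rw [b5_comp, h.comm r hr s hs]
  act := fun g h1 h2 r hr i => by simpa using h.act g h1 h2 r hr (e i)
  ker2 := fun g h1 h2 h3 => h.ker2 g h1 h2 (by
    rw [mul_assoc, inv_mul_eq_one] at h3
    exact mul_eq_right.1 h3.symm)
  memD := fun r hr => by rw [q5_comp, rat_comp, h.memD r hr]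
  DN := h.DN

theorem fix_iff (h : RF D Z R ζ p ν) {g r : G} (hg : g ∈ normalizer (R : Set G))
    (hg' : g ∈ centralizer (Z : Set G)) (hr : r ∈ R) :
    (∀ i, p r (ν g i) = p r i) ↔ p (g * r * g⁻¹) = p r :=
  ⟨fun k => funext fun i => by
    obtain ⟨i, rfl⟩ := (ν g).surjective i
    rw [h.act g hg hg' r hr, k], fun k i => by rw [← h.act g hg hg' r hr i, k]⟩

theorem cm_R {g r : G} (hg : g ∈ normalizer (R : Set G)) (hr : r ∈ R) : ⁅r, g⁆ ∈ R := by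
  simpa only [commutatorElement_def, mul_assoc] using mul_mem hr (conj_mem_of_mem_normalizer hg (inv_mem hr))

theorem p_cm (h : RF D Z R ζ p ν) {g r : G} (hg : g ∈ normalizer (R : Set G))
    (hg' : g ∈ centralizer (Z : Set G)) (hr : r ∈ R) (i : Fin 5) :
    p ⁅r, g⁆ (ν g i) = p r (ν g i) + p r i := by
  rw [show ⁅r, g⁆ = r * (g * r⁻¹ * g⁻¹) by simp only [commutatorElement_def, mul_assoc],
    h.mul r hr _ (conj_mem_of_mem_normalizer hg (inv_mem hr)), Pi.add_apply, h.act g hg hg' _ (inv_mem hr),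
    h.p_inv hr]

theorem cm_iff (h : RF D Z R ζ p ν) {g r : G} (hg : g ∈ normalizer (R : Set G))
    (hg' : g ∈ centralizer (Z : Set G)) (hr : r ∈ R) : ⁅r, g⁆ ∈ Z ↔ ∀ i, p r (ν g i) = p r i := by
  rw [← h.ker _ (cm_R hg hr)]
  refine ⟨fun k i => add_eq_zero.1 (by rw [← h.p_cm hg hg' hr, k]; rfl), fun k => funext fun i => ?_⟩
  obtain ⟨i, rfl⟩ := (ν g).surjective i
  rw [h.p_cm hg hg' hr, k, add_self]; rfl

theorem q_eq (h : RF D Z R ζ p ν) (h' : RF D Z R' ζ p' ν') {r : G} (hr : r ∈ R) (hr' : r ∈ R') :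
    q5 (p' r) = q5 (p r) := h.ζ_eq ((h'.sq r hr').symm.trans (h.sq r hr))

theorem b_eq (h : RF D Z R ζ p ν) (h' : RF D Z R' ζ p' ν') {r s : G} (hr : r ∈ R) (hr' : r ∈ R')
    (hs : s ∈ R) (hs' : s ∈ R') : b5 (p' r) (p' s) = b5 (p r) (p s) :=
  h.ζ_eq ((h'.cm_eq hr' hs').symm.trans (h.cm_eq hr hs))

theorem sq_ν (h : RF D Z R ζ p ν) {g : G} (hg : g ∈ normalizer (R : Set G))
    (hg' : g ∈ centralizer (Z : Set G)) (e : g * g ∈ Z) : ν g * ν g = 1 := by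
  rw [← h.ν_mul hg hg' hg hg', h.ν_R (h.ZR e)]

theorem exists_D (h : RF D Z R ζ p ν) {l : GF4} (hl : l ≠ 0) : ∃ r ∈ R, r ∈ D ∧ p r = l • eV := by
  obtain ⟨r, hr, e⟩ := h.surj (l • eV) (by revert l; decide)
  exact ⟨r, hr, (h.memD r hr).2 (by rw [e]; clear e; revert l; decide), e⟩

theorem U'' (h : RF D Z R ζ p ν) (h' : RF D Z R' ζ p' ν') (hI : ∀ r ∈ R, r ∈ R' → r ∉ D) {d : G}
    (hd : d ∈ R') (d2 : d * d = 1) (hD : d ∈ D) (hn : d ∈ normalizer (R : Set G)) (ht : ν d = t1 ∨ ν d = t2)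
    (pd : p' d = eV) : False := by
  have dc := h'.cen hd
  have B : ∀ r ∈ R, (∀ i, p r (ν d i) = p r i) → r ∈ normalizer (R' : Set G) ∧ (r ∈ R' ∨ ν' r = t1) := by
    intro r hr k
    have c := (h.cm_iff hn dc hr).2 k
    have e : r * d * r⁻¹ = ⁅r, d⁆ * d := by simp only [commutatorElement_def, inv_mul_cancel_right]
    have n := h'.DN r (h.cen hr) d hd hD (e ▸ mul_mem (h'.ZR c) hd)
    refine ⟨n, (stab _ fun i => ?_).imp_left fun k => h'.ker2 r n (h.cen hr) k (h.pow4 hr)⟩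
    rw [← pd]
    refine (h'.fix_iff n (h.cen hr) hd).2 ?_ i
    rw [e, h'.mul _ (h'.ZR c) d hd, (h'.ker _ (h'.ZR c)).2 c, zero_add]
  have three : ∀ r ∈ R, ∀ s ∈ R, (∀ i, p r (ν d i) = p r i) → (∀ i, p s (ν d i) = p s i) →
      r ∈ R' ∨ s ∈ R' ∨ r * s ∈ R' := fun r hr s hs k1 k2 => by
    obtain ⟨n1, a | a⟩ := B r hr k1
    · exact .inl a
    obtain ⟨n2, b | b⟩ := B s hs k2
    · exact .inr (.inl b)
    exact .inr (.inr (h'.ker2 _ (mul_mem n1 n2) (h.cen (mul_mem hr hs)) (by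
      rw [h'.ν_mul n1 (h.cen hr) n2 (h.cen hs), a, b]; decide) (h.pow4 (mul_mem hr hs))))
  rcases ht with ht | ht
  · obtain ⟨r, hr, a, e⟩ := h.exists_D (l := 1) one_ne_zero
    obtain ⟨s, hs, b, e'⟩ := h.exists_D (l := ω) (by decide)
    rcases three r hr s hs (by rw [ht, e]; decide) (by rw [ht, e']; decide) with k | k | k
    · exact hI r hr k a
    · exact hI s hs k b
    · exact hI _ (mul_mem hr hs) k ((h.memD _ (mul_mem hr hs)).2 (by rw [h.mul r hr s hs, e, e']; decide))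
  have inv : ∀ r ∈ R, ∀ a b, p r = fv a b → d * r * d⁻¹ = r⁻¹ := fun r hr a b e => by
    obtain ⟨γ, sγ, k⟩ := fv_cm a b
    obtain ⟨c, hc, rfl⟩ := h.surj γ sγ
    obtain ⟨x, rfl⟩ := (h.p_eq hr (cm_R hn hc)).1 (funext fun i => by
      obtain ⟨i, rfl⟩ := t2.surjective i
      rw [e, ← k, ← ht, h.p_cm hn dc hc])
    have i := G2C.Ti.inverts (c := c) (d := d) (by rw [d2, one_mul, mul_one])
    rw [mul_inv_rev, inv_eq_of_mul_eq_one_right (h.ζ_sq x), h.cZ (h.ζ_mem x) (inv_mem (cm_R hn hc)), ← i,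
      mul_assoc (d * _) d⁻¹, ← h'.cZ (h.ζ_mem x) (inv_mem hd)]
    group
  have bq : ∀ r ∈ R, r ∈ R' → ∀ a b, p r = fv a b → b5 eV (p' r) = q5 (p r) := fun r hr hr' a b e => by
    have := h'.conj_eq hd hr'
    rw [inv r hr a b e, pd, eq_comm, ← mul_eq_one_iff_eq_inv', ← mul_assoc, h.sq r hr, ← h.ζadd] at this
    exact (RFx.add_eq_zero.1 (h.ζinj _ this)).symm
  obtain ⟨r, hr, hr', l, l0, e⟩ : ∃ r ∈ R, r ∈ R' ∧ ∃ l, l ≠ 0 ∧ p r = fv l l := by
    obtain ⟨r, hr, e⟩ := h.surj _ (fv_fix 1 1).1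
    obtain ⟨s, hs, e'⟩ := h.surj _ (fv_fix ω ω).1
    rcases three r hr s hs (by rw [ht, e]; decide) (by rw [ht, e']; decide) with k | k | k
    · exact ⟨r, hr, k, 1, by decide, e⟩
    · exact ⟨s, hs, k, ω, by decide, e'⟩
    · exact ⟨_, mul_mem hr hs, k, ω + 1, by decide, by rw [h.mul r hr s hs, e, e']; decide⟩
  have q0 : q5 (p r) = 0 := by rw [e]; clear e; revert l; decide
  obtain ⟨ne, hα⟩ := rvec (p' r) (h'.sum r hr') ((h.q_eq h' hr hr').trans q0) (by_contra fun k =>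
    hI r hr hr' ((h'.memD r hr').2 ⟨(h.q_eq h' hr hr').trans q0, k⟩)) (fun k => l0 (by
      have := (h.ker r hr).2 ((h'.ker r hr').1 k)
      rw [e] at this
      exact congrFun this 1)) ((bq r hr hr' l l e).trans q0)
  have all : ∀ s ∈ R, ∀ a b, p s = fv a b → s ∈ R' := fun s hs a b e' => by
    obtain ⟨n, k | k⟩ := B s hs (by rw [ht, e']; exact (fv_fix a b).2)
    · exact k
    have := (h'.fix_iff n (h.cen hs) hr').2 (by rw [h.conj_eq hs hr, e, e', fv_b, h.ζ_zero, mul_one]) 1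
    rw [k] at this
    exact absurd this ne
  obtain ⟨s, hs, e1⟩ := h.surj _ (fv_fix 1 0).1
  obtain ⟨u, hu, e2⟩ := h.surj _ (fv_fix ω 0).1
  have hs' := all s hs _ _ e1
  have hu' := all u hu _ _ e2
  refine fin hα (h'.sum s hs') (h'.sum u hu') ?_ ?_ ?_ ?_ ?_ ?_ ?_
  · rw [h.b_eq h' hr hr' hs hs', e, e1, fv_b]
  · rw [h.b_eq h' hr hr' hu hu', e, e2, fv_b]
  · rw [h.q_eq h' hs hs', e1]; decide
  · rw [bq s hs hs' _ _ e1, e1]; decide
  · rw [h.q_eq h' hu hu', e2]; decide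
  · rw [bq u hu hu' _ _ e2, e2]; decide
  · rw [h.b_eq h' hs hs' hu hu', e1, e2, fv_b]

theorem U' (h : RF D Z R ζ p ν) (h' : RF D Z R' ζ p' ν') (hI : ∀ r ∈ R, r ∈ R' → r ∉ D) {d : G}
    (hd : d ∈ R') (hD : d ∈ D) (hn : d ∈ normalizer (R : Set G)) : False := by
  have dc := h'.cen hd
  obtain ⟨q0, nr⟩ := (h'.memD d hd).1 hD
  have d2 : d * d = 1 := by rw [h'.sq d hd, q0, h.ζ_zero]
  obtain ⟨e, he⟩ := invol (ν d) (h.sq_ν hn dc (d2 ▸ one_mem _))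
    fun k => hI d (h.ker2 d hn dc k (h'.pow4 hd)) hd hD
  obtain ⟨e', he'⟩ := dvec _ (h'.sum d hd) q0 nr
  exact (h.relabel e).U'' (h'.relabel e') hI hd d2 hD hn he (funext he')

theorem noD (h : RF D Z R ζ p ν) {g : G} (hg : g ∈ centralizer (Z : Set G))
    (hn : g ∉ normalizer (R : Set G)) : ∀ r ∈ R, r ∈ cj g R → r ∉ D := fun r hr hr' hD =>
  hn (h.DN g hg _ (mem_cj.1 hr') (by simpa using h.Dconj r hD g⁻¹) (by simpa [mul_assoc] using hr))

theorem U (h : RF D Z R ζ p ν) {g d : G} (hg : g ∈ centralizer (Z : Set G))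
    (hd : d ∈ cj g R) (hD : d ∈ D) (hn : d ∈ normalizer (R : Set G)) : g ∈ normalizer (R : Set G) :=
  by_contra fun k => h.U' (h.conj hg) (h.noD hg k) hd hD hn

theorem R_le_mc (h : RF D Z R ζ p ν) {Y : Subgroup G} (hY : Y ≤ R) :
    R ≤ centralizer (Z : Set G) ⊓ RuG.mc Y Z :=
  fun _ hr => ⟨h.cen hr, centralizer_le_normalizer _ (h.cen hr), fun _ hy => h.cm_mem hr (hY hy)⟩

/-- elements of `R' - Y` do not normalise `R` -/
theorem two (h : RF D Z R ζ p ν) (h' : RF D Z R' ζ p' ν') {Y : Subgroup G} (ZY : Z ≤ Y) (YR : Y ≤ R)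
    (YR' : Y ≤ R') (inf : ∀ r ∈ R, r ∈ R' → r ∈ Y) (nD : ∀ r ∈ R, r ∈ normalizer (R' : Set G) → r ∉ D)
    {x : G} (hx : x ∈ R') (hn : x ∈ normalizer (R : Set G))
    (ti : ∀ r ∈ R, r * x * r⁻¹ ∈ R' → r ∈ normalizer (R' : Set G)) (ht : ν x = t1 ∨ ν x = t2) : False := by
  have xc := h'.cen hx
  have mB : ∀ r ∈ R, ⁅r, x⁆ ∈ Y → r ∈ normalizer (R' : Set G) := fun r hr e => ti r hr (by
    simpa only [commutatorElement_def, inv_mul_cancel_right] using mul_mem (YR' e) hx)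
  rcases ht with ht | ht
  · obtain ⟨r, hr, a, e⟩ := h.exists_D (l := 1) one_ne_zero
    exact nD r hr (mB r hr (ZY ((h.cm_iff hn xc hr).2 (by rw [ht, e]; decide)))) a
  let W : AddSubgroup C5 := (AddMonoidHom.mk' (fun a : GF4 × GF4 => fv a.1 a.2) (by decide)).range
  have cW : Nat.card W ≤ 16 := (Nat.card_le_card_of_surjective _ (AddMonoidHom.rangeRestrict_surjective _)).trans
    (by rw [Nat.card_prod, Nat.card_eq_fintype_card, card_GF4])
  have mW : ∀ r ∈ R, (∀ i, p r (t2 i) = p r i) → r ∈ h.sub W := fun r hr k =>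
    ⟨hr, (p r 1, p r 3), (fix_fv _ (h.sum r hr) k).symm⟩
  have h1 := RuG.idx (K := R) (N := Y) (N' := h.sub W) (t := x)
    (fun y hy => mW y (YR hy) (ht ▸ (h.cm_iff hn xc (YR hy)).1 (h'.cm_mem (YR' hy) hx)))
    (fun r hr => G2C.Ti.le_N_Y ZY (h.R_le_mc YR hr).2) fun w hw => mW _ (cm_R hn hw) fun i => by
      have a := h.p_cm hn xc hw i
      have b := h.p_cm hn xc hw (t2 i)
      rw [ht] at a b
      rw [(by decide : ∀ i, t2 (t2 i) = i) i] at b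
      rw [a, b, add_comm]
  have h2 := card_le_of_le (show R ⊓ RuG.mc {x} Y ≤ R ⊓ normalizer (R' : Set G) from
    fun r hr => ⟨hr.1, mB r hr.1 (hr.2.2 x rfl)⟩)
  obtain ⟨J, -, cJ⟩ := G2C.Ti.exists_img (P := R ⊓ normalizer (R' : Set G)) (f := ν')
    fun a ha b hb => h'.ν_mul ha.2 (h.cen ha.1) hb.2 (h.cen hb.1)
  have h3 := cJ Y (le_inf YR (YR'.trans le_normalizer)) fun a ha =>
    ⟨fun k => inf a ha.1 (h'.ker2 a ha.2 (h.cen ha.1) k (h.pow4 ha.1)), fun k => h'.ν_R (YR' k)⟩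
  have h4 : Nat.card J ∣ 1024 := (Dvd.intro _ h3.symm).trans (h.cardR ▸ card_dvd_of_le inf_le_left)
  have h5 : Nat.card J ∣ 120 := by
    have := card_subgroup_dvd_card J
    rwa [Nat.card_perm, Nat.card_fin] at this
  have h6 : Nat.card J ≤ 8 := Nat.le_of_dvd (by norm_num) (Nat.dvd_gcd h4 h5)
  rw [h.cardR, h.card_sub (by rintro _ ⟨a, rfl⟩; exact (fv_fix a.1 a.2).1)] at h1
  have h7 := Nat.card_pos (α := Y)
  have := Nat.mul_le_mul (h2.trans (h3.le.trans (Nat.mul_le_mul_right _ h6))) (Nat.mul_le_mul_left 4 cW)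
  omega

end RF

theorem RF.cent_le {D : Set G} {Z R : Subgroup G} {ζ : GF4 → G} {p : G → C5}
    {ν : G → Equiv.Perm (Fin 5)} (h : RF D Z R ζ p ν) :
    centralizer (Z : Set G) ≤ normalizer (R : Set G) := by
  by_contra hn
  obtain ⟨Y, ZY, YR, hX, mx⟩ := G2C.Ti.exists_max h.ZR hn
  set X := centralizer (Z : Set G) ⊓ RuG.mc Y Z with eX
  have XY : X ≤ normalizer (Y : Set G) := inf_le_right.trans (G2C.Ti.le_N_Y ZY)
  have RX : R ≤ X := h.R_le_mc YR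
  have Yc : ∀ g ∈ X, Y ≤ cj g R := fun g hg => (mem_normalizer_iff_cj.1 (XY hg)).ge.trans (cj_mono g YR)
  have YD : ∀ y ∈ Y, y ∉ D := fun y hy hD => hX fun g hg =>
    h.DN g hg.1 y (YR hy) hD (YR (conj_mem_of_mem_normalizer (XY hg) hy))
  have ti : ∀ g ∈ X, g ∉ normalizer (R : Set G) → R ⊓ cj g R ≤ Y := fun g hg hg' => by
    by_contra k
    obtain ⟨d, h1, h2, -⟩ := (h.conj hg.1).exists_D one_ne_zero
    exact hg' (h.U hg.1 h1 h2 (mx _ (lt_of_le_not_ge (le_inf YR (Yc g hg)) k) inf_le_left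
      ((h.conj hg.1).R_le_mc inf_le_right h1)))
  have ti2 : ∀ r ∈ X, ∀ x ∈ R, x ∉ Y → r * x * r⁻¹ ∈ R → r ∈ normalizer (R : Set G) := fun r hr x hx hx' e =>
    by_contra fun k => hx' ((mem_normalizer_iff.1 (XY hr) x).2 (ti r hr k ⟨e, conj_mem_cj.2 hx⟩))
  have hodd : ∀ g ∈ X, g ∉ normalizer (R : Set G) → cj g R ⊓ normalizer (R : Set G) ≤ Y := fun g hg hg' x hx => by
    by_contra k
    have h' := h.conj hg.1
    obtain ⟨e, he⟩ := invol (ν x) (h.sq_ν hx.2 (h'.cen hx.1) (h'.sq_mem hx.1))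
      fun e => k (ti g hg hg' ⟨h.ker2 x hx.2 (h'.cen hx.1) e (h'.pow4 hx.1), hx.1⟩)
    refine (h.relabel e).two h' ZY YR (Yc g hg) (fun r a b => ti g hg hg' ⟨a, b⟩) (fun r a b c => hg' ?_) hx.1 hx.2
      (fun r a d => ?_) he
    · have := h'.U (inv_mem hg.1) (by rwa [cj_inv_cj]) c b
      rw [← cj_normalizer, mem_cj] at this
      exact inv_mem_iff.1 (by simpa using this)
    · rw [← cj_normalizer, mem_cj]
      refine ti2 _ (mul_mem (mul_mem (inv_mem hg) (RX a)) hg) _ (mem_cj.1 hx.1)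
        (fun k' => k ((mem_normalizer_iff_cj.1 (XY hg)).le (mem_cj.2 k'))) ?_
      simpa [mul_assoc] using mem_cj.1 d
  have tr := fun r (hr : r ∈ R) r1 s (hs : s ∈ R) s1 =>
    G2C.Ti.trans XY YR RX (fun r hr => ZY (h.sq_mem hr)) hodd hX hr r1 hs s1
  have fx : ∀ n ∈ X ⊓ normalizer (R : Set G), ∀ y ∈ Y, ∀ i, p y (ν n i) = p y i :=
    fun n hn y hy => (h.cm_iff hn.2 hn.1.1 (YR hy)).1 (by
      rw [← commutatorElement_inv]; exact inv_mem (hn.1.2.2 y hy))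
  have triv : ∀ n ∈ X ⊓ normalizer (R : Set G), ν n = 1 := fun n hn => Equiv.ext fun i => by
    obtain ⟨s, hs, e⟩ := h.surj _ (s5_wv i)
    obtain ⟨r, hr, e'⟩ := h.surj (ω • wv i) ((by decide : ∀ i, s5 (ω • wv i) = 0) i)
    have w : ∀ j, wv i j = 0 ∨ wv i j = 1 := (by decide : ∀ i j, wv i j = 0 ∨ wv i j = 1) i
    have w0 := (wv_eq_zero (i := i)).2 rfl
    refine wv_eq_zero.1 (?_ : wv i _ = 0)
    by_cases s1 : s ∈ Y
    · rw [← e, fx n hn s s1, e, w0]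
    by_cases r1 : r ∈ Y
    · have := fx n hn r r1 i
      rw [e', Pi.smul_apply, Pi.smul_apply, w0, smul_zero] at this
      exact (smul_eq_zero.1 this).resolve_left (by decide)
    obtain ⟨m, hm, k⟩ := tr r hr r1 s hs s1
    have c := conj_mem_of_mem_normalizer hm.2 hr
    have a : ∀ j, p (m * r * m⁻¹) j = 0 ∨ p (m * r * m⁻¹) j = ω := fun j => by
      obtain ⟨j, rfl⟩ := (ν m).surjective j
      rw [h.act m hm.2 hm.1.1 r hr, e', Pi.smul_apply]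
      exact (w j).imp (fun k => by rw [k, smul_zero]) fun k => by rw [k, smul_eq_mul, mul_one]
    have := fx n hn _ k i
    rw [h.mul _ c _ (inv_mem hs), h.p_inv hs, e, Pi.add_apply, Pi.add_apply, w0] at this
    exact sep _ _ _ (a _) (a _) (w _) this
  obtain ⟨r, hr, a, e⟩ := h.exists_D (l := 1) one_ne_zero
  obtain ⟨s, hs, b, e'⟩ := h.exists_D (l := ω) (by decide)
  obtain ⟨m, hm, k⟩ := tr r hr (fun k => YD r k a) s hs fun k => YD s k b
  refine YD _ k ((h.memD _ (YR k)).2 ?_)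
  rw [h.mul _ (conj_mem_of_mem_normalizer hm.2 hr) _ (inv_mem hs), (h.fix_iff hm.2 hm.1.1 hr).1
    (fun i => by rw [triv m hm]; rfl), h.p_inv hs, e, e']
  decide

end CfsgLib.SzC
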