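import Cfsg.Agent.Lib.G2C.P6

/-! Package P6, linear algebra: involutions of the orthogonal groups in dimension 6 (plans/SZC.md) -/

set_option autoImplicit false
set_option linter.unusedSectionVars false

namespace CfsgLib.SzC.P6x

open CfsgLib.OrthE CfsgLib.ExtraTwo CfsgLib.G2C CfsgLib.G2C.LAx QuadraticMap

variable {W : Type*} [AddCommGroup W] [Module (ZMod 2) W] [Finite W] {q : QuadraticForm (ZMod 2) W}

/-- the orthogonal complement -/
abbrev perp (q : QuadraticForm (ZMod 2) W) (U : Submodule (ZMod 2) W) : Submodule (ZMod 2) W :=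
  LinearMap.BilinForm.orthogonal (polarBilin q) U

/-- the hyperplane of a vector -/
abbrev K (q : QuadraticForm (ZMod 2) W) (y : W) : Submodule (ZMod 2) W := LinearMap.ker (polarBilin q y)

theorem mem_K {y v : W} : v ∈ K q y ↔ polar q y v = 0 := Iff.rfl

theorem mem_perp {U : Submodule (ZMod 2) W} {v : W} : v ∈ perp q U ↔ ∀ u ∈ U, polar q u v = 0 := Iff.rfl

/-- the commutator space -/
def Mv (g : OrthE.O q) : Submodule (ZMod 2) W := LinearMap.range (g.1.toLinearMap + LinearMap.id)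

theorem mem_Mv {g : OrthE.O q} {y : W} : y ∈ Mv g ↔ ∃ v, y = g.1 v + v := exists_congr fun _ => eq_comm

theorem orth_fix {g : OrthE.O q} {v : W} (h : g.1 v = v) (x : W) : polar q v (g.1 x + x) = 0 := by
  rw [← sub_zmod2]; exact polar_fix_sub h x

theorem Mv_le {g : OrthE.O q} (g2 : g * g = 1) : Mv g ≤ Fix {g} := fun y hy => by
  obtain ⟨v, rfl⟩ := mem_Mv.1 hy
  rw [mem_Fix1, map_add, sq_apply g2, add_comm]

theorem card_K2 (hc : Nat.card W = 64) (a b : W) : 16 ≤ Nat.card ↥(K q a ⊓ K q b) := by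
  have := ((polarBilin q a).prod (polarBilin q b)).toAddMonoidHom.ker.card_mul_index
  rw [AddSubgroup.index_ker, hc] at this
  have h2 := AddSubgroup.card_le_card_addGroup ((polarBilin q a).prod (polarBilin q b)).toAddMonoidHom.range
  rw [Nat.card_prod, Nat.card_zmod] at h2
  have h3 : Nat.card ((polarBilin q a).prod (polarBilin q b)).toAddMonoidHom.ker = Nat.card ↥(K q a ⊓ K q b) :=
    Nat.card_congr (Equiv.subtypeEquivRight fun v => Prod.mk_eq_zero)
  have := this.ge.trans (Nat.mul_le_mul_left _ h2)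
  omega

theorem card_K (hc : Nat.card W = 64) (a : W) : 32 ≤ Nat.card (K q a) := by
  have := (polarBilin q a).toAddMonoidHom.ker.card_mul_index
  rw [AddSubgroup.index_ker, hc] at this
  have h2 := AddSubgroup.card_le_card_addGroup (polarBilin q a).toAddMonoidHom.range
  rw [Nat.card_zmod] at h2
  have h3 : Nat.card (polarBilin q a).toAddMonoidHom.ker = Nat.card (K q a) := rfl
  have := this.ge.trans (Nat.mul_le_mul_left _ h2)
  omega

variable (nd : Nondeg q) (hc : Nat.card W = 64)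
include nd hc

theorem card_perp (U : Submodule (ZMod 2) W) : Nat.card U * Nat.card (perp q U) = 64 := by
  rw [Ti.card_orth ((nondeg_iff _).1 nd), hc]

omit hc in
theorem fix_eq {g : OrthE.O q} (g2 : g * g = 1) : Fix {g} = perp q (Mv g) := by
  ext y
  rw [mem_Fix1, mem_perp]
  refine ⟨fun h u hu => ?_, fun h => fix_of nd g2 fun v => ?_⟩
  · obtain ⟨v, rfl⟩ := mem_Mv.1 hu
    rw [polar_comm, orth_fix h]
  · rw [polar_comm, h _ (mem_Mv.2 ⟨v, rfl⟩)]

theorem exists_T {g : OrthE.O q} (g2 : g * g = 1) : ∃ T : Submodule (ZMod 2) W, T ≤ Fix {g} ∧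
    (∀ a ∈ T, ∀ b ∈ T, polar q a b = 0) ∧ 8 ≤ Nat.card T := by
  obtain ⟨T, ⟨h1, h2⟩, h3⟩ := exists_maximal_of_wellFoundedGT
    (fun T : Submodule (ZMod 2) W => Mv g ≤ T ∧ ∀ a ∈ T, ∀ b ∈ T, polar q a b = 0)
    ⟨Mv g, le_rfl, fun a ha b hb => ((fix_eq nd g2).le (Mv_le g2 hb)) a ha⟩
  refine ⟨T, fun y hy => (fix_eq nd g2).ge fun u hu => h2 u (h1 hu) y hy, h2, ?_⟩
  have h4 : perp q T ≤ T := fun y hy => h3 (y := T ⊔ Submodule.span (ZMod 2) {y})
    ⟨h1.trans le_sup_left, fun a ha b hb => by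
      obtain ⟨a, a1, _, a2, rfl⟩ := Submodule.mem_sup.1 ha
      obtain ⟨b, b1, _, b2, rfl⟩ := Submodule.mem_sup.1 hb
      obtain ⟨c, rfl⟩ := Submodule.mem_span_singleton.1 a2
      obtain ⟨d, rfl⟩ := Submodule.mem_span_singleton.1 b2
      simp only [polar_add_left, polar_add_right, polar_smul_left, polar_smul_right, h2 a a1 b b1,
        mem_perp.1 hy a a1, polar_comm q y b, mem_perp.1 hy b b1, pself, smul_zero, add_zero]⟩ le_sup_left
    (Submodule.mem_sup_right (Submodule.mem_span_singleton_self y))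
  have h5 := (card_perp nd hc T).ge.trans (Nat.mul_le_mul_left _ (Ti.card_le_sub h4))
  by_contra k
  have := Nat.mul_le_mul (Nat.le_of_lt_succ (not_le.1 k)) (Nat.le_of_lt_succ (not_le.1 k))
  omega

theorem le_card_fix {g : OrthE.O q} (g2 : g * g = 1) : 8 ≤ Nat.card (Fix {g}) := by
  obtain ⟨T, h1, -, h2⟩ := exists_T nd hc g2
  exact h2.trans (Ti.card_le_sub h1)

/-- an involution of rank 3 has a non-singular fixed vector -/
theorem exists_ns {g : OrthE.O q} (g2 : g * g = 1) (h8 : Nat.card (Fix {g}) = 8) : ∃ v, g.1 v = v ∧ q v = 1 := by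
  by_contra k
  have z : ∀ v, polar q (g.1 v + v) v = 0 := fun v => by
    rw [polar_comm, ← q_mov]
    exact (zmod2_cases _).resolve_right fun e => k ⟨_, mem_Fix1.1 (Mv_le g2 (mem_Mv.2 ⟨v, rfl⟩)), e⟩
  have f : ∀ v, Fix {g} ≤ K q (g.1 v + v) := fun v y hy => by
    rw [mem_K, polar_comm, orth_fix (mem_Fix1.1 hy)]
  have ex : ∀ a b, ∃ v ∈ K q a ⊓ K q b, g.1 v + v ≠ 0 := fun a b => by
    by_contra k'
    have := Ti.card_le_sub (show K q a ⊓ K q b ≤ Fix {g} from fun v hv =>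
      mem_Fix1.2 (add_eq_zero_zmod2.1 (by_contra fun e => k' ⟨v, hv, e⟩)))
    have := card_K2 (q := q) hc a b
    omega
  obtain ⟨a, -, a0⟩ := ex 0 0
  obtain ⟨b, hb⟩ := nd.exists_eq a0 1
  obtain ⟨c, ⟨c1, c2⟩, c0⟩ := ex (g.1 a + a) (g.1 b + b)
  obtain ⟨s, hs⟩ := nd.exists_eq c0 1
  have c1' : polar q (g.1 c + c) a = 0 := by rw [polar_sq g2, polar_comm]; exact c1
  have c2' : polar q (g.1 c + c) b = 0 := by rw [polar_sq g2, polar_comm]; exact c2
  have h1 := Ti.two_mul_le_sub (U := Fix {g}) (W := K q (g.1 c + c) ⊓ K q (g.1 a + a) ⊓ K q (g.1 b + b))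
    (lt_of_le_not_ge (le_inf (le_inf (f c) (f a)) (f b)) fun l =>
      c0 (add_eq_zero_zmod2.2 (mem_Fix1.1 (l ⟨⟨z c, c1⟩, c2⟩))))
  have h2 := Ti.two_mul_le_sub (U := K q (g.1 c + c) ⊓ K q (g.1 a + a) ⊓ K q (g.1 b + b))
    (W := K q (g.1 c + c) ⊓ K q (g.1 a + a)) (lt_of_le_not_ge inf_le_left fun l => by
      have := mem_K.1 (l (show a ∈ _ from ⟨c1', z a⟩)).2
      rw [polar_sq g2, hb] at this
      exact one_ne_zero this)
  have h3 := Ti.two_mul_le_sub (U := K q (g.1 c + c) ⊓ K q (g.1 a + a)) (W := K q (g.1 c + c))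
    (lt_of_le_not_ge inf_le_left fun l => by
      have := mem_K.1 (l (show b ∈ _ from c2')).2
      rw [polar_comm, hb] at this
      exact one_ne_zero this)
  have h4 := Ti.two_mul_le_sub (U := K q (g.1 c + c)) (W := ⊤) (lt_of_le_not_ge le_top fun l => by
      have := mem_K.1 (l (Submodule.mem_top (x := s)))
      rw [polar_comm, hs] at this
      exact one_ne_zero this)
  rw [Nat.card_congr Submodule.topEquiv.toEquiv, hc] at h4
  omega

end CfsgLib.SzC.P6x

namespace CfsgLib.SzC.P6x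

open CfsgLib.OrthE CfsgLib.ExtraTwo CfsgLib.G2C CfsgLib.G2C.LAx QuadraticMap

variable {W : Type*} [AddCommGroup W] [Module (ZMod 2) W] [Finite W] {q : QuadraticForm (ZMod 2) W}

/-- an isotropic line `⟨u, x⟩` with `u` singular -/
structure Ln (q : QuadraticForm (ZMod 2) W) (u x : W) : Prop where
  qu : q u = 0
  ux : polar q u x = 0
  u0 : u ≠ 0
  x0 : x ≠ 0
  ne : x ≠ u

theorem exists_ln {a b : W} (hab : polar q a b = 0) (a0 : a ≠ 0) (b0 : b ≠ 0) (ne : b ≠ a) :
    ∃ u x, Ln q u x ∧ K q u ⊓ K q x ≤ K q a ⊓ K q b := by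
  rcases zmod2_cases (q a) with ha | ha
  · exact ⟨a, b, ⟨ha, hab, a0, b0, ne⟩, le_rfl⟩
  rcases zmod2_cases (q b) with hb | hb
  · exact ⟨b, a, ⟨hb, (polar_comm _ _ _).trans hab, b0, a0, ne.symm⟩, (inf_comm _ _).le⟩
  refine ⟨a + b, a, ⟨by rw [Q_add, ha, hb, hab]; rfl, by rw [polar_add_left, pself, polar_comm, hab, add_zero],
    fun e => ne (add_eq_zero_zmod2.1 e).symm, a0, fun e => b0 (left_eq_add.1 e)⟩, fun v hv => ⟨hv.2, ?_⟩⟩
  have h1 := mem_K.1 hv.1
  rwa [polar_add_left, mem_K.1 hv.2, zero_add] at h1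

theorem dich (nd : Nondeg q) (hc : Nat.card W = 64) {g : OrthE.O q} (g2 : g * g = 1) (g1 : g ≠ 1) :
    (∃ u x, Ln q u x ∧ K q u ⊓ K q x ≤ Fix {g}) ∨
      Nat.card (Fix {g}) = 8 ∧ Fix {g} ≤ Mv g ∧ ∃ v, g.1 v = v ∧ q v = 1 := by
  have h1 := card_perp nd hc (Mv g)
  rw [← fix_eq nd g2] at h1
  have h2 := Ti.card_le_sub (Mv_le g2)
  have h8 := le_card_fix nd hc g2
  by_cases k : 8 ≤ Nat.card (Mv g)
  · have := Nat.mul_le_mul_right (Nat.card (Fix {g})) k
    have h3 : Nat.card (Fix {g}) = 8 := by omega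
    exact .inr ⟨h3, (Ti.eq_of_card_sub (Mv_le g2) (h3.le.trans k)).ge, exists_ns nd hc g2 h3⟩
  left
  obtain ⟨a, ha, a0⟩ : ∃ a ∈ Mv g, a ≠ 0 := by
    by_contra k'
    exact g1 (O_ext fun v => add_eq_zero_zmod2.1 (by_contra fun e => k' ⟨_, mem_Mv.2 ⟨v, rfl⟩, e⟩))
  obtain ⟨b, hb, b0, ne, l⟩ : ∃ b ∈ Fix {g}, b ≠ 0 ∧ b ≠ a ∧ Mv g ≤ Submodule.span (ZMod 2) {a, b} := by
    by_cases k' : ∃ b ∈ Mv g, b ≠ 0 ∧ b ≠ a
    · obtain ⟨b, hb, b0, ne⟩ := k'
      refine ⟨b, Mv_le g2 hb, b0, ne, by_contra fun l => k ?_⟩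
      have := Ti.two_mul_le_sub (lt_of_le_not_ge (Submodule.span_le.2 (by
        rintro _ (rfl | rfl); exacts [ha, hb])) l)
      rwa [card_eq, finrank_span2 a0 b0 ne] at this
    · obtain ⟨b, hb, hb'⟩ := SetLike.not_le_iff_exists.1 (show ¬ Fix {g} ≤ Submodule.span (ZMod 2) {a, a} from
        fun l => by
          have := Ti.card_le_sub l
          rw [card_eq (Submodule.span _ _), Set.pair_eq_singleton, finrank_span_singleton a0] at this
          omega)
      refine ⟨b, hb, fun e => hb' (mem_span2.2 (.inl e)), fun e => hb' (mem_span2.2 (.inr (.inl e))), fun m hm => ?_⟩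
      by_contra l
      exact k' ⟨m, hm, fun e => l (mem_span2.2 (.inl e)), fun e => l (mem_span2.2 (.inr (.inl e)))⟩
  obtain ⟨u, x, h3, h4⟩ := exists_ln (((fix_eq nd g2).le hb) a ha) a0 b0 ne
  refine ⟨u, x, h3, fun v hv => (fix_eq nd g2).ge (mem_perp.2 fun m hm => ?_)⟩
  have h5 := mem_K.1 (h4 hv).1
  have h6 := mem_K.1 (h4 hv).2
  rcases mem_span2.1 (l hm) with rfl | rfl | rfl | rfl
  exacts [polar_zero_left _ _, h5, h6, by rw [polar_add_left, h5, h6, add_zero]]

theorem form (nd : Nondeg q) {u x a c : W} (l : Ln q u x) (a1 : polar q a u = 1) (a2 : polar q a x = 0)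
    (c1 : polar q c u = 0) (c2 : polar q c x = 1) {g : OrthE.O q} (hg : K q u ⊓ K q x ≤ Fix {g}) :
    (polar q c (g.1 c + c) = 0 ∨ q x = 1) ∧ ∀ v, g.1 v =
      v + polar q u v • ((polar q c (g.1 a + a) * q x) • u + polar q c (g.1 a + a) • x) +
        polar q x v • (polar q c (g.1 a + a) • u + polar q c (g.1 c + c) • x) := by
  have m : ∀ v, g.1 v + v = polar q a (g.1 v + v) • u + polar q c (g.1 v + v) • x := fun v => by
    rcases mem2 nd (a := u) (b := x) (y := g.1 v + v) (fun s h1 h2 => orth_fix (mem_Fix1.1 (hg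
      ⟨(polar_comm _ _ _).trans h1, (polar_comm _ _ _).trans h2⟩)) v) with e | e | e | e <;>
      simp [e, polar_add_right, a1, a2, c1, c2]
  have xu : polar q x u = 0 := (polar_comm _ _ _).trans l.ux
  have qq : ∀ s t : ZMod 2, q (s • u + t • x) = t * q x := fun s t => by
    rw [Q_add, Q_smul, Q_smul, polar_smul_left, polar_smul_right, l.qu, l.ux]
    generalize q x = y
    revert s t y; decide
  have e1 := q_mov g a
  have e2 := q_mov g c
  have e3 := O_polar g a c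
  rw [eq_add (b := a) (rfl : g.1 a + a = _), eq_add (b := c) (rfl : g.1 c + c = _), polar_add_left,
    polar_add_right q a c, polar_add_right q _ c, polar_comm q (g.1 a + a) c, show polar q (g.1 a + a) (g.1 c + c) = 0 by
      rw [m a, m c]
      simp only [polar_add_left, polar_add_right, polar_smul_left, polar_smul_right, pself, l.ux, xu, smul_zero,
        add_zero], add_zero, add_assoc, add_eq_left, add_eq_zero_zmod2] at e3
  conv_lhs at e1 => rw [m a, qq]
  conv_lhs at e2 => rw [m c, qq]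
  refine ⟨by
    rcases zmod2_cases (polar q c (g.1 c + c)) with k | k
    · exact .inl k
    · rw [k, one_mul] at e2; exact .inr e2, fun v => ?_⟩
  have := mem_Fix1.1 (hg (show v + polar q u v • a + polar q x v • c ∈ K q u ⊓ K q x from ⟨by
    simp [polar_add_right, polar_smul_right, polar_comm q u a, polar_comm q u c, a1, c1, CharTwo.add_self_eq_zero],
    by simp [polar_add_right, polar_smul_right, polar_comm q x a, polar_comm q x c, a2, c2,
      CharTwo.add_self_eq_zero]⟩))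
  rw [map_add, map_add, map_smul, map_smul, eq_add (m a), eq_add (m c), ← e1, e3] at this
  have two : ∀ y : W, (2 : ZMod 2) • y = 0 := fun y => by rw [show (2 : ZMod 2) = 0 from rfl, zero_smul]
  linear_combination (norm := module) this - two (polar q u v • ((polar q c (g.1 a + a) * q x) • u +
    polar q c (g.1 a + a) • x) + polar q x v • (polar q c (g.1 a + a) • u + polar q c (g.1 c + c) • x))

/-- the pointwise stabiliser of `⟨u, x⟩^⊥` -/
theorem stab (nd : Nondeg q) {u x : W} (l : Ln q u x) : ∃ t : OrthE.O q → ZMod 2 × ZMod 2,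
    ∀ g, K q u ⊓ K q x ≤ Fix {g} → (∀ g', K q u ⊓ K q x ≤ Fix {g'} → t g = t g' → g = g') ∧
      (t g = (1, 0) ∨ ∃ y, K q y ≤ Fix {g}) := by
  obtain ⟨a, a1, a2⟩ := sep1 nd l.u0 l.ne.symm
  obtain ⟨c, c2, c1⟩ := sep1 nd l.x0 l.ne
  refine ⟨fun g => (polar q c (g.1 a + a), polar q c (g.1 c + c)), fun g hg => ?_⟩
  obtain ⟨h1, h2⟩ := form nd l a1 a2 c1 c2 hg
  refine ⟨fun g' hg' e => O_ext fun v => ?_, ?_⟩
  · obtain ⟨e1, e2⟩ := Prod.mk.inj e
    rw [h2, (form nd l a1 a2 c1 c2 hg').2 v, e1, e2]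
  rcases zmod2_cases (polar q c (g.1 a + a)) with k | k <;> rcases zmod2_cases (polar q c (g.1 c + c)) with k' | k'
  · exact .inr ⟨0, fun v _ => mem_Fix1.2 (by rw [h2, k, k']; simp)⟩
  · exact .inr ⟨x, fun v hv => mem_Fix1.2 (by rw [h2, k, mem_K.1 hv]; simp)⟩
  · exact .inl (Prod.ext k k')
  · refine .inr ⟨u + x, fun v hv => mem_Fix1.2 ?_⟩
    have := mem_K.1 hv
    rw [polar_add_left, add_eq_zero_zmod2] at this
    rw [h2, k, k', h1.resolve_left (k' ▸ one_ne_zero), this, one_mul, aa'']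

/-- the stabiliser of an anisotropic subspace is not transitive on the quotient -/
theorem exists_uv (nd : Nondeg q) (hc : Nat.card W = 64) {Y : Submodule (ZMod 2) W}
    (hY : ∀ y ∈ Y, q y = 0 → y = 0) : ∃ u v, u ∉ Y ∧ v ∉ Y ∧
    ∀ e : OrthE.O q, (∀ y ∈ Y, e.1 y = y) → e.1 u + v ∉ Y := by
  have h1 : Nat.card Y ≤ 4 := aniso_le (q := q) Y.toAddSubgroup hY
  have h2 := card_perp nd hc Y
  set P := perp q Y with hP
  have h3 : 16 ≤ Nat.card P := by
    have := Nat.mul_le_mul_right (Nat.card P) h1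
    omega
  obtain ⟨u, hu, u0, u1⟩ : ∃ u ∈ P, q u = 0 ∧ u ≠ 0 := by
    by_contra k
    have : Nat.card P ≤ 4 := aniso_le (q := q) P.toAddSubgroup fun w a b => by_contra fun c => k ⟨w, a, b, c⟩
    omega
  have eu : ∀ e : OrthE.O q, (∀ y ∈ Y, e.1 y = y) → e.1 u ∈ P := fun e he y hy => by
    have := O_polar e y u
    rw [he y hy] at this
    exact this.trans (hu y hy)
  by_cases k : ∃ i ∈ Y, i ∈ P ∧ i ≠ 0
  · obtain ⟨i, a, b, c⟩ := k
    obtain ⟨v, hv⟩ := nd.exists_eq c 1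
    refine ⟨u, v, fun k => u1 (hY u k u0), fun k => zero_ne_one ((b v k).symm.trans hv), fun e he k => ?_⟩
    have h4 : polar q (e.1 u + v) i = 0 := b _ k
    have h5 : polar q i (e.1 u) = 0 := eu e he i a
    rw [polar_add_left, polar_comm, h5, hv, zero_add] at h4
    exact one_ne_zero h4
  obtain ⟨v, hv, v1⟩ : ∃ v ∈ P, q v = 1 := by
    by_contra k'
    have z : ∀ v ∈ P, q v = 0 := fun v hv => (zmod2_cases _).resolve_right fun e => k' ⟨v, hv, e⟩
    have h4 := Ti.card_le_sub (show P ≤ perp q P from fun a ha b hb => by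
      have := z _ (add_mem hb ha)
      rwa [Q_add, z a ha, z b hb, zero_add, zero_add] at this)
    have h5 := card_perp nd hc P
    have := Nat.mul_le_mul h3 (h3.trans h4)
    omega
  refine ⟨u, v, fun k => u1 (hY u k u0), fun k' => (zero_ne_one' (ZMod 2)) ?_,
    fun e he k' => (zero_ne_one' (ZMod 2)) ?_⟩
  · rw [← v1, show v = 0 from by_contra fun c => k ⟨v, k', hv, c⟩, map_zero]
  · rw [← v1, ← add_eq_zero_zmod2.1 (by_contra fun c => k ⟨_, k', add_mem (eu e he) hv, c⟩), O_map, u0]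

end CfsgLib.SzC.P6x
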