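import Cfsg.Agent.Lib.SzC.Defs
import Cfsg.Agent.Lib.SzC.P6x

/-! Package P6: `C(z) ≤ N(Q)` (plans/SZC.md) -/

set_option autoImplicit false
set_option linter.unusedSectionVars false

namespace CfsgLib.SzC

open Subgroup Cfsg CfsgLib.Tech CfsgLib.StdR2 CfsgLib.Classical CfsgLib.ExtraTwo
open scoped commutatorElement

variable {G : Type*} [Group G] [Finite G] {f : Fd G}
  {Q O : Subgroup G} {z : G}

namespace P6x

open CfsgLib.OrthE CfsgLib.G2C CfsgLib.G2C.LAx QuadraticMap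

variable {W : Type*} [AddCommGroup W] [Module (ZMod 2) W] [Finite W] {q : QuadraticForm (ZMod 2) W}
  {π π' : G → W} {ρ ρ' : G → OrthE.O q} {Q' : Subgroup G} {d y : G} {v : W}

/-- the induced isometries -/
theorem exists_ρ (c : Coord Q z q π) : ∃ ρ : G → OrthE.O q,
    ∀ g ∈ normalizer (Q : Set G), ∀ u ∈ Q, (ρ g).1 (π u) = π (g * u * g⁻¹) := by
  classical
  choose s hs hs' using c.surj
  have key : ∀ g ∈ normalizer (Q : Set G), ∀ x ∈ Q, π (g * s (π x) * g⁻¹) = π (g * x * g⁻¹) := fun g hg x hx => by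
    rcases (c.eq_iff hx (hs (π x))).1 (hs' _).symm with e | e <;> rw [e]
    rw [← conj_mul, qb_N_z c.es hg, c.map_mul_z (conj_mem_of_mem_normalizer hg hx)]
  let f : ∀ g ∈ normalizer (Q : Set G), W →ₗ[ZMod 2] W := fun g hg =>
    linOfAdd (fun v => π (g * s v * g⁻¹)) fun a b => by
      rw [← c.map_mul _ (conj_mem_of_mem_normalizer hg (hs a)) _ (conj_mem_of_mem_normalizer hg (hs b)), conj_mul,
        ← key g hg _ (mul_mem (hs a) (hs b)), c.map_mul _ (hs a) _ (hs b), hs', hs']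
  have hf : ∀ g hg, ∀ x ∈ Q, f g hg (π x) = π (g * x * g⁻¹) := key
  have inv : ∀ g hg k hk, g * k = 1 → ∀ v, f g hg (f k hk v) = v := fun g hg k hk e v => by
    rw [← hs' v, hf k hk _ (hs v), hf g hg _ (conj_mem_of_mem_normalizer hk (hs v)),
      show g * (k * s v * k⁻¹) * g⁻¹ = g * k * s v * (g * k)⁻¹ by group, e]
    simp
  refine ⟨fun g => if hg : g ∈ normalizer (Q : Set G) then mkO (f g hg) (f g⁻¹ (inv_mem hg))
    (inv _ hg _ (inv_mem hg) (mul_inv_cancel g)) (inv _ (inv_mem hg) _ hg (inv_mul_cancel g)) (fun v => ?_)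
    else 1, fun g hg u hu => ?_⟩
  · rw [← hs' v, hf g hg _ (hs v)]
    apply zmod2_eq_of_iff
    rw [c.sq _ (conj_mem_of_mem_normalizer hg (hs v)), c.sq _ (hs v), conj_mul, conj_eq_one_iff]
  · simp only [dif_pos hg]
    exact hf g hg u hu

/-- an extraspecial group of order `2^7` with the action of its normaliser -/
structure QZ (Q : Subgroup G) (z : G) (q : QuadraticForm (ZMod 2) W) (π : G → W) (ρ : G → OrthE.O q) : Prop where
  co : Coord Q z q π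
  hc : Nat.card W = 64
  act : ∀ g ∈ normalizer (Q : Set G), ∀ u ∈ Q, (ρ g).1 (π u) = π (g * u * g⁻¹)
  cen : ∀ g, (∀ u ∈ Q, Commute g u) → g ^ 4 = 1 → g ∈ Q

theorem exists_QZ (h : QY Q O z) : ∃ (n : ℕ) (q : QuadraticForm (ZMod 2) (Fin n → ZMod 2))
    (π : G → (Fin n → ZMod 2)) (ρ : G → OrthE.O q), QZ Q z q π ρ := by
  obtain ⟨n, q, π, c⟩ := h.es.exists_coord
  obtain ⟨ρ, hρ⟩ := exists_ρ c
  refine ⟨n, q, π, ρ, c, by have := c.card_eq; rw [h.card] at this; omega, hρ, fun g hg g4 => ?_⟩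
  obtain ⟨o, ho, e⟩ := (h.cQ g).1 hg
  have c := ((h.cQ o).2 ⟨o, ho, .inl rfl⟩ z h.es.mem).symm
  have o4 : o ^ 4 = 1 := by
    rcases e with rfl | rfl
    · exact g4
    · rwa [c.mul_pow, h.es.pow_four h.es.mem, one_mul] at g4
  have o1 : o = 1 := orderOf_eq_one_iff.1 (Nat.eq_one_of_dvd_coprimes (Nat.Coprime.pow_right 2
    (Nat.coprime_two_right.2 (h.oddO.of_dvd_nat (orderOf_dvd_natCard O ho)))) dvd_rfl (orderOf_dvd_of_pow_eq_one o4))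
  rcases e with rfl | rfl <;> simp [o1, h.es.mem]

namespace QZ

variable (h : QZ Q z q π ρ)
include h

theorem nd : Nondeg q := fun _ => h.co.eq_zero_of_polar

theorem ext' {a b : OrthE.O q} (e : ∀ x ∈ Q, a.1 (π x) = b.1 (π x)) : a = b :=
  O_ext fun v => by obtain ⟨x, hx, rfl⟩ := h.co.surj v; exact e x hx

theorem ρ_mul {g k : G} (hg : g ∈ normalizer (Q : Set G)) (hk : k ∈ normalizer (Q : Set G)) :
    ρ (g * k) = ρ g * ρ k := h.ext' fun x hx => by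
  rw [O_mul_apply, h.act k hk x hx, h.act g hg _ (conj_mem_of_mem_normalizer hk hx), h.act _ (mul_mem hg hk) x hx]
  congr 1; group

theorem ρ_Q {u : G} (hu : u ∈ Q) : ρ u = 1 := h.ext' fun x hx => by
  rw [h.act u (le_normalizer hu) x hx]
  exact ((h.co.eq_iff hx (conj_mem_of_mem_normalizer (le_normalizer hu) hx)).2 (h.co.es.conj hx hu)).symm

theorem ρ_inv {g : G} (hg : g ∈ normalizer (Q : Set G)) : ρ g⁻¹ = (ρ g)⁻¹ :=
  eq_inv_of_mul_eq_one_left (by rw [← h.ρ_mul (inv_mem hg) hg, inv_mul_cancel, h.ρ_Q (one_mem _)])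

theorem ker2 {g : G} (hg : g ∈ normalizer (Q : Set G)) (e : ρ g = 1) (g2 : g * g = 1 ∨ g * g = z) : g ∈ Q := by
  have k : ∀ x ∈ Q, g * x * g⁻¹ = x ∨ g * x * g⁻¹ = x * z := fun x hx =>
    (h.co.eq_iff hx (conj_mem_of_mem_normalizer hg hx)).1 (by rw [← h.act g hg x hx, e]; rfl)
  obtain ⟨u, hu, hc⟩ := h.co.es.inner_conj k
  refine (mul_mem_cancel_left (inv_mem hu)).1 (h.cen _ (fun y hy => (hc y hy).symm) ?_)
  have c : Commute u (u⁻¹ * g) := hc u hu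
  have c' : Commute u⁻¹ g := by simpa using ((Commute.refl u).mul_right c).inv_left
  have g4 : g ^ 4 = 1 := by
    rw [show 4 = 2 * 2 from rfl, pow_mul, pow_two g]
    rcases g2 with e | e <;> simp [e, pow_two, h.co.es.mul_self]
  rw [c'.mul_pow, g4, h.co.es.pow_four (inv_mem hu), one_mul]

theorem conj {g : G} (hg : Commute g z) : QZ (cj g Q) z q (fun y => π (g⁻¹ * y * g)) (fun y => ρ (g⁻¹ * y * g)) := by
  have ez : g * z * g⁻¹ = z := by rw [hg.eq, mul_inv_cancel_right]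
  refine ⟨⟨ez ▸ h.co.es.map_conj g, fun x hx y hy => ?_, fun v => ?_, fun x hx => ?_, fun x hx => ?_⟩, h.hc,
    fun k hk x hx => ?_, fun k hk k4 => mem_cj.2 (h.cen _ (fun u hu => ?_) ?_)⟩
  · rw [← h.co.map_mul _ (mem_cj.1 hx) _ (mem_cj.1 hy)]; congr 1; group
  · obtain ⟨x, hx, rfl⟩ := h.co.surj v
    exact ⟨g * x * g⁻¹, ⟨x, hx, rfl⟩, by simp [mul_assoc]⟩
  · rw [h.co.ker _ (mem_cj.1 hx)]
    exact or_congr (by rw [← conj_eq_one_iff (a := g⁻¹) (b := x), inv_inv])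
      ⟨fun e => by rw [← ez, ← e]; group, fun e => by rw [e, mul_assoc, ← hg.eq]; group⟩
  · rw [h.co.sq _ (mem_cj.1 hx), show g⁻¹ * x * g * (g⁻¹ * x * g) = g⁻¹ * (x * x) * g⁻¹⁻¹ by group, conj_eq_one_iff]
  · rw [← cj_normalizer, mem_cj] at hk
    rw [h.act _ hk _ (mem_cj.1 hx)]
    congr 1; group
  · simpa [mul_assoc] using (hk _ (conj_mem_cj.2 hu)).conj g⁻¹
  · rw [show g⁻¹ * k * g = g⁻¹ * k * g⁻¹⁻¹ by rw [inv_inv], conj_pow, k4]; group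

theorem π_cm {g u : G} (hg : g ∈ normalizer (Q : Set G)) (hu : u ∈ Q) : π ⁅u, g⁆ = (ρ g).1 (π u) + π u := by
  rw [show ⁅u, g⁆ = u * (g * u⁻¹ * g⁻¹) by simp only [commutatorElement_def, mul_assoc],
    h.co.map_mul u hu _ (conj_mem_of_mem_normalizer hg (inv_mem hu)), ← h.act g hg _ (inv_mem hu),
    h.co.map_inv hu, add_comm]

theorem cm_iff {g u : G} (hg : g ∈ normalizer (Q : Set G)) (hu : u ∈ Q) :
    ⁅u, g⁆ ∈ zpowers z ↔ (ρ g).1 (π u) = π u := by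
  rw [h.co.es.mem_zpowers, ← h.co.ker _ (P6.cm_Q hg hu), h.π_cm hg hu, add_eq_zero_zmod2]

theorem card_z : Nat.card (zpowers z) = 2 := by rw [Nat.card_zpowers, h.co.es.orderOf_eq]

theorem exists_sing {U : Submodule (ZMod 2) W} (hU : 4 < Nat.card U) :
    ∃ u ∈ Q, π u ∈ U ∧ u * u = 1 ∧ u ∉ zpowers z := by
  by_contra k
  refine hU.not_ge (aniso_le (q := q) U.toAddSubgroup fun w hw e => by_contra fun k' => k ?_)
  obtain ⟨u, hu, rfl⟩ := h.co.surj w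
  exact ⟨u, hu, hw, (h.co.sq u hu).1 e, fun k => k' ((h.co.ker u hu).2 (h.co.es.mem_zpowers.1 k))⟩

end QZ

/-- two conjugates of `Q` with the same centre -/
structure Pr (Q Q' : Subgroup G) (z : G) (q : QuadraticForm (ZMod 2) W) (π π' : G → W) (ρ ρ' : G → OrthE.O q) :
    Prop where
  h : QZ Q z q π ρ
  h' : QZ Q' z q π' ρ'
  sn : SN Q z
  sn' : SN Q' z
  an : ∀ u ∈ Q, u ∈ Q' → u * u = 1 → u ∈ zpowers z

open P6 (Sg cm_Q)

namespace Pr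

variable (t : Pr Q Q' z q π π' ρ ρ')
include t

theorem symm : Pr Q' Q z q π' π ρ' ρ := ⟨t.h', t.h, t.sn', t.sn, fun u a b => t.an u b a⟩

/-- the image of `Q ∩ N(Q')` -/
abbrev B : Submodule (ZMod 2) W := t.h.co.img (normalizer (Q' : Set G))

theorem aniso (hv : v ∈ t.h.co.img Q') (e : q v = 0) : v = 0 := by
  obtain ⟨u, a, b, rfl⟩ := hv
  exact (t.h.co.ker u b).2 (t.h.co.es.mem_zpowers.1 (t.an u b a ((t.h.co.sq u b).1 e)))

theorem cardI : Nat.card ↥(Q ⊓ Q') ≤ 8 := by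
  have := aniso_le (q := q) (t.h.co.img (Q ⊓ Q')).toAddSubgroup fun _ ⟨u, a, b, e⟩ => t.aniso ⟨u, a.2, b, e⟩
  rw [t.h.co.card_img inf_le_left ⟨t.h.co.es.mem, t.h'.co.es.mem⟩]
  exact Nat.mul_le_mul_left 2 this

theorem cardB : Nat.card ↥(Q ⊓ normalizer (Q' : Set G)) = 2 * Nat.card t.B := by
  rw [t.h.co.card_img inf_le_left ⟨t.h.co.es.mem, le_normalizer t.h'.co.es.mem⟩,
    show t.h.co.img (Q ⊓ normalizer (Q' : Set G)) = t.B from le_antisymm (fun _ ⟨u, a, b⟩ => ⟨u, a.2, b⟩)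
      fun _ ⟨u, a, b⟩ => ⟨u, ⟨b.1, a⟩, b⟩]

theorem mem_Q (hy : y ∈ Q') (hn : y ∈ normalizer (Q : Set G)) (e : ρ y = 1) : y ∈ Q :=
  t.h.ker2 hn e (t.h'.co.es.sq hy)

theorem sq1 (hy : y ∈ Q') (hn : y ∈ normalizer (Q : Set G)) : ρ y * ρ y = 1 := by
  rw [← t.h.ρ_mul hn hn]
  exact t.h.ρ_Q ((t.h'.co.es.sq hy).elim (· ▸ one_mem _) (· ▸ t.h.co.es.mem))

theorem fixB (s : Sg Q Q' z d) {u : G} (hu : u ∈ Q) (e : (ρ d).1 (π u) = π u) : u ∈ normalizer (Q' : Set G) :=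
  t.sn' d s.m s.sq (fun k => s.ne (k ▸ one_mem _)) (fun k => s.ne (k ▸ mem_zpowers _)) u (t.h.co.es.comm_z u hu) (by
    simpa only [commutatorElement_def, inv_mul_cancel_right] using
      mul_mem (zpowers_le.2 t.h'.co.es.mem ((t.h.cm_iff s.n hu).2 e)) s.m)

theorem fixB' (s : Sg Q Q' z d) : Fix {ρ d} ≤ t.B := fun v e => by
  obtain ⟨u, hu, rfl⟩ := t.h.co.surj v
  exact ⟨u, t.fixB s hu (mem_Fix1.1 e), hu, rfl⟩

theorem mov (hy : y ∈ Q') (hn : y ∈ normalizer (Q : Set G)) (e : ¬ t.B ≤ Fix {ρ y}) :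
    ∃ i ∈ t.h.co.img Q', i ≠ 0 ∧ (∀ j ∈ t.h.co.img Q', j = 0 ∨ j = i) ∧ (ρ y).1 i = i ∧
      ∀ v ∈ t.B, (ρ y).1 v = v + polar q v i • i := by
  obtain ⟨v, hv, e⟩ := SetLike.not_le_iff_exists.1 e
  rw [mem_Fix1] at e
  have m : ∀ v ∈ t.B, (ρ y).1 v + v ∈ t.h.co.img Q' := by
    rintro _ ⟨u, a, b, rfl⟩
    refine ⟨_, ?_, cm_Q hn b, t.h.π_cm hn b⟩
    rw [← commutatorElement_inv]
    exact inv_mem (cm_Q a hy)
  have f : ∀ j ∈ t.h.co.img Q', (ρ y).1 j = j := by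
    rintro _ ⟨u, a, b, rfl⟩
    exact (t.h.cm_iff hn b).1 (t.h.co.es.mem_zpowers.2 (t.h'.co.es.commutator a hy))
  have q1 : ∀ j ∈ t.h.co.img Q', j ≠ 0 → q j = 1 := fun j hj k => zmod2_ne_zero.1 fun e => k (t.aniso hj e)
  have i0 : (ρ y).1 v + v ≠ 0 := fun k => e (add_eq_zero_zmod2.1 k)
  have two : ∀ j ∈ t.h.co.img Q', j = 0 ∨ j = (ρ y).1 v + v := fun j hj => or_iff_not_imp_left.2 fun k =>
    add_eq_zero_zmod2.1 (t.aniso (add_mem hj (m v hv)) (by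
      rw [Q_add, q1 j hj k, q1 _ (m v hv) i0, orth_fix (f j hj), add_zero]; rfl))
  refine ⟨_, m v hv, i0, two, f _ (m v hv), fun x hx => ?_⟩
  rcases two _ (m x hx) with k | k
  · rw [add_eq_zero_zmod2] at k
    rw [orth_fix k, zero_smul, add_zero, k]
  · have k' : (ρ y).1 x = x + ((ρ y).1 v + v) := by rw [← k, add_comm ((ρ y).1 x), aa']
    have := O_map (ρ y) x
    rw [k', Q_add, q1 _ (m v hv) i0, add_assoc, add_eq_left, add_eq_zero_zmod2] at this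
    rw [← this, one_smul, k']

/-- the product of two elements that move `B` fixes `B` -/
theorem mov2 {y' : G} (hy : y ∈ Q' ⊓ normalizer (Q : Set G)) (hy' : y' ∈ Q' ⊓ normalizer (Q : Set G))
    (e : ¬ t.B ≤ Fix {ρ y}) (e' : ¬ t.B ≤ Fix {ρ y'}) : t.B ≤ Fix {ρ (y * y')} := fun v hv => by
  obtain ⟨i, -, -, two, f1, f⟩ := t.mov hy.1 hy.2 e
  obtain ⟨j, j1, j0, -, -, f'⟩ := t.mov hy'.1 hy'.2 e'
  obtain rfl := (two j j1).resolve_left j0
  rw [mem_Fix1, t.h.ρ_mul hy.2 hy'.2, O_mul_apply, f' v hv, map_add, map_smul, f1, f v hv, aa'']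

theorem ne1 (s : Sg Q Q' z d) : ρ d ≠ 1 := fun k => s.ne (t.an d (t.mem_Q s.m s.n k) s.m s.sq)

theorem inverts (s : Sg Q Q' z d) {w : G} (hw : w ∈ Q) (e : π w ∈ Mv (ρ d)) : d * w * d⁻¹ = w⁻¹ := by
  obtain ⟨x, k⟩ := mem_Mv.1 e
  obtain ⟨c, hc, rfl⟩ := t.h.co.surj x
  have i := Ti.inverts (c := c) (d := d) (by rw [s.sq, one_mul, mul_one])
  rcases (t.h.co.eq_iff (cm_Q s.n hc) hw).1 ((t.h.π_cm s.n hc).trans k.symm) with rfl | rfl
  · exact i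
  · rw [mul_inv_rev, ← i, t.h.co.es.inv_eq, ← t.h.co.es.comm_z _ (conj_mem_of_mem_normalizer s.n (cm_Q s.n hc)),
      mul_assoc (d * _) d⁻¹, t.h'.co.es.comm_z _ (inv_mem s.m)]
    group

theorem line (s : Sg Q Q' z d) : ∃ a b, Sg Q' Q z a ∧ Sg Q' Q z b ∧ Sg Q' Q z (a * b) := by
  obtain ⟨T, h1, h2, h3⟩ := exists_T t.h.nd t.h.hc (t.sq1 s.m s.n)
  have c := t.h.co
  have sq : ∀ a ∈ c.sub T, ∀ b ∈ c.sub T, q (π (a * b)) = q (π a) + q (π b) := fun a ha b hb => by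
    rw [c.map_mul a ha.1 b hb.1, Q_add, h2 _ ha.2 _ hb.2, add_zero]
  let N : Subgroup G :=
    { carrier := {a | a ∈ c.sub T ∧ q (π a) = 0}
      one_mem' := ⟨one_mem _, by rw [c.map_one, map_zero]⟩
      mul_mem' := fun ha hb => ⟨mul_mem ha.1 hb.1, by rw [sq _ ha.1 _ hb.1, ha.2, hb.2, add_zero]⟩
      inv_mem' := fun ha => ⟨inv_mem ha.1, by rw [c.map_inv ha.1.1, ha.2]⟩ }
  have h4 : Nat.card (c.sub T) ≤ 2 * Nat.card N := by
    by_cases k : c.sub T ≤ N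
    · exact Ti.card_le_two (x := 1) fun a ha => .inl (k ha)
    obtain ⟨x, hx, hx'⟩ := SetLike.not_le_iff_exists.1 k
    exact Ti.card_le_two (x := x) fun a ha => or_iff_not_imp_left.2 fun k => ⟨mul_mem ha hx, by
      rw [sq a ha x hx, zmod2_ne_zero.1 fun e => k ⟨ha, e⟩, zmod2_ne_zero.1 fun e => hx' ⟨hx, e⟩]; rfl⟩
  rw [c.card_sub] at h4
  have ex : ∀ x, ∃ a ∈ N, a ∉ zpowers z ∧ a * x ∉ zpowers z := fun x => by
    by_contra k
    have := Ti.card_le_two (U := N) (N := zpowers z) (x := x) fun a ha => by_contra fun k' => k ⟨a, ha, not_or.1 k'⟩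
    rw [t.h.card_z] at this
    omega
  obtain ⟨b, hb, b1, -⟩ := ex 1
  obtain ⟨a, ha, a1, a2⟩ := ex b
  have i : ∀ a ∈ N, a ∉ zpowers z → Sg Q' Q z a := fun a ha a1 =>
    ⟨ha.1.1, t.fixB s ha.1.1 (mem_Fix1.1 (h1 ha.1.2)), (c.sq a ha.1.1).1 ha.2, a1⟩
  exact ⟨a, b, i a ha a1, i b hb b1, i _ (mul_mem ha hb) a2⟩

theorem exists_P {a b : G} (sa : Sg Q Q' z a) (sb : Sg Q Q' z b) (sc : Sg Q Q' z (a * b)) :
    ∃ u x, Ln q u x ∧ K q u ⊓ K q x ≤ t.B := by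
  by_contra k
  have r : ∀ {d}, Sg Q Q' z d → Nat.card (Fix {ρ d}) = 8 ∧ Fix {ρ d} ≤ Mv (ρ d) ∧ ∃ v, (ρ d).1 v = v ∧ q v = 1 :=
    fun s => (dich t.h.nd t.h.hc (t.sq1 s.m s.n) (t.ne1 s)).resolve_left
      fun ⟨u, x, h1, h2⟩ => k ⟨u, x, h1, h2.trans (t.fixB' s)⟩
  have c8 : Nat.card t.B ≤ 8 := by
    by_cases ha : t.B ≤ Fix {ρ a}
    · exact (Ti.card_le_sub ha).trans (r sa).1.le
    by_cases hb : t.B ≤ Fix {ρ b}
    · exact (Ti.card_le_sub hb).trans (r sb).1.le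
    exact (Ti.card_le_sub (t.mov2 ⟨sa.m, sa.n⟩ ⟨sb.m, sb.n⟩ ha hb)).trans (r sc).1.le
  obtain ⟨v, h1, h2⟩ := (r sa).2.2
  obtain ⟨w, hw, rfl⟩ := t.h.co.surj v
  have i : ∀ {d}, Sg Q Q' z d → d * w * d⁻¹ = w⁻¹ := fun s => t.inverts s hw ((r s).2.1
    ((Ti.eq_of_card_sub (t.fixB' s) (c8.trans (r s).1.ge)).ge (t.fixB' sa (mem_Fix1.2 h1))))
  have := i sc
  rw [show a * b * w * (a * b)⁻¹ = (a * (b * w * b⁻¹)⁻¹ * a⁻¹)⁻¹ by group, i sb, inv_inv, i sa, inv_inv] at this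
  rw [(t.h.co.sq w hw).2 (mul_eq_one_iff_eq_inv.2 this)] at h2
  exact zero_ne_one h2

theorem bound {u x : W} (l : Ln q u x) (hP : K q u ⊓ K q x ≤ t.B) :
    Nat.card ↥(Q' ⊓ normalizer (Q : Set G)) ≤ 32 := by
  let B : Subgroup G :=
    { carrier := {y | y ∈ Q' ⊓ normalizer (Q : Set G) ∧ t.B ≤ Fix {ρ y}}
      one_mem' := ⟨one_mem _, fun v _ => mem_Fix1.2 (by rw [t.h.ρ_Q (one_mem _)]; rfl)⟩
      mul_mem' := fun ha hb => ⟨mul_mem ha.1 hb.1, fun v hv => mem_Fix1.2 (by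
        rw [t.h.ρ_mul ha.1.2 hb.1.2, O_mul_apply, mem_Fix1.1 (hb.2 hv), mem_Fix1.1 (ha.2 hv)])⟩
      inv_mem' := fun ha => ⟨inv_mem ha.1, fun v hv => mem_Fix1.2 (by
        rw [t.h.ρ_inv ha.1.2, O_inv_apply_eq _ (mem_Fix1.1 (ha.2 hv))])⟩ }
  obtain ⟨J, hJ, cJ⟩ := Ti.exists_img (P := B) (f := ρ) fun a ha b hb => t.h.ρ_mul ha.1.2 hb.1.2
  have h1 := cJ (Q ⊓ Q') (fun y hy => ⟨⟨hy.2, le_normalizer hy.1⟩, fun v _ => mem_Fix1.2 (by
    rw [t.h.ρ_Q hy.1]; rfl)⟩) fun y hy => ⟨fun e => ⟨t.mem_Q hy.1.1 hy.1.2 e, hy.1.1⟩, fun e => t.h.ρ_Q e.1⟩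
  obtain ⟨τ, hτ⟩ := stab t.h.nd l
  have fJ : ∀ e : J, K q u ⊓ K q x ≤ Fix {e.1} := fun e => by
    obtain ⟨y, hy, e'⟩ := (hJ e).1 e.2
    exact e' ▸ hP.trans hy.2
  have h2 : Nat.card J ≤ 4 := by
    simpa using Nat.card_le_card_of_injective (fun e : J => τ e) fun a b e =>
      Subtype.ext ((hτ _ (fJ a)).1 _ (fJ b) e)
  by_cases k : Q' ⊓ normalizer (Q : Set G) ≤ B
  · exact (card_le_of_le k).trans (h1.le.trans (Nat.mul_le_mul h2 t.cardI))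
  obtain ⟨y, hy, hy'⟩ := SetLike.not_le_iff_exists.1 k
  obtain ⟨i, ⟨x, x1, x2, rfl⟩, i0, two, -⟩ := t.mov hy.1 hy.2 fun k => hy' ⟨hy, k⟩
  have h3 : Nat.card ↥(Q ⊓ Q') ≤ 2 * Nat.card (zpowers z) := Ti.card_le_two (x := x) fun a ha =>
    (two _ ⟨a, ha.2, ha.1, rfl⟩).imp (fun k => t.h.co.es.mem_zpowers.2 ((t.h.co.ker a ha.1).1 k)) fun k =>
      t.h.co.es.mem_zpowers.2 ((t.h.co.ker _ (mul_mem ha.1 x2)).1 (by rw [t.h.co.map_mul a ha.1 x x2, k, aa]))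
  have h4 : Nat.card ↥(Q' ⊓ normalizer (Q : Set G)) ≤ 2 * Nat.card B := Ti.card_le_two (x := y) fun a ha =>
    or_iff_not_imp_left.2 fun k => ⟨mul_mem ha hy, t.mov2 ha hy (fun e => k ⟨ha, e⟩) fun e => hy' ⟨hy, e⟩⟩
  rw [t.h.card_z] at h3
  have := Nat.mul_le_mul h2 h3
  omega

theorem false (s : Sg Q Q' z d) : False := by
  obtain ⟨a', b', sa', sb', sc'⟩ := t.line s
  obtain ⟨a, b, sa, sb, sc⟩ := t.symm.line sa'
  obtain ⟨u, x, l, hP⟩ := t.exists_P sa sb sc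
  obtain ⟨u', x', l', hP'⟩ := t.symm.exists_P sa' sb' sc'
  have c16 : Nat.card t.B ≤ 16 := by
    have := t.symm.bound l' hP'
    rw [t.cardB] at this
    omega
  obtain ⟨τ, hτ⟩ := stab t.h.nd l
  have fx : ∀ {d}, Sg Q Q' z d → t.B ≤ Fix {ρ d} → τ (ρ d) = (1, 0) := fun s e =>
    (hτ _ (hP.trans e)).2.resolve_right fun ⟨y, hy⟩ => by
      have := (card_K t.h.hc y).trans (Ti.card_le_sub (hy.trans (t.fixB' s)))
      omega
  have mv : ∀ {d}, Sg Q Q' z d → ¬ t.B ≤ Fix {ρ d} → ∃ i ∈ t.h.co.img Q', i ≠ 0 ∧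
      (∀ j ∈ t.h.co.img Q', j = 0 ∨ j = i) ∧ t.B ≤ Fix {ρ d * OrthE.refl q i} ∧ τ (ρ d * OrthE.refl q i) = (1, 0) :=
    fun {d} s e => by
      obtain ⟨i, h1, h2, h3, h4, h5⟩ := t.mov s.m s.n e
      have q1 : q i = 1 := zmod2_ne_zero.1 fun e => h2 (t.aniso h1 e)
      have h6 : t.B ≤ Fix {ρ d * OrthE.refl q i} := fun v hv => mem_Fix1.2 (by
        rw [O_mul_apply, reflf q1, map_add, map_smul, h4, h5 v hv, aa''])
      refine ⟨i, h1, h2, h3, h6, (hτ _ (hP.trans h6)).2.resolve_right fun ⟨y, hy⟩ => e ?_⟩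
      have h7 : K q y ⊓ K q i ≤ Fix {ρ d} := fun v hv => mem_Fix1.2 (by
        have := mem_Fix1.1 (hy hv.1)
        rwa [O_mul_apply, reflf q1, polar_comm, mem_K.1 hv.2, zero_smul, add_zero] at this)
      exact (Ti.eq_of_card_sub (h7.trans (t.fixB' s)) (c16.trans (card_K2 t.h.hc y i))).ge.trans h7
  have same : ∀ {d d'}, Sg Q Q' z d → Sg Q Q' z d' → (t.B ≤ Fix {ρ d} ↔ t.B ≤ Fix {ρ d'}) → ρ d = ρ d' :=
    fun {d d'} s s' e => by
      by_cases k : t.B ≤ Fix {ρ d}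
      · exact (hτ _ (hP.trans k)).1 _ (hP.trans (e.1 k)) ((fx s k).trans (fx s' (e.1 k)).symm)
      obtain ⟨i, -, -, two, h1, h2⟩ := mv s k
      obtain ⟨j, j1, j0, -, h3, h4⟩ := mv s' fun k' => k (e.2 k')
      obtain rfl := (two j j1).resolve_left j0
      exact mul_right_cancel ((hτ _ (hP.trans h1)).1 _ (hP.trans h3) (h2.trans h4.symm))
  have m := t.h.ρ_mul sa.n sb.n
  by_cases k : t.B ≤ Fix {ρ a} ↔ t.B ≤ Fix {ρ b}
  · exact t.ne1 sc (by rw [m, same sa sb k, t.sq1 sb.m sb.n])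
  by_cases k' : t.B ≤ Fix {ρ a} ↔ t.B ≤ Fix {ρ (a * b)}
  · exact t.ne1 sb (mul_eq_left.1 (m.symm.trans (same sa sc k').symm))
  · exact t.ne1 sa (mul_eq_right.1 (m.symm.trans (same sb sc (by tauto)).symm))

end Pr

theorem QZ.lemA (h : QZ Q z q π ρ) (sn : SN Q z) {g d : G} (hg : Commute g z) (hd : d ∈ cj g Q)
    (d2 : d * d = 1) (d1 : d ∉ zpowers z) (hn : d ∈ normalizer (Q : Set G)) :
    g ∈ normalizer (Q : Set G) := by
  refine by_contra fun k => Pr.false ⟨h, h.conj hg, sn, P6.sn_conj sn hg, fun u a b c => by_contra fun k' => k ?_⟩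
    ⟨hd, hn, d2, d1⟩
  refine inv_mem_iff.1 (sn u a c (fun e => k' (e ▸ one_mem _)) (fun e => k' (e ▸ mem_zpowers _)) g⁻¹ hg.inv_left ?_)
  simpa using mem_cj.1 b

open P6 (mem_cz) in
theorem QZ.cent_le (h : QZ Q z q π ρ) (sn : SN Q z) {g : G} (hg : Commute g z) : g ∈ normalizer (Q : Set G) := by
  suffices centralizer ((zpowers z : Subgroup G) : Set G) ≤ normalizer (Q : Set G) from this (mem_cz.2 hg)
  by_contra hn
  have es := h.co.es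
  obtain ⟨Y, ZY, YQ, hX, mx⟩ := Ti.exists_max (zpowers_le.2 es.mem) hn
  set X := centralizer ((zpowers z : Subgroup G) : Set G) ⊓ RuG.mc Y (zpowers z) with eX
  have XY : X ≤ normalizer (Y : Set G) := inf_le_right.trans (Ti.le_N_Y ZY)
  have le : ∀ {P Y : Subgroup G}, ES P z → Y ≤ P →
      P ≤ centralizer ((zpowers z : Subgroup G) : Set G) ⊓ RuG.mc Y (zpowers z) := fun e l r hr =>
    ⟨mem_cz.2 (e.comm_z r hr), centralizer_le_normalizer _ (mem_cz.2 (e.comm_z r hr)),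
      fun y hy => e.mem_zpowers.2 (e.commutator hr (l hy))⟩
  have QX : Q ≤ X := le es YQ
  have Yc : ∀ g ∈ X, Y ≤ cj g Q := fun g hg => (mem_normalizer_iff_cj.1 (XY hg)).ge.trans (cj_mono g YQ)
  have ti : ∀ g ∈ X, g ∉ normalizer (Q : Set G) → Q ⊓ cj g Q ≤ Y := fun g hg hg' => by
    by_contra k
    have h' := h.conj (mem_cz.1 hg.1)
    obtain ⟨d, h1, -, h2, h3⟩ := h'.exists_sing (U := ⊤) (by
      rw [Nat.card_congr Submodule.topEquiv.toEquiv, h.hc]; norm_num)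
    exact hg' (h.lemA sn (mem_cz.1 hg.1) h1 h2 h3
      (mx _ (lt_of_le_not_ge (le_inf YQ (Yc g hg)) k) inf_le_left (le h'.co.es inf_le_right h1)))
  have hodd : ∀ g ∈ X, g ∉ normalizer (Q : Set G) → cj g Q ⊓ normalizer (Q : Set G) ≤ Y := fun g hg hg' x hx => by
    by_contra k
    have gz := mem_cz.1 hg.1
    have h' := h.conj gz
    obtain ⟨c, h1, h2, h3, h4⟩ := h.exists_sing (U := Fix {ρ x}) (lt_of_lt_of_le (by norm_num)
      (le_card_fix h.nd h.hc (by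
        rw [← h.ρ_mul hx.2 hx.2]
        exact h.ρ_Q ((h'.co.es.sq hx.1).elim (· ▸ one_mem _) (· ▸ es.mem)))))
    have cn : c ∈ normalizer ((cj g Q : Subgroup G) : Set G) := by
      rw [← cj_normalizer, mem_cj]
      by_contra k'
      have m := mul_mem (mul_mem (inv_mem hg) (QX h1)) hg
      have e : c * x * c⁻¹ ∈ cj g Q := by
        simpa only [commutatorElement_def, inv_mul_cancel_right] using
          mul_mem (zpowers_le.2 h'.co.es.mem ((h.cm_iff hx.2 h1).2 (mem_Fix1.1 h2))) hx.1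
      have := ti _ m k' ⟨mem_cj.1 e, mem_cj.2 (by simpa [mul_assoc] using mem_cj.1 hx.1)⟩
      exact k ((mem_normalizer_iff.1 (XY (QX h1)) x).2 ((mem_normalizer_iff_cj.1 (XY hg)).le (mem_cj.2 this)))
    have := h'.lemA (P6.sn_conj sn gz) gz.inv_left (by rwa [cj_inv_cj]) h3 h4 cn
    rw [← cj_normalizer, mem_cj] at this
    exact hg' (inv_mem_iff.1 (by simpa using this))
  obtain ⟨u, v, u1, v1, k⟩ := exists_uv h.nd h.hc (Y := h.co.img Y) (by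
    rintro _ ⟨y, a, b, rfl⟩ e
    refine (h.co.ker y b).2 (by_contra fun k => hX fun g hg => sn y b ((h.co.sq y b).1 e) (not_or.1 k).1
      (not_or.1 k).2 g (mem_cz.1 hg.1) (YQ (conj_mem_of_mem_normalizer (XY hg) a))))
  obtain ⟨r, hr, rfl⟩ := h.co.surj u
  obtain ⟨s, hs, rfl⟩ := h.co.surj v
  obtain ⟨n, hn, e⟩ := Ti.trans XY YQ QX (fun r hr => ZY (es.mem_zpowers.2 (es.sq hr))) hodd hX hr
    (fun k => u1 ⟨r, k, hr, rfl⟩) hs fun k => v1 ⟨s, k, hs, rfl⟩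
  refine k (ρ n) ?_ ⟨_, e, YQ e, ?_⟩
  · rintro _ ⟨y, a, b, rfl⟩
    exact (h.cm_iff hn.2 b).1 (by rw [← commutatorElement_inv]; exact inv_mem (hn.1.2.2 y a))
  · rw [h.co.map_mul _ (conj_mem_of_mem_normalizer hn.2 hr) _ (inv_mem hs), h.act n hn.2 r hr, h.co.map_inv hs]

end P6x

theorem QY.sn (h : QY Q O z) {s : G} (hs : s ∈ Q) (s2 : s * s = 1) (s1 : s ∉ zpowers z)
    (hc : ∀ g, Commute g z → Commute g s → g ∈ normalizer (Q : Set G)) : G2C.SN Q z := by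
  intro u hu u2 u1 uz g hg hgu
  have N : ∀ {n}, n ∈ normalizer (Q : Set G) → Commute n z := fun hn =>
    mul_inv_eq_iff_eq_mul.1 (G2C.qb_N_z h.es hn)
  obtain ⟨m, hm, rfl⟩ := h.tr s hs s2 s1 u hu u2 fun k => (h.es.mem_zpowers.1 k).elim u1 uz
  obtain ⟨n, hn, e⟩ := h.tr _ hgu (by
    rw [show ∀ a : G, g * a * g⁻¹ * (g * a * g⁻¹) = g * (a * a) * g⁻¹ from fun a => by group, u2]; group)
    (fun k => (h.es.mem_zpowers.1 k).elim (fun k => u1 (conj_eq_one_iff.1 k)) fun k => uz (by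
      rw [mul_inv_eq_iff_eq_mul, ← hg.eq] at k; exact mul_left_cancel k)) s hs s2 s1
  have := hc (n * g * m) (((N hn).mul_left hg).mul_left (N hm))
    (mul_inv_eq_iff_eq_mul.1 (by rw [← e]; conv_lhs => rw [e]; ; group))
  exact (mul_mem_cancel_left hn).1 ((mul_mem_cancel_right hm).1 this)

theorem QY.cent_le (h : QY Q O z) {s : G} (hs : s ∈ Q) (s2 : s * s = 1) (s1 : s ∉ zpowers z)
    (hc : ∀ g, Commute g z → Commute g s → g ∈ normalizer (Q : Set G)) {g : G} (hg : Commute g z) :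
    g ∈ normalizer (Q : Set G) := by
  obtain ⟨n, q, π, ρ, k⟩ := P6x.exists_QZ h
  exact k.cent_le (h.sn hs s2 s1 hc) hg

end CfsgLib.SzC
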