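import Cfsg.Agent.Lib.SzC.Defs
import Cfsg.Agent.Lib.G2C.P7
import Cfsg.Agent.S1762
import Cfsg.Agent.Lib.He.Main

/-! Package P7: `O = 1` and the identification (plans/SZC.md) -/

set_option autoImplicit false
set_option linter.unusedSectionVars false

namespace CfsgLib.SzC

open Subgroup Cfsg CfsgLib.Tech CfsgLib.StdR2 CfsgLib.Classical CfsgLib.ExtraTwo
open scoped commutatorElement

variable {G : Type*} [Group G] [Finite G] {f : Fd G}
  {Q O : Subgroup G} {z : G}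

namespace P7X

open G2C G2C.P7

variable {τ : G}

/-- the part of `QY` that is conjugated -/
structure QZ (Q O : Subgroup G) (z : G) : Prop where
  es : ES Q z
  oddO : Odd (Nat.card O)
  cQ : ∀ g, (∀ u ∈ Q, Commute g u) ↔ ∃ o ∈ O, g = o ∨ g = z * o

theorem qz (h : QY Q O z) : QZ Q O z := ⟨h.es, h.oddO, h.cQ⟩

theorem QZ.conj (h : QZ Q O z) (g : G) : QZ (cj g Q) (cj g O) (g * z * g⁻¹) := by
  refine ⟨h.es.map_conj g, by rw [card_cj]; exact h.oddO, fun k => ?_⟩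
  refine Iff.trans ⟨fun c u hu => ?_, fun c u hu => ?_⟩ ((h.cQ (g⁻¹ * k * g)).trans ⟨?_, ?_⟩)
  · simpa [mul_assoc] using (c _ (conj_mem_cj.2 hu)).conj g⁻¹
  · simpa [mul_assoc] using (c _ (mem_cj.1 hu)).conj g
  · rintro ⟨o, ho, e⟩
    exact ⟨_, conj_mem_cj.2 ho, e.imp (fun e => by rw [← e]; group) fun e => by rw [conj_mul, ← e]; group⟩
  · rintro ⟨o, ho, e⟩
    exact ⟨_, mem_cj.1 ho, e.imp (fun e => by rw [e]) fun e => by rw [e]; group⟩

theorem QZ.OQ (h : QZ Q O z) {o u : G} (ho : o ∈ O) (hu : u ∈ Q) : Commute o u :=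
  (h.cQ o).2 ⟨o, ho, .inl rfl⟩ u hu

theorem QZ.odd_O (h : QZ Q O z) {o : G} (ho : o ∈ O) : Odd (orderOf o) :=
  h.oddO.of_dvd_nat (orderOf_dvd_natCard O ho)

theorem QZ.mem_O (h : QZ Q O z) {g : G} (h1 : ∀ u ∈ Q, Commute g u) (h2 : Odd (orderOf g)) : g ∈ O := by
  obtain ⟨o, ho, rfl | rfl⟩ := (h.cQ g).1 h1
  · exact ho
  · have c := h.OQ ho h.es.mem
    obtain ⟨k, hk⟩ := h2.mul (h.odd_O ho)
    have := c.symm.mul_pow (orderOf (z * o) * orderOf o)
    rw [pow_mul, pow_orderOf_eq_one, one_pow, pow_mul' o, pow_orderOf_eq_one, one_pow, mul_one, hk, pow_succ, pow_mul,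
      pow_two, h.es.mul_self, one_pow, one_mul] at this
    exact absurd this.symm h.es.ne_one

theorem QZ.N_O (h : QZ Q O z) : normalizer (Q : Set G) ≤ normalizer (O : Set G) := fun g hg =>
  mem_normalizer_of_forall fun o ho => h.mem_O (fun u hu => by
    simpa [mul_assoc] using (h.OQ ho (conj_mem_of_mem_normalizer' hg hu)).conj g)
    ((MulEquiv.orderOf_eq (MulAut.conj g) o).symm ▸ h.odd_O ho)

theorem N_z (h : ES Q z) {g : G} (hg : g ∈ normalizer (Q : Set G)) : Commute g z :=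
  mul_inv_eq_iff_eq_mul.1 (qb_N_z h hg)

theorem card_z (h : ES Q z) : Nat.card (zpowers z) = 2 := by rw [Nat.card_zpowers, h.orderOf_eq]

theorem sq_conj (h : ES Q z) (k : G) : k * z * k⁻¹ * (k * z * k⁻¹) = 1 := by
  rw [show k * z * k⁻¹ * (k * z * k⁻¹) = k * (z * z) * k⁻¹ by group, h.mul_self]; group

theorem nz_conj (h : ES Q z) (h2 : τ * z * τ⁻¹ ≠ z) : τ * z * τ⁻¹ ∉ zpowers z := fun k =>
  (h.mem_zpowers.1 k).elim (fun e => h.ne_one (by simpa using e)) h2

/-- a subgroup of order greater than 8 contains a non-central involution -/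
theorem exists_inv (h : ES Q z) {P : Subgroup G} (l : P ≤ Q) (m : z ∈ P) (h8 : 8 < Nat.card P) :
    ∃ r ∈ P, r * r = 1 ∧ r ∉ zpowers z := by
  obtain ⟨n, q, π, c⟩ := h.exists_coord
  by_contra! hn
  have := aniso_le (q := q) (c.img P).toAddSubgroup (by
    rintro _ ⟨x, hx, hx', rfl⟩ e
    exact (c.ker x hx').2 (h.mem_zpowers.1 (hn x hx ((c.sq x hx').1 e))))
  rw [c.card_img l m] at h8
  exact absurd (show Nat.card (c.img P) ≤ 4 from this) (by omega)

/-- the involutions generate `Q` -/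
theorem gen (h : ES Q z) {Y : Subgroup G} (hY : ∀ u ∈ Q, u * u = 1 → u ∈ Y) {s : G} (hs : s ∈ Q)
    (s2 : s * s = 1) (s1 : s ∉ zpowers z) : Q ≤ Y := by
  have key : ∀ x ∈ Q, x ∉ Y → x * s = s * x := fun x hx xY => by
    by_contra e
    refine xY ((mul_mem_cancel_right (hY s hs s2)).1 (hY _ (mul_mem hx hs) ?_))
    calc x * s * (x * s) = z * (s * x) * (x * s) := by rw [← h.comm_of_ne hx hs e]
      _ = z * (s * (x * x) * s) := by group
      _ = 1 := by rw [(h.sq hx).resolve_left fun k => xY (hY x hx k), h.comm_z s hs, mul_assoc, h.zz, s2]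
  rw [h.mem_zpowers, not_or] at s1
  obtain ⟨q, hq, e⟩ := h.exists_not_comm hs s1.1 s1.2
  intro x hx
  by_contra xY
  have qY : q ∈ Y := by_contra fun k => e (key q hq k)
  have := key _ (mul_mem hx hq) fun k => xY ((mul_mem_cancel_right qY).1 k)
  rw [mul_assoc, ← mul_assoc s, ← key x hx xY, mul_assoc] at this
  exact e (mul_left_cancel this)

theorem full (h : QY Q O z) {Y : Subgroup G} (hN : ∀ g ∈ normalizer (Q : Set G), ∀ y ∈ Y, g * y * g⁻¹ ∈ Y)
    (hz : z ∈ Y) {s : G} (hs : s ∈ Q) (sY : s ∈ Y) (s2 : s * s = 1) (s1 : s ∉ zpowers z) : Q ≤ Y :=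
  gen h.es (fun u hu u2 => by
    by_cases e : u ∈ zpowers z
    · exact zpowers_le.2 hz e
    obtain ⟨g, hg, rfl⟩ := h.tr s hs s2 s1 u hu u2 e
    exact hN g hg s sY) hs s2 s1

/-- `N(Q)` is irreducible on `Q / ⟨z⟩` -/
theorem irr (h : QY Q O z) {Y : Subgroup G} (l : Y ≤ Q)
    (hN : ∀ g ∈ normalizer (Q : Set G), ∀ y ∈ Y, g * y * g⁻¹ ∈ Y) : Y ≤ zpowers z ∨ Q ≤ Y := by
  refine or_iff_not_imp_left.2 fun k => ?_
  obtain ⟨y, hy, y1⟩ := SetLike.not_le_iff_exists.1 k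
  rw [h.es.mem_zpowers, not_or] at y1
  obtain ⟨q, hq, e⟩ := h.es.exists_conj (l hy) y1.1 y1.2
  have hz : z ∈ Y := (mul_mem_cancel_left hy).1 (e ▸ hN q (le_normalizer hq) y hy)
  by_cases h8 : 8 < Nat.card Y
  · obtain ⟨r, hr, r2, r1⟩ := exists_inv h.es l hz h8
    exact full h hN hz (l hr) hr r2 r1
  have h1 := LargeExtra.card_mul_card_centralizer h.es l hz
  have hz' : z ∈ Q ⊓ centralizer (Y : Set G) := ⟨h.es.mem, fun u hu => h.es.comm_z u (l hu)⟩
  obtain ⟨r, hr, r2, r1⟩ := exists_inv h.es inf_le_left hz' (by rw [h.card] at h1; nlinarith)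
  have := full h (Y := Q ⊓ centralizer (Y : Set G)) (fun g hg d hd => ⟨conj_mem_of_mem_normalizer hg hd.1,
    fun u hu => by simpa [mul_assoc] using congrArg (fun t => g * t * g⁻¹) (hd.2 _ (hN _ (inv_mem hg) u hu))⟩)
    hz' hr.1 hr r2 r1
  exact absurd (h.es.center y (l hy) fun u hu => ((this hu).2 y hy).symm) (not_or.2 y1)

theorem exists_r (h : QY Q O z) {y : G} (hy : y ∈ normalizer (Q : Set G)) (y2 : y * y = 1) :
    ∃ r ∈ Q, Commute r y ∧ r * r = 1 ∧ r ∉ zpowers z := by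
  have es := h.es
  by_contra! hn
  have yi : y⁻¹ = y := inv_eq_of_mul_eq_one_left y2
  have zy := N_z es hy
  have inv : ∀ u : G, y * ⁅u, y⁆ * y⁻¹ = ⁅u, y⁆⁻¹ := fun u => by
    simp only [commutatorElement_def, yi, mul_inv_rev, inv_inv, mul_assoc, y2, mul_one]
  have cz : ∀ c ∈ Q, y * c * y⁻¹ = c⁻¹ → c ∉ zpowers z → y * c * y⁻¹ = c * z := fun c hc e k => by
    rcases es.sq hc with e' | e'
    · rw [inv_eq_of_mul_eq_one_right e', mul_inv_eq_iff_eq_mul] at e
      exact absurd (hn c hc e.symm e') k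
    · rw [e, ← e', inv_eq_iff_mul_eq_one, ← es.pow_four hc]; simp only [pow_succ, pow_zero, one_mul, mul_assoc]
  have nz : Q ≤ normalizer ((zpowers z : Subgroup G) : Set G) := fun u hu => centralizer_le_normalizer _ (by
    rintro _ ⟨i, rfl⟩; exact (Commute.zpow_right (es.comm_z u hu) i).eq.symm)
  set K := Q ⊓ RuG.mc {y} (zpowers z) with hK
  have mK : ∀ u ∈ Q, u ∈ K ↔ ⁅u, y⁆ ∈ zpowers z := fun u hu => by simp [hK, RuG.mem_mc, hu, nz hu]
  have h1 : (K.subgroupOf Q).index ∣ 2 := by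
    by_cases e : K.subgroupOf Q = ⊤
    · simp [e]
    obtain ⟨a, -, ha⟩ := SetLike.not_le_iff_exists.1 (top_le_iff.not.2 e)
    refine index_dvd_two_iff.2 ⟨a, fun b => or_iff_not_imp_right.2 fun hb => ?_⟩
    rw [mem_subgroupOf, mK _ (SetLike.coe_mem _)] at ha hb ⊢
    by_contra hab
    have e1 := cz _ (P6.cm_Q hy a.2) (inv _) ha
    have e2 := cz _ (P6.cm_Q hy b.2) (inv _) hb
    have e3 := cz _ (P6.cm_Q hy (b * a).2) (inv _) hab
    have e4 : y * ((b : G) * ⁅(a : G), y⁆ * (b : G)⁻¹) * y⁻¹ = b * ⁅(a : G), y⁆ * (b : G)⁻¹ * z := by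
      rcases es.conj (P6.cm_Q hy a.2) b.2 with e | e <;> rw [e]
      · exact e1
      · rw [← conj_mul, e1, zy.eq, mul_inv_cancel_right]
    rw [coe_mul, commutatorElement_mul_left_eq_conj_mul, ← conj_mul, e4, e2, mul_assoc _ z, ← mul_assoc z,
      ← es.comm_z _ (P6.cm_Q hy b.2), es.zz'] at e3
    exact es.ne_one (by simpa using e3)
  have h2 := RuG.idx (K := K) (N := ⊥) (N' := zpowers z) (t := y) bot_le (by simp) fun w hw => (mK w hw.1).1 hw
  have h3 := (K.subgroupOf Q).card_mul_index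
  rw [Nat.card_congr (subgroupOfEquivOfLe inf_le_left).toEquiv, h.card] at h3
  have h4 := Nat.le_of_dvd two_pos h1
  rw [RuG.mc_bot, card_bot, card_z es] at h2
  obtain ⟨r, a, b, c⟩ := exists_inv es (P := K ⊓ centralizer {y}) (fun w hw => hw.1.1)
    ⟨(mK z es.mem).2 (by rw [commutatorElement_eq_one_iff_commute.2 zy.symm]; exact one_mem _),
      mem_centralizer_singleton_iff.2 zy.symm⟩ (by nlinarith)
  exact c (hn r a.1.1 (mem_centralizer_singleton_iff.1 a.2) b)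

theorem exists_syl (h : QZ Q O z) : ∃ T, IsSylowIn 2 T ⊤ ∧ z ∈ T ∧ ∀ t ∈ T, Commute t z := by
  obtain ⟨T, hT, l⟩ := exists_isSylowIn_ge h.es.isPGroup (le_top : Q ≤ ⊤)
  have hz := l h.es.mem
  have : Nontrivial T := ⟨⟨⟨z, hz⟩, 1, fun e => h.es.ne_one (congrArg Subtype.val e)⟩⟩
  obtain ⟨t, t1⟩ := @exists_ne _ hT.pgroup.center_nontrivial 1
  have c : ∀ x ∈ T, Commute x t := fun x hx => congrArg Subtype.val (mem_center_iff.1 t.2 ⟨x, hx⟩)
  obtain ⟨o, ho, e | e⟩ := (h.cQ t).1 fun u hu => (c u (l hu)).symm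
  · exact absurd (Subtype.ext (Subtype.ext (inf_bot hT.pgroup h.oddO t.1.2 (e ▸ ho)))) t1
  · rw [inf_bot hT.pgroup h.oddO ((mul_mem_cancel_left hz).1 (e ▸ t.1.2)) ho, mul_one] at e
    exact ⟨T, hT, hz, e ▸ c⟩

theorem key0 (h : QY Q O z) (hC : ∀ g, Commute g z → g ∈ normalizer (Q : Set G))
    (hτ : τ ∈ normalizer (O : Set G)) (h1 : τ * z * τ⁻¹ ∈ Q) (h2 : τ * z * τ⁻¹ ≠ z) {g : G}
    (hg : Commute (g * z * g⁻¹) z) : g ∈ normalizer (O : Set G) := by
  have es := h.es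
  have sq := sq_conj es
  obtain ⟨r, hr, ry, r2, r1⟩ := exists_r h (hC _ hg) (sq g)
  have c := es.comm_z r hr
  have hE : zpowers z ⊔ zpowers r ≤ Q ⊓ centralizer {g * z * g⁻¹} ⊓ centralizer {r} := sup_le
    (zpowers_le.2 ⟨⟨es.mem, mem_centralizer_singleton_iff.2 hg.symm⟩, mem_centralizer_singleton_iff.2 c.symm⟩)
    (zpowers_le.2 ⟨⟨hr, mem_centralizer_singleton_iff.2 ry⟩, mem_centralizer_singleton_iff.2 rfl⟩)
  have E2 : ∀ e ∈ zpowers z ⊔ zpowers r, e * e = 1 := fun e he => by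
    have : e ∈ ((zpowers z ⊔ zpowers r : Subgroup G) : Set G) := he
    rw [coe_mul_of_right_le_normalizer_left _ _ (zpowers_le.2 (centralizer_le_normalizer _ (by
      rintro _ ⟨i, rfl⟩; exact (Commute.zpow_right c i).eq.symm)))] at this
    obtain ⟨a, ha, b, hb, rfl⟩ := this
    rcases es.mem_zpowers.1 ha with rfl | rfl <;> rcases (mem_zpowers_iff_of_mul_self r2).1 hb with rfl | rfl <;>
      simp only [one_mul, mul_one, r2, es.mul_self]
    rw [mul_assoc, ← mul_assoc b, c, mul_assoc, r2, mul_one, es.mul_self]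
  have hg' := (qz h).conj g
  refine mem_normalizer_of_cj_le (Gold.le_of_cent1 E2 ?_ hg'.oddO
    (fun e he => hg'.N_O (conj_N hC g (mem_centralizer_singleton_iff.1 (hE he).1.2))) fun b hb b1 w hw => ?_)
  · have := RuG.two_mul_le (H := zpowers z) (K := zpowers z ⊔ zpowers r) (lt_of_le_not_ge le_sup_left
      fun k => r1 (k (mem_sup_right (mem_zpowers r))))
    rwa [card_z es] at this
  obtain ⟨m, hm, rfl⟩ : ∃ m ∈ normalizer (O : Set G), m * z * m⁻¹ = b := by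
    by_cases bz : b = z
    · exact ⟨1, one_mem _, by simp [bz]⟩
    obtain ⟨n, hn, e⟩ := h.tr _ h1 (sq τ) (nz_conj es h2) b (hE hb).1.1 (E2 b hb)
      fun k => (es.mem_zpowers.1 k).elim b1 bz
    exact ⟨n * τ, mul_mem ((qz h).N_O hn) hτ, by rw [← e]; group⟩
  have hm' := (qz h).conj m
  have o : Odd (orderOf w) := hg'.oddO.of_dvd_nat (orderOf_dvd_natCard _ hw.1)
  have wN := conj_N hC m (mem_centralizer_singleton_iff.1 hw.2)
  have := PLocal.Constr.a_times_b (P := zpowers (g * z * g⁻¹)) (hg'.es.isPGroup.to_le (zpowers_le.2 hg'.es.mem))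
    hm'.es.isPGroup (zpowers_le.2 (conj_N hC m (mem_centralizer_singleton_iff.1 (hE hb).1.2).symm))
    (Nat.coprime_two_right.2 o) wN (fun u hu => (hg'.OQ hw.1 (zpowers_le.2 hg'.es.mem hu)).eq.symm)
    fun u hu hu' => commutatorElement_eq_one_iff_commute.1 (inf_bot hm'.es.isPGroup hg'.oddO (P6.cm_Q wN hu) (by
      rw [← commutatorElement_inv]
      exact inv_mem (P6.cm_Q (hg'.N_O (conj_N hC g (hu' _ (mem_zpowers _)).symm)) hw.1)))
  exact (mem_normalizer_iff_cj.1 hm).le (hm'.mem_O (fun u hu => (this u hu).symm) o)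

theorem key (h : QY Q O z) (hC : ∀ g, Commute g z → g ∈ normalizer (Q : Set G))
    (hτ : τ ∈ normalizer (O : Set G)) (h1 : τ * z * τ⁻¹ ∈ Q) (h2 : τ * z * τ⁻¹ ≠ z) {g : G}
    (hg : g * z * g⁻¹ ∈ normalizer (O : Set G)) : g ∈ normalizer (O : Set G) := by
  obtain ⟨T, hT, -, c⟩ := exists_syl (qz h)
  obtain ⟨n, hn, e⟩ := (hT.of_le (fun t ht => (qz h).N_O (hC t (c t ht))) le_top).exists_conj_mem hg
    ((h.es.map_conj g).isPGroup.to_le (zpowers_le.2 (h.es.map_conj g).mem))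
  exact (mul_mem_cancel_left hn).1 (key0 h hC hτ h1 h2 (by simpa [mul_assoc] using c _ e))

open LXQ LargeExtra in
theorem suz {X : Type*} [Group X] [Finite X] [IsSimpleGroup X] {Q : Subgroup X} {z : X} (hp : Pre Q z)
    (hc : Nat.card Q = 128) (hO : pCore 2 (centralizer ({z} : Set X)) ≤ Q.subgroupOf (centralizer {z}))
    (h11 : 2 ^ 11 ∣ Nat.card X) : Spor.IsoSuz X := by
  have hF := hp.fstar_eq hO
  have es := hp.es.subgroupOf hp.le_cent
  have e := pCore_eq_of_fstar hF (es.isPGroup)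
  have h : Hyp z := ⟨by rwa [Qx, e, hp.amb_subgroupOf], by rwa [Qx, e, hp.amb_subgroupOf]⟩
  have no : ∀ {Y : Type} [Group Y] (n : ℕ), Nat.card Y = n → ¬ 2 ^ 11 ∣ n → Nonempty (X ≃* Y) → Spor.IsoSuz X :=
    fun n a b ⟨ε⟩ => absurd (by rwa [Nat.card_congr ε.toEquiv, a] at h11) b
  by_cases wc : WC z
  · have := Unitary.card_PSU (n := 5) (q := 2) card_GF4 (by norm_num)
    simp [Finset.prod_range_succ, Nat.even_iff] at this
    exact no 13685760 (by omega) (by norm_num) (h.psu wc)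
  obtain ⟨c⟩ := h.exists_cd
  simp only [WC, not_forall] at wc
  obtain ⟨t, h1, h2, h3⟩ := wc
  rcases c.suz (hF.trans e.symm) (e ▸ es.isExtraspecial) h2 h1 h3 with (e | e | e) | e
  exacts [no _ Held.card_SL5 (by norm_num) e, no _ Mathieu.card_M24 (by norm_num) e,
    no _ He.card_eq (by norm_num) e, e]

end P7X

open P7X G2C G2C.P7

theorem QY.O_bot (h : QY Q O z) (hC : ∀ g, Commute g z → g ∈ normalizer (Q : Set G))
    {X A : Subgroup G} [X.Normal] [IsSimpleGroup X] (hX : centralizer (X : Set G) = ⊥) (hAX : A ≤ X)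
    (hz : z ∈ A) (hs : ∀ N : Subgroup G, N ≤ A → A ≤ normalizer (N : Set G) → z ∈ N → N = A)
    (hA : ¬ IsPGroup 2 A) (hAO : A ≤ normalizer (O : Set G)) {τ : G} (hτ : τ ∈ A)
    (h1 : τ * z * τ⁻¹ ∈ Q) (h2 : τ * z * τ⁻¹ ≠ z) : O = ⊥ := by
  refine eq_bot_iff.2 fun o ho => mem_bot.2 ?_
  have z2 := h.es.orderOf_eq
  by_cases k : (normalizer (O : Set G)).subgroupOf X = ⊤
  · have l := subgroupOf_eq_top.1 k
    refine mem_bot.1 (hX.le fun x hx => commutatorElement_eq_one_iff_mul_comm.1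
      (eq_bot_of_simple inferInstance l h.oddO (hAX hz) z2 (P6.cm_Q (by simp [normalizer_eq_top]) hx) ?_))
    rw [← commutatorElement_inv]
    exact inv_mem (P6.cm_Q (l hx) ho)
  obtain ⟨T, hT, zT, c⟩ := P7X.exists_syl (qz h)
  have hT' := hT.inf_of_le_normalizer (N := X) (by simp [normalizer_eq_top])
  rw [top_inf_eq] at hT'
  rcases Holt.holt_sub (G := X) (fun k => h2 (mul_inv_eq_iff_eq_mul.2 (congrArg Subtype.val
      (k.is_comm.comm (⟨τ, hAX hτ⟩ : X) ⟨z, hAX hz⟩) :))) k (r := ⟨z, hAX hz⟩)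
    ⟨by rw [orderOf_mk, z2], hT'.toSylow, hT'.mem_toSylow.2 ⟨zT, hAX hz⟩,
      fun x hx => Subtype.ext (c x (hT'.mem_toSylow.1 hx).1)⟩
    (Holt.uf_quot (hAO hz) (fun x hx => (qz h).N_O (hC x (congrArg Subtype.val
      (mem_centralizer_singleton_iff.1 hx)))) fun g hg => ⟨g, P7X.key h hC (hAO hτ) h1 h2 hg, rfl⟩) with
    ⟨-, S, e⟩ | ⟨n, h7, -, -, ⟨e⟩, ⟨e'⟩⟩
  · have hS := IsSylowIn.of_sylow_subgroup S
    have n : A ≤ normalizer (((S : Subgroup X).map X.subtype : Subgroup G) : Set G) := fun a ha =>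
      le_normalizer_map X.subtype ⟨⟨a, hAX ha⟩, e.le (hAO ha), rfl⟩
    refine absurd (hS.pgroup.to_le ((hs (A ⊓ (S : Subgroup X).map X.subtype) inf_le_left
      ((le_inf le_normalizer n).trans inf_normalizer_le_normalizer_inf) ⟨hz, ?_⟩).ge.trans inf_le_right)) hA
    exact hS.le_of_normalizes (h.es.isPGroup.to_le (zpowers_le.2 h.es.mem)) (zpowers_le.2 (hAX hz))
      (zpowers_le.2 (n hz)) (mem_zpowers z)
  · obtain ⟨f, hf, fe, -⟩ := AltAut.exists_hom_perm_of_ne_six (by simpa using by omega) (by simpa using by omega) e hX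
    have m : f o ∈ alternatingGroup (Fin n) := by
      have := congrArg Equiv.Perm.sign (congrArg f (pow_card_eq_one' (x := (⟨o, ho⟩ : O)) |> congrArg Subtype.val))
      rw [SubmonoidClass.coe_pow, map_pow, map_pow, Int.units_pow_eq_pow_mod_two, Nat.odd_iff.1 h.oddO] at this
      simpa using this
    have oX : o ∈ X := by
      rw [← hf ((fe (e.symm ⟨_, m⟩)).trans (show _ = f o by simp))]
      exact SetLike.coe_mem _
    have := alternatingGroup.isSimpleGroup (α := Fin (n - 1)) (by simpa using by omega)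
    exact eq_bot_of_simple (P := normalizer (O : Set G) ⊓ X) (((subgroupOfEquivOfLe inf_le_right).symm.trans
      (MulEquiv.subgroupCongr (inf_subgroupOf_right _ _))).trans e').isSimpleGroup inf_le_left h.oddO
      ⟨hAO hz, hAX hz⟩ z2 ⟨le_normalizer ho, oX⟩ ho

theorem QY.le_normal (h : QY Q O z) {X : Subgroup G} [X.Normal] (hz : z ∈ X) {τ : G}
    (h1 : τ * z * τ⁻¹ ∈ Q) (h2 : τ * z * τ⁻¹ ≠ z) : Q ≤ X :=
  full h (fun g _ y hy => ‹X.Normal›.conj_mem y hy g) hz h1 (‹X.Normal›.conj_mem z hz τ) (sq_conj h.es τ)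
    (nz_conj h.es h2)

theorem QY.isoSuz (h : QY Q ⊥ z) (hC : ∀ g, Commute g z → g ∈ normalizer (Q : Set G))
    {X : Subgroup G} [X.Normal] [IsSimpleGroup X] (hQ : Q ≤ X) (h11 : 2 ^ 11 ∣ Nat.card X) :
    Spor.IsoSuz X := by
  have es := h.es
  have cq : ∀ g, (∀ u ∈ Q, u * g = g * u) → g = 1 ∨ g = z := fun g hg => by
    simpa using (h.cQ g).1 fun u hu => (hg u hu).symm
  refine suz (Q := Q.subgroupOf X) (z := ⟨z, hQ es.mem⟩) ⟨es.subgroupOf hQ, fun g hg => ?_, fun g hg x hx => ?_⟩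
    ((Nat.card_congr (subgroupOfEquivOfLe hQ).toEquiv).trans h.card) (fun p hp => ?_) h11
  · exact (cq g fun u hu => congrArg Subtype.val (hg ⟨u, hQ hu⟩ hu)).imp Subtype.ext Subtype.ext
  · exact mem_subgroupOf.2 (conj_mem_of_mem_normalizer (hC g (congrArg Subtype.val hg)) (mem_subgroupOf.1 hx))
  set C := (centralizer ({⟨z, hQ es.mem⟩} : Set X)).map X.subtype
  have mC : ∀ g, g ∈ C ↔ g ∈ X ∧ Commute g z := fun g => ⟨by
    rintro ⟨g, hg, rfl⟩
    exact ⟨g.2, congrArg Subtype.val (mem_centralizer_singleton_iff.1 hg)⟩,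
    fun k => ⟨⟨g, k.1⟩, mem_centralizer_singleton_iff.2 (Subtype.ext k.2), rfl⟩⟩
  set P := (pCore 2 C).map C.subtype with hP
  have n1 : normalizer (Q : Set G) ≤ normalizer (P : Set G) := fun g hg =>
    Core.normalizer_le_normalizer_map_pCore C (mem_normalizer_of_forall fun c hc => (mC _).2
      ⟨‹X.Normal›.conj_mem c ((mC c).1 hc).1 g, ((N_z es hg).mul_left ((mC c).1 hc).2).mul_left (N_z es hg).inv_left⟩)
  have n2 : P ≤ normalizer (Q : Set G) := fun g hg => hC g ((mC g).1 (map_subtype_le _ hg)).2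
  have lt := Coprime.commutator_lt_of_isPGroup es.isPGroup (Core.isPGroup_map_pCore C) n2
    fun e => es.ne_one (mem_bot.1 (e ▸ es.mem))
  have l := (irr h lt.le fun g hg y hy => by
    rw [← conj_mem_cj (g := g), cj, map_commutator] at hy
    exact commutator_mono (mem_normalizer_iff_cj.1 hg).le (mem_normalizer_iff_cj.1 (n1 hg)).le hy).resolve_right
    lt.not_ge
  have m : ((p : X) : G) ∈ P := by
    rw [hP, ← Core.map_map_pCore_of_injective _ X.subtype_injective]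
    exact ⟨_, ⟨p, hp, rfl⟩, rfl⟩
  refine es.mem_of_conj (fun g hg => ?_) fun x hx => ?_
  · rcases cq g hg with rfl | rfl
    exacts [one_mem _, es.mem]
  · have k : ∀ g : G, g * x * g⁻¹ = x * ⁅x⁻¹, g⁆ := fun g => by simp only [commutatorElement_def]; group
    exact (es.mem_zpowers.1 (l (commutator_mem_commutator (inv_mem hx) m))).imp
      (fun e => (k _).trans ((congrArg _ e).trans (mul_one x))) fun e => (k _).trans (congrArg _ e)

end CfsgLib.SzC
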