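import Cfsg.Agent.Lib.SzC.QQx

/-! Package QQ: the extraspecial group (plans/SZC.md) -/

set_option autoImplicit false
set_option linter.unusedSectionVars false

namespace CfsgLib.SzC

open Subgroup Cfsg CfsgLib.Tech CfsgLib.StdR2 CfsgLib.Classical CfsgLib.ExtraTwo
open scoped commutatorElement

variable {G : Type*} [Group G] [Finite G] {f : Fd G}
  {V O : Subgroup G} {g0 : G} {R : Subgroup G} {p : G → C5} {ν : G → Equiv.Perm (Fin 5)} {κ : GF4}
  {M1 M2 : Subgroup G} {σ ρ : G} {Q : Subgroup G}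

theorem S3.exists_S4 (h : S3 f V O g0 R p ν κ M1 M2 σ ρ)
    (hC : centralizer (f.Z : Set G) ≤ normalizer (R : Set G)) :
    ∃ Q, S4 f V O g0 R p ν κ M1 M2 σ ρ Q := by
  have F := h.rf
  obtain ⟨T, hT⟩ := F.exists_sub Two5 (fun _ => .inl rfl) fun β γ h1 h2 i => (qx_two _ _ (h1 i) (h2 i)).1
  have σT : σ ∈ normalizer (T : Set G) := mem_normalizer_of_forall fun r hr => by
    obtain ⟨h1, h2⟩ := (hT r).1 hr
    exact (hT _).2 ⟨conj_mem_of_mem_normalizer h.σR h1, (F.p_cz h1 (h.σcz h1 h2)).2 ▸ h2⟩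
  have ZT : ∀ c, f.x 0 0 c ∈ T := fun c => (hT _).2 ⟨F.ζR c, F.pζ c ▸ fun _ => .inl rfl⟩
  obtain ⟨Q, hQ, cQ⟩ := exists_ext σT (zpowers_le.2 (ZT 1) h.σsq) fun c => h.σnR ((hT σ).1 c).1
  have TQ : T ≤ Q := fun y hy => (hQ y).2 (.inl hy)
  have σQ : σ ∈ Q := (hQ σ).2 (.inr (by simp))
  have ind : ∀ {P : G → Prop}, (∀ r ∈ T, P r) → (∀ r ∈ T, P (σ * r)) → ∀ y ∈ Q, P y := fun {P} h1 h2 y hy =>
    ((hQ y).1 hy).elim (h1 y) fun k => mul_inv_cancel_left σ y ▸ h2 _ k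
  have Tz : ∀ r ∈ T, Commute r f.z := fun r hr => F.Rζ ((hT r).1 hr).1 1
  have czT : ∀ t ∈ T, ∀ y ∈ Q, Cz f.z y t := fun t ht => by
    have k : ∀ r ∈ T, Cz f.z r t := fun r hr =>
      (F.cz_iff ((hT r).1 hr).1 ((hT t).1 ht).1).2 (qx_b5 ((hT r).1 hr).2 ((hT t).1 ht).2)
    exact ind k fun r hr => (h.σcz ((hT t).1 ht).1 ((hT t).1 ht).2).mul h.σz (k r hr)
  have czσ : ∀ y ∈ Q, Cz f.z σ y := ind (fun r hr => czT r hr σ σQ) fun r hr =>
    ((show Cz f.z σ σ by simp [Cz]).mul h.σz (czT r hr σ σQ).symm).symm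
  have zz : f.z * f.z = 1 := by rw [← F.ζadd, show (1 : GF4) + 1 = 0 by decide, F.ζ_zero]
  have cen : ∀ x ∈ R, (∀ q ∈ Q, q * x = x * q) → x = 1 ∨ x = f.z := fun x hx e => by
    obtain ⟨c, rfl⟩ := (F.memZ _).1 ((F.ker x hx).1 (tb_zero _ (F.sum x hx) fun i => by
      obtain ⟨t, ht, et⟩ := F.surj _ (tb_ok i).1
      refine F.ζinj _ ?_
      rw [← et, ← F.cmt hx ht, ← e t (TQ ((hT t).2 ⟨ht, et ▸ (tb_ok i).2.1⟩))]
      group))
    exact (mem_zpowers_iff_of_mul_self zz).1 (F.zp.2 (h.fixZ (e σ σQ)))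
  have es : ES Q f.z :=
    { ne_one := fun e => one_ne_zero (F.ζinj _ e)
      mul_self := zz
      mem := TQ (ZT 1)
      comm_z := ind Tz fun r hr => h.σz.mul_left (Tz r hr)
      center := ind (fun r hr => cen r ((hT r).1 hr).1) fun r hr e =>
        absurd (e _ (TQ (ZT ω))).symm (h.σω ((hT r).1 hr).1)
      comm := fun x hx y hy => by
        have : Cz f.z x y := ind (P := fun x => Cz f.z x y) (fun r hr => (czT r hr y hy).symm)
          (fun r hr => (czσ y hy).mul h.σz (czT r hr y hy).symm) x hx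
        refine ((mem_zpowers_iff_of_mul_self zz).1 this).imp (fun e => ?_) fun e => by rw [← e]; group
        exact mul_inv_eq_iff_eq_mul.1 (mul_inv_eq_one.1 e)
      nonab := ⟨σ, σQ, _, TQ (ZT ω), fun e => h.σω (one_mem _) (by rwa [mul_one])⟩ }
  have NC : ∀ g ∈ centralizer (f.Z : Set G), g ∈ normalizer (Q : Set G) := fun g hg => by
    have gR := hC hg
    have gz : Commute g f.z := (hg _ (F.ζZ 1)).symm
    have nT : ∀ g ∈ centralizer (f.Z : Set G), ∀ r ∈ T, g * r * g⁻¹ ∈ T := fun g hg r hr => (hT _).2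
      ⟨conj_mem_of_mem_normalizer (hC hg) ((hT r).1 hr).1, F.two_cj (hC hg) hg ((hT r).1 hr).1 ((hT r).1 hr).2⟩
    have σZ : σ ∈ normalizer (f.Z : Set G) := F.normZ h.σz (h.σZ ω ▸ F.ζZ _)
    have k : σ⁻¹ * g * σ ∈ centralizer (f.Z : Set G) := fun y hy => by
      calc _ = σ⁻¹ * (σ * y * σ⁻¹ * g) * σ := by group
        _ = _ := by rw [hg _ (conj_mem_of_mem_normalizer σZ hy)]; group
    obtain ⟨r, hr, o, ho, e⟩ := h.kerO _ (hC (mul_mem k (inv_mem hg))) (mul_mem k (inv_mem hg))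
      (F.ν_one (hC (mul_mem k (inv_mem hg))) (mul_mem k (inv_mem hg)) fun t ht t2 _ => by
        have m := nT _ (inv_mem hg) t ((hT t).2 ⟨ht, t2⟩)
        have := (czT t ((hT t).2 ⟨ht, t2⟩) _ (inv_mem σQ)).mul h.σz.inv_left
          (show Cz f.z (g * σ * g⁻¹) t by simpa [mul_assoc] using (czT _ m σ σQ).conj gz)
        simpa only [mul_assoc] using this)
    have e' : g * σ * g⁻¹ = σ * (r * o) := by rw [← e]; group
    obtain rfl := h.kill hr ho (by rw [← e', conj_pow, es.pow_four σQ, mul_one, mul_inv_cancel])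
    rw [mul_one] at e'
    have rT : r ∈ T := (hT r).2 ⟨hr, F.two_of hr fun t ht t2 => by
      have m := nT _ (inv_mem hg) t ((hT t).2 ⟨ht, t2⟩)
      have := (czT t ((hT t).2 ⟨ht, t2⟩) _ (inv_mem σQ)).mul h.σz.inv_left
        (show Cz f.z (g * σ * g⁻¹) t by simpa [mul_assoc] using (czT _ m σ σQ).conj gz)
      rwa [e', inv_mul_cancel_left] at this⟩
    refine mem_normalizer_of_forall (ind (fun t ht => TQ (nT g hg t ht)) fun t ht => ?_)
    rw [← conj_mul, e']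
    exact mul_mem (mul_mem σQ (TQ rT)) (TQ (nT g hg t ht))
  refine ⟨Q, h, hC, fun y => ?_, es, ?_, fun g hg gz => ?_, fun g => ⟨fun e => ?_, ?_⟩⟩
  · rw [hQ, hT]
    exact or_congr_right ⟨fun k => ⟨_, ((hT _).1 k).1, ((hT _).1 k).2, by group⟩,
      fun ⟨r, h1, h2, e⟩ => by rw [e, inv_mul_cancel_left]; exact (hT r).2 ⟨h1, h2⟩⟩
  · rw [cQ, F.card_pred Two5 hT, Nat.card_eq_fintype_card]
    decide +kernel
  · rcases h.split hg gz with k | k
    · exact ⟨hC k, NC g k⟩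
    · exact ⟨(mul_mem_cancel_left (inv_mem h.σR)).1 (hC k),
        (mul_mem_cancel_left (inv_mem (le_normalizer σQ))).1 (NC _ k)⟩
  · have k := F.cenZ (e _ (TQ (ZT 1))) (e _ (TQ (ZT ω)))
    obtain ⟨r, hr, o, ho, rfl⟩ := h.kerO g (hC k) k (F.ν_one (hC k) k fun t ht t2 _ => by
      simp [Cz, (e t (TQ ((hT t).2 ⟨ht, t2⟩))).eq])
    have oQ : ∀ q ∈ Q, Commute q o := ind (fun t ht => h.RO t ((hT t).1 ht).1 o ho)
      fun t ht => (h.σO o ho).mul_left (h.RO t ((hT t).1 ht).1 o ho)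
    refine ⟨o, ho, (cen r hr fun q hq => ?_).imp (fun e => by rw [e, one_mul]) fun e => by rw [e]⟩
    simpa using ((e q hq).symm.mul_right (oQ q hq).inv_right).eq
  · rintro ⟨o, ho, e⟩ u hu
    have oQ : Commute u o := ind (P := fun q => Commute q o) (fun t ht => h.RO t ((hT t).1 ht).1 o ho)
      (fun t ht => (h.σO o ho).mul_left (h.RO t ((hT t).1 ht).1 o ho)) u hu
    rcases e with rfl | rfl
    · exact oQ.symm
    · exact Commute.mul_left (es.comm_z u hu).symm oQ.symm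

/-- the two parts of a vector -/
def pa (β : C5) : C5 := fun i => ⟨(β i).re, 0⟩

def pb (β : C5) : C5 := fun i => ⟨(β (![0, 1, 4, 2, 3] i)).im, 0⟩

theorem qq_split : ∀ β : C5, s5 β = 0 → s5 (pa β) = 0 ∧ s5 (pb β) = 0 ∧ Two5 (pa β) ∧ Two5 (pb β) ∧
    ∀ i, pa β i + ω * pb β (c3 i) = β i := by decide +kernel

theorem S4.dvd (h : S4 f V O g0 R p ν κ M1 M2 σ ρ Q) {X : Subgroup G} [X.Normal] (hX : Q ≤ X) :
    2 ^ 11 ∣ Nat.card X := by
  have F := h.rf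
  have hN : f.h ∈ normalizer (R : Set G) := h.NE (mem_normalizer_of_forall fun y hy => by
    obtain ⟨v, hv, c, rfl⟩ := h.toS0.mem_E.1 hy
    rw [← conj_mul, ← (comm_KA (h.sylV.le hv) h.hA).eq, mul_inv_cancel_right, h.hx, mul_zero]
    exact h.toS0.mem_E.2 ⟨v, hv, _, rfl⟩)
  have RX : R ≤ X := fun r hr => by
    obtain ⟨k1, k2, k3, k4, k5⟩ := qq_split _ (F.sum r hr)
    obtain ⟨s, hs, es⟩ := F.surj _ k1
    obtain ⟨t, ht, et⟩ := F.surj _ k2
    have m := conj_mem_of_mem_normalizer hN ht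
    obtain ⟨c, e⟩ := (F.p_eq hr (mul_mem hs m)).1 (by
      rw [F.mul _ hs _ m, es]
      funext i
      rw [Pi.add_apply, h.ph t ht, et, k5])
    rw [e]
    exact mul_mem (mul_mem (hX ((h.memQ s).2 (.inl ⟨hs, es ▸ k3⟩)))
      (Normal.conj_mem inferInstance _ (hX ((h.memQ t).2 (.inl ⟨ht, et ▸ k4⟩))) _))
      (hX ((h.memQ _).2 (.inl ⟨F.ζR c, F.pζ c ▸ fun _ => .inl rfl⟩)))
  obtain ⟨Y, hY, cY⟩ := exists_ext h.σR h.σσ h.toS3.σnR
  have σX : σ ∈ X := hX ((h.memQ σ).2 (.inr ⟨1, one_mem _, F.p_one ▸ fun _ => .inl rfl, (mul_one σ).symm⟩))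
  rw [show 2 ^ 11 = Nat.card Y by rw [cY, F.cardR]; rfl]
  exact card_dvd_of_le fun y hy => ((hY y).1 hy).elim (fun k => RX k)
    fun k => (mul_mem_cancel_left (inv_mem σX)).1 (RX k)

end CfsgLib.SzC
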