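import Cfsg.Agent.Lib.SzC.Defs
import Cfsg.Agent.Lib.G2C.TI

/-! Package RFX: computations in the permutation model (plans/SZC.md) -/

set_option autoImplicit false
set_option linter.unusedSectionVars false

namespace CfsgLib.SzC

open Subgroup Cfsg CfsgLib.Tech CfsgLib.StdR2 CfsgLib.Classical CfsgLib.ExtraTwo
open scoped commutatorElement

variable {G : Type*} [Group G] [Finite G] {f : Fd G}

namespace RFx

theorem add_self (c : GF4) : c + c = 0 := by revert c; decide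

theorem add_eq_zero {c d : GF4} : c + d = 0 ↔ c = d := by revert c d; decide

theorem add_self5 (β : C5) : β + β = 0 := funext fun i => add_self (β i)

theorem add_eq_zero5 {β γ : C5} : β + γ = 0 ↔ β = γ :=
  ⟨fun e => funext fun i => add_eq_zero.1 (congrFun e i), fun e => e ▸ add_self5 β⟩

theorem s5_add (β γ : C5) : s5 (β + γ) = s5 β + s5 γ := by simp only [s5, Pi.add_apply]; ring

theorem s5_zero : s5 0 = 0 := by simp [s5]

/-- the vectors with coordinate sum `0` -/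
def W5 : AddSubgroup C5 where
  carrier := {β | s5 β = 0}
  add_mem' := fun {a b} ha hb => by
    have ha' : s5 a = 0 := ha
    have hb' : s5 b = 0 := hb
    show s5 (a + b) = 0
    rw [s5_add, ha', hb', add_zero]
  zero_mem' := s5_zero
  neg_mem' := fun {a} ha => by rwa [neg_eq_of_add_eq_zero_right (add_self5 a)]

theorem card_W5 : Nat.card W5 = 256 := by
  have e : W5 ≃ (Fin 4 → GF4) :=
    { toFun := fun β i => β.1 i.succ
      invFun := fun γ => ⟨![γ 0 + γ 1 + γ 2 + γ 3, γ 0, γ 1, γ 2, γ 3], by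
        show s5 _ = 0
        simp only [s5, Matrix.cons_val]
        rw [← add_self (γ 0 + γ 1 + γ 2 + γ 3)]; ring⟩
      left_inv := fun β => Subtype.ext (funext fun i => by
        have hβ : s5 β.1 = 0 := β.2
        fin_cases i
        · refine (add_eq_zero.1 ?_).symm
          show β.1 0 + (β.1 1 + β.1 2 + β.1 3 + β.1 4) = 0
          rw [s5] at hβ
          linear_combination hβ
        all_goals rfl)
      right_inv := fun γ => funext fun i => by fin_cases i <;> rfl }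
  rw [Nat.card_congr e, Nat.card_fun, Nat.card_eq_fintype_card (α := GF4), card_GF4]
  simp

/-- the vector `𝟙 - e i` -/
def wv (i : Fin 5) : C5 := fun j => if j = i then 0 else 1

theorem s5_wv (i : Fin 5) : s5 (wv i) = 0 := by revert i; decide

theorem wv_eq_zero {i j : Fin 5} : wv i j = 0 ↔ j = i := by revert i j; decide

end RFx

open RFx

namespace RF

variable {D : Set G} {Z R : Subgroup G} {ζ : GF4 → G} {p : G → C5} {ν : G → Equiv.Perm (Fin 5)}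
  (h : RF D Z R ζ p ν)
include h

theorem ζ_zero : ζ 0 = 1 := by
  have := h.ζadd 0 0
  rw [add_zero] at this
  exact mul_eq_left.1 this.symm

theorem ζ_mem (c : GF4) : ζ c ∈ Z := (h.memZ _).2 ⟨c, rfl⟩

theorem ζ_sq (c : GF4) : ζ c * ζ c = 1 := by rw [← h.ζadd, add_self, h.ζ_zero]

theorem ζ_eq {c d : GF4} (e : ζ c = ζ d) : c = d :=
  add_eq_zero.1 (h.ζinj _ (by rw [h.ζadd, e, h.ζ_sq]))

theorem sqZ {y : G} (hy : y ∈ Z) : y * y = 1 := by
  obtain ⟨c, rfl⟩ := (h.memZ y).1 hy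
  exact h.ζ_sq c

theorem cZ {y r : G} (hy : y ∈ Z) (hr : r ∈ R) : y * r = r * y := h.cen hr y hy

theorem p_one : p 1 = 0 := (h.ker 1 (one_mem _)).2 (one_mem _)

theorem p_inv {r : G} (hr : r ∈ R) : p r⁻¹ = p r :=
  add_eq_zero5.1 (by rw [← h.mul _ (inv_mem hr) r hr, inv_mul_cancel, h.p_one])

theorem p_eq' {r s : G} (hr : r ∈ R) (hs : s ∈ R) : p r = p s ↔ s⁻¹ * r ∈ Z := by
  rw [← h.ker _ (mul_mem (inv_mem hs) hr), h.mul _ (inv_mem hs) r hr, h.p_inv hs, add_eq_zero5, eq_comm]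

theorem p_eq {r s : G} (hr : r ∈ R) (hs : s ∈ R) : p r = p s ↔ ∃ c, r = s * ζ c := by
  rw [h.p_eq' hr hs, h.memZ]
  exact exists_congr fun c => inv_mul_eq_iff_eq_mul

theorem sq_mem {r : G} (hr : r ∈ R) : r * r ∈ Z := h.sq r hr ▸ h.ζ_mem _

theorem pow4 {r : G} (hr : r ∈ R) : r ^ 4 = 1 := by
  rw [← h.sqZ (h.sq_mem hr), show 4 = 2 + 2 from rfl, pow_add, pow_two]

theorem conj_eq {r s : G} (hr : r ∈ R) (hs : s ∈ R) : r * s * r⁻¹ = s * ζ (b5 (p r) (p s)) := by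
  rw [h.comm r hr s hs, mul_assoc s, ← h.cZ (h.ζ_mem _) hr]; group

theorem cm_eq {r s : G} (hr : r ∈ R) (hs : s ∈ R) : ⁅r, s⁆ = ζ (b5 (p r) (p s)) := by
  rw [commutatorElement_def, h.conj_eq hr hs, ← h.cZ (h.ζ_mem _) hs, mul_inv_cancel_right]

theorem cm_mem {r s : G} (hr : r ∈ R) (hs : s ∈ R) : ⁅r, s⁆ ∈ Z := h.cm_eq hr hs ▸ h.ζ_mem _

theorem p_conj {r s : G} (hr : r ∈ R) (hs : s ∈ R) : p (r * s * r⁻¹) = p s :=
  (h.p_eq (mul_mem (mul_mem hr hs) (inv_mem hr)) hs).2 ⟨_, h.conj_eq hr hs⟩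

theorem cardZ : Nat.card Z = 4 := by
  rw [← Nat.card_eq_of_bijective (fun c : GF4 => (⟨ζ c, h.ζ_mem c⟩ : Z))
    ⟨fun a b e => h.ζ_eq (congrArg Subtype.val e), fun y => ?_⟩, Nat.card_eq_fintype_card, card_GF4]
  obtain ⟨c, e⟩ := (h.memZ y).1 y.2
  exact ⟨c, Subtype.ext e.symm⟩

/-- the image of a subgroup -/
def img (P : Subgroup G) : AddSubgroup C5 where
  carrier := {v | ∃ x ∈ P, x ∈ R ∧ p x = v}
  add_mem' := by
    rintro _ _ ⟨x, hx, hx', rfl⟩ ⟨y, hy, hy', rfl⟩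
    exact ⟨x * y, mul_mem hx hy, mul_mem hx' hy', h.mul x hx' y hy'⟩
  zero_mem' := ⟨1, one_mem _, one_mem _, h.p_one⟩
  neg_mem' := fun {a} ha => by rwa [neg_eq_of_add_eq_zero_right (add_self5 a)]

/-- the preimage of a subgroup -/
def sub (W : AddSubgroup C5) : Subgroup G where
  carrier := {x | x ∈ R ∧ p x ∈ W}
  mul_mem' := fun {x y} hx hy => ⟨mul_mem hx.1 hy.1, by rw [h.mul x hx.1 y hy.1]; exact add_mem hx.2 hy.2⟩
  one_mem' := ⟨one_mem _, h.p_one ▸ zero_mem _⟩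
  inv_mem' := fun hx => ⟨inv_mem hx.1, by rw [h.p_inv hx.1]; exact hx.2⟩

theorem card_img {P : Subgroup G} (hZ : Z ≤ P) (hP : P ≤ R) : Nat.card P = 4 * Nat.card (h.img P) := by
  obtain ⟨J, h1, h2⟩ := G2C.Ti.exists_img (P := P) (f := fun x => Multiplicative.ofAdd (p x))
    fun x hx y hy => congrArg _ (h.mul x (hP hx) y (hP hy))
  rw [h2 Z hZ fun x hx => h.ker x (hP hx), h.cardZ, mul_comm]
  exact congrArg _ (Nat.card_congr (Equiv.subtypeEquiv Multiplicative.toAdd fun e => (h1 e).trans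
    ⟨fun ⟨x, a, b⟩ => ⟨x, a, hP a, b⟩, fun ⟨x, a, _, b⟩ => ⟨x, a, b⟩⟩))

theorem Z_le_sub (W : AddSubgroup C5) : Z ≤ h.sub W := fun y hy =>
  ⟨h.ZR hy, (h.ker y (h.ZR hy)).2 hy ▸ zero_mem _⟩

theorem card_sub {W : AddSubgroup C5} (hW : W ≤ W5) : Nat.card (h.sub W) = 4 * Nat.card W := by
  rw [h.card_img (h.Z_le_sub W) fun _ hx => hx.1, show h.img (h.sub W) = W from le_antisymm
    (fun _ ⟨_, a, _, e⟩ => e ▸ a.2) fun v hv => by
      obtain ⟨r, hr, rfl⟩ := h.surj v (hW hv)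
      exact ⟨r, ⟨hr, hv⟩, hr, rfl⟩]

theorem mem_of_img {P : Subgroup G} (hZ : Z ≤ P) {r : G} (hr : r ∈ R) (e : p r ∈ h.img P) : r ∈ P := by
  obtain ⟨x, h1, h2, e⟩ := e
  exact (mul_mem_cancel_left (inv_mem h1)).1 (hZ ((h.p_eq' hr h2).1 e.symm))

theorem cardR : Nat.card R = 1024 := by
  have := h.card_sub (W := W5) le_rfl
  rwa [show h.sub W5 = R from Subgroup.ext fun x => ⟨fun k => k.1, fun k => ⟨k, h.sum x k⟩⟩, card_W5] at this

/-- `ν g` is determined by the action -/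
theorem ν_eq {g : G} (hg : g ∈ normalizer (R : Set G)) (hg' : g ∈ centralizer (Z : Set G))
    {π : Equiv.Perm (Fin 5)} (e : ∀ r ∈ R, ∀ i, p (g * r * g⁻¹) (π i) = p r i) : ν g = π := by
  refine Equiv.ext fun i => ?_
  obtain ⟨r, hr, e'⟩ := h.surj _ (s5_wv i)
  have h1 := h.act g hg hg' r hr i
  have h2 := e r hr (π.symm (ν g i))
  rw [Equiv.apply_symm_apply, h1, e', wv_eq_zero.2 rfl, eq_comm, wv_eq_zero] at h2
  exact (Equiv.symm_apply_eq π).1 h2

theorem ν_mul {g k : G} (hg : g ∈ normalizer (R : Set G)) (hg' : g ∈ centralizer (Z : Set G))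
    (hk : k ∈ normalizer (R : Set G)) (hk' : k ∈ centralizer (Z : Set G)) : ν (g * k) = ν g * ν k :=
  h.ν_eq (mul_mem hg hk) (mul_mem hg' hk') fun r hr i => by
    rw [show g * k * r * (g * k)⁻¹ = g * (k * r * k⁻¹) * g⁻¹ by group, Equiv.Perm.mul_apply,
      h.act g hg hg' _ (conj_mem_of_mem_normalizer hk hr), h.act k hk hk' r hr]

theorem ν_R {r : G} (hr : r ∈ R) : ν r = 1 :=
  h.ν_eq (le_normalizer hr) (h.cen hr) fun s hs i => by rw [h.p_conj hr hs]; rfl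

theorem ν_inv {g : G} (hg : g ∈ normalizer (R : Set G)) (hg' : g ∈ centralizer (Z : Set G)) :
    ν g⁻¹ = (ν g)⁻¹ :=
  eq_inv_of_mul_eq_one_left (by
    rw [← h.ν_mul (inv_mem hg) (inv_mem hg') hg hg', inv_mul_cancel, h.ν_R (one_mem _)])

theorem conj {g : G} (hg : g ∈ centralizer (Z : Set G)) :
    RF D Z (cj g R) ζ (fun y => p (g⁻¹ * y * g)) (fun y => ν (g⁻¹ * y * g)) := by
  have eZ : cj g Z = Z := mem_normalizer_iff_cj.1 (centralizer_le_normalizer _ hg)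
  have m : ∀ x y, g⁻¹ * (x * y) * g = g⁻¹ * x * g * (g⁻¹ * y * g) := fun x y => by group
  have c : ∀ x y, g⁻¹ * (x * y * x⁻¹) * g = g⁻¹ * x * g * (g⁻¹ * y * g) * (g⁻¹ * x * g)⁻¹ := fun x y => by group
  have n : ∀ x ∈ normalizer ((cj g R : Subgroup G) : Set G), g⁻¹ * x * g ∈ normalizer (R : Set G) :=
    fun x hx => by rwa [← cj_normalizer, mem_cj] at hx
  have z : ∀ x ∈ centralizer (Z : Set G), g⁻¹ * x * g ∈ centralizer (Z : Set G) :=
    fun x hx => mul_mem (mul_mem (inv_mem hg) hx) hg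
  have d : ∀ x, g⁻¹ * x * g ∈ D ↔ x ∈ D := fun x =>
    ⟨fun k => by simpa [mul_assoc] using h.Dconj _ k g, fun k => by simpa using h.Dconj _ k g⁻¹⟩
  have y : ∀ c, g * ζ c * g⁻¹ = ζ c := fun c => by rw [← hg _ (h.ζ_mem c), mul_inv_cancel_right]
  refine ⟨h.Dconj, h.memZ, h.ζadd, h.ζinj, eZ.ge.trans (cj_mono g h.ZR), fun r hr => ?_,
    fun r hr => h.sum _ (mem_cj.1 hr), fun r hr s hs => ?_,
    fun v hv => ?_, fun r hr => ?_, fun r hr => ?_, fun r hr s hs => ?_, fun x h1 h2 r hr i => ?_,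
    fun x h1 h2 h3 h4 => mem_cj.2 (h.ker2 _ (n x h1) (z x h2) h3 ?_),
    fun r hr => (d r).symm.trans (h.memD _ (mem_cj.1 hr)), fun x hx r hr h1 h2 => ?_⟩
  · simpa [mul_assoc] using mul_mem (mul_mem hg (h.cen (mem_cj.1 hr))) (inv_mem hg)
  · rw [m, h.mul _ (mem_cj.1 hr) _ (mem_cj.1 hs)]
  · obtain ⟨r, hr, e⟩ := h.surj v hv
    exact ⟨g * r * g⁻¹, conj_mem_cj.2 hr, by simpa [mul_assoc] using e⟩
  · rw [h.ker _ (mem_cj.1 hr), ← mem_cj, eZ]
  · rw [← y, ← h.sq _ (mem_cj.1 hr)]; group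
  · rw [← y]
    have := h.comm _ (mem_cj.1 hr) _ (mem_cj.1 hs)
    calc r * s = g * (g⁻¹ * r * g * (g⁻¹ * s * g)) * g⁻¹ := by group
      _ = _ := by rw [this]; group
  · rw [c, h.act _ (n x h1) (z x h2) _ (mem_cj.1 hr)]
  · rw [show g⁻¹ * x * g = g⁻¹ * x * g⁻¹⁻¹ by rw [inv_inv], conj_pow, h4]; group
  · rw [← cj_normalizer, mem_cj]
    exact h.DN _ (z x hx) _ (mem_cj.1 hr) ((d r).2 h1) (c x r ▸ mem_cj.1 h2)

end RF

end CfsgLib.SzC
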