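import Cfsg.Agent.Lib.SzC.Zero
import Cfsg.Agent.Lib.SzC.RFx

/-! Auxiliary lemmas for the packages QQ, RHO, TRA (plans/SZC.md) -/

set_option autoImplicit false
set_option linter.unusedSectionVars false

namespace CfsgLib.SzC

open Subgroup Cfsg CfsgLib.Tech CfsgLib.StdR2 CfsgLib.Classical CfsgLib.ExtraTwo
open scoped commutatorElement

variable {G : Type*} [Group G] [Finite G] {f : Fd G}
  {V O : Subgroup G} {g0 : G} {R : Subgroup G} {p : G → C5} {ν : G → Equiv.Perm (Fin 5)} {κ : GF4}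
  {M1 M2 : Subgroup G} {σ ρ : G} {Q : Subgroup G}

/-- the commutator lies in `⟨z⟩` -/
def Cz (z x y : G) : Prop := x * y * x⁻¹ * y⁻¹ ∈ zpowers z

namespace Cz

variable {z x x' y g : G}

theorem cjz (hg : Commute g z) (hx : x ∈ zpowers z) : g * x * g⁻¹ = x := by
  obtain ⟨n, rfl⟩ := mem_zpowers_iff.1 hx
  rw [(hg.zpow_right n).eq, mul_inv_cancel_right]

theorem symm (h : Cz z x y) : Cz z y x := by
  simpa [Cz, mul_assoc] using inv_mem h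

theorem mul (hx : Commute x z) (h : Cz z x y) (h' : Cz z x' y) : Cz z (x * x') y := by
  have := mul_mem h' h
  rw [← cjz hx h'] at this
  unfold Cz
  convert this using 1
  group

theorem inv (hx : Commute x z) (h : Cz z x y) : Cz z x⁻¹ y := by
  have := inv_mem h
  rw [← cjz hx.inv_left this] at this
  unfold Cz
  convert this using 1
  group

theorem conj (hg : Commute g z) (h : Cz z x y) : Cz z (g * x * g⁻¹) (g * y * g⁻¹) := by
  unfold Cz at h ⊢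
  rw [← cjz hg h] at h
  convert h using 1
  group

theorem of_es (h : ES Q z) (hx : x ∈ Q) (hy : y ∈ Q) : Cz z x y := h.mem_zpowers.2 (h.commutator hx hy)

end Cz

theorem exists_ext {H : Subgroup G} {s : G} (hn : s ∈ normalizer (H : Set G)) (h2 : s * s ∈ H) (h1 : s ∉ H) :
    ∃ Y : Subgroup G, (∀ y, y ∈ Y ↔ y ∈ H ∨ s⁻¹ * y ∈ H) ∧ Nat.card Y = Nat.card H * 2 := by
  obtain ⟨Y, hY⟩ : ∃ Y : Subgroup G, ∀ y, y ∈ Y ↔ y ∈ H ∨ s⁻¹ * y ∈ H :=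
    ⟨{ carrier := {y | y ∈ H ∨ s⁻¹ * y ∈ H}
       one_mem' := .inl (one_mem _)
       mul_mem' := fun {x y} hx hy => by
         rcases hx with hx | hx <;> rcases hy with hy | hy
         · exact .inl (mul_mem hx hy)
         · exact .inr (by convert mul_mem (conj_mem_of_mem_normalizer' hn hx) hy using 1; group)
         · exact .inr (by convert mul_mem hx hy using 1; group)
         · exact .inl (by convert mul_mem (mul_mem (conj_mem_of_mem_normalizer hn hx) h2) hy using 1; group)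
       inv_mem' := fun {x} hx => hx.imp inv_mem fun hx => by
         convert mul_mem (conj_mem_of_mem_normalizer' hn (inv_mem hx)) (inv_mem h2) using 1
         group }, fun _ => Iff.rfl⟩
  refine ⟨Y, hY, ?_⟩
  rw [← card_mul_relIndex' fun y hy => (hY y).2 (.inl hy), relIndex_eq_two_iff.2 ⟨s, (hY s).2 (.inr (by simp)),
    fun y hy => ?_⟩]
  rcases (hY y).1 hy with k | k
  · exact .inr ⟨k, fun c => h1 ((mul_mem_cancel_left k).1 c)⟩
  · exact .inl ⟨by convert mul_mem (conj_mem_of_mem_normalizer hn k) h2 using 1; group,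
      fun c => h1 (inv_mem_iff.1 ((mul_mem_cancel_right c).1 k))⟩

theorem qx_two : ∀ β γ : GF4, (β = 0 ∨ β = 1) → (γ = 0 ∨ γ = 1) → (β + γ = 0 ∨ β + γ = 1) ∧ β * β = β := by decide

theorem qx_b5 {β γ : C5} (h : Two5 β) (h' : Two5 γ) : b5 β γ = 0 ∨ b5 β γ = 1 := by
  have m : ∀ i, β i * γ i = 0 ∨ β i * γ i = 1 := fun i => by
    rcases h i with e | e <;> rcases h' i with e' | e' <;> simp [e, e']
  exact (qx_two _ _ (qx_two _ _ (qx_two _ _ (qx_two _ _ (m 0) (m 1)).1 (m 2)).1 (m 3)).1 (m 4)).1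

/-- a basis of the vectors over the prime field -/
def tb : Fin 4 → C5 := ![![0, 1, 1, 0, 0], ![0, 1, 0, 1, 0], ![0, 1, 0, 0, 1], ![1, 1, 0, 0, 0]]

theorem tb_ok : ∀ i, s5 (tb i) = 0 ∧ Two5 (tb i) ∧ (i ≠ 3 → tb i 0 = 0) := by decide +kernel

theorem tb_zero : ∀ β : C5, s5 β = 0 → (∀ i, b5 β (tb i) = 0) → β = 0 := by decide +kernel

theorem tb_two : ∀ β : C5, s5 β = 0 → (∀ i, b5 β (tb i) = 0 ∨ b5 β (tb i) = 1) → Two5 β := by decide +kernel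

theorem tb_perm : ∀ π : Equiv.Perm (Fin 5), (∀ i, i ≠ 3 → ∀ j, tb i (π j) = tb i j) → π = 1 := by decide +kernel

namespace RF

variable {D : Set G} {Z : Subgroup G} {ζ : GF4 → G} (h : RF D Z R ζ p ν) {r t : G}
include h

theorem ζZ (c : GF4) : ζ c ∈ Z := (h.memZ _).2 ⟨c, rfl⟩

theorem ζR (c : GF4) : ζ c ∈ R := h.ZR (h.ζZ c)

theorem pζ (c : GF4) : p (ζ c) = 0 := (h.ker _ (h.ζR c)).2 (h.ζZ c)

theorem Rζ (hr : r ∈ R) (c : GF4) : Commute r (ζ c) := (h.cen hr _ (h.ζZ c)).symm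

theorem cmt (hr : r ∈ R) (ht : t ∈ R) : r * t * r⁻¹ * t⁻¹ = ζ (b5 (p r) (p t)) := by
  rw [h.conj_eq hr ht, (h.Rζ ht _).eq, mul_inv_cancel_right]

theorem zp {c : GF4} : ζ c ∈ zpowers (ζ 1) ↔ c = 0 ∨ c = 1 := by
  rw [mem_zpowers_iff_of_mul_self (by rw [← h.ζadd, show (1 : GF4) + 1 = 0 by decide, h.ζ_zero])]
  exact ⟨Or.imp (h.ζinj c) h.ζ_eq, Or.imp (fun e => by rw [e, h.ζ_zero]) fun e => by rw [e]⟩

theorem cz_iff (hr : r ∈ R) (ht : t ∈ R) : Cz (ζ 1) r t ↔ b5 (p r) (p t) = 0 ∨ b5 (p r) (p t) = 1 := by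
  rw [Cz, h.cmt hr ht, h.zp]

theorem cenZ {g : G} (h1 : Commute g (ζ 1)) (h2 : Commute g (ζ ω)) : g ∈ centralizer (Z : Set G) := fun y hy => by
  obtain ⟨c, rfl⟩ := (h.memZ y).1 hy
  rcases (by decide : ∀ c : GF4, c = 0 ∨ c = 1 ∨ c = ω ∨ c = 1 + ω) c with rfl | rfl | rfl | rfl
  · rw [h.ζ_zero, mul_one, one_mul]
  · exact h1.eq.symm
  · exact h2.eq.symm
  · exact (h.ζadd 1 ω ▸ h1.mul_right h2).eq.symm

theorem normZ {g : G} (h1 : Commute g (ζ 1)) (h2 : g * ζ ω * g⁻¹ ∈ Z) : g ∈ normalizer (Z : Set G) :=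
  mem_normalizer_of_forall fun y hy => by
    obtain ⟨c, rfl⟩ := (h.memZ y).1 hy
    have e : g * ζ 1 * g⁻¹ ∈ Z := by rw [h1.eq, mul_inv_cancel_right]; exact h.ζZ 1
    rcases (by decide : ∀ c : GF4, c = 0 ∨ c = 1 ∨ c = ω ∨ c = 1 + ω) c with rfl | rfl | rfl | rfl
    · simp [h.ζ_zero]
    · exact e
    · exact h2
    · rw [h.ζadd, ← conj_mul]; exact mul_mem e h2

theorem p_cz {g : G} (hr : r ∈ R) (e : Cz (ζ 1) g r) : g * r * g⁻¹ ∈ R ∧ p (g * r * g⁻¹) = p r := by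
  have k := zpowers_le.2 (h.ζZ 1) e
  rw [← inv_mul_cancel_right (g * r * g⁻¹) r]
  exact ⟨mul_mem (h.ZR k) hr, by rw [h.mul _ (h.ZR k) _ hr, (h.ker _ (h.ZR k)).2 k, zero_add]⟩

theorem exists_sub (P : C5 → Prop) (h0 : P 0) (ha : ∀ β γ, P β → P γ → P (β + γ)) :
    ∃ S : Subgroup G, ∀ y, y ∈ S ↔ y ∈ R ∧ P (p y) :=
  ⟨{ carrier := {y | y ∈ R ∧ P (p y)}
     one_mem' := ⟨one_mem _, h.p_one ▸ h0⟩
     mul_mem' := fun {x y} hx hy => ⟨mul_mem hx.1 hy.1, h.mul x hx.1 y hy.1 ▸ ha _ _ hx.2 hy.2⟩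
     inv_mem' := fun {x} hx => ⟨inv_mem hx.1, h.p_inv hx.1 ▸ hx.2⟩ }, fun _ => Iff.rfl⟩

theorem card_pred (P : C5 → Prop) {S : Subgroup G} (hS : ∀ y, y ∈ S ↔ y ∈ R ∧ P (p y)) :
    Nat.card S = Nat.card {β : C5 // s5 β = 0 ∧ P β} * 4 := by
  choose s hs es using h.surj
  have e : ∀ β hβ c, p (s β hβ * ζ c) = β := fun β hβ c => by rw [h.mul _ (hs β hβ) _ (h.ζR c), h.pζ, add_zero, es]
  rw [show 4 = Nat.card GF4 by rw [Nat.card_eq_fintype_card]; decide, ← Nat.card_prod]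
  refine (Nat.card_eq_of_bijective (fun x : {β : C5 // s5 β = 0 ∧ P β} × GF4 => (⟨s x.1 x.1.2.1 * ζ x.2,
    (hS _).2 ⟨mul_mem (hs ..) (h.ζR _), by rw [e]; exact x.1.2.2⟩⟩ : S)) ⟨?_, fun y => ?_⟩).symm
  · rintro ⟨⟨β, hβ⟩, c⟩ ⟨⟨γ, hγ⟩, d⟩ k
    have k' : s β hβ.1 * ζ c = s γ hγ.1 * ζ d := congrArg Subtype.val k
    obtain rfl : β = γ := by rw [← e β hβ.1 c, k', e]
    rw [h.ζ_eq (mul_left_cancel k')]
  · obtain ⟨h1, h2⟩ := (hS y).1 y.2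
    obtain ⟨c, k⟩ := (h.p_eq h1 (hs _ (h.sum _ h1))).1 (es ..).symm
    exact ⟨⟨⟨_, h.sum _ h1, h2⟩, c⟩, Subtype.ext k.symm⟩

theorem two_of (hr : r ∈ R) (e : ∀ t ∈ R, Two5 (p t) → Cz (ζ 1) r t) : Two5 (p r) :=
  tb_two _ (h.sum r hr) fun i => by
    obtain ⟨t, ht, et⟩ := h.surj _ (tb_ok i).1
    exact et ▸ (h.cz_iff hr ht).1 (e t ht (et ▸ (tb_ok i).2.1))

theorem ν_one {g : G} (hg : g ∈ normalizer (R : Set G)) (hg' : g ∈ centralizer (Z : Set G))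
    (e : ∀ t ∈ R, Two5 (p t) → p t 0 = 0 → Cz (ζ 1) g t) : ν g = 1 :=
  tb_perm _ fun i hi j => by
    obtain ⟨t, ht, et⟩ := h.surj _ (tb_ok i).1
    rw [← et, ← h.act g hg hg' t ht j, (h.p_cz ht (e t ht (et ▸ (tb_ok i).2.1) (et ▸ (tb_ok i).2.2 hi))).2]

theorem two_cj {g : G} (hg : g ∈ normalizer (R : Set G)) (hg' : g ∈ centralizer (Z : Set G)) (hr : r ∈ R)
    (e : Two5 (p r)) : Two5 (p (g * r * g⁻¹)) := fun i => by
  rw [← (ν g).apply_symm_apply i, h.act g hg hg' r hr]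
  exact e _

end RF

namespace S3

variable (h : S3 f V O g0 R p ν κ M1 M2 σ ρ) {g r o : G}
include h

theorem σz : Commute σ f.z := mul_inv_eq_iff_eq_mul.1 (by rw [h.σZ, mul_one])

theorem σω (hr : r ∈ R) : ¬ Commute (σ * r) (f.x 0 0 ω) := fun c => by
  have := mul_inv_eq_iff_eq_mul.2 c.eq
  rw [show σ * r * f.x 0 0 ω * (σ * r)⁻¹ = σ * (r * f.x 0 0 ω * r⁻¹) * σ⁻¹ by group, (h.rf.Rζ hr ω).eq,
    mul_inv_cancel_right, h.σZ] at this
  exact absurd (h.rf.ζ_eq this) (by decide)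

theorem σr (hr : r ∈ R) : σ * r ∉ R := fun c => h.σω hr (h.rf.Rζ c ω)

theorem σnR : σ ∉ R := by simpa using h.σr (one_mem _)

theorem σcz (hr : r ∈ R) (e : Two5 (p r)) : Cz f.z σ r := by
  rcases h.σ2 r hr e with k | k <;> rw [Cz, k]
  · simp
  · rw [(h.rf.Rζ hr 1).eq, mul_inv_cancel_right]; exact mem_zpowers _

theorem fixZ {c : GF4} (e : Commute σ (f.x 0 0 c)) : c = 0 ∨ c = 1 :=
  (by decide : ∀ c : GF4, c * c = c → c = 0 ∨ c = 1) c (h.rf.ζ_eq (by rw [← h.σZ, e.eq, mul_inv_cancel_right]))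

theorem σsq : σ * σ ∈ zpowers f.z := by
  obtain ⟨c, e⟩ := (h.rf.memZ _).1 ((h.rf.ker _ h.σσ).1 (tb_zero _ (h.rf.sum _ h.σσ) fun i => by
    obtain ⟨t, ht, et⟩ := h.rf.surj _ (tb_ok i).1
    refine h.rf.ζinj _ ?_
    rw [← et, ← h.rf.cmt h.σσ ht, mul_inv_eq_one, show σ * σ * t * (σ * σ)⁻¹ = σ * (σ * t * σ⁻¹) * σ⁻¹ by group]
    rcases h.σ2 t ht (et ▸ (tb_ok i).2.1) with k | k
    · rw [k, k]
    · rw [k, ← conj_mul, k, h.σz.eq, mul_inv_cancel_right, mul_assoc, ← h.rf.ζadd, show (1 : GF4) + 1 = 0 by decide,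
        h.rf.ζ_zero, mul_one]))
  exact e ▸ h.rf.zp.2 (h.fixZ (e ▸ (Commute.refl σ).mul_right (Commute.refl σ)))

theorem split (hg : g ∈ normalizer (f.Z : Set G)) (hz : Commute g f.z) :
    g ∈ centralizer (f.Z : Set G) ∨ σ⁻¹ * g ∈ centralizer (f.Z : Set G) := by
  obtain ⟨c, e⟩ := (h.rf.memZ _).1 (conj_mem_of_mem_normalizer hg (h.rf.ζZ ω))
  rcases (by decide : ∀ c : GF4, c = 0 ∨ c = 1 ∨ c = ω ∨ c = ω * ω) c with rfl | rfl | rfl | rfl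
  · rw [h.rf.ζ_zero, conj_eq_one_iff] at e
    exact absurd (h.rf.ζinj _ e) (by decide)
  · have e' := e.trans (mul_inv_eq_iff_eq_mul.2 hz.eq).symm
    rw [mul_left_inj, mul_right_inj] at e'
    exact absurd (h.rf.ζ_eq e') (by decide)
  · exact .inl (h.rf.cenZ hz (mul_inv_eq_iff_eq_mul.1 e))
  · refine .inr (h.rf.cenZ (h.σz.inv_left.mul_left hz) (mul_inv_eq_iff_eq_mul.1 ?_))
    rw [show σ⁻¹ * g * f.x 0 0 ω * (σ⁻¹ * g)⁻¹ = σ⁻¹ * (g * f.x 0 0 ω * g⁻¹) * σ by group, e, ← h.σZ]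
    group

theorem kill (hr : r ∈ R) (ho : o ∈ O) (e : (σ * (r * o)) ^ 4 = 1) : o = 1 := by
  have c : Commute (σ * r) o := (h.σO o ho).mul_left (h.RO r hr o ho)
  have m : σ * r * (σ * r) ∈ R := by
    convert mul_mem (mul_mem (conj_mem_of_mem_normalizer h.σR hr) h.σσ) hr using 1
    group
  have e8 : o ^ 2 ^ 3 = 1 := by
    have : (σ * r * o) ^ (2 * 4) = 1 := by rw [mul_comm, pow_mul, mul_assoc, e, one_pow]
    rwa [c.mul_pow, pow_mul, pow_two, h.rf.pow4 m, one_mul] at this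
  exact orderOf_eq_one_iff.1 (Nat.eq_one_of_dvd_coprimes ((Nat.coprime_two_left.2 h.oddO).pow_left 3)
    (orderOf_dvd_of_pow_eq_one e8) (orderOf_dvd_natCard O ho))

end S3

end CfsgLib.SzC
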