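import Cfsg.Agent.Lib.SzC.QQx

/-! Package RHO: `ρ` normalises `Q` (plans/SZC.md) -/

set_option autoImplicit false
set_option linter.unusedSectionVars false

namespace CfsgLib.SzC

open Subgroup Cfsg CfsgLib.Tech CfsgLib.StdR2 CfsgLib.Classical CfsgLib.ExtraTwo
open scoped commutatorElement

variable {G : Type*} [Group G] [Finite G] {f : Fd G}
  {V O : Subgroup G} {g0 : G} {R : Subgroup G} {p : G → C5} {ν : G → Equiv.Perm (Fin 5)} {κ : GF4}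
  {M1 M2 : Subgroup G} {σ ρ : G} {Q : Subgroup G}

/-- the commutator with the square of a permutation -/
def rF (x : Equiv.Perm (Fin 5) × C5) : C5 := fun i => x.2 ((x.1 * x.1)⁻¹ i) + x.2 i

def rL : List (Equiv.Perm (Fin 5) × C5) := [(1, tb 0), (Equiv.swap 2 3 * Equiv.swap 3 4, tb 0),
  (Equiv.swap 2 3 * Equiv.swap 3 4, tb 1), (Equiv.swap 2 3 * Equiv.swap 3 4, tb 2), (Equiv.swap 1 2 * Equiv.swap 2 3, tb 2)]

theorem rL_sg : ∀ x ∈ rL, Equiv.Perm.sign x.1 = 1 := by simp [rL]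

theorem rL_ok : ∀ x ∈ rL, x.1 0 = 0 ∧ s5 x.2 = 0 ∧ x.2 0 = 0 ∧ q5 x.2 = 1 := by
  simp only [rL, List.forall_mem_cons, List.not_mem_nil, IsEmpty.forall_iff, implies_true, and_true]
  decide +kernel

theorem rL_gen : ∀ β : C5, s5 β = 0 → Two5 β → β 0 = 0 → ∃ x ∈ rL, ∃ y ∈ rL, β = rF x + rF y := by decide +kernel

theorem rho_b5 (a : GF4) (β : C5) (e : s5 β = 0) : b5 (a • e1) β = a * β 0 := by
  have t : (2 : GF4) = 0 := by decide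
  simp only [b5, s5, e1, Pi.smul_apply, smul_eq_mul, Matrix.cons_val] at e ⊢
  linear_combination a * e - a * β 0 * t

theorem rho_e1 : ∀ a : GF4, (a = 0 ∨ a = 1 → Two5 (a • e1)) ∧ (a • e1) 1 = a := by decide +kernel

theorem rho_fix : ∀ π : Equiv.Perm (Fin 5), (π 0 = 0 → ∀ i, e1 (π.symm i) = e1 i) ∧
    ((∀ i, e1 (π i) = e1 i) → π.symm 0 = 0) := by decide +kernel

theorem rho_dec' : ∀ β : C5, s5 β = 0 → (∀ i, i ≠ 3 → b5 β (tb i) = 0 ∨ b5 β (tb i) = 1) → Two5 (β + β 1 • e1) := by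
  decide +kernel

theorem rho_dec (κ : GF4) (hκ : κ ≠ 0) (β : C5) (e : s5 β = 0) (h : ∀ i, i ≠ 3 → b5 β (tb i) = 0 ∨ b5 β (tb i) = 1) :
    ∃ a, Two5 (β + (κ * a) • e1) := ⟨κ⁻¹ * β 1, by rw [mul_inv_cancel_left₀ hκ]; exact rho_dec' β e h⟩

theorem rho_cm' : ∀ β : C5, s5 β = 0 → β 0 = 0 → q5 β = 1 → ∀ i j, (i = 0 ↔ j = 0) → β i + β j = 0 ∨ β i + β j = 1 := by
  decide +kernel

theorem rho_Z : ∀ c : GF4, s5 (c • tb 1) = 0 ∧ (c • tb 1) 0 = 0 ∧ b5 (c • tb 1) (tb 0) = c := by decide +kernel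

namespace S2

variable (h : S2 f V O g0 R p ν κ M1 M2)
include h

theorem xR (a b c : GF4) : f.x a b c ∈ R := h.UR (h.toFm.mem_U.2 ⟨a, b, c, rfl⟩)

theorem pU1 (a c : GF4) : p (f.x a 0 c) = (κ * a) • e1 := by rw [h.pU, mul_zero, zero_smul, add_zero]

theorem rho_U1 {r : G} (hr : r ∈ R) (e : p r 0 = 0) : r ∈ centralizer (f.U1 : Set G) := fun u hu => by
  obtain ⟨a, c, rfl⟩ := h.toFm.mem_U1.1 hu
  rw [h.rf.comm _ (h.xR ..) r hr, h.pU1, rho_b5 _ _ (h.rf.sum r hr), e, mul_zero, h.rf.ζ_zero, mul_one]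

theorem rho_gen {B T : Subgroup G} (hB : ∀ y, y ∈ B ↔ y ∈ R ∧ Two5 (p y) ∧ p y 0 = 0)
    (hT : ∀ θ ∈ centralizer (f.U1 : Set G), ∀ j ∈ M1, j * j = f.z → θ * j * θ⁻¹ * j⁻¹ ∈ T) : B ≤ T := by
  have F := h.rf
  have J : ∀ j ∈ R, p j 0 = 0 → j ∈ M1 := fun j hj e => h.mx1.SM j hj fun a c =>
    (h.rho_U1 hj e _ (h.toFm.mem_U1.2 ⟨a, c, rfl⟩)).symm
  have k : ∀ x ∈ rL, ∃ t ∈ T, t ∈ R ∧ p t = rF x := fun x hx => by
    obtain ⟨k2, k3, k4, k5⟩ := rL_ok x hx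
    obtain ⟨g, hg, gz, -, e⟩ := h.alt x.1 (rL_sg x hx)
    obtain ⟨j, hj, ej⟩ := F.surj _ k3
    have m := conj_mem_of_mem_normalizer (mul_mem hg hg) hj
    refine ⟨_, hT (g * g) (fun u hu => ?_) j (J j hj (ej ▸ k4)) (by rw [F.sq j hj, ej, k5]), mul_mem m (inv_mem hj), ?_⟩
    · obtain ⟨a, c, rfl⟩ := h.toFm.mem_U1.1 hu
      have u := h.xR a 0 c
      obtain ⟨d, ed⟩ := (F.p_eq (conj_mem_of_mem_normalizer hg u) u).1 (funext fun i => by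
        rw [← (ν g).apply_symm_apply i, F.act g hg gz _ u, Equiv.apply_symm_apply, h.pU1, Pi.smul_apply, Pi.smul_apply, e,
          (rho_fix _).1 k2])
      refine (mul_inv_eq_iff_eq_mul.1 ?_).symm
      rw [show g * g * f.x a 0 c * (g * g)⁻¹ = g * (g * f.x a 0 c * g⁻¹) * g⁻¹ by group, ed, ← conj_mul, ed,
        ← gz _ (F.ζZ d), mul_inv_cancel_right, mul_assoc, ← F.ζadd, (by decide : ∀ d : GF4, d + d = 0) d, F.ζ_zero, mul_one]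
    · funext i
      rw [F.mul _ m _ (inv_mem hj), F.p_inv hj, Pi.add_apply, ← (ν (g * g)).apply_symm_apply i,
        F.act _ (mul_mem hg hg) (mul_mem gz gz) j hj, Equiv.apply_symm_apply, F.ν_mul hg gz hg gz, e, ej]
      rfl
  intro b hb
  obtain ⟨h1, h2, h3⟩ := (hB b).1 hb
  obtain ⟨x, hx, y, hy, e⟩ := rL_gen _ (F.sum b h1) h2 h3
  obtain ⟨s, hs, s1, s2⟩ := k x hx
  obtain ⟨t, ht, t1, t2⟩ := k y hy
  obtain ⟨c, rfl⟩ := (F.p_eq h1 (mul_mem s1 t1)).1 (by rw [F.mul _ s1 _ t1, s2, t2, e])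
  obtain ⟨r, hr, er⟩ := F.surj _ (rho_Z c).1
  obtain ⟨j, hj, ej⟩ := F.surj _ (tb_ok 0).1
  have := hT r (h.rho_U1 hr (er ▸ (rho_Z c).2.1)) j (J j hj (ej ▸ rfl)) (by rw [F.sq j hj, ej]; congr 1)
  rw [F.cmt hr hj, er, ej, (rho_Z c).2.2] at this
  exact mul_mem (mul_mem hs ht) this

end S2

theorem S4.rho_cm (h : S4 f V O g0 R p ν κ M1 M2 σ ρ Q) {B : Subgroup G}
    (hB : ∀ y, y ∈ B ↔ y ∈ R ∧ Two5 (p y) ∧ p y 0 = 0) {θ j : G} (hθ : θ ∈ centralizer (f.U1 : Set G)) (hj : j ∈ M1)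
    (e : j * j = f.z) : θ * j * θ⁻¹ * j⁻¹ ∈ B := by
  have F := h.rf
  obtain ⟨t, w, tr⟩ := h.mx1.lin j hj
  obtain ⟨l, el⟩ := h.mx1.sq j hj t w tr
  obtain ⟨k1, -, k2⟩ := h.toFm.x_inj (e.symm.trans el)
  obtain rfl : t = 0 := (mul_eq_zero.1 k1.symm).resolve_right fun c => by simp [c] at k2
  have jR := h.mx1.ker j hj w tr
  have u := h.toS2.xR κ⁻¹ 0 0
  have pu : p (f.x κ⁻¹ 0 0) = (1 : GF4) • e1 := by rw [h.toS2.pU1, mul_inv_cancel₀ h.κ0]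
  have j0 : p j 0 = 0 := by
    have := F.cmt u jR
    rw [← (h.mx1.MU j hj κ⁻¹ 0).eq, pu, rho_b5 _ _ (F.sum j jR), one_mul] at this
    exact F.ζinj _ (by rw [← this]; group)
  have θZ : θ ∈ centralizer (f.Z : Set G) := centralizer_le h.toFm.Z_le1 hθ
  have θR := h.CZ θZ
  have m := conj_mem_of_mem_normalizer θR jR
  have ν0 : (ν θ).symm 0 = 0 := (rho_fix _).2 fun i => by
    have := F.act θ θR θZ _ u i
    rwa [← hθ _ (h.toFm.mem_U1.2 ⟨_, _, rfl⟩), mul_inv_cancel_right, pu, one_smul] at this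
  have pe : ∀ i, p (θ * j * θ⁻¹ * j⁻¹) i = p j ((ν θ).symm i) + p j i := fun i => by
    rw [F.mul _ m _ (inv_mem jR), F.p_inv jR, Pi.add_apply, ← F.act θ θR θZ j jR ((ν θ).symm i), Equiv.apply_symm_apply]
  refine (hB _).2 ⟨mul_mem m (inv_mem jR), fun i => ?_, by rw [pe, ν0, j0, add_zero]⟩
  rw [pe]
  refine rho_cm' _ (F.sum j jR) j0 (F.ζ_eq ((F.sq j jR).symm.trans e)) _ _ ⟨fun c => ?_, fun c => by rw [c, ν0]⟩
  exact (ν θ).symm.injective (c.trans ν0.symm)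

theorem S4.ρQ (h : S4 f V O g0 R p ν κ M1 M2 σ ρ Q) : ρ ∈ normalizer (Q : Set G) := by
  have F := h.rf
  obtain ⟨B, hB⟩ := F.exists_sub (fun β => Two5 β ∧ β 0 = 0) ⟨fun _ => .inl rfl, rfl⟩ fun β γ h1 h2 =>
    ⟨fun i => (qx_two _ _ (h1.1 i) (h2.1 i)).1, by rw [Pi.add_apply, h1.2, h2.2, add_zero]⟩
  have ρB : ρ⁻¹ ∈ normalizer (B : Set G) := mem_normalizer_of_forall fun b hb => by
    rw [inv_inv]
    refine mem_cj.1 (h.toS2.rho_gen hB (fun θ hθ j hj e => mem_cj.2 ?_) hb)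
    convert h.rho_cm hB (θ := ρ⁻¹ * θ * ρ) (j := ρ⁻¹ * j * ρ) (fun y hy => ?_)
      (conj_mem_of_mem_normalizer' h.ρM hj) ?_ using 1
    · group
    · calc _ = ρ⁻¹ * (ρ * y * ρ⁻¹ * θ) * ρ := by group
        _ = _ := by rw [hθ _ (conj_mem_of_mem_normalizer h.ρU hy)]; group
    · calc _ = ρ⁻¹ * (j * j) * ρ := by group
        _ = _ := by rw [e, mul_assoc, ← h.ρz.eq, inv_mul_cancel_left]
  have BQ : B ≤ Q := fun b hb => (h.memQ b).2 (.inl ⟨((hB b).1 hb).1, ((hB b).1 hb).2.1⟩)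
  have σQ : σ ∈ Q := (h.memQ σ).2 (.inr ⟨1, one_mem _, F.p_one ▸ fun _ => .inl rfl, (mul_one σ).symm⟩)
  have cz : ∀ x ∈ Q, ∀ y ∈ Q, Cz f.z (ρ * x * ρ⁻¹) (ρ * y * ρ⁻¹) := fun x hx y hy => (Cz.of_es h.es hx hy).conj h.ρz
  have dec : ∀ x ∈ Q, ∃ q ∈ Q, ∃ a c, ρ * x * ρ⁻¹ = q * f.x a 0 c := fun x hx => by
    have xz : Commute (ρ * x * ρ⁻¹) f.z := (h.ρz.mul_left (h.es.comm_z x hx)).mul_left h.ρz.inv_left
    have k : ∀ b ∈ B, Cz f.z (ρ * x * ρ⁻¹) b := fun b hb => by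
      simpa [mul_assoc] using cz x hx _ (BQ (conj_mem_of_mem_normalizer ρB hb))
    have x4 : (ρ * x * ρ⁻¹) ^ 4 = 1 := by rw [conj_pow, h.es.pow_four hx, mul_one, mul_inv_cancel]
    generalize ρ * x * ρ⁻¹ = y at xz k x4
    have fin : ∀ r ∈ R, (∀ b ∈ B, Cz f.z r b) → ∃ q ∈ Q, ∃ a c, r = q * f.x a 0 c := fun r hr e => by
      obtain ⟨a, ha⟩ := rho_dec κ h.κ0 _ (F.sum r hr) fun i hi => by
        obtain ⟨t, ht, et⟩ := F.surj _ (tb_ok i).1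
        exact et ▸ (F.cz_iff hr ht).1 (e t ((hB t).2 ⟨ht, et ▸ ⟨(tb_ok i).2.1, (tb_ok i).2.2 hi⟩⟩))
      have u := h.toS2.xR a 0 0
      exact ⟨r * (f.x a 0 0)⁻¹, (h.memQ _).2 (.inl ⟨mul_mem hr (inv_mem u), by
        rwa [F.mul _ hr _ (inv_mem u), F.p_inv u, h.toS2.pU1]⟩), a, 0, by group⟩
    have ω1 : f.x 0 0 ω ∈ B := (hB _).2 ⟨F.ζR ω, F.pζ ω ▸ ⟨fun _ => .inl rfl, rfl⟩⟩
    rcases h.toS3.split (F.normZ xz ((mul_mem_cancel_right (inv_mem (F.ζZ ω))).1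
      (zpowers_le.2 (F.ζZ 1) (k _ ω1)))) xz with c | c
    · exact fin y (F.ker2 y (h.CZ c) c (F.ν_one (h.CZ c) c fun t ht t1 t2 => k t ((hB t).2 ⟨ht, t1, t2⟩)) x4) k
    · have k' : ∀ b ∈ B, Cz f.z (σ⁻¹ * y) b := fun b hb =>
        (Cz.of_es h.es (inv_mem σQ) (BQ hb)).mul h.toS3.σz.inv_left (k b hb)
      obtain ⟨r, hr, o, ho, e⟩ := h.kerO _ (h.CZ c) c (F.ν_one (h.CZ c) c fun t ht t1 t2 => k' t ((hB t).2 ⟨ht, t1, t2⟩))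
      obtain rfl := h.toS3.kill hr ho (by rwa [← e, mul_inv_cancel_left])
      rw [mul_one] at e
      obtain ⟨q, hq, a, c, e'⟩ := fin r hr (e ▸ k')
      exact ⟨σ * q, mul_mem σQ hq, a, c, by rw [mul_assoc, ← e', ← e, mul_inv_cancel_left]⟩
  have uQ : ∀ a c, κ * a = 0 ∨ κ * a = 1 → f.x a 0 c ∈ Q := fun a c e =>
    (h.memQ _).2 (.inl ⟨h.toS2.xR .., h.toS2.pU1 a c ▸ (rho_e1 _).1 e⟩)
  obtain ⟨y, hy, yQ, yB⟩ : ∃ y ∈ Q, ρ * y * ρ⁻¹ ∈ Q ∧ y ∉ B := by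
    obtain ⟨t, ht, et⟩ := F.surj _ (tb_ok 3).1
    have tQ : t ∈ Q := (h.memQ t).2 (.inl ⟨ht, et ▸ (tb_ok 3).2.1⟩)
    by_cases c1 : ρ * t * ρ⁻¹ ∈ Q
    · exact ⟨t, tQ, c1, fun c => absurd (et ▸ ((hB t).1 c).2.2) (by decide)⟩
    by_cases c2 : ρ * σ * ρ⁻¹ ∈ Q
    · exact ⟨σ, σQ, c2, fun c => h.toS3.σnR ((hB σ).1 c).1⟩
    refine ⟨σ * t, mul_mem σQ tQ, ?_, fun c => h.toS3.σr ht ((hB _).1 c).1⟩
    obtain ⟨q, hq, a, c, e⟩ := dec t tQ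
    obtain ⟨q', hq', a', c', e'⟩ := dec σ σQ
    have u := h.toS2.xR a' 0 c'
    rw [← conj_mul, e, e', show q' * f.x a' 0 c' * (q * f.x a 0 c) =
      q' * (f.x a' 0 c' * q * (f.x a' 0 c')⁻¹) * (f.x a' 0 c' * f.x a 0 c) by group, h.mul, add_zero]
    refine mul_mem (mul_mem hq' (conj_mem_of_mem_normalizer
      (h.NZQ _ (centralizer_le_normalizer _ (F.cen u)) (F.Rζ u 1)).2 hq)) (uQ _ _ ?_)
    rw [mul_add]
    exact (by decide : ∀ s t : GF4, ¬ (s = 0 ∨ s = 1) → ¬ (t = 0 ∨ t = 1) → s + t = 0 ∨ s + t = 1) _ _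
      (fun k => c2 (e' ▸ mul_mem hq' (uQ _ _ k))) fun k => c1 (e ▸ mul_mem hq (uQ _ _ k))
  refine mem_normalizer_of_forall fun x hx => ?_
  obtain ⟨q, hq, a, c, e⟩ := dec x hx
  refine e ▸ mul_mem hq (uQ a c ?_)
  have k : Cz f.z (f.x a 0 c) (ρ * y * ρ⁻¹) := by
    have := (Cz.of_es h.es (inv_mem hq) yQ).mul (h.es.comm_z _ (inv_mem hq)) (cz x hx y hy)
    rwa [e, inv_mul_cancel_left] at this
  have nB : ρ * y * ρ⁻¹ ∉ B := fun c => yB (by simpa [mul_assoc] using conj_mem_of_mem_normalizer ρB c)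
  have u := h.toS2.xR a 0 c
  generalize ρ * y * ρ⁻¹ = w at yQ k nB
  rcases (h.memQ w).1 yQ with ⟨h1, h2⟩ | ⟨r, h1, -, rfl⟩
  · have := (F.cz_iff u h1).1 k
    rwa [h.toS2.pU1, rho_b5 _ _ (F.sum w h1), (h2 0).resolve_left fun c => nB ((hB w).2 ⟨h1, h2, c⟩), mul_one] at this
  · have m := conj_mem_of_mem_normalizer (le_normalizer h1) u
    have := congrFun (F.p_cz u k.symm).2 1
    rw [show σ * r * f.x a 0 c * (σ * r)⁻¹ = σ * (r * f.x a 0 c * r⁻¹) * σ⁻¹ by group, h.σp _ m, F.conj_eq h1 u,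
      F.mul _ u _ (F.ζR _), F.pζ, add_zero, h.toS2.pU1, (rho_e1 _).2] at this
    exact (by decide : ∀ s : GF4, s * s = s → s = 0 ∨ s = 1) _ this

end CfsgLib.SzC
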