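import Cfsg.Agent.Lib.SzC.SigB

/-! Package SIG: the elements `σ` and `ρ` (plans/SZC.md) -/

set_option autoImplicit false
set_option linter.unusedSectionVars false

namespace CfsgLib.SzC

open Subgroup Cfsg CfsgLib.Tech CfsgLib.StdR2 CfsgLib.Classical CfsgLib.ExtraTwo RFx
open scoped commutatorElement

variable {G : Type*} [Group G] [Finite G] {f : Fd G}
  {V O : Subgroup G} {g0 : G} {R : Subgroup G} {p : G → C5} {ν : G → Equiv.Perm (Fin 5)} {κ : GF4}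
  {M1 M2 : Subgroup G} {σ ρ : G} {Q : Subgroup G}

theorem sig_rat : ∀ β : C5, Rat5 β → s5 β = 0 → q5 β = 0 → β = 0 ∨ ∃ j, ∃ l : GF4, β = l • wv j := by
  decide +kernel

theorem sig_bw {β : C5} (e : s5 β = 0) (i : Fin 5) : b5 β (wv i) = β i := by
  have two : (2 : GF4) = 0 := by decide
  rw [s5] at e
  fin_cases i <;> simp [b5, wv]
  exacts [by linear_combination e - β 0 * two, by linear_combination e - β 1 * two,
    by linear_combination e - β 2 * two, by linear_combination e - β 3 * two, by linear_combination e - β 4 * two]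

theorem sig_ww : ∀ (i j : Fin 5) (a b : GF4), b5 (a • wv i) (b • wv j) = 1 → i ≠ j ∧ a * b = 1 := by
  decide +kernel

theorem sig_w : ∀ i : Fin 5, q5 (wv i) = 0 ∧ Rat5 (wv i) ∧ wv i ≠ 0 ∧ (∀ j, wv i j * wv i j = wv i j) ∧
    ∀ j, i ≠ j → b5 (wv i) (wv j) = 1 := by decide +kernel

theorem sig_one : ∀ a b c : GF4, a * b = 1 → a * c = 1 → b * c = 1 → a = 1 := by decide

theorem sig_thr : ∀ i : Fin 5, ∃ j k, i ≠ j ∧ i ≠ k ∧ j ≠ k := by decide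

theorem sig_sign : ∀ (π : Equiv.Perm (Fin 5)) (x : GF4), x ≠ 0 → π 0 = 0 →
    b5 (fun j => (x • eV) (π⁻¹ j) * (x • eV) (π⁻¹ j)) eP = 0 → Equiv.Perm.sign π = 1 := by decide +kernel

theorem sig_two : ∀ β : C5, Two5 β → s5 β = 0 →
    β = β 0 • wv 0 + β 1 • wv 1 + β 2 • wv 2 + β 3 • wv 3 + β 4 • wv 4 := by decide +kernel

theorem sig_tr : ∀ c : GF4, (ω * (c + c * c) + c = 0 ∨ ω * (c + c * c) + c = 1) ∧ (c + c * c = 0 ∨ c + c * c = 1) ∧
    c * c * (c * c) = c ∧ c + (c + c * c) = c * c := by decide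

theorem sig_sum {c : C5} {d : GF4} (e : d * d = d + s5 c) : s5 (fun i => ω * (c i + c i * c i)) = 0 := by
  have two : (2 : GF4) = 0 := by decide
  have h1 : s5 c + s5 c * s5 c = 0 := by
    generalize s5 c = t at e
    revert d t
    decide
  have h2 : q5 c * 2 = 0 := by rw [two, mul_zero]
  simp only [s5, q5] at h1 h2 ⊢
  linear_combination ω * h1 - ω * h2

namespace RF

variable {D : Set G} {Z : Subgroup G} {ζ : GF4 → G} (h : RF D Z R ζ p ν)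
include h

theorem sig_perm {g : G} (hg : g ∈ normalizer (R : Set G)) (hz : ∀ c, g * ζ c * g⁻¹ = ζ (c * c)) :
    ∃ π : Equiv.Perm (Fin 5), ∀ r ∈ R, ∀ i, p (g * r * g⁻¹) (π i) = p r i * p r i := by
  have hb : ∀ r ∈ R, ∀ s ∈ R, b5 (p (g * r * g⁻¹)) (p (g * s * g⁻¹)) = b5 (p r) (p s) * b5 (p r) (p s) :=
    fun r hr s hs => by
      have := h.conj_eq (conj_mem_of_mem_normalizer hg hr) (conj_mem_of_mem_normalizer hg hs)
      rw [show g * r * g⁻¹ * (g * s * g⁻¹) * (g * r * g⁻¹)⁻¹ = g * (r * s * r⁻¹) * g⁻¹ by group, h.conj_eq hr hs,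
        ← conj_mul, hz] at this
      exact (h.ζ_eq (mul_left_cancel this)).symm
  choose r hr e using fun i => h.surj _ (s5_wv i)
  have h1 : ∀ i, ∃ j, ∃ l : GF4, p (g * r i * g⁻¹) = l • wv j := fun i => by
    have h2 := conj_mem_of_mem_normalizer hg (hr i)
    have h3 : q5 (p (g * r i * g⁻¹)) = 0 := h.ζinj _ (by
      rw [← h.sq _ h2, conj_mul, h.sq _ (hr i), e, (sig_w i).1, h.ζ_zero, mul_one, mul_inv_cancel])
    have h4 : Rat5 (p (g * r i * g⁻¹)) := by_contra fun h4 => by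
      have := h.Dconj _ ((h.memD _ h2).2 ⟨h3, h4⟩) g⁻¹
      rw [show g⁻¹ * (g * r i * g⁻¹) * g⁻¹⁻¹ = r i by group, h.memD _ (hr i), e] at this
      exact this.2 (sig_w i).2.1
    refine (sig_rat _ h4 (h.sum _ h2) h3).resolve_left fun h5 => ?_
    obtain ⟨j, -, ij, -⟩ := sig_thr i
    have := hb _ (hr i) _ (hr j)
    rw [h5, e, e, (sig_w i).2.2.2.2 j ij] at this
    simp [b5] at this
  choose π l h1 using h1
  have h2 : ∀ i j, i ≠ j → π i ≠ π j ∧ l i * l j = 1 := fun i j ij => sig_ww _ _ _ _ (by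
    rw [← h1, ← h1, hb _ (hr i) _ (hr j), e, e, (sig_w i).2.2.2.2 j ij, mul_one])
  refine ⟨Equiv.ofBijective π (Finite.injective_iff_bijective.1 fun i j ij => by_contra fun c => (h2 i j c).1 ij),
    fun s hs i => ?_⟩
  obtain ⟨j, k, ij, ik, jk⟩ := sig_thr i
  have := hb _ hs _ (hr i)
  rwa [h1, sig_one _ _ _ (h2 _ _ ij).2 (h2 _ _ ik).2 (h2 _ _ jk).2, one_smul, e, sig_bw (h.sum _ hs),
    sig_bw (h.sum _ (conj_mem_of_mem_normalizer hg hs))] at this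

/-- correction of a Frobenius element by an element of `R` -/
theorem sig_fix {g : G} (hg : g ∈ normalizer (R : Set G)) (hz : ∀ c, g * ζ c * g⁻¹ = ζ (c * c))
    (hp : ∀ r ∈ R, ∀ i, p (g * r * g⁻¹) i = p r i * p r i) :
    ∃ s ∈ R, ∀ r ∈ R, Two5 (p r) → s * g * r * (s * g)⁻¹ = r ∨ s * g * r * (s * g)⁻¹ = r * ζ 1 := by
  choose r hr e using fun i => h.surj _ (s5_wv i)
  choose c hc using fun i => (h.p_eq (conj_mem_of_mem_normalizer hg (hr i)) (hr i)).1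
    (funext fun j => by rw [hp _ (hr i), e, (sig_w i).2.2.2.1])
  have hm : ∀ {k a b : G} {x y : GF4}, b ∈ R → k * a * k⁻¹ = a * ζ x → k * b * k⁻¹ = b * ζ y →
      k * (a * b) * k⁻¹ = a * b * ζ (x + y) := fun {k a b x y} hb h1 h2 => by
    rw [← conj_mul, h1, h2, h.ζadd, mul_assoc a, ← mul_assoc (ζ x), h.cZ (h.ζ_mem x) hb]; group
  have r01 := mul_mem (hr 0) (hr 1)
  have r02 := mul_mem r01 (hr 2)
  have r03 := mul_mem r02 (hr 3)
  obtain ⟨d, h1⟩ := (h.memZ _).1 ((h.ker _ (mul_mem r03 (hr 4))).1 (by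
    rw [h.mul _ r03 _ (hr 4), h.mul _ r02 _ (hr 3), h.mul _ r01 _ (hr 2), h.mul _ (hr 0) _ (hr 1)]
    simp only [e]
    decide))
  have h2 := hm (hr 4) (hm (hr 3) (hm (hr 2) (hm (hr 1) (hc 0) (hc 1)) (hc 2)) (hc 3)) (hc 4)
  rw [h1, hz, ← h.ζadd] at h2
  obtain ⟨s, hs, h3⟩ := h.surj _ (sig_sum (c := c) (h.ζ_eq h2))
  refine ⟨s, hs, fun t ht h4 => ?_⟩
  let P : G → Prop := fun t => t ∈ R ∧ ∃ x, (x = 0 ∨ x = 1) ∧ s * g * t * (s * g)⁻¹ = t * ζ x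
  have P1 : ∀ {a b}, P a → P b → P (a * b) := fun ⟨h1, x, hx, h2⟩ ⟨h3, y, hy, h4⟩ =>
    ⟨mul_mem h1 h3, x + y, by rcases hx with rfl | rfl <;> rcases hy with rfl | rfl <;> decide, hm h3 h2 h4⟩
  have P2 : ∀ i, ∃ u, P u ∧ p u = p t i • wv i := fun i => by
    rcases h4 i with h5 | h5
    · exact ⟨1, ⟨one_mem _, 0, .inl rfl, by simp [h.ζ_zero]⟩, by rw [h5, zero_smul, h.p_one]⟩
    refine ⟨r i, ⟨hr i, _, (sig_tr (c i)).1, ?_⟩, by rw [h5, one_smul, e]⟩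
    rw [show s * g * r i * (s * g)⁻¹ = s * (g * r i * g⁻¹) * s⁻¹ by group, hc, ← conj_mul, h.conj_eq hs (hr i), e,
      sig_bw (h.sum s hs), h3, ← h.cZ (h.ζ_mem _) hs, mul_inv_cancel_right, mul_assoc, ← h.ζadd]
  choose u hu h5 using P2
  have u01 := P1 (hu 0) (hu 1)
  have u02 := P1 u01 (hu 2)
  have u03 := P1 u02 (hu 3)
  obtain ⟨y, h6⟩ := (h.p_eq ht (P1 u03 (hu 4)).1).1 (by
    rw [h.mul _ u03.1 _ (hu 4).1, h.mul _ u02.1 _ (hu 3).1, h.mul _ u01.1 _ (hu 2).1, h.mul _ (hu 0).1 _ (hu 1).1]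
    simp only [h5]
    exact sig_two _ h4 (h.sum t ht))
  obtain ⟨-, x, hx, h7⟩ := P1 (P1 u03 (hu 4)) (show P (ζ y) from ⟨h.ZR (h.ζ_mem y), _, (sig_tr y).2.1, by
    rw [show s * g * ζ y * (s * g)⁻¹ = s * (g * ζ y * g⁻¹) * s⁻¹ by group, hz, ← h.cZ (h.ζ_mem _) hs,
      mul_inv_cancel_right, ← h.ζadd, (sig_tr y).2.2.2]⟩)
  rw [← h6] at h7
  rcases hx with rfl | rfl
  · exact .inl (by rw [h7, h.ζ_zero, mul_one])
  · exact .inr h7

end RF

namespace S2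

variable (h : S2 f V O g0 R p ν κ M1 M2)
include h

theorem sig_hR : f.h ∈ normalizer (R : Set G) := h.NE (normalizer_inf_normalizer_le_normalizer_sup V f.Z
  ⟨centralizer_le_normalizer _ fun _ hv => h.commVA hv h.hA, h.fm.NZ_of_NU h.fm.bas_hU⟩)

theorem sig_hP (i : ℕ) {r : G} (hr : r ∈ R) (e : b5 (p r) eP = 0) : b5 (p (f.h ^ i * r * (f.h ^ i)⁻¹)) eP = 0 := by
  induction i with
  | zero => simpa using e
  | succ i ih =>
    have h1 : ω * ω = ω + 1 := by decide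
    have two : (2 : GF4) = 0 := by decide
    rw [show f.h ^ (i + 1) * r * (f.h ^ (i + 1))⁻¹ = f.h * (f.h ^ i * r * (f.h ^ i)⁻¹) * f.h⁻¹ by group]
    simp only [b5, h.ph _ (conj_mem_of_mem_normalizer (pow_mem h.sig_hR i) hr), eP, c3, Matrix.cons_val] at ih ⊢
    generalize p (f.h ^ i * r * (f.h ^ i)⁻¹) 2 = a at ih ⊢
    generalize p (f.h ^ i * r * (f.h ^ i)⁻¹) 3 = b at ih ⊢
    generalize p (f.h ^ i * r * (f.h ^ i)⁻¹) 4 = c at ih ⊢
    simp only [mul_zero, zero_add] at ih ⊢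
    clear e hr h
    revert a b c
    decide

theorem sig_s0 : ∃ g ∈ normalizer (R : Set G), (∀ o ∈ O, Commute g o) ∧
    (∀ c, g * f.x 0 0 c * g⁻¹ = f.x 0 0 (c * c)) ∧ ∀ r ∈ R, ∀ i, p (g * r * g⁻¹) i = p r i * p r i := by
  obtain ⟨g, h1, h2, h3, ⟨l, l0, h4⟩, v, hv, h5, h6⟩ := h.sig_g
  obtain ⟨i, h7⟩ := bas_pow2 l⁻¹ (inv_ne_zero l0)
  have h8 := mul_mem (pow_mem h.sig_hR i) h1
  have h9 : ∀ y : G, f.h ^ (i : ℕ) * g * y * (f.h ^ (i : ℕ) * g)⁻¹ =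
      f.h ^ (i : ℕ) * (g * y * g⁻¹) * (f.h ^ (i : ℕ))⁻¹ := fun y => by group
  have h10 : ∀ c, f.h ^ (i : ℕ) * g * f.x 0 0 c * (f.h ^ (i : ℕ) * g)⁻¹ = f.x 0 0 (c * c) := fun c => by
    rw [h9, h4, h.fm.bas_hx, h7, mul_zero, inv_mul_cancel_left₀ l0]
  obtain ⟨π, h11⟩ := h.rf.sig_perm h8 h10
  have h12 : π 0 = 0 := by
    obtain ⟨a, c, h12⟩ := h.fm.mem_U1.1 (conj_mem_of_mem_normalizer h3 (h.fm.bas_xU1 1 0))
    have h13 := h11 _ (h.sig_xR 1 0 0)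
    rw [h9, h12, h.fm.bas_hx, mul_zero, h.sig_p1, h.sig_p1] at h13
    have h14 := h13 0
    have h15 := h13 1
    simp only [Pi.smul_apply, smul_eq_mul] at h14 h15
    rw [show e1 0 = 0 from rfl, mul_zero, mul_zero, mul_eq_zero] at h14
    refine (show ∀ j, e1 j = 0 → j = 0 by decide) _ (h14.resolve_left fun h16 => ?_)
    simp [h16, e1, h.κ0] at h15
  obtain ⟨k, k1, k2, k3, k4⟩ := h.alt π (sig_sign π _ h5 h12 (by
    rw [← h.sig_hP i (conj_mem_of_mem_normalizer h1 (h.VR hv)) h6, ← h9, ← h.pV v hv]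
    congr 1
    funext j
    rw [← h11 v (h.VR hv)]; simp))
  refine ⟨f.h ^ (i : ℕ) * g * k⁻¹, mul_mem h8 (inv_mem k1), fun o ho =>
    (((h.commOA ho h.hA).symm.pow_left i).mul_left (h2 o ho)).mul_left (k3 o ho).inv_left, fun c => ?_,
    fun r hr j => ?_⟩
  · rw [← h10, ← h.fm.sig_Zc (inv_mem k2) c, h.fm.sig_Zc (inv_mem k2) c]
    conv_rhs => rw [← h.fm.sig_Zc (inv_mem k2) c]
    group
  · obtain ⟨j, rfl⟩ := π.surjective j
    have h13 := conj_mem_of_mem_normalizer' k1 hr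
    have h14 := h.rf.act k k1 k2 _ h13 j
    rw [k4, show k * (k⁻¹ * r * k) * k⁻¹ = r by group] at h14
    rw [h14, ← h11 _ h13]
    exact congrArg (fun y => p y (π j)) (by group)

theorem sig_s1 : ∃ g ∈ normalizer (R : Set G), (∀ o ∈ O, Commute g o) ∧
    (∀ c, g * f.x 0 0 c * g⁻¹ = f.x 0 0 (c * c)) ∧ (∀ r ∈ R, ∀ i, p (g * r * g⁻¹) i = p r i * p r i) ∧ g * g ∈ R := by
  obtain ⟨g, h1, h2, h3, h4⟩ := h.sig_s0
  have h5 : ∀ y : G, g * g * y * (g * g)⁻¹ = g * (g * y * g⁻¹) * g⁻¹ := fun y => by group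
  have h6 : g * g ∈ centralizer (f.Z : Set G) := h.fm.sig_cZ fun c =>
    mul_inv_eq_iff_eq_mul.1 (by rw [h5, h3, h3, (sig_tr c).2.2.1])
  obtain ⟨r, hr, o, ho, e⟩ := h.kerO _ (mul_mem h1 h1) h6 (h.rf.ν_eq (mul_mem h1 h1) h6 fun r hr i => by
    rw [h5, Equiv.Perm.one_apply, h4 _ (conj_mem_of_mem_normalizer h1 hr), h4 r hr, (sig_tr _).2.2.1])
  obtain ⟨j, hj⟩ := h.oddO
  have h7 : o ^ (2 * j + 1) = 1 := by
    rw [← hj]; exact congrArg Subtype.val (pow_card_eq_one' (x := (⟨o, ho⟩ : O)))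
  have h8 : ∀ y ∈ R, g * o ^ j * y * (g * o ^ j)⁻¹ = g * y * g⁻¹ := fun y hy => by
    rw [mul_assoc g, ← ((h.RO y hy o ho).pow_right j).eq]; group
  refine ⟨g * o ^ j, mem_normalizer_of_forall fun y hy => by
    rw [h8 y hy]; exact conj_mem_of_mem_normalizer h1 hy, fun o' ho' => (h2 o' ho').mul_left (Commute.pow_left ?_ j),
    fun c => by rw [h8 _ (h.sig_xR ..), h3], fun y hy => by rw [h8 y hy]; exact h4 y hy, ?_⟩
  · rw [show o = r⁻¹ * (g * g) by rw [e]; group]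
    exact (h.RO r hr o' ho').inv_left.mul_left ((h2 o' ho').mul_left (h2 o' ho'))
  · rw [mul_assoc, ← mul_assoc (o ^ j), ← ((h2 o ho).pow_right j).eq, mul_assoc g, ← mul_assoc g, e, mul_assoc,
      ← pow_add, ← pow_succ', ← two_mul, h7, mul_one]
    exact hr

end S2

theorem S2.exists_S3 (h : S2 f V O g0 R p ν κ M1 M2) : ∃ σ ρ, S3 f V O g0 R p ν κ M1 M2 σ ρ := by
  obtain ⟨l, ε, hl⟩ := h.sig_l
  obtain ⟨ρ, r1, r2, r3, r4, r5⟩ := h.sig_rho hl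
  obtain ⟨g, h1, h2, h3, h4, h5⟩ := h.sig_s1
  obtain ⟨s, hs, h6⟩ := h.rf.sig_fix h1 h3 h4
  have h7 : ∀ y : G, s * g * y * (s * g)⁻¹ = s * (g * y * g⁻¹) * s⁻¹ := fun y => by group
  refine ⟨s * g, ρ, h, mul_mem (le_normalizer hs) h1, fun o ho => (h.RO s hs o ho).mul_left (h2 o ho),
    fun c => by rw [h7, h3, h.fm.sig_Zc (h.rf.cen hs)],
    fun r hr i => by rw [h7, h.rf.p_conj hs (conj_mem_of_mem_normalizer h1 hr), h4 r hr], ?_, h6, r1, r2, r3, r4, r5⟩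
  simpa [mul_assoc] using mul_mem (mul_mem hs (conj_mem_of_mem_normalizer h1 hs)) h5

end CfsgLib.SzC
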