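import Cfsg.Agent.Lib.SzC.Zero
import Cfsg.Agent.Lib.SzC.RFx

/-! Package SIG, first part: the elements `l`, `n' = l m l⁻¹` and `ρ` (plans/SZC.md) -/

set_option autoImplicit false
set_option linter.unusedSectionVars false

namespace CfsgLib.SzC

open Subgroup Cfsg CfsgLib.Tech CfsgLib.StdR2 CfsgLib.Classical CfsgLib.ExtraTwo
open scoped commutatorElement

variable {G : Type*} [Group G] [Finite G] {f : Fd G}
  {V O : Subgroup G} {g0 : G} {R : Subgroup G} {p : G → C5} {ν : G → Equiv.Perm (Fin 5)} {κ : GF4}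
  {M1 M2 : Subgroup G}

theorem sig_b_smul (β γ : C5) (x : GF4) : b5 β (x • γ) = x * b5 β γ := by
  simp only [b5, Pi.smul_apply, smul_eq_mul]; ring

theorem sig_b_add (β β' γ : C5) : b5 (β + β') γ = b5 β γ + b5 β' γ := by
  simp only [b5, Pi.add_apply]; ring

theorem sig_b_e1 {β : C5} (e : s5 β = 0) : b5 β e1 = β 0 := by
  have two : (2 : GF4) = 0 := by decide
  simp only [b5, e1, s5, Matrix.cons_val] at e ⊢
  linear_combination e - β 0 * two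

theorem sig_lin : ∀ u v : GF4, ∃ α ε : GF4, α + ε = u ∧ α * ω + ε * (ω * ω) = v := by decide

theorem sig_cases : ∀ b : GF4, b = 0 ∨ b = 1 ∨ b = ω ∨ b = 1 + ω := by decide

theorem sig_add {φ : GF4 → GF4} (e : ∀ b b', φ (b + b') = φ b + φ b') :
    ∃ α ε, ∀ b, φ b = α * b + ε * (b * b) := by
  have two : (2 : GF4) = 0 := by decide
  obtain ⟨α, ε, h1, h2⟩ := sig_lin (φ 1) (φ ω)
  refine ⟨α, ε, fun b => ?_⟩
  rcases sig_cases b with rfl | rfl | rfl | rfl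
  · simpa using e 0 0
  · simpa using h1.symm
  · exact h2.symm
  · rw [e, ← h1, ← h2]; linear_combination (-ε * ω) * two

theorem Tr.sig_mul (h : Fm f) {ξ : G → GF4} {g k : G} {t w t' w' : GF4} (h1 : Tr f V ξ g t w)
    (h2 : Tr f V ξ k t' w') (hg : ∀ a c, Commute g (f.x a 0 c)) : Tr f V ξ (g * k) (t + t') (w + w') := fun v hv => by
  rw [show g * k * v * (g * k)⁻¹ = g * (k * v * k⁻¹) * g⁻¹ by group, h2 v hv, ← conj_mul, h1 v hv, (hg _ _).eq,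
    mul_inv_cancel_right, mul_assoc, h.mul]
  congr 2 <;> ring

theorem MX.sig_four (h : Fm f) {ξ : G → GF4} {M : Subgroup G} (hM : MX f V O R ξ M) {g : G} (hg : g ∈ M) :
    g ^ 4 = 1 := by
  obtain ⟨t, w, h1⟩ := hM.lin g hg
  obtain ⟨l, h2⟩ := hM.sq g hg t w h1
  rw [show 4 = 2 * 2 from rfl, pow_mul, pow_two g, h2, pow_two, h.zx_sq (mul_zero _)]

theorem MX.sig_R (h : Fm f) {ξ : G → GF4} {M : Subgroup G} (hM : MX f V O R ξ M) {g : G} (hg : g ∈ M)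
    {c : GF4} (hc : c ≠ 0) (e : g * g = f.x 0 0 c) : g ∈ R := by
  obtain ⟨t, w, h1⟩ := hM.lin g hg
  obtain ⟨l, h2⟩ := hM.sq g hg t w h1
  obtain ⟨h3, -, h4⟩ := h.x_inj (e.symm.trans h2)
  rcases mul_eq_zero.1 h3.symm with rfl | rfl
  · exact hM.ker g hg w h1
  · exact absurd (by simpa using h4) hc

theorem Fm.sig_cZ (h : Fm f) {g : G} (e : ∀ c, Commute g (f.x 0 0 c)) : g ∈ centralizer (f.Z : Set G) :=
  fun y hy => by
    obtain ⟨c, rfl⟩ := h.mem_Z.1 hy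
    exact (e c).symm

theorem Fm.sig_Zc (h : Fm f) {g : G} (e : g ∈ centralizer (f.Z : Set G)) (c : GF4) :
    g * f.x 0 0 c * g⁻¹ = f.x 0 0 c := by
  rw [← e _ (h.bas_xZ c), mul_inv_cancel_right]

/-- the permutation `(0 1)(3 4)` -/
def sigP : Equiv.Perm (Fin 5) := Equiv.swap 0 1 * Equiv.swap 3 4

theorem sigP_sign : Equiv.Perm.sign sigP = 1 := by decide

theorem sigP_sq : ∀ i, sigP (sigP i) = i := by decide

theorem sigP_e2 : e2 ∘ sigP = e1 := by decide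

theorem sigP_e1 : e1 ∘ sigP = e2 := by decide

theorem sigP_eV : eV ∘ sigP = eP := by decide

theorem sigP_eP : eP ∘ sigP = eV := by decide

/-- the element `l` that exchanges `U₁, U₂` and `V, P` -/
structure SigL (f : Fd G) (O R : Subgroup G) (ν : G → Equiv.Perm (Fin 5)) (κ : GF4) (l : G) (ε : GF4) : Prop where
  lR : l ∈ normalizer (R : Set G)
  lZ : l ∈ centralizer (f.Z : Set G)
  lO : ∀ o ∈ O, Commute l o
  lν : ν l = sigP
  lx : ∀ b c, l * f.x 0 b c * l⁻¹ = f.x (κ * b) 0 (c + ε * (b * b))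

namespace S2

variable (h : S2 f V O g0 R p ν κ M1 M2)
include h

theorem sig_xR (a b c : GF4) : f.x a b c ∈ R := h.UR (h.fm.bas_xU a b c)

theorem sig_p1 (a c : GF4) : p (f.x a 0 c) = (κ * a) • e1 := by simp [h.pU]

theorem sig_p2 (b c : GF4) : p (f.x 0 b c) = (κ * κ * b) • e2 := by simp [h.pU]

theorem sig_M1 {r : G} (hr : r ∈ R) (e : p r 0 = 0) : r ∈ M1 := h.mx1.SM r hr fun a c => by
  have := h.rf.comm r hr _ (h.sig_xR a 0 c)
  rwa [h.sig_p1, sig_b_smul, sig_b_e1 (h.rf.sum r hr), e, mul_zero, h.fm.x_zero, mul_one] at this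

theorem sig_p0 {r : G} (hr : r ∈ R) (e : r ∈ M1) : p r 0 = 0 := by
  have := h.rf.conj_eq hr (h.sig_xR 1 0 0)
  rw [(h.mx1.MU r e 1 0).eq, mul_inv_cancel_right, h.sig_p1, sig_b_smul, sig_b_e1 (h.rf.sum r hr), h.fm.mul] at this
  simpa [h.κ0] using (h.fm.x_inj this).2.2

theorem sig_Tr {r : G} (hr : r ∈ R) : Tr f V (fun v => p v 2) r 0 (b5 (p r) eV) := fun v hv => by
  rw [h.rf.conj_eq hr (h.VR hv), mul_zero, ← sig_b_smul, ← h.pV v hv]

theorem sig_v (x : GF4) : ∃ v ∈ V, p v = x • eV ∧ p v 2 = x := by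
  obtain ⟨v, hv, e⟩ := h.Vp x
  exact ⟨v, hv, e, by simp [e, eV]⟩

theorem sig_uniq {g : G} {t w t' w' : GF4} (h1 : Tr f V (fun v => p v 2) g t w)
    (h2 : Tr f V (fun v => p v 2) g t' w') : t = t' ∧ w = w' := by
  obtain ⟨v, hv, -, e⟩ := h.sig_v 1
  have := h.fm.x_inj (mul_left_cancel ((h1 v hv).symm.trans (h2 v hv)))
  simpa [e] using this

theorem sig_VM {v : G} (hv : v ∈ V) : v ∈ M1 := h.sig_M1 (h.VR hv) (by rw [h.pV v hv]; simp [eV])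

theorem sig_x1 {r : G} (hr : r ∈ R) {a : GF4} (e : p r = (κ * a) • e1) : ∃ c, r = f.x a 0 c := by
  obtain ⟨c, e'⟩ := (h.rf.p_eq hr (h.sig_xR a 0 0)).1 (e.trans (h.sig_p1 a 0).symm)
  exact ⟨_, by rw [e', h.fm.mul, add_zero, add_zero]⟩

theorem sig_act {g r : G} (hg : g ∈ normalizer (R : Set G)) (hz : g ∈ centralizer (f.Z : Set G))
    (e : ν g = sigP) (hr : r ∈ R) : p (g * r * g⁻¹) = p r ∘ sigP := funext fun i => by
  have := h.rf.act g hg hz r hr (sigP i)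
  rwa [e, sigP_sq] at this

theorem sig_l : ∃ l ε, SigL f O R ν κ l ε := by
  have two : (2 : GF4) = 0 := by decide
  obtain ⟨l, h1, h2, h3, h4⟩ := h.alt sigP sigP_sign
  have h5 : ∀ b, ∃ c, l * f.x 0 b 0 * l⁻¹ = f.x (κ * b) 0 c := fun b =>
    h.sig_x1 (conj_mem_of_mem_normalizer h1 (h.sig_xR ..)) (by
      rw [h.sig_act h1 h2 h4 (h.sig_xR ..), h.sig_p2, ← sigP_e2, mul_assoc]; rfl)
  choose φ h5 using h5
  obtain ⟨α, ε, h6⟩ := sig_add (φ := φ) fun b b' => by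
    have := h5 (b + b')
    rw [show f.x 0 (b + b') 0 = f.x 0 b 0 * f.x 0 b' 0 by simp [h.fm.mul], ← conj_mul, h5, h5, h.fm.mul] at this
    simpa using (h.fm.x_inj this).2.2.symm
  obtain ⟨b0, h7⟩ := bas_div h.κ0 α
  have h8 := h.sig_xR 0 b0 0
  refine ⟨f.x 0 b0 0 * l, ε, mul_mem (le_normalizer h8) h1, mul_mem (h.rf.cen h8) h2,
    fun o ho => (h.RO _ h8 o ho).mul_left (h3 o ho), ?_, fun b c => ?_⟩
  · rw [h.rf.ν_mul (le_normalizer h8) (h.rf.cen h8) h1 h2, h.rf.ν_R h8, one_mul, h4]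
  · rw [show f.x 0 b c = f.x 0 b 0 * f.x 0 0 c by simp [h.fm.mul],
      show ∀ y u w : G, y * l * (u * w) * (y * l)⁻¹ = y * (l * u * l⁻¹ * (l * w * l⁻¹)) * y⁻¹ from
        fun _ _ _ => by group, h5, h.fm.sig_Zc h2, h.fm.mul, add_zero, add_zero, h.fm.bas_y, h6, ← h7]
    congr 1
    linear_combination (κ * b * b0) * two

variable {l : G} {ε : GF4} (hl : SigL f O R ν κ l ε)
include hl

theorem sig_lx (a c : GF4) : ∃ b d, κ * b = a ∧ d + ε * (b * b) = c ∧ f.x a 0 c = l * f.x 0 b d * l⁻¹ := by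
  obtain ⟨b, rfl⟩ := bas_div h.κ0 a
  exact ⟨b, c - ε * (b * b), rfl, sub_add_cancel .., by rw [hl.lx, sub_add_cancel]⟩

theorem sig_ν {g : G} (h1 : g ∈ normalizer (R : Set G)) (h2 : g ∈ centralizer (f.Z : Set G)) :
    Equiv.Perm.sign (ν (l * g * l⁻¹)) = Equiv.Perm.sign (ν g) := by
  rw [h.rf.ν_mul (mul_mem hl.lR h1) (mul_mem hl.lZ h2) (inv_mem hl.lR) (inv_mem hl.lZ), h.rf.ν_mul hl.lR hl.lZ h1 h2,
    h.rf.ν_inv hl.lR hl.lZ]
  simp [hl.lν, sigP_sign]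

theorem sig_lM {g : G} : l * g * l⁻¹ ∈ M1 ↔ g ∈ M2 := by
  refine ⟨fun hg => ?_, fun hg => ?_⟩
  · have h1 : g ∈ normalizer (R : Set G) := by
      simpa [mul_assoc] using mul_mem (mul_mem (inv_mem hl.lR) (h.mx1.MR hg)) hl.lR
    have h2 : ∀ b c, Commute g (f.x 0 b c) := fun b c => by
      have := h.mx1.MU _ hg (κ * b) (c + ε * (b * b))
      rw [← hl.lx] at this
      simpa [mul_assoc] using this.map (MulAut.conj l⁻¹).toMonoidHom
    refine h.ch2 g h1 h2 (fun o ho => ?_) ?_ ?_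
    · simpa [mul_assoc] using ((hl.lO o ho).inv_left.mul_left (h.mx1.MO _ hg o ho)).mul_left (hl.lO o ho)
    · simpa using h.mx1.sig_four h.fm hg
    · rw [← h.sig_ν hl h1 (h.fm.sig_cZ (h2 0)), h.ev1 _ hg]
  · refine h.ch1 _ (mul_mem (mul_mem hl.lR (h.mx2.MR hg)) (inv_mem hl.lR)) (fun a c => ?_)
      (fun o ho => ((hl.lO o ho).mul_left (h.mx2.MO _ hg o ho)).mul_left (hl.lO o ho).inv_left) ?_ ?_
    · obtain ⟨b, d, -, -, e⟩ := h.sig_lx hl a c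
      rw [e]
      exact (show Commute g (f.x 0 b d) by simpa using h.mx2.MU g hg b d).map (MulAut.conj l).toMonoidHom
    · rw [conj_pow, h.mx2.sig_four h.fm.sw hg]; simp
    · rw [h.sig_ν hl (h.mx2.MR hg) (h.fm.sig_cZ fun c => by simpa using h.mx2.MU g hg 0 c), h.ev2 _ hg]

theorem sig_nM : l * f.m * l⁻¹ ∈ normalizer (M1 : Set G) := mem_normalizer_of_forall fun g hg => by
  have h1 : f.m ∈ normalizer (M2 : Set G) := h.mx2.NM (h.toS0.sw.A_N1 h.mA (mem_normalizer_of_forall fun y hy => by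
    obtain ⟨a, c, rfl⟩ := h.fm.sw.mem_U1.1 hy
    exact h.fm.sw.mem_U1.2 ⟨c, a, by simpa using h.mx a c⟩))
  have h2 := (h.sig_lM hl).2 (conj_mem_of_mem_normalizer h1 ((h.sig_lM hl (g := l⁻¹ * g * l)).1
    (by simpa [mul_assoc] using hg)))
  simpa [mul_assoc] using h2

theorem sig_nx (b c : GF4) : l * f.m * l⁻¹ * f.x (κ * b) 0 (c + ε * (b * b)) * (l * f.m * l⁻¹)⁻¹ =
    f.x (κ * c) 0 (b + ε * (c * c)) := by
  rw [← hl.lx, ← hl.lx, ← h.mx b c]; group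

theorem sig_nz (c : GF4) : l * f.m * l⁻¹ * f.x 0 0 c * (l * f.m * l⁻¹)⁻¹ = f.x (κ * c) 0 (ε * (c * c)) := by
  simpa using h.sig_nx hl 0 c

theorem sig_nO {o : G} (ho : o ∈ O) : Commute (l * f.m * l⁻¹) o :=
  ((hl.lO o ho).mul_left (h.commOA ho h.mA).symm).mul_left (hl.lO o ho).inv_left

theorem sig_nU : l * f.m * l⁻¹ ∈ normalizer (f.U1 : Set G) := mem_normalizer_of_forall fun y hy => by
  obtain ⟨a, c, rfl⟩ := h.fm.mem_U1.1 hy
  obtain ⟨b, d, rfl, rfl, -⟩ := h.sig_lx hl a c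
  rw [h.sig_nx hl]
  exact h.fm.bas_xU1 _ _

theorem sig_ε : ε ≠ 0 := by
  rintro rfl
  obtain ⟨v, hv, e, -⟩ := h.sig_v 1
  obtain ⟨t0, w0, h0⟩ := h.mx1.lin _ (conj_mem_of_mem_normalizer (h.sig_nM hl) (h.sig_VM hv))
  have key : ∀ y : GF4, y ≠ 0 → w0 + y = 0 := fun y y0 => by
    obtain ⟨v', hv', e', -⟩ := h.sig_v y
    have h1 := conj_mem_of_mem_normalizer hl.lR (h.VR hv')
    have h2 : p (l * v' * l⁻¹) = y • eP := by rw [h.sig_act hl.lR hl.lZ hl.lν (h.VR hv'), e', ← sigP_eV]; rfl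
    have h3 := h0.sig_mul h.fm (h.sig_Tr h1) (h.mx1.MU _ (conj_mem_of_mem_normalizer (h.sig_nM hl) (h.sig_VM hv)))
    have h4 : l * f.m * l⁻¹ * v * (l * f.m * l⁻¹)⁻¹ * (l * v' * l⁻¹) =
        l * f.m * l⁻¹ * (v * (l * v' * l⁻¹)) * (l * f.m * l⁻¹)⁻¹ := by
      rw [← conj_mul]
      congr 1
      rw [eq_mul_inv_iff_mul_eq, conj_mul, conj_mul, (h.commVA hv' h.mA).eq]
    have h5 := mul_mem (h.sig_VM hv) (h.sig_M1 h1 (by simp [h2, eP]))
    rw [h4] at h3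
    obtain ⟨j, h6⟩ := h.mx1.sq _ (conj_mem_of_mem_normalizer (h.sig_nM hl) h5) _ _ h3
    rw [conj_mul, h.rf.sq _ (mul_mem (h.VR hv) h1), h.sig_nz hl, h.rf.mul _ (h.VR hv) _ h1, e, h2,
      show ∀ y : GF4, q5 ((1 : GF4) • eV + y • eP) = y by decide, show ∀ y : GF4, b5 (y • eP) eV = y by decide] at h6
    obtain ⟨h7, -, h8⟩ := h.fm.x_inj h6
    rcases mul_eq_zero.1 (h8.symm.trans (zero_mul _)) with h9 | rfl
    · exact h9
    · exact absurd (by simpa [h.κ0] using h7) y0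
  exact absurd (add_left_cancel ((key 1 one_ne_zero).trans (key ω (by decide)).symm)) (by decide)

theorem sig_rho : ∃ ρ ∈ normalizer (M1 : Set G), ρ ∈ normalizer (f.U1 : Set G) ∧ Commute ρ f.z ∧
    (∀ o ∈ O, Commute ρ o) ∧ ρ ∉ normalizer (f.Z : Set G) := by
  obtain ⟨a, h1, h2, α, γ, e⟩ := h.fm.trans1 (a := κ) (c := ε) fun e => h.κ0 e.1
  refine ⟨a⁻¹ * (l * f.m * l⁻¹), mul_mem (inv_mem (h.mx1.NM (h.A_N1 h1 h2))) (h.sig_nM hl),
    mul_mem (inv_mem h2) (h.sig_nU hl), ?_, fun o ho => (h.commOA ho h1).symm.inv_left.mul_left (h.sig_nO hl ho),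
    fun h3 => ?_⟩
  · have h4 : l * f.m * l⁻¹ * f.z * (l * f.m * l⁻¹)⁻¹ = a * f.z * a⁻¹ := by
      rw [h.sig_nz hl, e]; simp
    rw [Commute, SemiconjBy, mul_assoc, mul_inv_eq_iff_eq_mul.1 h4]; group
  · obtain ⟨c, h4⟩ := h.fm.mem_Z.1 (conj_mem_of_mem_normalizer h3 (h.fm.bas_xZ ω))
    have h5 : l * f.m * l⁻¹ * f.x 0 0 ω * (l * f.m * l⁻¹)⁻¹ = a * f.x 0 0 c * a⁻¹ := by rw [← h4]; group
    rw [h.sig_nz hl, e] at h5
    obtain ⟨h6, -, h7⟩ := h.fm.x_inj h5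
    have h8 : ω = c := by simpa [h.κ0] using h6
    subst h8
    exact absurd (show ω * ω = ω by simpa [h.sig_ε hl] using h7) (by decide)

end S2

end CfsgLib.SzC
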