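import Cfsg.Agent.Lib.SzC.SigA

/-! Package SIG, second part: the element `n n' n⁻¹` normalises `R` (plans/SZC.md) -/

set_option autoImplicit false
set_option linter.unusedSectionVars false

namespace CfsgLib.SzC

open Subgroup Cfsg CfsgLib.Tech CfsgLib.StdR2 CfsgLib.Classical CfsgLib.ExtraTwo
open scoped commutatorElement

variable {G : Type*} [Group G] [Finite G] {f : Fd G}
  {V O : Subgroup G} {g0 : G} {R : Subgroup G} {p : G → C5} {ν : G → Equiv.Perm (Fin 5)} {κ : GF4}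
  {M1 M2 : Subgroup G}

theorem sig_co : ∀ β : C5, s5 β = 0 → β 0 = 0 →
    β = b5 β eP • eV + b5 β eV • eP + β 1 • e1 ∧ q5 β = b5 β eP * b5 β eV := by decide +kernel

theorem sig_alg1 : ∀ κ ε b d : GF4, κ ≠ 0 → ε ≠ 0 → κ * d = κ * (d + ε * (b * b)) + ε * κ * κ * (κ * b * (κ * b)) ∧
    b + ε * (d * d) = ε * ((d + ε * (b * b)) * (d + ε * (b * b))) := by decide +kernel

theorem sig_alg2 : ∀ x : GF4, x ≠ 0 → q5 ((ω * x) • eV + eP) ≠ 0 ∧ q5 (x • eV + ((ω * x) • eV + eP)) ≠ 0 ∧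
    s5 ((ω * x) • eV + eP) = 0 ∧ ((ω * x) • eV + eP) 0 = 0 ∧ (x • eV + ((ω * x) • eV + eP)) 0 = 0 := by
  decide +kernel

theorem sig_alg3 {κ ε x y t w : GF4} (h1 : κ ≠ 0) (h2 : ε ≠ 0) (e1 : x * t = ε * (1 * 1)) (e2 : x * w = κ * 1)
    (e3 : y * t = ε * (ω * ω)) (e4 : y * w = κ * ω) : False := by
  have : κ * ε * ω = κ * ε * (ω * ω) := by linear_combination (y * t) * e2 + κ * e3 - (y * w) * e1 - ε * e4
  exact absurd (mul_left_cancel₀ (mul_ne_zero h1 h2) this) (by decide)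

namespace S2

variable (h : S2 f V O g0 R p ν κ M1 M2)
include h

theorem sig_KR : f.K ⊓ R = V := h.sylV.eq_of_le (fun y => ⟨2, Subtype.ext (h.rf.pow4 y.2.2)⟩)
  (le_inf h.VK h.VR) inf_le_left

theorem sig_dec1 {s : G} (hs : s ∈ R) {x a : GF4} (e : p s = x • eV + a • e1) :
    ∃ v ∈ V, p v 2 = x ∧ ∃ a c, s = v * f.x a 0 c := by
  obtain ⟨v, hv, h1, h2⟩ := h.sig_v x
  obtain ⟨b, rfl⟩ := bas_div h.κ0 a
  obtain ⟨c, h3⟩ := (h.rf.p_eq hs (mul_mem (h.VR hv) (h.sig_xR b 0 0))).1 (by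
    rw [h.rf.mul _ (h.VR hv) _ (h.sig_xR ..), h1, h.sig_p1, e])
  exact ⟨v, hv, h2, _, _, by rw [h3, mul_assoc, h.fm.mul, add_zero (0 : GF4)]⟩

theorem sig_dec2 {s : G} (hs : s ∈ R) {x a : GF4} (e : p s = x • eV + a • e2) :
    ∃ v ∈ V, p v 2 = x ∧ ∃ b c, s = v * f.x 0 b c := by
  obtain ⟨v, hv, h1, h2⟩ := h.sig_v x
  obtain ⟨b, rfl⟩ := bas_div (mul_ne_zero h.κ0 h.κ0) a
  obtain ⟨c, h3⟩ := (h.rf.p_eq hs (mul_mem (h.VR hv) (h.sig_xR 0 b 0))).1 (by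
    rw [h.rf.mul _ (h.VR hv) _ (h.sig_xR ..), h1, h.sig_p2, e])
  exact ⟨v, hv, h2, _, _, by rw [h3, mul_assoc, h.fm.mul, add_zero (0 : GF4)]⟩

section

variable {g : G} {ε : GF4} (ε0 : ε ≠ 0) (hM : g ∈ normalizer (M1 : Set G))
  (hx : ∀ a c, g * f.x a 0 c * g⁻¹ = f.x (ε * (a * a)) 0 (κ * a + ε * κ * κ * (c * c)))
include ε0 hM hx

theorem sig_gz (c : GF4) : g * f.x 0 0 c * g⁻¹ = f.x 0 0 (ε * κ * κ * (c * c)) := by simpa using hx 0 c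

theorem sig_gr {r : G} (hr : r ∈ R) (h0 : p r 0 = 0) (h1 : q5 (p r) ≠ 0) : g * r * g⁻¹ ∈ R :=
  h.mx1.sig_R h.fm (conj_mem_of_mem_normalizer hM (h.sig_M1 hr h0))
    (c := ε * κ * κ * (q5 (p r) * q5 (p r))) (by simp [ε0, h.κ0, h1])
    (by rw [conj_mul, h.rf.sq r hr, h.sig_gz ε0 hM hx])

theorem sig_gv {v : G} (hv : v ∈ V) : g * v * g⁻¹ ∈ R := by
  by_cases h0 : p v 2 = 0
  · obtain ⟨c, e⟩ := (h.rf.memZ v).1 ((h.rf.ker v (h.VR hv)).1 (by rw [h.pV v hv, h0, zero_smul]))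
    rw [e, h.sig_gz ε0 hM hx]
    exact h.sig_xR ..
  obtain ⟨h1, h2, h3, h4, h5⟩ := sig_alg2 _ h0
  obtain ⟨s, hs, e⟩ := h.rf.surj _ h3
  have e' : p (v * s) = p v 2 • eV + ((ω * p v 2) • eV + eP) := by rw [h.rf.mul _ (h.VR hv) _ hs, e, ← h.pV v hv]
  have := mul_mem (h.sig_gr ε0 hM hx (mul_mem (h.VR hv) hs) (e' ▸ h5) (e' ▸ h2))
    (inv_mem (h.sig_gr ε0 hM hx hs (e ▸ h4) (e ▸ h1)))
  simpa [mul_assoc] using this

theorem sig_gco {v : G} (hv : v ∈ V) : ∃ x y a : GF4, p (g * v * g⁻¹) = x • eV + y • eP + a • e1 ∧ x * y = 0 := by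
  have h1 := h.sig_gv ε0 hM hx hv
  obtain ⟨h2, h3⟩ := sig_co _ (h.rf.sum _ h1) (h.sig_p0 h1 (conj_mem_of_mem_normalizer hM (h.sig_VM hv)))
  refine ⟨_, _, _, h2, h3 ▸ h.rf.ζinj _ ?_⟩
  rw [← h.rf.sq _ h1, conj_mul, h.sqV v hv, mul_one, mul_inv_cancel]

theorem sig_gP : ∃ v ∈ V, ∃ y a : GF4, y ≠ 0 ∧ p (g * v * g⁻¹) = y • eP + a • e1 := by
  by_contra! hc
  obtain ⟨m, hm, h1⟩ := h.mx1.ex 1 0
  have h2 := conj_mem_of_mem_normalizer hM hm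
  obtain ⟨t, w, h3⟩ := h.mx1.lin _ h2
  have key : ∀ ξ : GF4, ∃ x, x * t = ε * (ξ * ξ) ∧ x * w = κ * ξ := fun ξ => by
    obtain ⟨v, hv, -, e⟩ := h.sig_v ξ
    obtain ⟨x, y, a, h4, h5⟩ := h.sig_gco ε0 hM hx hv
    have h6 : y = 0 := by_contra fun y0 => hc v hv y a y0 (by
      rw [h4, (mul_eq_zero.1 h5).resolve_right y0, zero_smul, zero_add])
    rw [h6, zero_smul, add_zero] at h4
    obtain ⟨v', hv', h7, a', c', h8⟩ := h.sig_dec1 (h.sig_gv ε0 hM hx hv) h4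
    have h9 : g * m * g⁻¹ * (g * v * g⁻¹) * (g * m * g⁻¹)⁻¹ = g * (m * v * m⁻¹) * g⁻¹ := by group
    rw [h1 v hv, ← conj_mul (b := g) (a := v), hx, h8, ← conj_mul (a := v'), h3 v' hv', (h.mx1.MU _ h2 _ _).eq, mul_inv_cancel_right,
      mul_assoc, mul_assoc, h.fm.mul, h.fm.mul] at h9
    obtain ⟨h10, -, h11⟩ := h.fm.x_inj (mul_left_cancel h9)
    simp only [e, h7] at h10 h11
    exact ⟨x, by linear_combination h10, by linear_combination h11⟩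
  obtain ⟨x, e1, e2⟩ := key 1
  obtain ⟨y, e3, e4⟩ := key ω
  exact sig_alg3 h.κ0 ε0 e1 e2 e3 e4

theorem sig_gN {l : G} {ε' : GF4} (hl : SigL f O R ν κ l ε') : g ∈ normalizer (R : Set G) := by
  obtain ⟨v, hv, y, a, y0, e⟩ := h.sig_gP ε0 hM hx
  have h1 := conj_mem_of_mem_normalizer' hl.lR (h.sig_gv ε0 hM hx hv)
  have h2 : p (l⁻¹ * (g * v * g⁻¹) * l) = y • eV + a • e2 := by
    have := h.sig_act hl.lR hl.lZ hl.lν h1
    rw [show ∀ s : G, l * (l⁻¹ * s * l) * l⁻¹ = s from fun _ => by group, e] at this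
    funext i
    rw [← sigP_eP, ← sigP_e1]
    simpa [sigP_sq] using (congrFun this (sigP i)).symm
  obtain ⟨v', hv', h3, b, c, h4⟩ := h.sig_dec2 h1 h2
  obtain ⟨b', rfl⟩ := bas_div y0 b
  obtain ⟨c', rfl⟩ := bas_div y0 c
  obtain ⟨m, hm, h5⟩ := h.mx2.ex b' c'
  have h6 := h5 v' hv'
  simp only [h3, Fd.sw_x1] at h6
  have h7 : m⁻¹ * l⁻¹ * g * v * (m⁻¹ * l⁻¹ * g)⁻¹ = v' := by
    rw [← h4] at h6
    rw [show v' = m⁻¹ * (m * v' * m⁻¹) * m by group, h6]; group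
  have v1 : v ≠ 1 := by
    rintro rfl
    rw [mul_one, mul_inv_cancel, h.rf.p_one] at e
    have h8 := congrFun e 1
    have h9 := congrFun e 2
    simp [eP, e1] at h8 h9
    exact y0 (by simpa [← h8] using h9.symm)
  have h8 := h.st0.mem_H (h.VK hv) (h.orderOf_V hv v1) (h7 ▸ h.VK hv')
  have h9 : m⁻¹ * l⁻¹ ∈ normalizer (R : Set G) := mul_mem (inv_mem (h.mx2.MR hm)) (inv_mem hl.lR)
  have h10 : m⁻¹ * l⁻¹ * g ∈ normalizer (V : Set G) := mem_normalizer_of_forall fun u hu => h.sig_KR.le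
    ⟨conj_mem_of_mem_normalizer h8 (h.VK hu), by
      simpa [mul_assoc] using conj_mem_of_mem_normalizer h9 (h.sig_gv ε0 hM hx hu)⟩
  have h11 : m⁻¹ * l⁻¹ * g ∈ normalizer (f.Z : Set G) :=
    mul_mem (centralizer_le_normalizer _ (mul_mem (inv_mem (h.fm.sig_cZ fun c => by simpa using h.mx2.MU m hm 0 c))
      (inv_mem hl.lZ))) (mem_normalizer_of_forall fun u hu => by
        obtain ⟨c, rfl⟩ := h.fm.mem_Z.1 hu
        rw [h.sig_gz ε0 hM hx]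
        exact h.fm.bas_xZ _)
  simpa [mul_assoc] using mul_mem (inv_mem h9) (h.NE (normalizer_inf_normalizer_le_normalizer_sup V f.Z ⟨h10, h11⟩))

end

theorem sig_g : ∃ g ∈ normalizer (R : Set G), (∀ o ∈ O, Commute g o) ∧ g ∈ normalizer (f.U1 : Set G) ∧
    (∃ l, l ≠ 0 ∧ ∀ c, g * f.x 0 0 c * g⁻¹ = f.x 0 0 (l * (c * c))) ∧
    ∃ v ∈ V, p v 2 ≠ 0 ∧ b5 (p (g * v * g⁻¹)) eP = 0 := by
  obtain ⟨l, ε, hl⟩ := h.sig_l
  have ε0 := h.sig_ε hl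
  have h1 : f.n ∈ normalizer (f.U1 : Set G) := mem_normalizer_of_forall fun y hy => by
    obtain ⟨a, c, rfl⟩ := h.fm.mem_U1.1 hy
    exact h.fm.mem_U1.2 ⟨c, a, h.nx a c⟩
  have h2 := h.mx1.NM (h.A_N1 h.nA h1)
  have hM := mul_mem (mul_mem h2 (h.sig_nM hl)) (inv_mem h2)
  have hx : ∀ a c, f.n * (l * f.m * l⁻¹) * f.n⁻¹ * f.x a 0 c * (f.n * (l * f.m * l⁻¹) * f.n⁻¹)⁻¹ =
      f.x (ε * (a * a)) 0 (κ * a + ε * κ * κ * (c * c)) := fun a c => by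
    obtain ⟨b, d, rfl, rfl, -⟩ := h.sig_lx hl c a
    obtain ⟨h3, h4⟩ := sig_alg1 κ ε b d h.κ0 ε0
    rw [← h3, ← h4, ← h.nx (κ * d), ← h.sig_nx hl, ← h.nx (κ * b)]; group
  obtain ⟨v, hv, y, a, y0, e⟩ := h.sig_gP ε0 hM hx
  refine ⟨_, h.sig_gN ε0 hM hx hl, fun o ho => ((h.commOA ho h.nA).symm.mul_left (h.sig_nO hl ho)).mul_left
    (h.commOA ho h.nA).symm.inv_left, mul_mem (mul_mem h1 (h.sig_nU hl)) (inv_mem h1),
    ⟨ε * κ * κ, by simp [ε0, h.κ0], h.sig_gz ε0 hM hx⟩, v, hv, fun h0 => ?_, ?_⟩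
  · obtain ⟨c, e'⟩ := (h.rf.memZ v).1 ((h.rf.ker v (h.VR hv)).1 (by rw [h.pV v hv, h0, zero_smul]))
    rw [e', h.sig_gz ε0 hM hx, h.sig_p1] at e
    have h8 := congrFun e 1
    have h9 := congrFun e 2
    simp [eP, e1] at h8 h9
    exact y0 (by simpa [← h8] using h9.symm)
  · rw [e]
    clear e y0
    revert y a
    decide

end S2

end CfsgLib.SzC
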