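import Cfsg.Agent.Lib.SzC.Rho

/-! Package TRA: transitivity on the non-central involutions of `Q` (plans/SZC.md) -/

set_option autoImplicit false
set_option linter.unusedSectionVars false

namespace CfsgLib.SzC

open Subgroup Cfsg CfsgLib.Tech CfsgLib.StdR2 CfsgLib.Classical CfsgLib.ExtraTwo
open scoped commutatorElement

variable {G : Type*} [Group G] [Finite G] {f : Fd G}
  {V O : Subgroup G} {g0 : G} {R : Subgroup G} {p : G → C5} {ν : G → Equiv.Perm (Fin 5)} {κ : GF4}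
  {M1 M2 : Subgroup G} {σ ρ : G} {Q : Subgroup G}

def tL : List (Equiv.Perm (Fin 5)) := [1, Equiv.swap 0 1 * Equiv.swap 2 3, Equiv.swap 0 2 * Equiv.swap 1 3,
  Equiv.swap 0 3 * Equiv.swap 1 2, Equiv.swap 0 4 * Equiv.swap 1 2]

theorem tra_fin' : ∀ β : C5, s5 β = 0 → Two5 β → q5 β = 0 → β = 0 ∨ ∃ π ∈ tL, (∀ i, e1 i = β (π i)) ∧
    ∀ c : GF4, ∃ i, b5 (c • tb i) β = c := by decide +kernel

theorem tra_fin (β : C5) (h1 : s5 β = 0) (h2 : Two5 β) (h3 : q5 β = 0) : β = 0 ∨ ∃ π ∈ tL, Equiv.Perm.sign π = 1 ∧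
    (∀ i, e1 i = β (π i)) ∧ ∀ c : GF4, ∃ γ, s5 γ = 0 ∧ b5 γ β = c :=
  (tra_fin' β h1 h2 h3).imp id fun ⟨π, h4, h5, h6⟩ => ⟨π, h4, (by simp [tL] : ∀ π ∈ tL, Equiv.Perm.sign π = 1) π h4, h5,
    fun c => (h6 c).elim fun i e => ⟨_, (by decide +kernel : ∀ (c : GF4) i, s5 (c • tb i) = 0) c i, e⟩⟩

theorem S4.qy (h : S4 f V O g0 R p ν κ M1 M2 σ ρ Q) : QY Q O f.z := by
  have F := h.rf
  have NC : ∀ g ∈ centralizer (f.Z : Set G), g ∈ normalizer (Q : Set G) := fun g hg =>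
    (h.NZQ g (centralizer_le_normalizer _ hg) (hg _ (F.ζZ 1)).symm).2
  have σQ : σ ∈ Q := (h.memQ σ).2 (.inr ⟨1, one_mem _, F.p_one ▸ fun _ => .inl rfl, (mul_one σ).symm⟩)
  have sQ : f.x 0 0 ω ∈ Q := (h.memQ _).2 (.inl ⟨F.ζR ω, F.pζ ω ▸ fun _ => .inl rfl⟩)
  have two : ∀ y ∈ Q, y ∈ R → Two5 (p y) := fun y hy yR => ((h.memQ y).1 hy).elim And.right
    fun ⟨r, hr, _, e⟩ => absurd (e ▸ yR) (h.toS3.σr hr)
  obtain ⟨u, uR, pu, eu⟩ : ∃ u ∈ R, p u = e1 ∧ ρ * f.x 0 0 ω * ρ⁻¹ = u := by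
    obtain ⟨a, c, e⟩ := h.toFm.mem_U1.1 (conj_mem_of_mem_normalizer h.ρU (h.toFm.Z_le1 (F.ζZ ω)))
    refine ⟨_, h.toS2.xR a 0 c, ?_, e⟩
    have t := two _ (e ▸ conj_mem_of_mem_normalizer h.ρQ sQ) (h.toS2.xR a 0 c) 1
    rw [h.toS2.pU1, (rho_e1 _).2] at t
    rw [h.toS2.pU1, t.resolve_left fun k => h.ρZ (F.normZ h.ρz (e ▸ (F.ker _ (h.toS2.xR a 0 c)).1 (by
      rw [h.toS2.pU1, k, zero_smul]))), one_smul]
  have k1 : ∀ y ∈ R, Two5 (p y) → y * y = 1 → y ∉ zpowers f.z →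
      ∃ g ∈ normalizer (Q : Set G), g * f.x 0 0 ω * g⁻¹ = y := fun y hy y2 yy yn => by
    rcases tra_fin _ (F.sum y hy) y2 (F.ζinj _ ((F.sq y hy).symm.trans yy)) with e | ⟨π, -, hπ, e, b⟩
    · obtain ⟨c, rfl⟩ := (F.memZ y).1 ((F.ker y hy).1 e)
      rcases (by decide : ∀ c : GF4, (c = 0 ∨ c = 1) ∨ c = ω ∨ c = ω * ω) c with k | rfl | rfl
      · exact absurd (F.zp.2 k) yn
      · exact ⟨1, one_mem _, by group⟩
      · exact ⟨σ, le_normalizer σQ, h.σZ ω⟩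
    · obtain ⟨g, hg, gz, -, eg⟩ := h.alt π hπ
      have m := conj_mem_of_mem_normalizer hg uR
      have pm : p (g * u * g⁻¹) = p y := funext fun i => by
        rw [← (ν g).apply_symm_apply i, F.act g hg gz u uR, pu, eg, e]
      obtain ⟨c, ec⟩ := (F.p_eq hy m).1 pm.symm
      obtain ⟨β, hβ, eβ⟩ := b c
      obtain ⟨r, hr, rfl⟩ := F.surj β hβ
      refine ⟨r * g * ρ, mul_mem (mul_mem (NC r (F.cen hr)) (NC g gz)) h.ρQ, ?_⟩
      rw [show r * g * ρ * f.x 0 0 ω * (r * g * ρ)⁻¹ = r * (g * (ρ * f.x 0 0 ω * ρ⁻¹) * g⁻¹) * r⁻¹ by group, eu,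
        F.conj_eq hr m, pm, eβ, ec]
  have k2 : ∀ y ∈ Q, y * y = 1 → y ∉ zpowers f.z → ∃ g ∈ normalizer (Q : Set G), g * f.x 0 0 ω * g⁻¹ = y := by
    intro y hy yy yn
    rcases (h.memQ y).1 hy with ⟨h1, h2⟩ | ⟨r, hr, -, e⟩
    · exact k1 y h1 h2 yy yn
    obtain ⟨t, tR, pt, c⟩ : ∃ t ∈ R, p t = e1 ∧ t * y = y * t := by
      by_cases c : u * y = y * u
      · exact ⟨u, uR, pu, c⟩
      · exact ⟨u * f.x 0 0 ω, mul_mem uR (F.ζR ω), by rw [F.mul _ uR _ (F.ζR ω), F.pζ, add_zero, pu],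
          h.es.mul_comm_of_not_comm hy (eu ▸ conj_mem_of_mem_normalizer h.ρQ sQ) sQ c
            fun k => h.toS3.σω hr (e ▸ k.symm)⟩
    obtain ⟨g, hg, eg⟩ := k1 t tR (pt ▸ by decide) (by rw [F.sq t tR, pt, show q5 e1 = 0 by decide, F.ζ_zero])
      fun k => absurd (pt ▸ (F.ker t tR).2 (zpowers_le.2 (F.ζZ 1) k)) (by decide)
    have m := conj_mem_of_mem_normalizer' hg hy
    have cm : Commute (g⁻¹ * y * g) (f.x 0 0 ω) := by
      show _ = _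
      calc _ = g⁻¹ * (y * (g * f.x 0 0 ω * g⁻¹)) * g := by group
        _ = _ := by rw [eg, ← c, ← eg]; group
    have gz : Commute g f.z := h.es.eq_of_comm (z' := g * f.z * g⁻¹) (by simpa using h.es.ne_one)
      (conj_mem_of_mem_normalizer hg h.es.mem) (fun q hq => by
        calc _ = g * (g⁻¹ * q * g * f.z) * g⁻¹ := by group
          _ = _ := by rw [h.es.comm_z _ (conj_mem_of_mem_normalizer' hg hq)]; group) |> mul_inv_eq_iff_eq_mul.1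
    obtain ⟨h1, h2⟩ := ((h.memQ _).1 m).resolve_right fun ⟨r, hr, _, e⟩ => h.toS3.σω hr (e ▸ cm)
    obtain ⟨g', hg', e'⟩ := k1 _ h1 h2 (by rw [show g⁻¹ * y * g * (g⁻¹ * y * g) = g⁻¹ * (y * y) * g by group, yy]; group)
      fun k => yn (by rw [← Cz.cjz gz k] at k; simpa [mul_assoc] using k)
    exact ⟨g * g', mul_mem hg hg', by
      rw [show g * g' * f.x 0 0 ω * (g * g')⁻¹ = g * (g' * f.x 0 0 ω * g'⁻¹) * g⁻¹ by group, e']; group⟩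
  refine ⟨h.es, h.cardQ, h.oddO, h.cQ, fun s hs ss sn s' hs' ss' sn' => ?_⟩
  obtain ⟨g, hg, rfl⟩ := k2 s hs ss sn
  obtain ⟨g', hg', rfl⟩ := k2 s' hs' ss' sn'
  exact ⟨g' * g⁻¹, mul_mem hg' (inv_mem hg), by group⟩

end CfsgLib.SzC
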