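import Cfsg.Agent.Lib.SzC.P0
import Cfsg.Agent.Lib.SzC.P1
import Cfsg.Agent.Lib.SzC.MX
import Cfsg.Agent.Lib.SzC.Kap
import Cfsg.Agent.Lib.SzC.Exc
import Cfsg.Agent.Lib.SzC.Orb
import Cfsg.Agent.Lib.SzC.P5
import Cfsg.Agent.Lib.SzC.Sig
import Cfsg.Agent.Lib.SzC.QQ
import Cfsg.Agent.Lib.SzC.Tra
import Cfsg.Agent.Lib.SzC.P6
import Cfsg.Agent.Lib.SzC.P7

/-! The Suzuki case (plans/SZC.md) -/

set_option autoImplicit false
set_option linter.unusedSectionVars false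

namespace CfsgLib.SzC

open Subgroup Cfsg CfsgLib.Tech CfsgLib.StdR2 CfsgLib.Classical CfsgLib.ExtraTwo
open scoped commutatorElement

variable {G : Type*} [Group G] [Finite G] {f : Fd G}

theorem St.isoSuz (h : St f) {X : Subgroup G} [X.Normal] [IsSimpleGroup X]
    (hX : centralizer (X : Set G) = ⊥) (hA : f.A ≤ X) : Spor.IsoSuz X ∧ f.A ⊓ f.K = ⊥ := by
  obtain ⟨V, O, g0, h0⟩ := h.exists_S0
  obtain ⟨R, p, μ, h1⟩ := h0.exists_S1
  obtain ⟨M1, m1⟩ := h1.exists_MX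
  obtain ⟨M2, m2⟩ := h1.sw.exists_MX
  obtain ⟨rfl, κ, k1⟩ := h1.kap m1
  obtain ⟨-, κ', k2⟩ := h1.sw.kap m2
  obtain ⟨p', ν, h2⟩ := h1.exists_S2 m1 m2 k1 k2 (by
    rintro ⟨rfl, rfl⟩; exact h1.not_split m1 m2 k1 k2)
  obtain ⟨σ, ρ, h3⟩ := h2.exists_S3
  obtain ⟨Q, h4⟩ := h3.exists_S4 h2.rf.cent_le
  have e := h.toFm
  have q := h4.qy
  have e1 : f.h * f.z * f.h⁻¹ = f.x 0 0 (ω + 1) := by rw [e.hx]; simp
  have zR : ∀ c, f.x 0 0 c ∈ f.Z := fun c => e.mem_Z.2 ⟨c, rfl⟩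
  have sQ : f.x 0 0 (ω + 1) ∈ Q := (h4.memQ _).2 (.inl ⟨h2.rf.ZR (zR _), by
    rw [(h2.rf.ker _ (h2.rf.ZR (zR _))).2 (zR _)]; exact fun _ => .inl rfl⟩)
  have ne : f.x 0 0 (ω + 1) ≠ f.z := fun e' => absurd (e.x_inj e').2.2 (by decide)
  have hC : ∀ g, Commute g f.z → g ∈ normalizer (Q : Set G) := fun g hg =>
    q.cent_le sQ (by rw [e.x_sq, mul_zero, e.x_zero]) (fun k => (q.es.mem_zpowers.1 k).elim
      (fun e' => absurd (e.x_inj (e'.trans e.x_zero.symm)).2.2 (by decide)) ne) (fun g c1 c2 =>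
        (h4.NZQ g (centralizer_le_normalizer _ fun y hy => by
          obtain ⟨c, rfl⟩ := e.mem_Z.1 hy
          have : ∀ c : GF4, c = 0 ∨ c = 1 ∨ c = ω + 1 ∨ c = 1 + (ω + 1) + 0 * 0 := by decide
          rcases this c with rfl | rfl | rfl | rfl
          · rw [e.x_zero, mul_one, one_mul]
          · exact c1.eq.symm
          · exact c2.eq.symm
          · have := e.mul 0 0 1 0 0 (ω + 1)
            rw [add_zero] at this
            exact (this ▸ c1.mul_right c2).eq.symm) c1).2) hg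
  have hO : O = ⊥ := q.O_bot hC hX hA (e.xA ..) (fun N h1 h2 h3 => (h.simp N h1 h2).resolve_left
    fun k => absurd (e.inj _ _ _ (k h3)).2.2 one_ne_zero) e.not_two
    (fun a ha => centralizer_le_normalizer _ fun o ho => (comm_KA (h0.OK ho) ha).eq) e.hA (e1 ▸ sQ)
    (e1 ▸ ne)
  subst hO
  have hQ : Q ≤ X := q.le_normal (hA (e.xA ..)) (e1 ▸ sQ) (e1 ▸ ne)
  exact ⟨q.isoSuz hC hQ (h4.dvd hQ), le_bot_iff.1 fun a ha => h0.AK_O ha.1 ha.2⟩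

end CfsgLib.SzC
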