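import Cfsg.Agent.Lib.SzC.Zx

/-! Package ZERO: consequences of stage 0 (plans/SZC.md) -/

set_option autoImplicit false
set_option linter.unusedSectionVars false

namespace CfsgLib.SzC

open Subgroup Cfsg CfsgLib.Tech CfsgLib.StdR2 CfsgLib.Classical CfsgLib.ExtraTwo
open scoped commutatorElement CfsgLib.BG

variable {G : Type*} [Group G] [Finite G] {f : Fd G}
  {V O : Subgroup G} {g0 : G}

namespace S0

variable (h : S0 f V O g0)
include h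

theorem fm : Fm f := h.toSt.toFm

theorem st0 : St0 f.A := h.toSt.toSt0

theorem VK : V ≤ f.K := h.sylV.le

theorem orderOf_V {v : G} (hv : v ∈ V) (h1 : v ≠ 1) : orderOf v = 2 := orderOf_two_of_mul_self (h.sqV v hv) h1

theorem commV {v w : G} (hv : v ∈ V) (hw : w ∈ V) : Commute v w := Alt4.commute_of_sq h.sqV hv hw

theorem commVA {v a : G} (hv : v ∈ V) (ha : a ∈ f.A) : Commute v a := comm_KA (h.VK hv) ha

theorem commOA {o a : G} (ho : o ∈ O) (ha : a ∈ f.A) : Commute o a := comm_KA (h.OK ho) ha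

theorem V_cent {Y : Subgroup G} (hY : Y ≤ f.A) : V ≤ 𝒞(Y) := h.VK.trans (BG.centS hY)

theorem V_inf_U : V ⊓ f.U = ⊥ := le_bot_iff.1 fun _ hx => h.fm.zx_KU (h.VK hx.1) hx.2

theorem exists_v : ∃ v ∈ V, v ≠ 1 := BG.exists_ne_one_of_ne_bot (BG.cardG_gt1.1 (by rw [h.cardV]; norm_num))

theorem cardE : Nat.card (EE f V) = 16 := by
  rw [BG.TI_cardMg (.inl (BG.cents_norm (h.V_cent h.fm.zx_ZA)))
    (le_bot_iff.1 ((inf_le_inf_left V h.fm.zx_ZU).trans h.V_inf_U.le)), h.cardV, h.fm.cardZ]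

theorem sqE : ∀ e ∈ EE f V, e * e = 1 := G2C.sq_sup h.sqV h.fm.zx_sqZ (h.V_cent h.fm.zx_ZA)

theorem commE {e e' : G} (he : e ∈ EE f V) (he' : e' ∈ EE f V) : Commute e e' := Alt4.commute_of_sq h.sqE he he'

/-- 2-elements of `K` that normalise `V` -/
theorem mem_V {k : G} (hk : k ∈ f.K) (hn : k ∈ normalizer (V : Set G)) {j : ℕ} (h2 : k ^ 2 ^ j = 1) : k ∈ V :=
  zpowers_le.1 (h.sylV.le_of_normalizes (isPGroup_zpowers_of_pow h2) (zpowers_le.2 hk) (zpowers_le.2 hn))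

theorem notD {a : G} (ha : a ∈ f.A) : a ∉ f.D := by
  rintro ⟨o, g, hg⟩
  obtain ⟨b, -, rfl⟩ := h.cls a ha o
  exact h.nD (b⁻¹ * g) (by rw [cj_mul]; exact mem_cj.2 (by simpa using hg))

theorem mem_E {e : G} : e ∈ EE f V ↔ ∃ v ∈ V, ∃ c, e = v * f.x 0 0 c := by
  simp only [zx_KY h.VK h.fm.zx_ZA, h.fm.mem_Z]
  exact ⟨fun ⟨v, hv, _, ⟨c, e⟩, e'⟩ => ⟨v, hv, c, e ▸ e'⟩, fun ⟨v, hv, c, e⟩ => ⟨v, hv, _, ⟨c, rfl⟩, e⟩⟩

theorem mem_VU1 {e : G} : e ∈ V ⊔ f.U1 ↔ ∃ v ∈ V, ∃ a c, e = v * f.x a 0 c := by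
  simp only [zx_KY h.VK (h.fm.U1_le.trans h.fm.U_le), h.fm.mem_U1]
  exact ⟨fun ⟨v, hv, _, ⟨a, c, e⟩, e'⟩ => ⟨v, hv, a, c, e ▸ e'⟩,
    fun ⟨v, hv, a, c, e⟩ => ⟨v, hv, _, ⟨a, c, rfl⟩, e⟩⟩

/-- a conjugate of `V` in `E` is a complement to `Z` -/
theorem graph' {g : G} (h1 : g ∈ normalizer (EE f V : Set G)) {v : G} (hv : v ∈ V) :
    ∃ c, v * f.x 0 0 c ∈ cj g V := by
  have h2 : cj g V ≤ EE f V := (cj_mono g le_sup_left).trans (mem_normalizer_iff_cj.1 h1).le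
  have h3 : cj g V ≤ 𝒩(f.Z) := BG.cents_norm (BG.centSS h2 le_sup_right (G2C.cents_of_sq h.sqE))
  have h4 : cj g V ⊔ f.Z = EE f V := BG.eq_of_le_card (sup_le h2 le_sup_right) (by
    rw [BG.TI_cardMg (.inl h3) (le_bot_iff.1 fun u hu => by_contra fun u1 => h.notD (h.fm.zx_ZA hu.2)
      ⟨orderOf_two_of_mul_self (h.fm.zx_sqZ u hu.2) u1, g, cj_mono g h.VK hu.1⟩), card_cj, h.cardV, h.cardE, h.fm.cardZ])
  obtain ⟨w, hw, ζ, hζ, rfl⟩ := (BG.mem_sup_norm_r h3).1 (h4.ge (mem_sup_left hv))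
  obtain ⟨c, e⟩ := h.fm.mem_Z.1 (inv_mem hζ)
  exact ⟨c, by simpa [← e] using hw⟩

/-- a conjugate of `V` in `E` is `V` or the graph of an isomorphism `V → Z` -/
theorem graph {g : G} (h1 : g ∈ normalizer (EE f V : Set G)) (h2 : g ∉ f.H) {v : G} (hv : v ∈ V)
    (v1 : v ≠ 1) : ∃ c, c ≠ 0 ∧ v * f.x 0 0 c ∈ cj g V := by
  obtain ⟨c, h3⟩ := h.graph' h1 hv
  refine ⟨c, fun e => v1 (h.st0.eq_one h2 (h.VK hv) (cj_mono g h.VK ?_) (h.sqV v hv)), h3⟩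
  simpa [e, h.fm.x_zero] using h3

theorem memD1 {v : G} (hv : v ∈ V) (h1 : v ≠ 1) (a c : GF4) : v * f.x a 0 c ∈ f.D := by
  refine ⟨h.fm.zx_ord (h.VK hv) (h.sqV v hv) (mul_zero a) (.inl h1), ?_⟩
  by_cases h0 : a = 0 ∧ c = 0
  · exact ⟨1, by rw [cj_one, h0.1, h0.2, h.fm.x_zero, mul_one]; exact h.VK hv⟩
  obtain ⟨d, d0, h2⟩ := h.graph h.gE h.gH hv h1
  obtain ⟨g, hg, -, α, γ, e⟩ := h.fm.trans1 (a := a / d) (c := c / d) (by simpa [d0] using h0)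
  have h3 := conj_mem_cj (g := g).2 (cj_mono g0 h.VK h2)
  rw [← conj_mul, e, ← (h.commVA hv hg).eq, mul_inv_cancel_right, ← cj_mul, mul_zero, mul_zero, zero_add, zero_add,
    div_mul_cancel₀ _ d0, div_mul_cancel₀ _ d0] at h3
  exact ⟨_, h3⟩

theorem memD2 {v : G} (hv : v ∈ V) (h1 : v ≠ 1) (b c : GF4) : v * f.x 0 b c ∈ f.D := by
  have := h.sw.memD1 hv h1 b c
  rwa [Fd.sw_x1] at this

theorem eq_one_vo {t o : G} (ht : t * t = 1) (ho : o ∈ O) (hc : Commute t o) (h1 : Odd (orderOf (t * o))) : t = 1 := by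
  have h2 : (t * o) ^ (orderOf (t * o) * Nat.card O) = 1 := by rw [pow_mul, pow_orderOf_eq_one, one_pow]
  obtain ⟨j, hj⟩ := h1.mul h.oddO
  have h3 : o ^ Nat.card O = 1 := orderOf_dvd_iff_pow_eq_one.1 (BG.order_dvdG ho)
  rw [hc.mul_pow, mul_comm (orderOf _), pow_mul o, h3, one_pow, mul_one, mul_comm, hj, pow_succ, pow_mul,
    pow_two, ht] at h2
  simpa using h2

theorem AK_O {a : G} (ha : a ∈ f.A) (hk : a ∈ f.K) : a ∈ O := by
  obtain ⟨v, hv, o, ho, rfl⟩ := h.cV a hk fun v hv => (h.commVA hv ha).symm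
  rwa [h.eq_one_vo (h.sqV v hv) ho (h.OV o ho v hv).symm (h.odd _ ha hk), one_mul]

/-- an element that maps some `v ∈ V#` into `V` and normalises `V Y` (`Y ≤ A`) normalises `V` -/
theorem NV_of {g v : G} {Y : Subgroup G} (hY : Y ≤ f.U) (hg : g ∈ normalizer ((V ⊔ Y : Subgroup G) : Set G))
    (hv : v ∈ V) (h1 : v ≠ 1) (e : g * v * g⁻¹ ∈ V) : g ∈ f.H ∧ g ∈ normalizer (V : Set G) := by
  have hH := h.st0.mem_H (h.VK hv) (h.orderOf_V hv h1) (h.VK e)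
  refine ⟨hH, mem_normalizer_of_forall fun w hw => ?_⟩
  have h2 := conj_mem_of_mem_normalizer hH (h.VK hw)
  obtain ⟨w', hw', y, hy, e'⟩ := (zx_KY h.VK (hY.trans h.fm.U_le)).1 (conj_mem_of_mem_normalizer hg (mem_sup_left hw))
  rw [e'] at h2 ⊢
  rwa [h.fm.zx_KU ((mul_mem_cancel_left (h.VK hw')).1 h2) (hY hy), mul_one]

theorem NA_of {g : G} (h1 : ∀ v ∈ V, Commute g v) : g ∈ normalizer (f.A : Set G) := by
  obtain ⟨v, hv, v1⟩ := h.exists_v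
  exact h.norm.ge (h.st0.mem_H_of_comm (h.VK hv) (h.orderOf_V hv v1) (h1 v hv))

theorem cV' {k a : G} (hk : k ∈ f.K) (ha : a ∈ f.A) (h1 : ∀ v ∈ V, Commute (k * a) v) :
    ∃ v ∈ V, ∃ o ∈ O, k = v * o :=
  h.cV k hk fun v hv => by simpa using (h1 v hv).mul_left (h.commVA hv ha).symm.inv_left

theorem cenV {g : G} (h1 : ∀ v ∈ V, Commute g v)
    (h2 : ∀ a b c, ∃ c', g * f.x a b c * g⁻¹ = f.x a b c') :
    ∃ v ∈ V, ∃ o ∈ O, ∃ a b c, g = v * o * f.x a b c := by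
  obtain ⟨k, hk, a, b, c, rfl⟩ := h.fm.cenUbar (h.NA_of h1) h2
  obtain ⟨v, hv, o, ho, rfl⟩ := h.cV' hk (h.xA ..) h1
  exact ⟨v, hv, o, ho, a, b, c, rfl⟩

theorem cenVU {g : G} (h1 : ∀ v ∈ V, Commute g v) (h2 : ∀ a b c, Commute g (f.x a b c)) :
    ∃ v ∈ V, ∃ o ∈ O, ∃ c, g = v * o * f.x 0 0 c := by
  obtain ⟨k, hk, c, rfl⟩ := h.fm.cenU (h.NA_of h1) h2
  obtain ⟨v, hv, o, ho, rfl⟩ := h.cV' hk (h.xA ..) h1
  exact ⟨v, hv, o, ho, c, rfl⟩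

theorem cenVU1 {g : G} (h1 : ∀ v ∈ V, Commute g v) (h2 : ∀ a c, Commute g (f.x a 0 c)) :
    ∃ v ∈ V, ∃ o ∈ O, ∃ a c, g = v * o * f.x a 0 c := by
  obtain ⟨k, hk, a, c, rfl⟩ := h.fm.cenU1 (h.NA_of h1) h2
  obtain ⟨v, hv, o, ho, rfl⟩ := h.cV' hk (h.xA ..) h1
  exact ⟨v, hv, o, ho, a, c, rfl⟩

/-- conjugates of elements of `A` in `V U₁ ∪ V U₂` -/
theorem v_eq_one {g u v : G} {a b c : GF4} (hu : u ∈ f.A) (hv : v ∈ V) (h0 : a * b = 0)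
    (e : g * u * g⁻¹ = v * f.x a b c) : v = 1 := by
  by_contra h1
  have h2 : v * f.x a b c ∈ f.D := by
    rcases mul_eq_zero.1 h0 with rfl | rfl
    exacts [h.memD2 hv h1 .., h.memD1 hv h1 ..]
  exact h.notD hu (by simpa [← e, mul_assoc] using Dc_conj h2 g⁻¹)

theorem NE_Z : normalizer (EE f V : Set G) ≤ normalizer (f.Z : Set G) := fun g hg =>
  mem_normalizer_of_forall fun ζ hζ => by
    obtain ⟨v, hv, c, e⟩ := h.mem_E.1 (conj_mem_of_mem_normalizer hg (mem_sup_right hζ))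
    rw [e, h.v_eq_one (h.fm.zx_ZA hζ) hv (mul_zero 0) e, one_mul]
    exact h.fm.zx_memZ c

theorem NE_U1 {g : G} (hg : g ∈ normalizer (EE f V : Set G)) (a c : GF4) : g * f.x a 0 c * g⁻¹ ∈ f.U := by
  have e := h.fm
  have hE : ∀ a c, ∀ y ∈ EE f V, Commute (g * f.x a 0 c * g⁻¹) y := fun a c y hy => by
    obtain ⟨v, hv, d, e1⟩ := h.mem_E.1 (conj_mem_of_mem_normalizer' hg hy)
    have := ((h.commVA hv (h.xA a 0 c)).mul_left (e.zx_commZ d a 0 c)).symm.map (MulAut.conj g).toMonoidHom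
    simpa [← e1, mul_assoc] using this
  have hA := fun a c => h.NA_of fun v hv => hE a c v (mem_sup_left hv)
  have hZ := fun a c d => hE a c _ (mem_sup_right (e.zx_memZ d))
  have hU := fun a c => e.NU_cases (e.NU_of_cen (hA a c) one_ne_zero (hZ a c 1))
  have key : ∀ a c, g * f.x a 0 c * g⁻¹ ∈ 𝒩(f.U1) → ∃ a' b' c', a' * b' = 0 ∧ g * f.x a 0 c * g⁻¹ = f.x a' b' c' :=
    fun a c h1 => by
      have h2 : g * f.x a 0 c * g⁻¹ * (g * f.x a 0 c * g⁻¹) = 1 := by rw [conj_mul, e.zx_sq (mul_zero a)]; simp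
      obtain ⟨k, hk, a', b', c', e1⟩ := e.inner_two (hA a c) (hZ a c) h1 (j := 1) (by rwa [pow_one, pow_two])
      obtain ⟨k2, x2⟩ := e.zx_sq_left hk (e.zx_memU a' b' c') (e1 ▸ h2)
      have h3 : a' * b' = 0 := (e.x_inj ((e.x_sq a' b' c').symm.trans (x2.trans e.x_zero.symm))).2.2
      have h4 : k ∈ V := h.mem_V hk (BG.cent_sub _ fun v hv => by
        have := (e1 ▸ hE a c v (mem_sup_left hv)).mul_left (h.commVA hv (h.xA a' b' c')).symm.inv_left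
        rw [mul_inv_cancel_right] at this
        exact this.eq.symm) (j := 1) (by rwa [pow_one, pow_two])
      exact ⟨a', b', c', h3, by rw [e1, h.v_eq_one (h.xA ..) h4 h3 e1, one_mul]⟩
  rcases hU a c with h1 | h1
  · obtain ⟨a', b', c', -, e1⟩ := key a c h1.1
    exact e1 ▸ e.zx_memU a' b' c'
  exfalso
  obtain ⟨a0, ha0, h2⟩ : ∃ a0, a0 ≠ 0 ∧ g * f.x a0 0 0 * g⁻¹ ∈ 𝒩(f.U1) := by
    rcases hU 1 0 with h2 | h2
    · exact ⟨1, one_ne_zero, h2.1⟩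
    rcases hU ω 0 with h3 | h3
    · exact ⟨ω, by decide, h3.1⟩
    refine ⟨1 + ω, by decide, mem_normalizer_iff_cj.2 ?_⟩
    have : f.x (1 + ω) 0 0 = f.x 1 0 0 * f.x ω 0 0 := by simp [h.mul]
    rw [this, ← conj_mul, cj_mul, h3.1, h2.2]
  obtain ⟨a', b', c', h3, e1⟩ := key a0 0 h2
  have hc : g * f.x a 0 c * g⁻¹ * f.x a' b' c' * (g * f.x a 0 c * g⁻¹)⁻¹ = f.x a' b' c' := by
    rw [mul_inv_eq_iff_eq_mul, ← e1, conj_mul, conj_mul, e.x_comm a, mul_zero, mul_zero, add_zero, e.x_zero, mul_one]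
  have h4 : a' = 0 ∧ b' = 0 := by
    rcases mul_eq_zero.1 h3 with rfl | rfl
    · obtain ⟨_, _, e2⟩ := e.mem_U1.1 (h1.2 ▸ conj_mem_cj.2 (e.zx_memU2 b' c'))
      exact ⟨rfl, (e.x_inj (hc ▸ e2)).2.1⟩
    · obtain ⟨_, _, e2⟩ := e.mem_U2.1 (h1.1 ▸ conj_mem_cj.2 (e.zx_memU1 a' c'))
      exact ⟨(e.x_inj (hc ▸ e2)).1, rfl⟩
  obtain ⟨rfl, rfl⟩ := h4
  obtain ⟨d, e2⟩ := e.mem_Z.1 (conj_mem_of_mem_normalizer' (h.NE_Z hg) (e.zx_memZ c'))
  exact ha0 (e.x_inj (a := a0) (b := 0) (c := 0) (by rw [← e2, ← e1]; group)).1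

theorem NE_U : normalizer (EE f V : Set G) ≤ normalizer (f.U : Set G) := fun g hg =>
  mem_normalizer_of_forall fun u hu => by
    obtain ⟨a, b, c, rfl⟩ := h.fm.mem_U.1 hu
    have h1 := h.sw.NE_U1 (g := g) (by rwa [EE, f.sw_Z]) b c
    rw [Fd.sw_x1, Fd.sw_U] at h1
    have : f.x a b c = f.x 0 b c * f.x a 0 0 := by simp [h.mul]
    rw [this, ← conj_mul]
    exact mul_mem h1 (h.NE_U1 hg a 0)

theorem mem_O_of {g o : G} (ho : o ∈ O) (h1 : ∃ v ∈ V, ∃ o' ∈ O, ∃ a c, g * o * g⁻¹ = v * o' * f.x a 0 c) :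
    g * o * g⁻¹ ∈ O := by
  obtain ⟨v, hv, o', ho', a, c, e⟩ := h1
  have h2 : Odd (orderOf (g * o * g⁻¹)) :=
    (MulEquiv.orderOf_eq (MulAut.conj g) o).symm ▸ h.oddO.of_dvd_nat (BG.order_dvdG ho)
  rw [e, mul_assoc, (h.commOA ho' (h.xA ..)).eq, ← mul_assoc] at h2 ⊢
  rwa [h.eq_one_vo (by rw [(h.commVA hv (h.xA ..)).symm.mul_mul_mul_comm, h.sqV v hv, h.fm.zx_sq (mul_zero a), mul_one])
    ho' ((h.OV _ ho' v hv).mul_right (h.commOA ho' (h.xA ..))).symm h2, one_mul]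

theorem comm_conj_O {g o y : G} {Y : Subgroup G} (hY : Y ≤ f.A) (ho : o ∈ O) (hy : g⁻¹ * y * g ∈ V ⊔ Y) :
    Commute (g * o * g⁻¹) y := by
  obtain ⟨v, hv, a, ha, e⟩ := (zx_KY h.VK hY).1 hy
  have := ((h.OV o ho v hv).mul_right (h.commOA ho (hY ha))).map (MulAut.conj g).toMonoidHom
  simpa [← e, mul_assoc] using this

theorem NE_O : normalizer (EE f V : Set G) ≤ normalizer (O : Set G) := fun g hg =>
  mem_normalizer_of_forall fun o ho => h.mem_O_of ho (by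
    obtain ⟨v, hv, o', ho', c, e⟩ := h.cenVU
      (fun v hv => h.comm_conj_O h.fm.zx_ZA ho (conj_mem_of_mem_normalizer' hg (mem_sup_left hv)))
      fun a b c => h.comm_conj_O h.fm.U_le ho
        (mem_sup_right (conj_mem_of_mem_normalizer' (h.NE_U hg) (h.fm.zx_memU a b c)))
    exact ⟨v, hv, o', ho', 0, c, e⟩)

theorem N1_U : normalizer ((V ⊔ f.U1 : Subgroup G) : Set G) ≤ normalizer (f.U1 : Set G) := fun g hg =>
  mem_normalizer_of_forall fun u hu => by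
    obtain ⟨v, hv, a, c, e⟩ := h.mem_VU1.1 (conj_mem_of_mem_normalizer hg (mem_sup_right hu))
    rw [e, h.v_eq_one (h.fm.U_le (h.fm.U1_le hu)) hv (mul_zero a) e, one_mul]
    exact h.fm.zx_memU1 a c

theorem N1_O : normalizer ((V ⊔ f.U1 : Subgroup G) : Set G) ≤ normalizer (O : Set G) := fun g hg =>
  have hA := h.fm.U1_le.trans h.fm.U_le
  mem_normalizer_of_forall fun o ho => h.mem_O_of ho (h.cenVU1
    (fun v hv => h.comm_conj_O hA ho (conj_mem_of_mem_normalizer' hg (mem_sup_left hv)))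
    fun a c => h.comm_conj_O hA ho (conj_mem_of_mem_normalizer' hg (mem_sup_right (h.fm.zx_memU1 a c))))

theorem A_N1 {g : G} (hg : g ∈ f.A) (h1 : g ∈ normalizer (f.U1 : Set G)) :
    g ∈ normalizer ((V ⊔ f.U1 : Subgroup G) : Set G) :=
  zpowers_le.1 (BG.normsY (zpowers_le.2 (BG.cent_sub _ fun _ hv => h.commVA hv hg)) (zpowers_le.2 h1))

end S0

end CfsgLib.SzC
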